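import Cfsg.Agent.Lib.FourTwoF.BoundBase
import Cfsg.Agent.Lib.FourTwoF.BoundFiveData
import Cfsg.Agent.Lib.Tails.EqsSplit
import Cfsg.Agent.Lib.Tails.RigidSplit

/-!
# The checks of the certificate at 5
-/

set_option autoImplicit false
set_option maxRecDepth 100000
set_option maxHeartbeats 0

namespace CfsgLib.FourTwoF

open CfsgLib.Schur.Tails CfsgLib.Schur.Tails.EqsSplit CfsgLib.Schur.Tails.RigidCert

theorem five_rest : restB fiveFourTwoCert fiveFourTwoEqs = true := by decide +kernel

theorem five_eqs_0 : eqsPartB fiveFourTwoCert fiveFourTwoEqs 0 25 = true := by decide +kernel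

theorem five_combos_0 : combosPartB fiveFourTwoCert fiveFourTwoEqs 0 3 = true := by decide +kernel

theorem five_lens : fiveFourTwoEqs.length = 3 ∧ fiveFourTwoCert.rels.length = 3 := by
  constructor <;> decide +kernel

theorem five_cert : fiveFourTwoCert.checkB = true := by
  refine checkB_of_parts five_rest
    (P := [(0, 25)])
    (Q := [(0, 3)]) ?_ ?_ ?_ ?_
  · simp only [List.forall_mem_cons, List.not_mem_nil, IsEmpty.forall_iff, implies_true, and_true]
    exact five_eqs_0
  · intro k hk
    rw [five_lens.1] at hk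
    refine ⟨(25 * (k / 25), 25), ?_, by simp only; omega, by simp only; omega⟩
    obtain ⟨j, hj, e⟩ : ∃ j < 1, k / 25 = j := ⟨_, by omega, rfl⟩
    rw [e]
    interval_cases j <;> simp
  · simp only [List.forall_mem_cons, List.not_mem_nil, IsEmpty.forall_iff, implies_true, and_true]
    exact five_combos_0
  · intro k hk
    rw [five_lens.2] at hk
    refine ⟨(25 * (k / 25), min 25 (3 - 25 * (k / 25))), ?_, by simp only; omega, by simp only; omega⟩
    obtain ⟨j, hj, e⟩ : ∃ j < 1, k / 25 = j := ⟨_, by omega, rfl⟩
    rw [e]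
    interval_cases j <;> simp

/-- The codes known after 0 parts. -/
noncomputable def fiveKnown0 : List (List ℕ) := baseC

/-- The codes known after 1 parts. -/
noncomputable def fiveKnown1 : List (List ℕ) := fiveKnown0 ++ fiveFourTwoPart0.map CfsgLib.Rigid.Op.M

theorem five_refs0 : refsB oneC fiveKnown0 fiveFourTwoRef0 fiveFourTwoInp0 = true := by decide +kernel

theorem five_part0 : CfsgLib.Rigid.slpOk oneC fiveFourTwoPart0 fiveFourTwoInp0 = true := by decide +kernel

theorem five_gens : refsB oneC fiveKnown1 fiveFourTwoGi fiveFourTwoGens = true := by decide +kernel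

theorem five_hs : refsB oneC fiveKnown1 fiveFourTwoHi fiveFourTwoHs = true := by decide +kernel

theorem five_coded {G : Type} [Group G] (c : CfsgLib.Rigid.Cod G) (h1 : c.C 1 = oneC)
    (h0 : AllCoded c baseC) : AllCoded c fiveFourTwoGens ∧ AllCoded c fiveFourTwoHs := by
  have h1' : AllCoded c fiveKnown1 := allCoded_part c h1 h0 five_refs0 five_part0
  exact ⟨allCoded_refs c h1' five_gens, allCoded_refs c h1' five_hs⟩

theorem five_rels : relsB oneC fiveFourTwoGens fiveFourTwoHs fiveFourTwoCert = true := by decide +kernel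

theorem five_layers : layersB fiveFourTwoCert.p oneC fiveFourTwoGens [] fiveFourTwoLayers = true ∧
    fiveFourTwoCert.p ^ fiveFourTwoCert.n ≤ layersM fiveFourTwoLayers := by
  constructor <;> decide +kernel

theorem five_tau : fiveFourTwoCert.tau = [] := by decide +kernel

theorem five_sizes : fiveFourTwoCert.p = 5 ∧ fiveFourTwoCert.q = 5 ∧ fiveFourTwoCert.n = 2 := by
  refine ⟨?_, ?_, ?_⟩ <;> decide +kernel

end CfsgLib.FourTwoF
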