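import Cfsg.Agent.Lib.FourTwoF.BoundBase
import Cfsg.Agent.Lib.FourTwoF.BoundSevenData
import Cfsg.Agent.Lib.Tails.EqsSplit
import Cfsg.Agent.Lib.Tails.RigidSplit

/-!
# The checks of the certificate at 7
-/

set_option autoImplicit false
set_option maxRecDepth 100000
set_option maxHeartbeats 0

namespace CfsgLib.FourTwoF

open CfsgLib.Schur.Tails CfsgLib.Schur.Tails.EqsSplit CfsgLib.Schur.Tails.RigidCert

theorem seven_rest : restB sevenFourTwoCert sevenFourTwoEqs = true := by decide +kernel

theorem seven_eqs_0 : eqsPartB sevenFourTwoCert sevenFourTwoEqs 0 25 = true := by decide +kernel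

theorem seven_combos_0 : combosPartB sevenFourTwoCert sevenFourTwoEqs 0 3 = true := by decide +kernel

theorem seven_lens : sevenFourTwoEqs.length = 3 ∧ sevenFourTwoCert.rels.length = 3 := by
  constructor <;> decide +kernel

theorem seven_cert : sevenFourTwoCert.checkB = true := by
  refine checkB_of_parts seven_rest
    (P := [(0, 25)])
    (Q := [(0, 3)]) ?_ ?_ ?_ ?_
  · simp only [List.forall_mem_cons, List.not_mem_nil, IsEmpty.forall_iff, implies_true, and_true]
    exact seven_eqs_0
  · intro k hk
    rw [seven_lens.1] at hk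
    refine ⟨(25 * (k / 25), 25), ?_, by simp only; omega, by simp only; omega⟩
    obtain ⟨j, hj, e⟩ : ∃ j < 1, k / 25 = j := ⟨_, by omega, rfl⟩
    rw [e]
    interval_cases j <;> simp
  · simp only [List.forall_mem_cons, List.not_mem_nil, IsEmpty.forall_iff, implies_true, and_true]
    exact seven_combos_0
  · intro k hk
    rw [seven_lens.2] at hk
    refine ⟨(25 * (k / 25), min 25 (3 - 25 * (k / 25))), ?_, by simp only; omega, by simp only; omega⟩
    obtain ⟨j, hj, e⟩ : ∃ j < 1, k / 25 = j := ⟨_, by omega, rfl⟩
    rw [e]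
    interval_cases j <;> simp

/-- The codes known after 0 parts. -/
noncomputable def sevenKnown0 : List (List ℕ) := baseC

/-- The codes known after 1 parts. -/
noncomputable def sevenKnown1 : List (List ℕ) := sevenKnown0 ++ sevenFourTwoPart0.map CfsgLib.Rigid.Op.M

theorem seven_refs0 : refsB oneC sevenKnown0 sevenFourTwoRef0 sevenFourTwoInp0 = true := by decide +kernel

theorem seven_part0 : CfsgLib.Rigid.slpOk oneC sevenFourTwoPart0 sevenFourTwoInp0 = true := by decide +kernel

theorem seven_gens : refsB oneC sevenKnown1 sevenFourTwoGi sevenFourTwoGens = true := by decide +kernel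

theorem seven_hs : refsB oneC sevenKnown1 sevenFourTwoHi sevenFourTwoHs = true := by decide +kernel

theorem seven_coded {G : Type} [Group G] (c : CfsgLib.Rigid.Cod G) (h1 : c.C 1 = oneC)
    (h0 : AllCoded c baseC) : AllCoded c sevenFourTwoGens ∧ AllCoded c sevenFourTwoHs := by
  have h1' : AllCoded c sevenKnown1 := allCoded_part c h1 h0 seven_refs0 seven_part0
  exact ⟨allCoded_refs c h1' seven_gens, allCoded_refs c h1' seven_hs⟩

theorem seven_rels : relsB oneC sevenFourTwoGens sevenFourTwoHs sevenFourTwoCert = true := by decide +kernel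

theorem seven_layers : layersB sevenFourTwoCert.p oneC sevenFourTwoGens [] sevenFourTwoLayers = true ∧
    sevenFourTwoCert.p ^ sevenFourTwoCert.n ≤ layersM sevenFourTwoLayers := by
  constructor <;> decide +kernel

theorem seven_tau : sevenFourTwoCert.tau = [] := by decide +kernel

theorem seven_sizes : sevenFourTwoCert.p = 7 ∧ sevenFourTwoCert.q = 7 ∧ sevenFourTwoCert.n = 2 := by
  refine ⟨?_, ?_, ?_⟩ <;> decide +kernel

end CfsgLib.FourTwoF
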