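import Cfsg.Agent.Lib.FourTwoF.BoundBase
import Cfsg.Agent.Lib.FourTwoF.BoundThreeData
import Cfsg.Agent.Lib.Tails.EqsSplit
import Cfsg.Agent.Lib.Tails.RigidSplit

/-!
# The checks of the certificate at 3
-/

set_option autoImplicit false
set_option maxRecDepth 100000
set_option maxHeartbeats 0

namespace CfsgLib.FourTwoF

open CfsgLib.Schur.Tails CfsgLib.Schur.Tails.EqsSplit CfsgLib.Schur.Tails.RigidCert

theorem three_rest : restB threeFourTwoCert threeFourTwoEqs = true := by decide +kernel

theorem three_eqs_0 : eqsPartB threeFourTwoCert threeFourTwoEqs 0 25 = true := by decide +kernel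

theorem three_combos_0 : combosPartB threeFourTwoCert threeFourTwoEqs 0 21 = true := by decide +kernel

theorem three_lens : threeFourTwoEqs.length = 20 ∧ threeFourTwoCert.rels.length = 21 := by
  constructor <;> decide +kernel

theorem three_cert : threeFourTwoCert.checkB = true := by
  refine checkB_of_parts three_rest
    (P := [(0, 25)])
    (Q := [(0, 21)]) ?_ ?_ ?_ ?_
  · simp only [List.forall_mem_cons, List.not_mem_nil, IsEmpty.forall_iff, implies_true, and_true]
    exact three_eqs_0
  · intro k hk
    rw [three_lens.1] at hk
    refine ⟨(25 * (k / 25), 25), ?_, by simp only; omega, by simp only; omega⟩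
    obtain ⟨j, hj, e⟩ : ∃ j < 1, k / 25 = j := ⟨_, by omega, rfl⟩
    rw [e]
    interval_cases j <;> simp
  · simp only [List.forall_mem_cons, List.not_mem_nil, IsEmpty.forall_iff, implies_true, and_true]
    exact three_combos_0
  · intro k hk
    rw [three_lens.2] at hk
    refine ⟨(25 * (k / 25), min 25 (21 - 25 * (k / 25))), ?_, by simp only; omega, by simp only; omega⟩
    obtain ⟨j, hj, e⟩ : ∃ j < 1, k / 25 = j := ⟨_, by omega, rfl⟩
    rw [e]
    interval_cases j <;> simp

/-- The codes known after 0 parts. -/
noncomputable def threeKnown0 : List (List ℕ) := baseC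

/-- The codes known after 1 parts. -/
noncomputable def threeKnown1 : List (List ℕ) := threeKnown0 ++ threeFourTwoPart0.map CfsgLib.Rigid.Op.M

/-- The codes known after 2 parts. -/
noncomputable def threeKnown2 : List (List ℕ) := threeKnown1 ++ threeFourTwoPart1.map CfsgLib.Rigid.Op.M

/-- The codes known after 3 parts. -/
noncomputable def threeKnown3 : List (List ℕ) := threeKnown2 ++ threeFourTwoPart2.map CfsgLib.Rigid.Op.M

/-- The codes known after 4 parts. -/
noncomputable def threeKnown4 : List (List ℕ) := threeKnown3 ++ threeFourTwoPart3.map CfsgLib.Rigid.Op.M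

theorem three_refs0 : refsB oneC threeKnown0 threeFourTwoRef0 threeFourTwoInp0 = true := by decide +kernel

theorem three_part0 : CfsgLib.Rigid.slpOk oneC threeFourTwoPart0 threeFourTwoInp0 = true := by decide +kernel

theorem three_refs1 : refsB oneC threeKnown1 threeFourTwoRef1 threeFourTwoInp1 = true := by decide +kernel

theorem three_part1 : CfsgLib.Rigid.slpOk oneC threeFourTwoPart1 threeFourTwoInp1 = true := by decide +kernel

theorem three_refs2 : refsB oneC threeKnown2 threeFourTwoRef2 threeFourTwoInp2 = true := by decide +kernel

theorem three_part2 : CfsgLib.Rigid.slpOk oneC threeFourTwoPart2 threeFourTwoInp2 = true := by decide +kernel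

theorem three_refs3 : refsB oneC threeKnown3 threeFourTwoRef3 threeFourTwoInp3 = true := by decide +kernel

theorem three_part3 : CfsgLib.Rigid.slpOk oneC threeFourTwoPart3 threeFourTwoInp3 = true := by decide +kernel

theorem three_gens : refsB oneC threeKnown4 threeFourTwoGi threeFourTwoGens = true := by decide +kernel

theorem three_hs : refsB oneC threeKnown4 threeFourTwoHi threeFourTwoHs = true := by decide +kernel

theorem three_coded {G : Type} [Group G] (c : CfsgLib.Rigid.Cod G) (h1 : c.C 1 = oneC)
    (h0 : AllCoded c baseC) : AllCoded c threeFourTwoGens ∧ AllCoded c threeFourTwoHs := by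
  have h1' : AllCoded c threeKnown1 := allCoded_part c h1 h0 three_refs0 three_part0
  have h2' : AllCoded c threeKnown2 := allCoded_part c h1 h1' three_refs1 three_part1
  have h3' : AllCoded c threeKnown3 := allCoded_part c h1 h2' three_refs2 three_part2
  have h4' : AllCoded c threeKnown4 := allCoded_part c h1 h3' three_refs3 three_part3
  exact ⟨allCoded_refs c h4' three_gens, allCoded_refs c h4' three_hs⟩

theorem three_rels : relsB oneC threeFourTwoGens threeFourTwoHs threeFourTwoCert = true := by decide +kernel

theorem three_layers : layersB threeFourTwoCert.p oneC threeFourTwoGens [] threeFourTwoLayers = true ∧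
    threeFourTwoCert.p ^ threeFourTwoCert.n ≤ layersM threeFourTwoLayers := by
  constructor <;> decide +kernel

theorem three_tau : threeFourTwoCert.tau = [] := by decide +kernel

theorem three_sizes : threeFourTwoCert.p = 3 ∧ threeFourTwoCert.q = 3 ∧ threeFourTwoCert.n = 6 := by
  refine ⟨?_, ?_, ?_⟩ <;> decide +kernel

end CfsgLib.FourTwoF
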