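import Cfsg.Agent.Lib.Tails.RigidCert

/-!
Generated data: the certificate at 2 for the Schur multiplier of the group of type F four over two elements.
-/

set_option autoImplicit false
set_option maxRecDepth 100000

namespace CfsgLib.FourTwoF

open CfsgLib

/-- The overlaps. -/
def twoFourTwoOverlaps : List (List ℕ × List Schur.Tails.Step × List Schur.Tails.Step) := [
  ([0, 1, 2], [(0, 24, true), (2, 25, true), (1, 47, true), (0, 113, true), (2, 110, true)], [(1, 47, true), (0, 31, true), (2, 28, true), (1, 184, true), (0, 211, true), (5, 25, true), (6, 24, true), (5, 70, true), (4, 133, true), (3, 166, true), (2, 181, true), (1, 10, true), (3, 130, true), (2, 7, true)]),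
  ([0, 1, 3], [(0, 24, true), (2, 26, true), (1, 48, true)], [(1, 48, true), (0, 26, true), (1, 24, true), (0, 90, true)]),
  ([0, 1, 5], [(0, 24, true), (2, 28, true), (1, 58, true), (0, 118, true), (2, 52, true), (1, 112, true), (3, 50, true), (2, 110, true)], [(1, 50, true), (0, 28, true), (3, 24, true)]),
  ([0, 1, 6], [(0, 24, true), (2, 29, true), (1, 51, true), (0, 120, true), (2, 114, true), (3, 111, true), (2, 202, true), (1, 265, true), (3, 196, true)], [(1, 51, true), (0, 38, true), (2, 32, true), (1, 267, true), (0, 280, true), (5, 29, true), (6, 24, true)]),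
  ([0, 1, 7], [(0, 24, true), (2, 30, true), (1, 52, true), (0, 112, true)], [(1, 52, true), (0, 30, true), (1, 24, true)]),
  ([0, 1, 8], [(0, 24, true), (2, 31, true), (1, 55, true), (0, 118, true), (1, 115, true), (3, 53, true), (2, 113, true), (1, 211, true), (0, 13, true)], [(1, 53, true), (0, 31, true), (2, 24, true)]),
  ([0, 1, 9], [(0, 24, true), (2, 32, true), (1, 64, true), (0, 124, true), (2, 56, true), (1, 116, true), (3, 54, true), (2, 114, true)], [(1, 54, true), (0, 32, true), (3, 24, true)]),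
  ([0, 1, 10], [(0, 24, true), (2, 33, true), (1, 55, true), (0, 118, true), (1, 115, true)], [(1, 55, true), (0, 36, true), (1, 33, true), (2, 24, true)]),
  ([0, 1, 11], [(0, 24, true), (2, 34, true), (1, 56, true), (0, 116, true)], [(1, 56, true), (0, 34, true), (1, 24, true)]),
  ([0, 1, 12], [(0, 24, true), (2, 35, true), (1, 66, true), (0, 127, true), (1, 126, true), (0, 299, true), (4, 59, true), (3, 128, true), (2, 298, true), (1, 299, true), (0, 23, true), (2, 121, true), (3, 119, true), (5, 57, true), (4, 117, true), (3, 262, true), (2, 277, true), (1, 297, true), (0, 22, true), (2, 256, true), (1, 16, true)], [(1, 57, true), (0, 35, true), (3, 24, true)]),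
  ([0, 1, 13], [(0, 24, true), (2, 36, true), (1, 58, true), (0, 118, true)], [(1, 58, true), (0, 36, true), (1, 24, true)]),
  ([0, 1, 14], [(0, 24, true), (2, 37, true), (1, 59, true), (0, 128, true), (1, 121, true), (2, 119, true)], [(1, 59, true), (0, 46, true), (1, 39, true), (2, 37, true), (3, 24, true)]),
  ([0, 1, 15], [(0, 24, true), (2, 38, true), (1, 62, true), (0, 124, true), (1, 122, true), (3, 60, true), (2, 120, true), (1, 280, true), (0, 19, true)], [(1, 60, true), (0, 38, true), (2, 24, true)]),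
  ([0, 1, 16], [(0, 24, true), (2, 39, true), (1, 61, true), (0, 121, true)], [(1, 61, true), (0, 39, true), (1, 24, true)]),
  ([0, 1, 17], [(0, 24, true), (2, 40, true), (1, 62, true), (0, 124, true), (1, 122, true)], [(1, 62, true), (0, 42, true), (1, 40, true), (2, 24, true)]),
  ([0, 1, 18], [(0, 24, true), (2, 41, true), (1, 63, true), (0, 123, true)], [(1, 63, true), (0, 41, true), (1, 24, true)]),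
  ([0, 1, 19], [(0, 24, true), (2, 42, true), (1, 64, true), (0, 124, true)], [(1, 64, true), (0, 42, true), (1, 24, true)]),
  ([0, 1, 20], [(0, 24, true), (2, 43, true), (1, 65, true), (0, 125, true)], [(1, 65, true), (0, 43, true), (1, 24, true)]),
  ([0, 1, 21], [(0, 24, true), (2, 44, true), (1, 66, true), (0, 127, true), (1, 126, true), (0, 299, true)], [(1, 66, true), (0, 45, true), (2, 44, true), (3, 24, true)]),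
  ([0, 1, 22], [(0, 24, true), (2, 45, true), (1, 68, true), (0, 128, true), (2, 67, true), (1, 127, true)], [(1, 67, true), (0, 45, true), (2, 24, true)]),
  ([0, 1, 23], [(0, 24, true), (2, 46, true), (1, 68, true), (0, 128, true)], [(1, 68, true), (0, 46, true), (1, 24, true)]),
  ([0, 2, 3], [(0, 25, true), (1, 26, true), (0, 69, true)], [(1, 69, true), (0, 29, true), (1, 26, true), (2, 25, true)]),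
  ([0, 2, 4], [(0, 25, true), (1, 27, true), (0, 70, true)], [(1, 70, true), (0, 33, true), (1, 30, true), (2, 27, true), (3, 25, true)]),
  ([0, 2, 5], [(0, 25, true), (1, 28, true), (0, 79, true), (1, 73, true), (2, 71, true)], [(1, 71, true), (0, 28, true), (3, 25, true)]),
  ([0, 2, 8], [(0, 25, true), (1, 31, true), (0, 76, true), (1, 74, true)], [(1, 74, true), (0, 31, true), (2, 25, true)]),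
  ([0, 2, 9], [(0, 25, true), (1, 32, true), (0, 85, true), (3, 77, true), (5, 75, true), (4, 222, true), (3, 260, true), (2, 290, true), (1, 20, true)], [(1, 75, true), (0, 35, true), (3, 32, true), (2, 240, true), (1, 259, true), (6, 25, true)]),
  ([0, 2, 11], [(0, 25, true), (1, 34, true), (0, 77, true)], [(1, 77, true), (0, 37, true), (1, 34, true), (2, 25, true)]),
  ([0, 2, 12], [(0, 25, true), (1, 35, true), (0, 87, true), (1, 80, true), (2, 78, true)], [(1, 78, true), (0, 35, true), (3, 25, true)]),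
  ([0, 2, 15], [(0, 25, true), (1, 38, true), (0, 83, true), (1, 81, true)], [(1, 81, true), (0, 38, true), (2, 25, true)]),
  ([0, 2, 16], [(0, 25, true), (1, 39, true), (0, 82, true)], [(1, 82, true), (0, 41, true), (1, 39, true), (2, 25, true)]),
  ([0, 2, 19], [(0, 25, true), (1, 42, true), (0, 85, true)], [(1, 85, true), (0, 44, true), (1, 43, true), (2, 42, true), (3, 25, true)]),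
  ([0, 2, 22], [(0, 25, true), (1, 45, true), (0, 89, true), (1, 88, true)], [(1, 88, true), (0, 45, true), (2, 25, true)]),
  ([0, 3, 5], [(0, 26, true), (1, 28, true), (0, 99, true), (3, 93, true), (5, 91, true), (4, 165, true), (3, 226, true), (2, 247, true), (1, 16, true)], [(1, 91, true), (0, 32, true), (3, 28, true), (2, 198, true), (1, 223, true), (6, 26, true)]),
  ([0, 3, 7], [(0, 26, true), (1, 30, true), (0, 93, true)], [(1, 93, true), (0, 34, true), (1, 30, true), (2, 26, true)]),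
  ([0, 3, 8], [(0, 26, true), (1, 31, true), (0, 96, true), (3, 94, true), (2, 213, true), (1, 261, true), (0, 282, true), (2, 255, true), (4, 210, true)], [(1, 94, true), (0, 38, true), (2, 35, true), (1, 269, true), (0, 282, true), (5, 31, true), (7, 26, true)]),
  ([0, 3, 9], [(0, 26, true), (1, 32, true), (0, 105, true), (1, 97, true), (2, 95, true)], [(1, 95, true), (0, 32, true), (3, 26, true)]),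
  ([0, 3, 10], [(0, 26, true), (1, 33, true), (0, 96, true)], [(1, 96, true), (0, 40, true), (1, 37, true), (2, 33, true), (3, 26, true)]),
  ([0, 3, 12], [(0, 26, true), (1, 35, true), (0, 107, true), (1, 100, true), (2, 98, true)], [(1, 98, true), (0, 35, true), (3, 26, true)]),
  ([0, 3, 13], [(0, 26, true), (1, 36, true), (0, 99, true)], [(1, 99, true), (0, 42, true), (1, 39, true), (2, 36, true), (3, 26, true)]),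
  ([0, 3, 15], [(0, 26, true), (1, 38, true), (0, 103, true), (1, 101, true)], [(1, 101, true), (0, 38, true), (2, 26, true)]),
  ([0, 3, 18], [(0, 26, true), (1, 41, true), (0, 104, true)], [(1, 104, true), (0, 43, true), (1, 41, true), (2, 26, true)]),
  ([0, 3, 22], [(0, 26, true), (1, 45, true), (0, 109, true), (1, 108, true)], [(1, 108, true), (0, 45, true), (2, 26, true)]),
  ([0, 4, 8], [(0, 27, true), (1, 31, true), (0, 115, true), (1, 113, true), (0, 211, true)], [(1, 113, true), (0, 36, true), (1, 31, true), (3, 27, true)]),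
  ([0, 4, 12], [(0, 27, true), (1, 35, true), (0, 126, true), (2, 119, true), (3, 117, true), (2, 262, true), (1, 297, true), (3, 256, true)], [(1, 117, true), (0, 45, true), (2, 39, true), (3, 35, true), (2, 276, true), (6, 27, true)]),
  ([0, 4, 15], [(0, 27, true), (1, 38, true), (0, 122, true), (1, 120, true), (0, 280, true)], [(1, 120, true), (0, 42, true), (1, 38, true), (3, 27, true)]),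
  ([0, 4, 21], [(0, 27, true), (1, 44, true), (0, 126, true)], [(1, 126, true), (0, 46, true), (1, 44, true), (2, 27, true)]),
  ([0, 5, 6], [(0, 28, true), (3, 29, true), (2, 129, true), (1, 168, true), (0, 249, true)], [(1, 129, true), (0, 35, true), (3, 29, true), (4, 28, true), (3, 153, true), (2, 242, true), (1, 261, true), (0, 21, true), (1, 239, true), (0, 258, true), (2, 234, true), (4, 147, true), (3, 235, true), (2, 245, true), (1, 14, true)]),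
  ([0, 5, 7], [(0, 28, true), (3, 30, true), (2, 130, true), (1, 7, true)], [(1, 130, true), (0, 30, true), (1, 28, true), (0, 169, true), (1, 7, true)]),
  ([0, 5, 8], [(0, 28, true), (3, 31, true), (2, 133, true), (1, 166, true), (3, 131, true), (2, 164, true)], [(1, 131, true), (0, 31, true), (2, 28, true), (1, 184, true), (0, 211, true)]),
  ([0, 5, 9], [(0, 28, true), (3, 32, true), (2, 142, true), (1, 175, true), (0, 250, true), (3, 134, true), (2, 172, true), (1, 247, true), (3, 167, true), (5, 132, true), (4, 165, true), (3, 226, true), (2, 247, true), (1, 16, true)], [(1, 132, true), (0, 32, true), (3, 28, true), (2, 198, true), (1, 223, true)]),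
  ([0, 5, 10], [(0, 28, true), (3, 33, true), (2, 133, true), (1, 166, true)], [(1, 133, true), (0, 33, true), (1, 28, true), (0, 211, true)]),
  ([0, 5, 11], [(0, 28, true), (3, 34, true), (2, 134, true), (1, 172, true), (0, 247, true), (2, 167, true)], [(1, 134, true), (0, 39, true), (1, 34, true), (2, 28, true), (1, 223, true)]),
  ([0, 5, 12], [(0, 28, true), (3, 35, true), (2, 144, true), (1, 177, true), (0, 252, true), (3, 137, true), (2, 174, true), (1, 249, true), (3, 170, true), (2, 245, true), (5, 135, true), (4, 168, true), (3, 249, true), (2, 258, true), (1, 18, true)], [(1, 135, true), (0, 35, true), (3, 28, true), (2, 234, true)]),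
  ([0, 5, 14], [(0, 28, true), (3, 37, true), (2, 137, true), (1, 174, true), (0, 249, true), (2, 170, true), (1, 245, true)], [(1, 137, true), (0, 41, true), (1, 37, true), (2, 28, true)]),
  ([0, 5, 15], [(0, 28, true), (3, 38, true), (2, 140, true), (1, 178, true), (0, 253, true), (2, 176, true), (1, 251, true), (3, 173, true), (2, 248, true), (1, 296, true), (0, 299, true), (6, 138, true), (5, 171, true), (4, 254, true), (3, 284, true), (2, 296, true), (1, 299, true), (0, 23, true), (3, 251, true), (2, 281, true), (1, 20, true), (2, 246, true), (1, 283, true), (0, 22, true)], [(1, 138, true), (0, 38, true), (2, 28, true)]),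
  ([0, 5, 16], [(0, 28, true), (3, 39, true), (2, 139, true), (1, 172, true), (0, 247, true)], [(1, 139, true), (0, 39, true), (1, 28, true)]),
  ([0, 5, 17], [(0, 28, true), (3, 40, true), (2, 140, true), (1, 178, true), (0, 253, true), (2, 176, true), (1, 251, true), (3, 173, true), (2, 248, true), (1, 296, true), (0, 299, true)], [(1, 140, true), (0, 45, true), (2, 43, true), (3, 40, true), (4, 28, true)]),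
  ([0, 5, 18], [(0, 28, true), (3, 41, true), (2, 141, true), (1, 174, true), (0, 249, true)], [(1, 141, true), (0, 41, true), (1, 28, true)]),
  ([0, 5, 19], [(0, 28, true), (3, 42, true), (2, 142, true), (1, 175, true), (0, 250, true)], [(1, 142, true), (0, 42, true), (1, 28, true)]),
  ([0, 5, 20], [(0, 28, true), (3, 43, true), (2, 143, true), (1, 176, true), (0, 251, true)], [(1, 143, true), (0, 43, true), (1, 28, true)]),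
  ([0, 5, 21], [(0, 28, true), (3, 44, true), (2, 144, true), (1, 177, true), (0, 252, true)], [(1, 144, true), (0, 44, true), (1, 28, true)]),
  ([0, 5, 22], [(0, 28, true), (3, 45, true), (2, 146, true), (1, 179, true), (0, 254, true), (3, 145, true), (2, 178, true), (1, 253, true)], [(1, 145, true), (0, 45, true), (2, 28, true)]),
  ([0, 5, 23], [(0, 28, true), (3, 46, true), (2, 146, true), (1, 179, true), (0, 254, true)], [(1, 146, true), (0, 46, true), (1, 28, true)]),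
  ([0, 6, 8], [(0, 29, true), (1, 31, true), (0, 150, true), (1, 148, true)], [(1, 148, true), (0, 31, true), (2, 29, true)]),
  ([0, 6, 9], [(0, 29, true), (1, 32, true), (0, 159, true), (1, 151, true), (2, 149, true)], [(1, 149, true), (0, 32, true), (3, 29, true)]),
  ([0, 6, 12], [(0, 29, true), (1, 35, true), (0, 161, true), (1, 154, true), (2, 152, true)], [(1, 152, true), (0, 35, true), (3, 29, true)]),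
  ([0, 6, 15], [(0, 29, true), (1, 38, true), (0, 157, true), (1, 155, true)], [(1, 155, true), (0, 38, true), (2, 29, true)]),
  ([0, 6, 22], [(0, 29, true), (1, 45, true), (0, 163, true), (1, 162, true)], [(1, 162, true), (0, 45, true), (2, 29, true)]),
  ([0, 7, 9], [(0, 30, true), (1, 32, true), (0, 175, true), (1, 167, true), (2, 165, true), (1, 226, true)], [(1, 165, true), (0, 39, true), (1, 32, true), (0, 274, true), (4, 30, true)]),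
  ([0, 7, 12], [(0, 30, true), (1, 35, true), (0, 177, true), (1, 170, true), (2, 168, true), (1, 258, true)], [(1, 168, true), (0, 41, true), (1, 35, true), (0, 287, true), (4, 30, true)]),
  ([0, 7, 15], [(0, 30, true), (1, 38, true), (0, 173, true), (1, 171, true), (0, 284, true), (1, 281, true)], [(1, 171, true), (0, 46, true), (1, 43, true), (2, 38, true), (4, 30, true)]),
  ([0, 7, 22], [(0, 30, true), (1, 45, true), (0, 179, true), (1, 178, true)], [(1, 178, true), (0, 45, true), (2, 30, true)]),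
  ([0, 8, 9], [(0, 31, true), (2, 32, true), (1, 190, true), (0, 220, true), (1, 217, true), (0, 299, true), (4, 182, true), (3, 221, true), (2, 293, true), (1, 299, true), (0, 23, true), (2, 216, true), (3, 209, true), (5, 180, true)], [(1, 180, true), (0, 32, true), (3, 31, true), (2, 195, true), (1, 232, true), (0, 292, true), (2, 228, true)]),
  ([0, 8, 11], [(0, 31, true), (2, 34, true), (1, 182, true), (0, 221, true), (1, 216, true), (2, 209, true)], [(1, 182, true), (0, 46, true), (1, 41, true), (2, 34, true), (3, 31, true)]),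
  ([0, 8, 12], [(0, 31, true), (2, 35, true), (1, 192, true), (0, 219, true), (2, 185, true), (1, 212, true), (3, 183, true), (2, 210, true)], [(1, 183, true), (0, 35, true), (3, 31, true)]),
  ([0, 8, 14], [(0, 31, true), (2, 37, true), (1, 185, true), (0, 212, true)], [(1, 185, true), (0, 37, true), (1, 31, true)]),
  ([0, 8, 15], [(0, 31, true), (2, 38, true), (1, 188, true), (0, 219, true), (1, 215, true), (3, 186, true), (2, 213, true), (1, 282, true), (0, 21, true)], [(1, 186, true), (0, 38, true), (2, 31, true)]),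
  ([0, 8, 16], [(0, 31, true), (2, 39, true), (1, 187, true), (0, 214, true)], [(1, 187, true), (0, 39, true), (1, 31, true)]),
  ([0, 8, 17], [(0, 31, true), (2, 40, true), (1, 188, true), (0, 219, true), (1, 215, true)], [(1, 188, true), (0, 44, true), (1, 40, true), (2, 31, true)]),
  ([0, 8, 18], [(0, 31, true), (2, 41, true), (1, 189, true), (0, 216, true)], [(1, 189, true), (0, 41, true), (1, 31, true)]),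
  ([0, 8, 19], [(0, 31, true), (2, 42, true), (1, 190, true), (0, 220, true), (1, 217, true), (0, 299, true)], [(1, 190, true), (0, 45, true), (2, 42, true), (3, 31, true)]),
  ([0, 8, 20], [(0, 31, true), (2, 43, true), (1, 191, true), (0, 218, true)], [(1, 191, true), (0, 43, true), (1, 31, true)]),
  ([0, 8, 21], [(0, 31, true), (2, 44, true), (1, 192, true), (0, 219, true)], [(1, 192, true), (0, 44, true), (1, 31, true)]),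
  ([0, 8, 22], [(0, 31, true), (2, 45, true), (1, 194, true), (0, 221, true), (2, 193, true), (1, 220, true)], [(1, 193, true), (0, 45, true), (2, 31, true)]),
  ([0, 8, 23], [(0, 31, true), (2, 46, true), (1, 194, true), (0, 221, true)], [(1, 194, true), (0, 46, true), (1, 31, true)]),
  ([0, 9, 10], [(0, 32, true), (3, 33, true), (2, 195, true), (1, 232, true), (0, 292, true), (2, 228, true)], [(1, 195, true), (0, 45, true), (2, 41, true), (3, 33, true), (4, 32, true), (3, 217, true), (2, 289, true), (1, 299, true), (0, 23, true), (1, 285, true), (3, 209, true)]),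
  ([0, 9, 11], [(0, 32, true), (3, 34, true), (2, 196, true), (1, 11, true)], [(1, 196, true), (0, 34, true), (1, 32, true), (0, 229, true), (1, 11, true)]),
  ([0, 9, 12], [(0, 32, true), (3, 35, true), (2, 206, true), (1, 231, true), (0, 291, true), (3, 199, true), (2, 230, true), (1, 290, true), (3, 224, true), (5, 197, true), (4, 222, true), (3, 260, true), (2, 290, true), (1, 20, true)], [(1, 197, true), (0, 35, true), (3, 32, true), (2, 240, true), (1, 259, true)]),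
  ([0, 9, 13], [(0, 32, true), (3, 36, true), (2, 198, true), (1, 223, true)], [(1, 198, true), (0, 36, true), (1, 32, true), (0, 250, true)]),
  ([0, 9, 14], [(0, 32, true), (3, 37, true), (2, 199, true), (1, 230, true), (0, 290, true), (2, 224, true)], [(1, 199, true), (0, 43, true), (1, 37, true), (2, 32, true), (1, 259, true)]),
  ([0, 9, 15], [(0, 32, true), (3, 38, true), (2, 202, true), (1, 227, true), (3, 200, true), (2, 225, true)], [(1, 200, true), (0, 38, true), (2, 32, true), (1, 267, true), (0, 280, true)]),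
  ([0, 9, 17], [(0, 32, true), (3, 40, true), (2, 202, true), (1, 227, true)], [(1, 202, true), (0, 40, true), (1, 32, true), (0, 280, true)]),
  ([0, 9, 18], [(0, 32, true), (3, 41, true), (2, 203, true), (1, 228, true)], [(1, 203, true), (0, 41, true), (1, 32, true), (0, 285, true)]),
  ([0, 9, 20], [(0, 32, true), (3, 43, true), (2, 205, true), (1, 230, true), (0, 290, true)], [(1, 205, true), (0, 43, true), (1, 32, true)]),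
  ([0, 9, 21], [(0, 32, true), (3, 44, true), (2, 206, true), (1, 231, true), (0, 291, true)], [(1, 206, true), (0, 44, true), (1, 32, true)]),
  ([0, 9, 22], [(0, 32, true), (3, 45, true), (2, 208, true), (1, 233, true), (0, 293, true), (3, 207, true), (2, 232, true), (1, 292, true)], [(1, 207, true), (0, 45, true), (2, 32, true)]),
  ([0, 9, 23], [(0, 32, true), (3, 46, true), (2, 208, true), (1, 233, true), (0, 293, true)], [(1, 208, true), (0, 46, true), (1, 32, true)]),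
  ([0, 10, 15], [(0, 33, true), (1, 38, true), (0, 215, true), (1, 213, true), (0, 282, true)], [(1, 213, true), (0, 44, true), (1, 38, true), (3, 33, true)]),
  ([0, 11, 12], [(0, 34, true), (1, 35, true), (0, 231, true), (1, 224, true), (2, 222, true), (1, 260, true)], [(1, 222, true), (0, 43, true), (1, 35, true), (0, 294, true), (4, 34, true)]),
  ([0, 11, 22], [(0, 34, true), (1, 45, true), (0, 233, true), (1, 232, true)], [(1, 232, true), (0, 45, true), (2, 34, true)]),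
  ([0, 12, 13], [(0, 35, true), (3, 36, true), (2, 234, true)], [(1, 234, true), (0, 36, true), (1, 35, true), (0, 252, true), (1, 245, true)]),
  ([0, 12, 14], [(0, 35, true), (3, 37, true), (2, 235, true), (1, 14, true)], [(1, 235, true), (0, 37, true), (1, 35, true), (0, 261, true), (1, 14, true)]),
  ([0, 12, 15], [(0, 35, true), (3, 38, true), (2, 238, true), (1, 257, true), (3, 236, true), (2, 255, true)], [(1, 236, true), (0, 38, true), (2, 35, true), (1, 269, true), (0, 282, true)]),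
  ([0, 12, 16], [(0, 35, true), (3, 39, true), (2, 237, true), (1, 256, true)], [(1, 237, true), (0, 39, true), (1, 35, true), (0, 276, true)]),
  ([0, 12, 17], [(0, 35, true), (3, 40, true), (2, 238, true), (1, 257, true)], [(1, 238, true), (0, 40, true), (1, 35, true), (0, 282, true)]),
  ([0, 12, 19], [(0, 35, true), (3, 42, true), (2, 240, true), (1, 259, true)], [(1, 240, true), (0, 42, true), (1, 35, true), (0, 291, true)]),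
  ([0, 12, 22], [(0, 35, true), (3, 45, true), (2, 244, true), (1, 263, true), (0, 298, true), (3, 243, true), (2, 262, true), (1, 297, true)], [(1, 243, true), (0, 45, true), (2, 35, true)]),
  ([0, 12, 23], [(0, 35, true), (3, 46, true), (2, 244, true), (1, 263, true), (0, 298, true)], [(1, 244, true), (0, 46, true), (1, 35, true)]),
  ([0, 13, 15], [(0, 36, true), (1, 38, true), (0, 248, true), (2, 246, true), (1, 283, true)], [(1, 246, true), (0, 45, true), (2, 38, true), (4, 36, true)]),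
  ([0, 14, 22], [(0, 37, true), (1, 45, true), (0, 263, true), (1, 262, true)], [(1, 262, true), (0, 45, true), (2, 37, true)]),
  ([0, 15, 16], [(0, 38, true), (2, 39, true), (1, 264, true)], [(1, 264, true), (0, 39, true), (1, 38, true), (0, 272, true)]),
  ([0, 15, 18], [(0, 38, true), (2, 41, true), (1, 266, true), (0, 279, true)], [(1, 266, true), (0, 41, true), (1, 38, true)]),
  ([0, 15, 20], [(0, 38, true), (2, 43, true), (1, 268, true), (0, 281, true)], [(1, 268, true), (0, 43, true), (1, 38, true)]),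
  ([0, 15, 22], [(0, 38, true), (2, 45, true), (1, 271, true), (0, 284, true), (2, 270, true), (1, 283, true)], [(1, 270, true), (0, 45, true), (2, 38, true)]),
  ([0, 15, 23], [(0, 38, true), (2, 46, true), (1, 271, true), (0, 284, true)], [(1, 271, true), (0, 46, true), (1, 38, true)]),
  ([0, 16, 22], [(0, 39, true), (1, 45, true), (0, 278, true), (1, 277, true)], [(1, 277, true), (0, 45, true), (2, 39, true)]),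
  ([0, 18, 22], [(0, 41, true), (1, 45, true), (0, 289, true), (1, 288, true)], [(1, 288, true), (0, 45, true), (2, 41, true)]),
  ([0, 20, 22], [(0, 43, true), (1, 45, true), (0, 296, true), (1, 295, true)], [(1, 295, true), (0, 45, true), (2, 43, true)]),
  ([1, 2, 3], [(0, 47, true), (3, 48, true), (2, 69, true), (1, 129, true), (0, 183, true)], [(1, 69, true), (0, 51, true), (3, 48, true), (4, 47, true), (3, 94, true), (2, 155, true), (1, 200, true), (0, 15, true), (1, 152, true), (0, 197, true), (2, 148, true), (4, 91, true), (3, 149, true), (2, 180, true), (1, 9, true)]),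
  ([1, 2, 4], [(0, 47, true), (3, 49, true), (2, 70, true), (1, 133, true), (0, 181, true), (2, 130, true)], [(1, 70, true), (0, 55, true), (2, 52, true), (3, 49, true), (4, 47, true), (3, 113, true), (2, 169, true), (1, 211, true), (0, 13, true), (1, 164, true), (3, 110, true)]),
  ([1, 2, 5], [(0, 47, true), (3, 50, true), (2, 71, true), (1, 5, true)], [(1, 71, true), (0, 50, true), (1, 47, true), (0, 131, true), (1, 5, true)]),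
  ([1, 2, 6], [(0, 47, true), (3, 51, true), (2, 81, true), (1, 138, true), (0, 186, true), (3, 75, true), (2, 135, true), (1, 183, true), (3, 132, true), (2, 180, true), (5, 72, true), (4, 129, true), (3, 183, true), (2, 197, true), (1, 12, true)], [(1, 72, true), (0, 51, true), (3, 47, true), (2, 148, true)]),
  ([1, 2, 7], [(0, 47, true), (3, 52, true), (2, 73, true), (1, 130, true)], [(1, 73, true), (0, 52, true), (1, 47, true), (0, 164, true)]),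
  ([1, 2, 9], [(0, 47, true), (3, 54, true), (2, 75, true), (1, 135, true), (0, 183, true), (2, 132, true), (1, 180, true)], [(1, 75, true), (0, 57, true), (1, 54, true), (2, 47, true)]),
  ([1, 2, 10], [(0, 47, true), (3, 55, true), (2, 79, true), (1, 136, true), (0, 184, true), (3, 76, true), (2, 133, true), (1, 181, true)], [(1, 76, true), (0, 55, true), (2, 47, true)]),
  ([1, 2, 11], [(0, 47, true), (3, 56, true), (2, 77, true), (1, 137, true), (0, 189, true), (1, 185, true), (3, 134, true), (2, 187, true), (1, 256, true), (3, 182, true), (2, 263, true), (1, 278, true), (0, 289, true), (3, 258, true), (2, 273, true), (1, 18, true)], [(1, 77, true), (0, 59, true), (3, 56, true), (4, 47, true)]),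
  ([1, 2, 12], [(0, 47, true), (3, 57, true), (2, 78, true), (1, 135, true), (0, 183, true)], [(1, 78, true), (0, 57, true), (1, 47, true)]),
  ([1, 2, 13], [(0, 47, true), (3, 58, true), (2, 79, true), (1, 136, true), (0, 184, true)], [(1, 79, true), (0, 58, true), (1, 47, true)]),
  ([1, 2, 14], [(0, 47, true), (3, 59, true), (2, 89, true), (1, 146, true), (0, 194, true), (3, 82, true), (2, 141, true), (1, 189, true), (3, 139, true), (2, 187, true), (5, 80, true), (4, 137, true), (3, 189, true), (2, 273, true), (1, 18, true), (2, 185, true)], [(1, 80, true), (0, 59, true), (3, 47, true)]),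
  ([1, 2, 15], [(0, 47, true), (3, 60, true), (2, 81, true), (1, 138, true), (0, 186, true)], [(1, 81, true), (0, 60, true), (1, 47, true)]),
  ([1, 2, 16], [(0, 47, true), (3, 61, true), (2, 82, true), (1, 141, true), (0, 189, true), (2, 139, true), (1, 187, true)], [(1, 82, true), (0, 63, true), (1, 61, true), (2, 47, true)]),
  ([1, 2, 17], [(0, 47, true), (3, 62, true), (2, 85, true), (1, 144, true), (0, 192, true), (2, 143, true), (1, 191, true), (3, 142, true), (2, 190, true), (1, 295, true), (0, 297, true), (6, 83, true), (5, 140, true), (4, 193, true), (3, 292, true), (2, 295, true), (1, 297, true), (0, 22, true), (3, 191, true), (2, 290, true), (1, 20, true), (2, 188, true), (1, 291, true), (0, 21, true)], [(1, 83, true), (0, 62, true), (2, 47, true)]),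
  ([1, 2, 18], [(0, 47, true), (3, 63, true), (2, 84, true), (1, 141, true), (0, 189, true)], [(1, 84, true), (0, 63, true), (1, 47, true)]),
  ([1, 2, 19], [(0, 47, true), (3, 64, true), (2, 85, true), (1, 144, true), (0, 192, true), (2, 143, true), (1, 191, true), (3, 142, true), (2, 190, true), (1, 295, true), (0, 297, true)], [(1, 85, true), (0, 66, true), (2, 65, true), (3, 64, true), (4, 47, true)]),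
  ([1, 2, 20], [(0, 47, true), (3, 65, true), (2, 86, true), (1, 143, true), (0, 191, true)], [(1, 86, true), (0, 65, true), (1, 47, true)]),
  ([1, 2, 21], [(0, 47, true), (3, 66, true), (2, 88, true), (1, 145, true), (0, 193, true), (3, 87, true), (2, 144, true), (1, 192, true)], [(1, 87, true), (0, 66, true), (2, 47, true)]),
  ([1, 2, 22], [(0, 47, true), (3, 67, true), (2, 88, true), (1, 145, true), (0, 193, true)], [(1, 88, true), (0, 67, true), (1, 47, true)]),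
  ([1, 2, 23], [(0, 47, true), (3, 68, true), (2, 89, true), (1, 146, true), (0, 194, true)], [(1, 89, true), (0, 68, true), (1, 47, true)]),
  ([1, 3, 5], [(0, 48, true), (1, 50, true), (0, 91, true)], [(1, 91, true), (0, 54, true), (1, 50, true), (2, 48, true)]),
  ([1, 3, 6], [(0, 48, true), (1, 51, true), (0, 101, true), (1, 95, true), (2, 92, true)], [(1, 92, true), (0, 51, true), (3, 48, true)]),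
  ([1, 3, 7], [(0, 48, true), (1, 52, true), (0, 93, true)], [(1, 93, true), (0, 56, true), (1, 52, true), (2, 48, true)]),
  ([1, 3, 8], [(0, 48, true), (1, 53, true), (0, 94, true)], [(1, 94, true), (0, 60, true), (1, 57, true), (2, 53, true), (3, 48, true)]),
  ([1, 3, 10], [(0, 48, true), (1, 55, true), (0, 99, true), (3, 96, true), (2, 248, true), (1, 278, true), (0, 293, true), (2, 272, true), (4, 245, true)], [(1, 96, true), (0, 62, true), (2, 59, true), (1, 284, true), (0, 293, true), (5, 55, true), (7, 48, true)]),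
  ([1, 3, 13], [(0, 48, true), (1, 58, true), (0, 99, true)], [(1, 99, true), (0, 64, true), (1, 61, true), (2, 58, true), (3, 48, true)]),
  ([1, 3, 14], [(0, 48, true), (1, 59, true), (0, 109, true), (1, 102, true), (2, 100, true)], [(1, 100, true), (0, 59, true), (3, 48, true)]),
  ([1, 3, 17], [(0, 48, true), (1, 62, true), (0, 105, true), (1, 103, true)], [(1, 103, true), (0, 62, true), (2, 48, true)]),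
  ([1, 3, 18], [(0, 48, true), (1, 63, true), (0, 104, true)], [(1, 104, true), (0, 65, true), (1, 63, true), (2, 48, true)]),
  ([1, 3, 21], [(0, 48, true), (1, 66, true), (0, 108, true), (1, 107, true)], [(1, 107, true), (0, 66, true), (2, 48, true)]),
  ([1, 4, 6], [(0, 49, true), (1, 51, true), (0, 120, true), (2, 114, true), (3, 111, true), (2, 202, true), (1, 265, true), (3, 196, true)], [(1, 111, true), (0, 62, true), (2, 56, true), (3, 51, true), (2, 225, true), (6, 49, true)]),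
  ([1, 4, 8], [(0, 49, true), (1, 53, true), (0, 113, true)], [(1, 113, true), (0, 58, true), (1, 53, true), (2, 49, true)]),
  ([1, 4, 12], [(0, 49, true), (1, 57, true), (0, 117, true)], [(1, 117, true), (0, 67, true), (1, 61, true), (2, 57, true), (3, 49, true)]),
  ([1, 4, 15], [(0, 49, true), (1, 60, true), (0, 120, true)], [(1, 120, true), (0, 64, true), (1, 60, true), (2, 49, true)]),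
  ([1, 4, 21], [(0, 49, true), (1, 66, true), (0, 127, true), (1, 126, true), (0, 299, true)], [(1, 126, true), (0, 68, true), (1, 66, true), (3, 49, true)]),
  ([1, 5, 6], [(0, 50, true), (1, 51, true), (0, 138, true), (1, 132, true), (2, 129, true), (1, 197, true)], [(1, 129, true), (0, 57, true), (1, 51, true), (0, 236, true), (4, 50, true)]),
  ([1, 5, 10], [(0, 50, true), (1, 55, true), (0, 136, true), (1, 133, true)], [(1, 133, true), (0, 55, true), (2, 50, true)]),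
  ([1, 5, 14], [(0, 50, true), (1, 59, true), (0, 146, true), (1, 139, true), (2, 137, true), (1, 273, true)], [(1, 137, true), (0, 63, true), (1, 59, true), (0, 289, true), (4, 50, true)]),
  ([1, 5, 17], [(0, 50, true), (1, 62, true), (0, 142, true), (1, 140, true), (0, 292, true), (1, 290, true)], [(1, 140, true), (0, 67, true), (1, 65, true), (2, 62, true), (4, 50, true)]),
  ([1, 5, 21], [(0, 50, true), (1, 66, true), (0, 145, true), (1, 144, true)], [(1, 144, true), (0, 66, true), (2, 50, true)]),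
  ([1, 6, 7], [(0, 51, true), (3, 52, true), (2, 147, true), (1, 199, true), (0, 268, true)], [(1, 147, true), (0, 59, true), (3, 52, true), (4, 51, true), (3, 171, true), (2, 263, true), (1, 278, true), (0, 23, true), (1, 260, true), (0, 275, true), (2, 255, true), (4, 165, true), (3, 256, true), (2, 264, true), (1, 16, true)]),
  ([1, 6, 8], [(0, 51, true), (3, 53, true), (2, 148, true)], [(1, 148, true), (0, 53, true), (1, 51, true), (0, 186, true), (1, 180, true)]),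
  ([1, 6, 9], [(0, 51, true), (3, 54, true), (2, 149, true), (1, 9, true)], [(1, 149, true), (0, 54, true), (1, 51, true), (0, 200, true), (1, 9, true)]),
  ([1, 6, 10], [(0, 51, true), (3, 55, true), (2, 153, true), (1, 206, true), (0, 269, true), (2, 203, true), (1, 266, true), (3, 198, true), (5, 150, true), (4, 195, true), (3, 253, true), (2, 270, true), (1, 288, true), (0, 297, true), (4, 249, true), (3, 266, true), (2, 18, true)], [(1, 150, true), (0, 55, true), (2, 51, true), (1, 213, true), (0, 252, true), (1, 246, true), (0, 297, true)]),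
  ([1, 6, 11], [(0, 51, true), (3, 56, true), (2, 151, true), (1, 196, true)], [(1, 151, true), (0, 56, true), (1, 51, true), (0, 225, true)]),
  ([1, 6, 13], [(0, 51, true), (3, 58, true), (2, 153, true), (1, 206, true), (0, 269, true), (2, 203, true), (1, 266, true), (3, 198, true)], [(1, 153, true), (0, 66, true), (2, 63, true), (3, 58, true), (4, 51, true), (3, 246, true), (2, 288, true), (1, 297, true), (0, 22, true)]),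
  ([1, 6, 14], [(0, 51, true), (3, 59, true), (2, 163, true), (1, 208, true), (0, 271, true), (3, 156, true), (2, 205, true), (1, 268, true), (3, 201, true), (2, 264, true), (5, 154, true), (4, 199, true), (3, 268, true), (2, 275, true), (1, 20, true)], [(1, 154, true), (0, 59, true), (3, 51, true), (2, 255, true)]),
  ([1, 6, 16], [(0, 51, true), (3, 61, true), (2, 156, true), (1, 205, true), (0, 268, true), (2, 201, true), (1, 264, true)], [(1, 156, true), (0, 65, true), (1, 61, true), (2, 51, true)]),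
  ([1, 6, 17], [(0, 51, true), (3, 62, true), (2, 159, true), (1, 204, true), (0, 267, true), (3, 157, true), (2, 202, true), (1, 265, true)], [(1, 157, true), (0, 62, true), (2, 51, true)]),
  ([1, 6, 18], [(0, 51, true), (3, 63, true), (2, 158, true), (1, 203, true), (0, 266, true)], [(1, 158, true), (0, 63, true), (1, 51, true)]),
  ([1, 6, 19], [(0, 51, true), (3, 64, true), (2, 159, true), (1, 204, true), (0, 267, true)], [(1, 159, true), (0, 64, true), (1, 51, true)]),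
  ([1, 6, 20], [(0, 51, true), (3, 65, true), (2, 160, true), (1, 205, true), (0, 268, true)], [(1, 160, true), (0, 65, true), (1, 51, true)]),
  ([1, 6, 21], [(0, 51, true), (3, 66, true), (2, 162, true), (1, 207, true), (0, 270, true), (3, 161, true), (2, 206, true), (1, 269, true)], [(1, 161, true), (0, 66, true), (2, 51, true)]),
  ([1, 6, 22], [(0, 51, true), (3, 67, true), (2, 162, true), (1, 207, true), (0, 270, true)], [(1, 162, true), (0, 67, true), (1, 51, true)]),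
  ([1, 6, 23], [(0, 51, true), (3, 68, true), (2, 163, true), (1, 208, true), (0, 271, true)], [(1, 163, true), (0, 68, true), (1, 51, true)]),
  ([1, 7, 12], [(0, 52, true), (1, 57, true), (0, 168, true)], [(1, 168, true), (0, 63, true), (1, 57, true), (2, 52, true)]),
  ([1, 7, 14], [(0, 52, true), (1, 59, true), (0, 179, true), (1, 172, true), (2, 170, true)], [(1, 170, true), (0, 59, true), (3, 52, true)]),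
  ([1, 7, 15], [(0, 52, true), (1, 60, true), (0, 171, true)], [(1, 171, true), (0, 68, true), (1, 65, true), (2, 60, true), (3, 52, true)]),
  ([1, 7, 17], [(0, 52, true), (1, 62, true), (0, 175, true), (1, 173, true)], [(1, 173, true), (0, 62, true), (2, 52, true)]),
  ([1, 7, 21], [(0, 52, true), (1, 66, true), (0, 178, true), (1, 177, true)], [(1, 177, true), (0, 66, true), (2, 52, true)]),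
  ([1, 8, 14], [(0, 53, true), (1, 59, true), (0, 194, true), (1, 187, true), (2, 185, true)], [(1, 185, true), (0, 59, true), (3, 53, true)]),
  ([1, 8, 17], [(0, 53, true), (1, 62, true), (0, 190, true), (2, 188, true), (1, 291, true)], [(1, 188, true), (0, 66, true), (2, 62, true), (4, 53, true)]),
  ([1, 9, 10], [(0, 54, true), (1, 55, true), (0, 198, true), (1, 195, true), (0, 253, true), (1, 249, true)], [(1, 195, true), (0, 67, true), (1, 63, true), (2, 55, true), (4, 54, true)]),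
  ([1, 9, 14], [(0, 54, true), (1, 59, true), (0, 208, true), (1, 201, true), (2, 199, true), (1, 275, true)], [(1, 199, true), (0, 65, true), (1, 59, true), (0, 296, true), (4, 54, true)]),
  ([1, 9, 17], [(0, 54, true), (1, 62, true), (0, 204, true), (1, 202, true)], [(1, 202, true), (0, 62, true), (2, 54, true)]),
  ([1, 9, 21], [(0, 54, true), (1, 66, true), (0, 207, true), (1, 206, true)], [(1, 206, true), (0, 66, true), (2, 54, true)]),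
  ([1, 10, 12], [(0, 55, true), (2, 57, true), (1, 210, true)], [(1, 210, true), (0, 57, true), (1, 55, true), (0, 234, true)]),
  ([1, 10, 14], [(0, 55, true), (2, 59, true), (1, 221, true), (0, 254, true), (2, 214, true), (1, 247, true), (3, 212, true), (2, 245, true)], [(1, 212, true), (0, 59, true), (3, 55, true)]),
  ([1, 10, 15], [(0, 55, true), (2, 60, true), (1, 213, true), (0, 252, true), (1, 246, true), (0, 297, true)], [(1, 213, true), (0, 66, true), (2, 60, true), (3, 55, true)]),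
  ([1, 10, 18], [(0, 55, true), (2, 63, true), (1, 216, true), (0, 249, true)], [(1, 216, true), (0, 63, true), (1, 55, true)]),
  ([1, 10, 20], [(0, 55, true), (2, 65, true), (1, 218, true), (0, 251, true)], [(1, 218, true), (0, 65, true), (1, 55, true)]),
  ([1, 10, 22], [(0, 55, true), (2, 67, true), (1, 220, true), (0, 253, true)], [(1, 220, true), (0, 67, true), (1, 55, true)]),
  ([1, 11, 14], [(0, 56, true), (1, 59, true), (0, 233, true), (1, 226, true), (2, 224, true)], [(1, 224, true), (0, 59, true), (3, 56, true)]),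
  ([1, 11, 21], [(0, 56, true), (1, 66, true), (0, 232, true), (1, 231, true)], [(1, 231, true), (0, 66, true), (2, 56, true)]),
  ([1, 12, 14], [(0, 57, true), (1, 59, true), (0, 244, true), (1, 237, true), (2, 235, true)], [(1, 235, true), (0, 59, true), (3, 57, true)]),
  ([1, 12, 17], [(0, 57, true), (1, 62, true), (0, 240, true), (1, 238, true)], [(1, 238, true), (0, 62, true), (2, 57, true)]),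
  ([1, 12, 21], [(0, 57, true), (1, 66, true), (0, 243, true), (1, 242, true)], [(1, 242, true), (0, 66, true), (2, 57, true)]),
  ([1, 14, 15], [(0, 59, true), (3, 60, true), (2, 255, true)], [(1, 255, true), (0, 60, true), (1, 59, true), (0, 271, true), (1, 264, true)]),
  ([1, 14, 17], [(0, 59, true), (3, 62, true), (2, 259, true), (1, 274, true), (3, 257, true), (2, 272, true)], [(1, 257, true), (0, 62, true), (2, 59, true), (1, 284, true), (0, 293, true)]),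
  ([1, 14, 21], [(0, 59, true), (3, 66, true), (2, 262, true), (1, 277, true), (3, 261, true), (2, 276, true)], [(1, 261, true), (0, 66, true), (2, 59, true), (1, 298, true), (0, 299, true)]),
  ([1, 14, 22], [(0, 59, true), (3, 67, true), (2, 262, true), (1, 277, true)], [(1, 262, true), (0, 67, true), (1, 59, true), (0, 299, true)]),
  ([1, 17, 18], [(0, 62, true), (2, 63, true), (1, 279, true)], [(1, 279, true), (0, 63, true), (1, 62, true), (0, 285, true)]),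
  ([1, 17, 20], [(0, 62, true), (2, 65, true), (1, 281, true), (0, 290, true)], [(1, 281, true), (0, 65, true), (1, 62, true)]),
  ([1, 18, 21], [(0, 63, true), (1, 66, true), (0, 288, true), (1, 287, true)], [(1, 287, true), (0, 66, true), (2, 63, true)]),
  ([1, 20, 21], [(0, 65, true), (1, 66, true), (0, 295, true), (1, 294, true)], [(1, 294, true), (0, 66, true), (2, 65, true)]),
  ([2, 3, 4], [(0, 69, true), (2, 70, true), (1, 96, true), (0, 157, true), (1, 154, true), (2, 150, true), (4, 93, true), (3, 151, true), (2, 209, true), (4, 147, true), (3, 212, true), (2, 224, true), (1, 14, true), (5, 90, true)], [(1, 90, true), (0, 70, true), (3, 69, true), (2, 111, true), (1, 173, true), (0, 215, true), (2, 167, true), (1, 209, true)]),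
  ([2, 3, 5], [(0, 69, true), (2, 71, true), (1, 91, true), (0, 149, true)], [(1, 91, true), (0, 75, true), (2, 71, true), (3, 69, true), (2, 129, true), (1, 197, true), (0, 12, true)]),
  ([2, 3, 7], [(0, 69, true), (2, 73, true), (1, 93, true), (0, 151, true), (1, 147, true), (0, 224, true)], [(1, 93, true), (0, 77, true), (2, 73, true), (3, 69, true)]),
  ([2, 3, 8], [(0, 69, true), (2, 74, true), (1, 94, true), (0, 155, true), (1, 152, true), (2, 148, true)], [(1, 94, true), (0, 81, true), (1, 78, true), (2, 74, true), (3, 69, true)]),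
  ([2, 3, 9], [(0, 69, true), (2, 75, true), (1, 98, true), (0, 152, true), (2, 95, true), (1, 149, true)], [(1, 95, true), (0, 75, true), (2, 69, true)]),
  ([2, 3, 10], [(0, 69, true), (2, 76, true), (1, 96, true), (0, 157, true), (1, 154, true), (2, 150, true)], [(1, 96, true), (0, 83, true), (1, 80, true), (2, 76, true), (3, 69, true)]),
  ([2, 3, 11], [(0, 69, true), (2, 77, true), (1, 100, true), (0, 154, true), (2, 97, true), (1, 151, true)], [(1, 97, true), (0, 77, true), (2, 69, true)]),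
  ([2, 3, 12], [(0, 69, true), (2, 78, true), (1, 98, true), (0, 152, true)], [(1, 98, true), (0, 78, true), (1, 69, true)]),
  ([2, 3, 13], [(0, 69, true), (2, 79, true), (1, 99, true), (0, 159, true), (1, 156, true), (0, 290, true), (3, 153, true), (2, 276, true), (1, 291, true), (0, 294, true), (3, 273, true)], [(1, 99, true), (0, 85, true), (3, 82, true), (5, 79, true), (6, 69, true)]),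
  ([2, 3, 14], [(0, 69, true), (2, 80, true), (1, 100, true), (0, 154, true)], [(1, 100, true), (0, 80, true), (1, 69, true)]),
  ([2, 3, 15], [(0, 69, true), (2, 81, true), (1, 101, true), (0, 155, true)], [(1, 101, true), (0, 81, true), (1, 69, true)]),
  ([2, 3, 16], [(0, 69, true), (2, 82, true), (1, 104, true), (0, 160, true), (1, 158, true), (3, 102, true), (2, 156, true), (1, 286, true), (0, 20, true)], [(1, 102, true), (0, 82, true), (2, 69, true)]),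
  ([2, 3, 18], [(0, 69, true), (2, 84, true), (1, 104, true), (0, 160, true), (1, 158, true)], [(1, 104, true), (0, 86, true), (1, 84, true), (2, 69, true)]),
  ([2, 3, 19], [(0, 69, true), (2, 85, true), (1, 107, true), (0, 161, true), (2, 106, true), (1, 160, true), (3, 105, true), (2, 159, true)], [(1, 105, true), (0, 85, true), (3, 69, true)]),
  ([2, 3, 20], [(0, 69, true), (2, 86, true), (1, 106, true), (0, 160, true)], [(1, 106, true), (0, 86, true), (1, 69, true)]),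
  ([2, 3, 22], [(0, 69, true), (2, 88, true), (1, 108, true), (0, 162, true)], [(1, 108, true), (0, 88, true), (1, 69, true)]),
  ([2, 4, 6], [(0, 70, true), (3, 72, true), (2, 111, true), (1, 173, true), (0, 215, true), (2, 167, true), (1, 209, true)], [(1, 111, true), (0, 83, true), (1, 77, true), (3, 72, true), (4, 70, true), (3, 150, true), (4, 147, true), (3, 212, true), (2, 224, true), (1, 14, true)]),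
  ([2, 4, 9], [(0, 70, true), (3, 75, true), (2, 117, true), (1, 178, true), (0, 220, true), (2, 172, true), (1, 214, true), (3, 168, true), (2, 216, true), (1, 273, true), (3, 210, true), (6, 114, true), (5, 165, true), (4, 214, true), (3, 237, true), (2, 16, true)], [(1, 114, true), (0, 75, true), (2, 70, true), (1, 195, true), (0, 243, true), (1, 239, true)]),
  ([2, 4, 12], [(0, 70, true), (3, 78, true), (2, 117, true), (1, 178, true), (0, 220, true), (2, 172, true), (1, 214, true), (3, 168, true), (2, 216, true), (1, 273, true), (3, 210, true)], [(1, 117, true), (0, 88, true), (1, 82, true), (3, 78, true), (4, 70, true)]),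
  ([2, 4, 15], [(0, 70, true), (3, 81, true), (2, 120, true), (1, 175, true), (0, 217, true), (3, 171, true), (2, 221, true), (1, 293, true), (0, 23, true), (1, 218, true), (0, 290, true), (2, 213, true), (1, 291, true), (0, 294, true)], [(1, 120, true), (0, 85, true), (3, 81, true), (4, 70, true)]),
  ([2, 5, 6], [(0, 71, true), (1, 72, true), (0, 129, true)], [(1, 129, true), (0, 78, true), (1, 72, true), (2, 71, true)]),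
  ([2, 5, 9], [(0, 71, true), (1, 75, true), (0, 135, true), (1, 132, true)], [(1, 132, true), (0, 75, true), (2, 71, true)]),
  ([2, 5, 11], [(0, 71, true), (1, 77, true), (0, 137, true), (2, 134, true), (1, 256, true)], [(1, 134, true), (0, 82, true), (2, 77, true), (4, 71, true)]),
  ([2, 5, 14], [(0, 71, true), (1, 80, true), (0, 137, true)], [(1, 137, true), (0, 84, true), (1, 80, true), (2, 71, true)]),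
  ([2, 5, 16], [(0, 71, true), (1, 82, true), (0, 141, true), (1, 139, true)], [(1, 139, true), (0, 82, true), (2, 71, true)]),
  ([2, 5, 17], [(0, 71, true), (1, 83, true), (0, 140, true)], [(1, 140, true), (0, 88, true), (1, 86, true), (2, 83, true), (3, 71, true)]),
  ([2, 5, 19], [(0, 71, true), (1, 85, true), (0, 144, true), (1, 143, true), (2, 142, true)], [(1, 142, true), (0, 85, true), (3, 71, true)]),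
  ([2, 6, 16], [(0, 72, true), (1, 82, true), (0, 158, true), (1, 156, true), (0, 286, true)], [(1, 156, true), (0, 86, true), (1, 82, true), (3, 72, true)]),
  ([2, 7, 9], [(0, 73, true), (1, 75, true), (0, 168, true), (2, 165, true), (1, 237, true)], [(1, 165, true), (0, 82, true), (2, 75, true), (4, 73, true)]),
  ([2, 7, 15], [(0, 73, true), (1, 81, true), (0, 171, true)], [(1, 171, true), (0, 89, true), (1, 86, true), (2, 81, true), (3, 73, true)]),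
  ([2, 8, 11], [(0, 74, true), (1, 77, true), (0, 185, true), (1, 182, true), (0, 263, true), (1, 258, true)], [(1, 182, true), (0, 89, true), (1, 84, true), (2, 77, true), (4, 74, true)]),
  ([2, 9, 10], [(0, 75, true), (2, 76, true), (1, 195, true), (0, 243, true), (1, 239, true)], [(1, 195, true), (0, 88, true), (1, 84, true), (2, 76, true), (3, 75, true), (2, 210, true)]),
  ([2, 9, 11], [(0, 75, true), (2, 77, true), (1, 199, true), (0, 241, true), (1, 235, true), (3, 196, true)], [(1, 196, true), (0, 77, true), (2, 75, true), (1, 222, true), (0, 260, true)]),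
  ([2, 9, 14], [(0, 75, true), (2, 80, true), (1, 199, true), (0, 241, true), (1, 235, true)], [(1, 199, true), (0, 86, true), (1, 80, true), (2, 75, true)]),
  ([2, 9, 15], [(0, 75, true), (2, 81, true), (1, 200, true), (0, 236, true)], [(1, 200, true), (0, 81, true), (1, 75, true)]),
  ([2, 9, 16], [(0, 75, true), (2, 82, true), (1, 203, true), (0, 239, true), (2, 201, true), (1, 237, true)], [(1, 201, true), (0, 82, true), (2, 75, true)]),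
  ([2, 9, 17], [(0, 75, true), (2, 83, true), (1, 202, true), (0, 238, true)], [(1, 202, true), (0, 83, true), (1, 75, true)]),
  ([2, 9, 19], [(0, 75, true), (2, 85, true), (1, 206, true), (0, 242, true), (2, 205, true), (1, 241, true), (3, 204, true), (2, 240, true)], [(1, 204, true), (0, 85, true), (3, 75, true)]),
  ([2, 9, 20], [(0, 75, true), (2, 86, true), (1, 205, true), (0, 241, true)], [(1, 205, true), (0, 86, true), (1, 75, true)]),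
  ([2, 9, 21], [(0, 75, true), (2, 87, true), (1, 206, true), (0, 242, true)], [(1, 206, true), (0, 87, true), (1, 75, true)]),
  ([2, 11, 15], [(0, 77, true), (2, 81, true), (1, 225, true), (0, 255, true)], [(1, 225, true), (0, 81, true), (1, 77, true)]),
  ([3, 5, 11], [(0, 91, true), (2, 97, true), (1, 134, true), (0, 201, true), (1, 196, true)], [(1, 134, true), (0, 102, true), (1, 97, true), (2, 91, true)]),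
  ([0, 0, 1], [(0, 0, true)], [(1, 24, true), (0, 27, true), (1, 24, true), (0, 4, true), (1, 0, true)]),
  ([0, 1, 1], [(0, 24, true), (2, 24, true), (1, 49, true), (0, 4, true), (0, 1, true)], [(1, 1, true)]),
  ([0, 0, 5], [(0, 0, true)], [(1, 28, true), (0, 36, true), (1, 30, true), (2, 28, true), (1, 169, true), (0, 13, true), (0, 7, true), (1, 0, true)]),
  ([0, 5, 5], [(0, 28, true), (3, 28, true), (2, 136, true), (1, 169, true), (0, 13, true), (1, 130, true), (0, 7, true), (0, 5, true)], [(1, 5, true)]),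
  ([0, 0, 8], [(0, 0, true)], [(1, 31, true), (0, 33, true), (1, 31, true), (0, 10, true), (1, 0, true)]),
  ([0, 0, 9], [(0, 0, true)], [(1, 32, true), (0, 42, true), (1, 34, true), (2, 32, true), (1, 229, true), (0, 19, true), (0, 11, true), (1, 0, true)]),
  ([0, 9, 9], [(0, 32, true), (3, 32, true), (2, 204, true), (1, 229, true), (0, 19, true), (1, 196, true), (0, 11, true), (0, 9, true)], [(1, 9, true)]),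
  ([0, 0, 15], [(0, 0, true)], [(1, 38, true), (0, 40, true), (1, 38, true), (0, 17, true), (1, 0, true)]),
  ([1, 1, 2], [(0, 1, true)], [(1, 47, true), (0, 53, true), (1, 50, true), (2, 47, true), (1, 131, true), (0, 8, true), (0, 5, true), (1, 1, true)]),
  ([1, 2, 2], [(0, 47, true), (3, 47, true), (2, 74, true), (1, 131, true), (0, 8, true), (1, 71, true), (0, 5, true), (0, 2, true)], [(1, 2, true)]),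
  ([1, 1, 6], [(0, 1, true)], [(1, 51, true), (0, 60, true), (1, 54, true), (2, 51, true), (1, 200, true), (0, 15, true), (0, 9, true), (1, 1, true)]),
  ([1, 1, 10], [(0, 1, true)], [(1, 55, true), (0, 58, true), (1, 55, true), (0, 13, true), (1, 1, true)]),
  ([2, 2, 3], [(0, 2, true)], [(1, 69, true), (0, 72, true), (1, 69, true), (0, 6, true), (1, 2, true)]),
  ([2, 3, 3], [(0, 69, true), (2, 69, true), (1, 92, true), (0, 6, true), (0, 3, true)], [(1, 3, true)]),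
  ([2, 2, 9], [(0, 2, true)], [(1, 75, true), (0, 78, true), (1, 75, true), (0, 12, true), (1, 2, true)]),
  ([2, 2, 15], [(0, 2, true)], [(1, 81, true), (0, 81, true), (1, 2, true)]),
  ([3, 3, 5], [(0, 3, true)], [(1, 91, true), (0, 95, true), (1, 91, true), (0, 9, true), (1, 3, true)]),
  ([3, 5, 5], [(0, 91, true), (2, 91, true), (1, 132, true), (0, 9, true), (0, 5, true)], [(1, 5, true)])]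

/-- A conjugation. -/
def twoFourTwoFus0 : Schur.Tails.Fus where
  xs := [[0], [1], [2], [4], [5], [6], [7], [8], [9], [10], [11], [12], [13], [14], [15], [16], [17], [18], [19], [20], [21], [22], [23]]
  ys := [[0], [1], [6], [4], [9], [2], [11], [15], [5], [17], [7], [12], [19], [14], [8], [16], [10], [20], [13], [18], [21], [22], [23]]
  rels := [
    ([2, 2], [], [(0, 2, true)], [(0, 6, true)]),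
    ([4, 4], [], [(0, 5, true)], [(0, 9, true)]),
    ([6, 6], [], [(0, 7, true)], [(0, 11, true)]),
    ([7, 7], [], [(0, 8, true)], [(0, 15, true)]),
    ([12, 12], [], [(0, 13, true)], [(0, 19, true)]),
    ([17, 17], [], [(0, 18, true)], [(0, 20, true)]),
    ([0, 2], [2, 0], [(0, 25, true)], [(0, 29, true)]),
    ([0, 4], [12, 6, 4, 0], [(0, 28, true)], [(0, 32, true)]),
    ([0, 6], [6, 0], [(0, 30, true)], [(0, 34, true)]),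
    ([0, 11], [20, 13, 11, 0], [(0, 35, true)], [(0, 35, true)]),
    ([1, 2], [7, 4, 2, 1], [(0, 47, true)], [(0, 51, true)]),
    ([1, 4], [4, 1], [(0, 50, true)], [(0, 54, true)]),
    ([1, 6], [6, 1], [(0, 52, true)], [(0, 56, true)]),
    ([2, 4], [4, 2], [(0, 71, true)], [(0, 149, true)]),
    ([2, 10], [13, 10, 2], [(0, 77, true)], [(0, 147, true)]),
    ([2, 15], [17, 15, 2], [(0, 82, true)], [(0, 156, true)]),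
    ([2, 18], [20, 19, 18, 2], [(0, 85, true)], [(0, 153, true)])]

/-- A conjugation. -/
def twoFourTwoFus1 : Schur.Tails.Fus where
  xs := [[0], [1], [3], [4], [5], [6], [7], [8], [9], [10], [11], [12], [13], [14], [15], [16], [17], [18], [19], [20], [21], [22], [23]]
  ys := [[0], [8], [6], [10], [5], [3], [7], [1], [12], [4], [14], [9], [13], [11], [15], [18], [17], [16], [21], [20], [19], [22], [23]]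
  rels := [
    ([1, 1], [], [(0, 1, true)], [(0, 8, true)]),
    ([2, 2], [], [(0, 3, true)], [(0, 6, true)]),
    ([3, 3], [], [(0, 4, true)], [(0, 10, true)]),
    ([8, 8], [], [(0, 9, true)], [(0, 12, true)]),
    ([0, 1], [3, 1, 0], [(0, 24, true)], [(0, 31, true)]),
    ([0, 2], [2, 0], [(0, 26, true)], [(0, 29, true)]),
    ([1, 2], [2, 1], [(0, 48, true)], [(0, 148, false)]),
    ([2, 4], [8, 4, 2], [(0, 91, true)], [(0, 12, false), (1, 129, false)])]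

/-- A conjugation. -/
def twoFourTwoFus2 : Schur.Tails.Fus where
  xs := [[0], [2], [3], [4], [5], [6], [7], [8], [9], [10], [11], [12], [13], [14], [15], [16], [17], [18], [19], [20], [21], [22], [23]]
  ys := [[4], [5], [3], [0], [2], [9], [7], [8], [6], [13], [11], [12], [10], [16], [15], [14], [19], [18], [17], [20], [22], [21], [23]]
  rels := [
    ([0, 0], [], [(0, 0, true)], [(0, 4, true)]),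
    ([1, 1], [], [(0, 2, true)], [(0, 5, true)]),
    ([5, 5], [], [(0, 6, true)], [(0, 9, true)]),
    ([1, 2], [5, 2, 1], [(0, 69, true)], [(0, 9, false), (1, 91, false)]),
    ([1, 14], [14, 1], [(0, 81, true)], [(0, 138, true)])]

/-- A conjugation. -/
def twoFourTwoFus3 : Schur.Tails.Fus where
  xs := [[1], [2], [3], [4], [5], [6], [7], [8], [9], [10], [11], [12], [13], [14], [15], [16], [17], [18], [19], [20], [21], [22], [23]]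
  ys := [[4], [2], [3], [1], [7], [6], [5], [10], [11], [8], [9], [14], [13], [12], [17], [16], [15], [18], [19], [20], [21], [23], [22]]
  rels := [
    ([0, 0], [], [(0, 1, true)], [(0, 4, true)]),
    ([4, 4], [], [(0, 5, true)], [(0, 7, true)]),
    ([7, 7], [], [(0, 8, true)], [(0, 10, true)]),
    ([0, 1], [7, 4, 1, 0], [(0, 47, true)], [(0, 7, false), (0, 10, false), (1, 166, false), (2, 70, false)]),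
    ([0, 13], [22, 15, 13, 0], [(0, 59, true)], [(0, 117, true)]),
    ([0, 16], [18, 16, 0], [(0, 62, true)], [(0, 120, true)]),
    ([2, 12], [18, 15, 12, 2], [(0, 99, true)], [(0, 99, true)])]

/-- The certificate. -/
def twoFourTwoCert : Schur.Tails.Cert where
  p := 2
  q := 4
  n := 24
  rels := [
    ([0, 0], []),
    ([1, 1], []),
    ([2, 2], []),
    ([3, 3], []),
    ([4, 4], []),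
    ([5, 5], []),
    ([6, 6], []),
    ([7, 7], []),
    ([8, 8], []),
    ([9, 9], []),
    ([10, 10], []),
    ([11, 11], []),
    ([12, 12], []),
    ([13, 13], []),
    ([14, 14], []),
    ([15, 15], []),
    ([16, 16], []),
    ([17, 17], []),
    ([18, 18], []),
    ([19, 19], []),
    ([20, 20], []),
    ([21, 21], []),
    ([22, 22], []),
    ([23, 23], []),
    ([0, 1], [4, 1, 0]),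
    ([0, 2], [2, 0]),
    ([0, 3], [3, 0]),
    ([0, 4], [4, 0]),
    ([0, 5], [13, 7, 5, 0]),
    ([0, 6], [6, 0]),
    ([0, 7], [7, 0]),
    ([0, 8], [10, 8, 0]),
    ([0, 9], [19, 11, 9, 0]),
    ([0, 10], [10, 0]),
    ([0, 11], [11, 0]),
    ([0, 12], [21, 14, 12, 0]),
    ([0, 13], [13, 0]),
    ([0, 14], [14, 0]),
    ([0, 15], [17, 15, 0]),
    ([0, 16], [16, 0]),
    ([0, 17], [17, 0]),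
    ([0, 18], [18, 0]),
    ([0, 19], [19, 0]),
    ([0, 20], [20, 0]),
    ([0, 21], [21, 0]),
    ([0, 22], [23, 22, 0]),
    ([0, 23], [23, 0]),
    ([1, 2], [8, 5, 2, 1]),
    ([1, 3], [3, 1]),
    ([1, 4], [4, 1]),
    ([1, 5], [5, 1]),
    ([1, 6], [15, 9, 6, 1]),
    ([1, 7], [7, 1]),
    ([1, 8], [8, 1]),
    ([1, 9], [9, 1]),
    ([1, 10], [13, 10, 1]),
    ([1, 11], [11, 1]),
    ([1, 12], [12, 1]),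
    ([1, 13], [13, 1]),
    ([1, 14], [23, 16, 14, 1]),
    ([1, 15], [15, 1]),
    ([1, 16], [16, 1]),
    ([1, 17], [19, 17, 1]),
    ([1, 18], [18, 1]),
    ([1, 19], [19, 1]),
    ([1, 20], [20, 1]),
    ([1, 21], [22, 21, 1]),
    ([1, 22], [22, 1]),
    ([1, 23], [23, 1]),
    ([2, 3], [6, 3, 2]),
    ([2, 4], [10, 7, 4, 2]),
    ([2, 5], [5, 2]),
    ([2, 6], [6, 2]),
    ([2, 7], [7, 2]),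
    ([2, 8], [8, 2]),
    ([2, 9], [12, 9, 2]),
    ([2, 10], [10, 2]),
    ([2, 11], [14, 11, 2]),
    ([2, 12], [12, 2]),
    ([2, 13], [13, 2]),
    ([2, 14], [14, 2]),
    ([2, 15], [15, 2]),
    ([2, 16], [18, 16, 2]),
    ([2, 17], [17, 2]),
    ([2, 18], [18, 2]),
    ([2, 19], [21, 20, 19, 2]),
    ([2, 20], [20, 2]),
    ([2, 21], [21, 2]),
    ([2, 22], [22, 2]),
    ([2, 23], [23, 2]),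
    ([3, 4], [4, 3]),
    ([3, 5], [9, 5, 3]),
    ([3, 6], [6, 3]),
    ([3, 7], [11, 7, 3]),
    ([3, 8], [15, 12, 8, 3]),
    ([3, 9], [9, 3]),
    ([3, 10], [17, 14, 10, 3]),
    ([3, 11], [11, 3]),
    ([3, 12], [12, 3]),
    ([3, 13], [19, 16, 13, 3]),
    ([3, 14], [14, 3]),
    ([3, 15], [15, 3]),
    ([3, 16], [16, 3]),
    ([3, 17], [17, 3]),
    ([3, 18], [20, 18, 3]),
    ([3, 19], [19, 3]),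
    ([3, 20], [20, 3]),
    ([3, 21], [21, 3]),
    ([3, 22], [22, 3]),
    ([3, 23], [23, 3]),
    ([4, 5], [5, 4]),
    ([4, 6], [17, 11, 6, 4]),
    ([4, 7], [7, 4]),
    ([4, 8], [13, 8, 4]),
    ([4, 9], [9, 4]),
    ([4, 10], [10, 4]),
    ([4, 11], [11, 4]),
    ([4, 12], [22, 16, 12, 4]),
    ([4, 13], [13, 4]),
    ([4, 14], [14, 4]),
    ([4, 15], [19, 15, 4]),
    ([4, 16], [16, 4]),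
    ([4, 17], [17, 4]),
    ([4, 18], [18, 4]),
    ([4, 19], [19, 4]),
    ([4, 20], [20, 4]),
    ([4, 21], [23, 21, 4]),
    ([4, 22], [22, 4]),
    ([4, 23], [23, 4]),
    ([5, 6], [12, 6, 5]),
    ([5, 7], [7, 5]),
    ([5, 8], [8, 5]),
    ([5, 9], [9, 5]),
    ([5, 10], [10, 5]),
    ([5, 11], [16, 11, 5]),
    ([5, 12], [12, 5]),
    ([5, 13], [13, 5]),
    ([5, 14], [18, 14, 5]),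
    ([5, 15], [15, 5]),
    ([5, 16], [16, 5]),
    ([5, 17], [22, 20, 17, 5]),
    ([5, 18], [18, 5]),
    ([5, 19], [19, 5]),
    ([5, 20], [20, 5]),
    ([5, 21], [21, 5]),
    ([5, 22], [22, 5]),
    ([5, 23], [23, 5]),
    ([6, 7], [14, 7, 6]),
    ([6, 8], [8, 6]),
    ([6, 9], [9, 6]),
    ([6, 10], [10, 6]),
    ([6, 11], [11, 6]),
    ([6, 12], [12, 6]),
    ([6, 13], [21, 18, 13, 6]),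
    ([6, 14], [14, 6]),
    ([6, 15], [15, 6]),
    ([6, 16], [20, 16, 6]),
    ([6, 17], [17, 6]),
    ([6, 18], [18, 6]),
    ([6, 19], [19, 6]),
    ([6, 20], [20, 6]),
    ([6, 21], [21, 6]),
    ([6, 22], [22, 6]),
    ([6, 23], [23, 6]),
    ([7, 8], [8, 7]),
    ([7, 9], [16, 9, 7]),
    ([7, 10], [10, 7]),
    ([7, 11], [11, 7]),
    ([7, 12], [18, 12, 7]),
    ([7, 13], [13, 7]),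
    ([7, 14], [14, 7]),
    ([7, 15], [23, 20, 15, 7]),
    ([7, 16], [16, 7]),
    ([7, 17], [17, 7]),
    ([7, 18], [18, 7]),
    ([7, 19], [19, 7]),
    ([7, 20], [20, 7]),
    ([7, 21], [21, 7]),
    ([7, 22], [22, 7]),
    ([7, 23], [23, 7]),
    ([8, 9], [9, 8]),
    ([8, 10], [10, 8]),
    ([8, 11], [23, 18, 11, 8]),
    ([8, 12], [12, 8]),
    ([8, 13], [13, 8]),
    ([8, 14], [14, 8]),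
    ([8, 15], [15, 8]),
    ([8, 16], [16, 8]),
    ([8, 17], [21, 17, 8]),
    ([8, 18], [18, 8]),
    ([8, 19], [22, 19, 8]),
    ([8, 20], [20, 8]),
    ([8, 21], [21, 8]),
    ([8, 22], [22, 8]),
    ([8, 23], [23, 8]),
    ([9, 10], [22, 18, 10, 9]),
    ([9, 11], [11, 9]),
    ([9, 12], [12, 9]),
    ([9, 13], [13, 9]),
    ([9, 14], [20, 14, 9]),
    ([9, 15], [15, 9]),
    ([9, 16], [16, 9]),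
    ([9, 17], [17, 9]),
    ([9, 18], [18, 9]),
    ([9, 19], [19, 9]),
    ([9, 20], [20, 9]),
    ([9, 21], [21, 9]),
    ([9, 22], [22, 9]),
    ([9, 23], [23, 9]),
    ([10, 11], [11, 10]),
    ([10, 12], [12, 10]),
    ([10, 13], [13, 10]),
    ([10, 14], [14, 10]),
    ([10, 15], [21, 15, 10]),
    ([10, 16], [16, 10]),
    ([10, 17], [17, 10]),
    ([10, 18], [18, 10]),
    ([10, 19], [23, 19, 10]),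
    ([10, 20], [20, 10]),
    ([10, 21], [21, 10]),
    ([10, 22], [22, 10]),
    ([10, 23], [23, 10]),
    ([11, 12], [20, 12, 11]),
    ([11, 13], [13, 11]),
    ([11, 14], [14, 11]),
    ([11, 15], [15, 11]),
    ([11, 16], [16, 11]),
    ([11, 17], [17, 11]),
    ([11, 18], [18, 11]),
    ([11, 19], [19, 11]),
    ([11, 20], [20, 11]),
    ([11, 21], [21, 11]),
    ([11, 22], [22, 11]),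
    ([11, 23], [23, 11]),
    ([12, 13], [13, 12]),
    ([12, 14], [14, 12]),
    ([12, 15], [15, 12]),
    ([12, 16], [16, 12]),
    ([12, 17], [17, 12]),
    ([12, 18], [18, 12]),
    ([12, 19], [19, 12]),
    ([12, 20], [20, 12]),
    ([12, 21], [21, 12]),
    ([12, 22], [22, 12]),
    ([12, 23], [23, 12]),
    ([13, 14], [14, 13]),
    ([13, 15], [22, 15, 13]),
    ([13, 16], [16, 13]),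
    ([13, 17], [23, 17, 13]),
    ([13, 18], [18, 13]),
    ([13, 19], [19, 13]),
    ([13, 20], [20, 13]),
    ([13, 21], [21, 13]),
    ([13, 22], [22, 13]),
    ([13, 23], [23, 13]),
    ([14, 15], [15, 14]),
    ([14, 16], [16, 14]),
    ([14, 17], [17, 14]),
    ([14, 18], [18, 14]),
    ([14, 19], [19, 14]),
    ([14, 20], [20, 14]),
    ([14, 21], [21, 14]),
    ([14, 22], [22, 14]),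
    ([14, 23], [23, 14]),
    ([15, 16], [16, 15]),
    ([15, 17], [17, 15]),
    ([15, 18], [18, 15]),
    ([15, 19], [19, 15]),
    ([15, 20], [20, 15]),
    ([15, 21], [21, 15]),
    ([15, 22], [22, 15]),
    ([15, 23], [23, 15]),
    ([16, 17], [17, 16]),
    ([16, 18], [18, 16]),
    ([16, 19], [19, 16]),
    ([16, 20], [20, 16]),
    ([16, 21], [21, 16]),
    ([16, 22], [22, 16]),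
    ([16, 23], [23, 16]),
    ([17, 18], [18, 17]),
    ([17, 19], [19, 17]),
    ([17, 20], [20, 17]),
    ([17, 21], [21, 17]),
    ([17, 22], [22, 17]),
    ([17, 23], [23, 17]),
    ([18, 19], [19, 18]),
    ([18, 20], [20, 18]),
    ([18, 21], [21, 18]),
    ([18, 22], [22, 18]),
    ([18, 23], [23, 18]),
    ([19, 20], [20, 19]),
    ([19, 21], [21, 19]),
    ([19, 22], [22, 19]),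
    ([19, 23], [23, 19]),
    ([20, 21], [21, 20]),
    ([20, 22], [22, 20]),
    ([20, 23], [23, 20]),
    ([21, 22], [22, 21]),
    ([21, 23], [23, 21]),
    ([22, 23], [23, 22])]
  overlaps := twoFourTwoOverlaps
  fus := [twoFourTwoFus0, twoFourTwoFus1, twoFourTwoFus2, twoFourTwoFus3]
  mu := [[0, 0, 0, 0, 0, 0, 0, 0, 0, 0, 0, 0, 0, 0, 0, 0, 0, 0, 0, 0, 0, 0, 0, 0, 1, 0, 0, 0, 0, 0, 0, 0, 0, 0, 0, 0, 0, 0, 0, 0, 0, 0, 0, 0, 0, 0, 0, 0, 0, 0, 0, 0, 0, 0, 0, 0, 0, 0, 0, 0, 0, 0, 0, 0, 0, 0, 0, 0, 0, 0, 0, 0, 0, 0, 0, 0, 0, 0, 0, 0, 0, 0, 0, 0, 0, 0, 0, 0, 0, 0, 0, 0, 0, 0, 0, 0, 0, 0, 0, 0, 0, 0, 0, 0, 0, 0, 0, 0, 0, 0, 0, 0, 0, 0, 0, 0, 0, 0, 0, 0, 0, 0, 0, 0, 0, 0, 0, 0, 0, 0, 0, 0, 0, 0, 0, 0, 0, 0, 0, 0, 0, 0, 0, 0, 0, 0, 0, 0, 0, 0, 0, 0, 0, 0, 0, 0, 0, 0, 0, 0,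 0, 0, 0, 0, 0, 0, 0, 0, 0, 0, 0, 0, 0, 0, 0, 0, 0, 0, 0, 0, 0, 0, 0, 0, 0, 0, 0, 0, 0, 0, 0, 0, 0, 0, 0, 0, 0, 0, 0, 0, 0, 0, 0, 0, 0, 0, 0, 0, 0, 0, 0, 0, 0, 0, 0, 0, 0, 0, 0, 0, 0, 0, 0, 0, 0, 0, 0, 0, 0, 0, 0, 0, 0, 0, 0, 0, 0, 0, 0, 0, 0, 0, 0, 0, 0, 0, 0, 0, 0, 0, 0, 0, 0, 0, 0, 0, 0, 0, 0, 0, 0, 0, 0, 0, 0, 0, 0, 0, 0, 0, 0, 0, 0, 0, 0, 0, 0, 0, 0, 0, 0, 0, 0, 0, 0, 0, 0, 0, 0, 0, 0, 0, 0, 0, 0, 0, 0, 0, 0, 0, 0, 0, 0, 0, 0, 0, 0, 0, 0, 0, 0, 0, 0, 0, 0, 0, 0, 0, 0, 0, 0, 0, 0, 0, 0, 0, 0, 0, 0, 0, 0, 0, 0, 0, 0, 0, 0, 0, 0, 0, 0, 0, 0, 0, 0, 0, 1], [0, 0, 0, 0, 0, 0, 0, 0, 0, 0, 0, 0, 0, 0, 0, 0, 0, 0, 0, 0, 0, 0, 0, 0, 0, 0, 0, 0, 2, 0, 0, 2, 0, 0, 0, 0, 0, 0, 2, 0, 0, 0, 0, 0, 0, 0, 0, 3, 0, 0, 0, 2, 0, 0, 0, 0, 0, 0, 0, 0, 0, 0, 0, 0, 0, 0, 0, 0, 0, 0, 0, 0,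 0, 0, 0, 0, 0, 0, 0, 0, 0, 0, 0, 0, 0, 0, 0, 0, 0, 0, 0, 1, 0, 0, 0, 0, 0, 0, 0, 0, 0, 0, 0, 0, 0, 0, 0, 0, 0, 0, 0, 0, 0, 0, 0, 0, 0, 0, 0, 0, 0, 0, 0, 0, 0, 0, 0, 0, 0, 0, 0, 0, 0, 0, 0, 0, 0, 0, 0, 0, 0, 0, 0, 0, 0, 0, 0, 0, 0, 0, 0, 0, 0, 0, 0, 0, 0, 0, 0, 0, 0, 0, 0, 0, 0, 0, 0, 0, 0, 0, 0, 0, 0, 0, 0, 0, 0, 0, 0, 0, 0, 0, 0, 0, 0, 0, 0, 0, 0, 0, 0, 0, 0, 0, 0, 0, 0, 0, 0, 0, 0, 0, 0, 0, 0, 0, 0, 0, 0, 0, 0, 0, 0, 0, 0, 0, 0, 0, 0, 0, 0, 0, 0, 0, 0, 0, 0, 0, 0, 0, 0, 0, 0, 0, 0, 0, 0, 0, 0, 0, 0, 0, 0, 0, 0, 0, 0, 0, 0, 0, 0, 0, 0, 0, 0, 0, 0, 0, 0, 0, 0, 0, 0, 0, 0, 0, 0, 0, 0, 0, 0, 0, 0, 0, 0, 0, 0, 0, 0, 0, 0, 0, 0, 0, 0, 0, 0, 0, 0, 0, 0, 0, 0, 0, 0, 0, 0, 0, 0, 0, 0, 0, 0, 0, 1, 0, 0, 0, 0, 0, 0, 0, 0, 0, 0, 0, 0, 0, 0, 0, 0, 0, 0, 0, 1], [0, 0, 0, 0, 0, 0,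 0, 0, 0, 0, 0, 0, 0, 0, 0, 0, 0, 0, 0, 0, 0, 0, 0, 0, 2, 0, 0, 0, 2, 0, 0, 0, 2, 0, 0, 0, 0, 0, 2, 0, 0, 0, 0, 0, 0, 0, 0, 0, 0, 0, 0, 0, 0, 0, 0, 0, 0, 0, 0, 0, 0, 0, 0, 0, 0, 0, 0, 0, 0, 1, 0, 0, 0, 0, 0, 0, 0, 0, 0, 0, 0, 0, 0, 0, 0, 0, 0, 0, 0, 0, 0, 0, 0, 0, 0, 0, 0, 0, 0, 0, 0, 0, 0, 0, 0, 0, 0, 0, 0, 0, 0, 0, 0, 0, 0, 0, 0, 0, 0, 0, 0, 0, 0, 0, 0, 0, 0, 0, 0, 0, 0, 0, 0, 0, 0, 0, 0, 0, 0, 0, 0, 0, 0, 0, 0, 0, 0, 0, 0, 0, 0, 0, 0, 0, 0, 0, 0, 0, 0, 0, 0, 0, 0, 0, 0, 0, 0, 0, 0, 0, 0, 0, 0, 0, 0, 0, 0, 0, 0, 0, 0, 0, 0, 0, 0, 0, 0, 0, 0, 0, 0, 0, 0, 0, 0, 0, 0, 0, 0, 0, 0, 0, 0, 0, 0, 0, 0, 0, 0, 0, 0, 0, 0, 0, 0, 0, 0, 0, 0, 0, 0, 0, 0, 0, 0, 0, 0, 0, 0, 0, 0, 0, 0, 0, 0, 0, 0, 0, 0, 0, 0, 0, 0, 0, 0, 0, 0, 0, 0, 0, 0, 0, 0, 0, 0, 0, 0, 0, 0, 0, 0, 0, 0, 0, 0, 0,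 0, 0, 0, 0, 0, 0, 0, 0, 0, 0, 0, 0, 0, 0, 0, 0, 0, 0, 0, 0, 0, 0, 0, 0, 0, 0, 0, 0, 0, 0, 0, 0, 0, 0, 0, 0, 1], [0, 0, 0, 0, 0, 0, 0, 0, 0, 0, 0, 0, 0, 0, 0, 0, 0, 0, 0, 0, 0, 0, 0, 0, 0, 0, 0, 0, 0, 0, 0, 0, 0, 0, 0, 0, 0, 0, 0, 0, 0, 0, 0, 0, 0, 0, 0, 0, 0, 0, 0, 0, 0, 0, 0, 0, 0, 0, 0, 0, 0, 0, 0, 0, 0, 0, 0, 0, 0, 1, 0, 0, 0, 0, 0, 0, 0, 0, 0, 0, 0, 0, 0, 0, 0, 0, 0, 0, 0, 0, 0, 0, 0, 0, 0, 0, 0, 0, 0, 0, 0, 0, 0, 0, 0, 0, 0, 0, 0, 0, 0, 0, 0, 0, 0, 0, 0, 0, 0, 0, 0, 0, 0, 0, 0, 0, 0, 0, 0, 0, 0, 0, 0, 0, 0, 0, 0, 0, 0, 0, 0, 0, 0, 0, 0, 0, 0, 0, 0, 0, 0, 0, 0, 0, 0, 0, 0, 0, 0, 0, 0, 0, 0, 0, 0, 0, 0, 0, 0, 0, 0, 0, 0, 0, 0, 0, 0, 0, 0, 0, 0, 0, 0, 0, 0, 0, 0, 0, 0, 0, 0, 0, 0, 0, 0, 0, 0, 0, 0, 0, 0, 0, 0, 0, 0, 0, 0, 0, 0, 0, 0, 0, 0, 0, 0, 0, 0, 0, 0, 0, 0, 0,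 0, 0, 0, 0, 0, 0, 0, 0, 0, 0, 0, 0, 0, 0, 0, 0, 0, 0, 0, 0, 0, 0, 0, 0, 0, 0, 0, 0, 0, 0, 0, 0, 0, 0, 0, 0, 0, 0, 0, 0, 0, 0, 0, 0, 0, 0, 0, 0, 0, 0, 0, 0, 0, 0, 0, 0, 0, 0, 0, 0, 0, 0, 0, 0, 0, 0, 0, 0, 0, 0, 0, 0, 0, 0, 0, 0, 0, 0, 0, 0, 0, 0, 0, 0, 0, 0, 0, 0, 0, 0, 0, 0, 0, 0, 0, 0, 0, 0, 0, 0, 0, 0, 0, 1], [0, 0, 0, 0, 0, 0, 0, 0, 0, 0, 0, 0, 0, 0, 0, 0, 0, 0, 0, 0, 0, 0, 0, 0, 1], [0, 0, 0, 0, 0, 0, 0, 0, 0, 0, 0, 0, 0, 0, 0, 0, 0, 0, 0, 0, 0, 0, 0, 0, 2, 0, 0, 0, 2, 0, 0, 0, 0, 0, 0, 0, 0, 0, 2, 0, 0, 0, 0, 0, 0, 0, 0, 0, 0, 0, 0, 2, 0, 0, 0, 0, 0, 0, 0, 0, 0, 0, 0, 0, 0, 0, 0, 0, 0, 0, 0, 0, 0, 0, 0, 0, 0, 0, 0, 0, 0, 0, 0, 0, 0, 0, 0, 0, 0, 0, 0, 1, 0, 0, 0, 0, 0, 0, 0, 0, 0, 0, 0, 0, 0, 0, 0, 0, 0, 0, 0, 0, 0, 0, 0, 0, 0, 0, 0, 0, 0, 0, 0, 0, 0, 0, 0, 0, 0, 0,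 0, 0, 0, 0, 0, 0, 0, 0, 0, 0, 0, 0, 0, 0, 0, 0, 0, 0, 0, 0, 0, 0, 0, 0, 0, 0, 0, 0, 0, 0, 0, 0, 0, 0, 0, 0, 0, 0, 0, 0, 0, 0, 0, 0, 0, 0, 0, 0, 0, 0, 0, 0, 0, 0, 0, 0, 0, 0, 0, 0, 0, 0, 0, 0, 0, 0, 0, 0, 0, 0, 0, 0, 0, 0, 0, 0, 0, 0, 0, 0, 0, 0, 0, 0, 0, 0, 0, 0, 0, 0, 0, 0, 0, 0, 0, 0, 0, 0, 0, 0, 0, 0, 0, 0, 0, 0, 0, 0, 0, 0, 0, 0, 0, 0, 0, 0, 0, 0, 0, 0, 0, 0, 0, 0, 0, 0, 0, 0, 0, 0, 0, 0, 0, 0, 0, 0, 0, 0, 0, 0, 0, 0, 0, 0, 0, 0, 0, 0, 0, 0, 0, 0, 0, 0, 0, 0, 0, 0, 0, 0, 0, 0, 0, 0, 0, 0, 0, 0, 0, 0, 0, 0, 0, 0, 1], [0, 0, 0, 0, 0, 0, 0, 0, 0, 0, 0, 0, 0, 0, 0, 0, 0, 0, 0, 0, 0, 0, 0, 0, 0, 0, 0, 0, 0, 0, 0, 0, 0, 0, 0, 0, 0, 0, 0, 0, 0, 0, 0, 0, 0, 0, 0, 0, 0, 0, 0, 0, 0, 0, 0, 0, 0, 0, 0, 0, 0, 0, 0, 0, 0, 0, 0, 0, 0, 1], [0, 0, 0, 0, 0, 0, 0, 0, 0, 0, 0, 0, 0, 0,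 0, 0, 0, 0, 0, 0, 0, 0, 0, 0, 0, 0, 0, 0, 1, 0, 0, 0, 0, 0, 0, 0, 0, 0, 0, 0, 0, 0, 0, 0, 0, 0, 0, 0, 0, 0, 0, 0, 0, 0, 0, 3], [0, 0, 0, 0, 0, 0, 0, 0, 0, 0, 0, 0, 0, 0, 0, 0, 0, 0, 0, 0, 0, 0, 0, 0, 2, 0, 0, 0, 2, 0, 0, 0, 0, 0, 0, 0, 0, 0, 2, 0, 0, 0, 0, 0, 0, 0, 0, 1, 0, 0, 0, 2, 0, 0, 0, 0, 0, 0, 0, 0, 0, 0, 0, 0, 0, 0, 0, 0, 0, 0, 0, 0, 0, 0, 0, 0, 0, 0, 0, 0, 0, 0, 0, 0, 0, 0, 0, 0, 0, 0, 0, 3, 0, 0, 0, 0, 0, 0, 0, 0, 0, 0, 0, 0, 0, 0, 0, 0, 0, 0, 0, 0, 0, 0, 0, 0, 0, 0, 0, 0, 0, 0, 0, 0, 0, 0, 0, 0, 0, 0, 0, 0, 0, 0, 0, 0, 0, 0, 0, 0, 0, 0, 0, 0, 0, 0, 0, 0, 0, 0, 0, 0, 0, 0, 0, 0, 0, 0, 0, 0, 0, 0, 0, 0, 0, 0, 0, 0, 0, 0, 0, 0, 0, 0, 0, 0, 0, 0, 0, 0, 0, 0, 0, 0, 0, 0, 0, 0, 0, 0, 0, 0, 0, 0, 0, 0, 0, 0, 0, 0, 0, 0, 0, 0, 0, 0, 0, 0, 0, 0, 0, 0, 0, 0, 0, 0, 0,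 0, 0, 0, 0, 0, 0, 0, 0, 0, 0, 0, 0, 0, 0, 0, 0, 0, 0, 0, 0, 0, 0, 0, 0, 0, 0, 0, 0, 0, 0, 0, 0, 0, 0, 0, 0, 0, 0, 0, 0, 0, 0, 0, 0, 0, 0, 0, 0, 0, 0, 0, 0, 0, 0, 0, 0, 0, 0, 0, 0, 0, 0, 0, 0, 0, 0, 0, 0, 0, 0, 0, 0, 0, 0, 0, 0, 0, 0, 0, 0, 0, 0, 0, 0, 0, 0, 0, 3], [0, 0, 0, 0, 0, 0, 0, 0, 0, 0, 0, 0, 0, 0, 0, 0, 0, 0, 0, 0, 0, 0, 0, 0, 0, 0, 0, 0, 0, 0, 0, 0, 0, 0, 0, 0, 0, 0, 0, 0, 0, 0, 0, 0, 0, 0, 0, 0, 0, 0, 0, 0, 0, 0, 0, 0, 0, 0, 0, 0, 0, 0, 0, 0, 0, 0, 0, 0, 0, 0, 0, 0, 0, 0, 0, 0, 0, 0, 0, 0, 0, 0, 0, 0, 0, 0, 0, 0, 0, 0, 0, 1], [0, 0, 0, 0, 0, 0, 0, 0, 0, 0, 0, 0, 0, 0, 0, 0, 0, 0, 0, 0, 0, 0, 0, 0, 0, 0, 0, 0, 0, 0, 0, 1], [0, 0, 0, 0, 0, 0, 0, 0, 0, 0, 0, 0, 0, 0, 0, 0, 0, 0, 0, 0, 0, 0, 0, 0, 0, 0, 0, 0, 0, 0, 0, 0, 1, 0, 0, 0, 0, 0, 0, 0, 0, 0, 0, 0, 0, 0,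 0, 0, 0, 0, 0, 0, 0, 0, 0, 0, 0, 0, 0, 0, 0, 0, 3], [0, 0, 0, 0, 0, 0, 0, 0, 0, 0, 0, 0, 0, 0, 0, 0, 0, 0, 0, 0, 0, 0, 0, 0, 0, 0, 0, 0, 0, 0, 0, 0, 0, 0, 0, 0, 0, 0, 0, 0, 0, 0, 0, 0, 0, 0, 0, 0, 0, 0, 0, 0, 0, 0, 0, 0, 0, 0, 0, 0, 0, 0, 0, 0, 0, 0, 0, 0, 0, 0, 0, 0, 0, 0, 0, 1], [0, 0, 0, 0, 0, 0, 0, 0, 0, 0, 0, 0, 0, 0, 0, 0, 0, 0, 0, 0, 0, 0, 0, 0, 0, 0, 0, 0, 0, 0, 0, 0, 0, 0, 0, 0, 0, 0, 0, 0, 0, 0, 0, 0, 0, 0, 0, 0, 0, 0, 0, 0, 0, 0, 0, 1], [0, 0, 0, 0, 0, 0, 0, 0, 0, 0, 0, 0, 0, 0, 0, 0, 0, 0, 0, 0, 0, 0, 0, 0, 0, 0, 0, 0, 0, 0, 0, 0, 0, 0, 0, 0, 0, 0, 0, 0, 0, 0, 0, 0, 0, 0, 0, 0, 0, 0, 0, 0, 0, 0, 0, 0, 0, 0, 0, 0, 0, 0, 0, 0, 0, 0, 0, 0, 0, 0, 0, 0, 0, 0, 0, 0, 0, 1], [0, 0, 0, 0, 0, 0, 0, 0, 0, 0, 0, 0, 0, 0, 0, 0, 0, 0, 0, 0, 0, 0, 0, 0, 0, 0, 0, 0, 0, 0,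 0, 0, 0, 0, 0, 0, 0, 0, 0, 0, 0, 0, 0, 0, 0, 0, 0, 0, 0, 0, 0, 1, 0, 0, 0, 0, 0, 0, 0, 0, 0, 0, 0, 0, 0, 0, 0, 0, 0, 0, 0, 0, 0, 0, 0, 0, 0, 0, 0, 0, 0, 0, 0, 0, 0, 0, 0, 0, 0, 0, 0, 3], [0, 0, 0, 0, 0, 0, 0, 0, 0, 0, 0, 0, 0, 0, 0, 0, 0, 0, 0, 0, 0, 0, 0, 0, 0, 0, 0, 0, 0, 0, 0, 0, 0, 0, 0, 0, 0, 0, 0, 0, 0, 0, 0, 0, 0, 3, 0, 0, 0, 0, 0, 0, 0, 0, 0, 0, 0, 0, 0, 1], [0, 0, 0, 0, 0, 0, 0, 0, 0, 0, 0, 0, 0, 0, 0, 0, 0, 0, 0, 0, 0, 0, 0, 0, 0, 0, 0, 0, 0, 0, 0, 0, 0, 0, 0, 0, 0, 0, 1], [0, 0, 0, 0, 0, 0, 0, 0, 0, 0, 0, 0, 0, 0, 0, 0, 0, 0, 0, 0, 0, 0, 0, 0, 0, 0, 0, 0, 0, 0, 0, 0, 0, 0, 0, 0, 0, 0, 0, 0, 0, 0, 0, 0, 0, 0, 0, 0, 0, 0, 0, 0, 0, 0, 0, 0, 0, 0, 0, 0, 0, 0, 0, 0, 0, 0, 0, 0, 0, 0, 0, 0, 0, 0, 0, 0, 0, 0, 0, 0, 0, 0, 1], [0, 0, 0, 0, 0, 0, 0, 0, 0, 0, 0, 0, 0,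 0, 0, 0, 0, 0, 0, 0, 0, 0, 0, 0, 0, 0, 0, 0, 0, 0, 0, 0, 0, 0, 0, 0, 0, 0, 0, 0, 0, 0, 0, 0, 0, 0, 0, 0, 0, 0, 0, 0, 0, 0, 0, 0, 0, 0, 0, 0, 0, 0, 1], [0, 0, 0, 0, 0, 0, 0, 0, 0, 0, 0, 0, 0, 0, 0, 0, 0, 0, 0, 0, 0, 0, 0, 0, 0, 0, 0, 0, 0, 0, 0, 0, 0, 0, 0, 3, 0, 0, 0, 0, 0, 0, 0, 0, 0, 0, 0, 0, 0, 0, 0, 0, 0, 0, 0, 0, 0, 0, 0, 0, 0, 0, 0, 0, 0, 0, 0, 0, 0, 0, 0, 0, 0, 0, 0, 0, 0, 1, 0, 0, 0, 0, 0, 0, 0, 1], [0, 0, 0, 0, 0, 0, 0, 0, 0, 0, 0, 0, 0, 0, 0, 0, 0, 0, 0, 0, 0, 0, 0, 0, 0, 0, 0, 0, 0, 0, 0, 0, 0, 0, 0, 1, 0, 0, 0, 0, 0, 0, 0, 0, 0, 0, 0, 0, 0, 0, 0, 0, 0, 0, 0, 0, 0, 0, 0, 0, 0, 0, 0, 0, 0, 0, 0, 0, 0, 0, 0, 0, 0, 0, 0, 0, 0, 3], [0, 0, 0, 0, 0, 0, 0, 0, 0, 0, 0, 0, 0, 0, 0, 0, 0, 0, 0, 0, 0, 0, 0, 0, 0, 0, 0, 0, 0, 0, 0, 0, 0, 0, 0, 0, 0, 0, 0, 0, 0, 0, 0, 0,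 0, 0, 0, 0, 0, 0, 0, 0, 0, 0, 0, 0, 0, 0, 0, 0, 0, 0, 0, 0, 0, 0, 1], [0, 0, 0, 0, 0, 0, 0, 0, 0, 0, 0, 0, 0, 0, 0, 0, 0, 0, 0, 0, 0, 0, 0, 0, 0, 0, 0, 0, 0, 0, 0, 0, 0, 0, 0, 0, 0, 0, 0, 0, 0, 0, 0, 0, 0, 1]]
  combos := [
    ([(22, 1), (33, 3), (249, 3), (271, 1), (282, 1), (284, 2), (288, 1)], 0),
    ([(0, 2), (6, 2), (8, 2), (11, 2), (12, 2), (13, 2), (18, 2), (19, 3), (20, 3), (22, 1), (30, 2), (31, 2), (33, 3), (38, 2), (40, 2), (41, 1), (43, 2), (44, 2), (45, 1), (49, 2), (51, 2), (52, 2), (53, 2), (54, 2), (56, 1), (58, 2), (59, 1), (60, 2), (61, 2), (62, 2), (67, 2), (70, 1), (71, 2), (72, 2), (76, 2), (82, 2), (85, 2), (86, 1), (87, 2), (93, 2), (95, 2), (97, 2), (98, 2), (100, 2), (102, 2), (104, 2), (105, 2), (106, 2), (107, 2), (108, 1), (112, 1), (113,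 1), (117, 3), (119, 2), (121, 2), (122, 2), (123, 2), (125, 2), (126, 2), (127, 2), (128, 2), (129, 2), (130, 2), (131, 2), (135, 2), (140, 2), (144, 3), (146, 1), (148, 2), (149, 1), (151, 2), (152, 3), (153, 2), (157, 2), (158, 2), (161, 2), (162, 2), (164, 2), (165, 3), (166, 2), (168, 2), (169, 3), (171, 2), (173, 2), (174, 2), (177, 1), (178, 2), (182, 3), (183, 2), (184, 2), (185, 2), (188, 2), (189, 1), (190, 2), (191, 2), (192, 2), (193, 2), (194, 2), (195, 3), (199, 2), (200, 2), (201, 2), (206, 2), (210, 2), (211, 2), (213, 2), (221, 2), (223, 1), (224, 2), (225, 2), (226, 2), (228, 2), (229, 2), (234, 2), (235, 2), (236, 2), (237, 2), (238, 2), (239, 2), (243, 2), (244, 3), (248, 2), (249, 3), (251, 1), (256, 3), (259, 1), (260, 1), (262, 2), (264, 1), (265,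 1), (267, 3), (270, 2), (271, 1), (275, 2), (280, 3), (282, 2), (283, 3), (287, 2), (292, 2), (293, 2), (294, 3), (295, 3), (296, 2)], 0),
    ([(121, 2), (123, 2), (126, 2), (129, 2), (153, 2), (206, 2), (210, 2), (213, 2), (223, 3), (224, 2), (237, 2), (259, 3), (260, 3), (262, 2), (263, 1), (283, 1), (287, 2), (290, 1), (291, 2), (292, 2)], 0),
    ([(121, 2), (123, 2), (126, 2), (129, 2), (153, 2), (206, 2), (210, 2), (213, 2), (223, 3), (224, 2), (237, 2), (259, 3), (260, 3), (262, 2), (281, 1), (283, 1), (287, 2), (290, 1), (291, 2), (292, 2)], 0),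
    ([(22, 1), (33, 3), (249, 3), (271, 1), (282, 1), (284, 2)], 0),
    ([(121, 2), (123, 2), (126, 2), (129, 2), (153, 2), (206, 2), (210, 2), (213, 2), (223, 1), (224, 2), (237, 2), (259, 1), (260, 1), (262, 2), (264, 1), (283, 3), (287, 2), (292, 2)], 0),
    ([(121, 2), (123, 2), (126, 2), (129, 2), (153, 2), (206, 2), (210, 2), (213, 2), (223, 3), (224, 2), (237, 2), (259, 3), (260, 3), (262, 2), (283, 1), (287, 2), (290, 1), (291, 2), (292, 2)], 0),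
    ([(6, 2), (8, 2), (11, 2), (12, 2), (13, 2), (18, 2), (19, 3), (20, 3), (30, 2), (31, 2), (38, 2), (40, 2), (41, 1), (43, 2), (44, 2), (45, 1), (49, 2), (51, 2), (52, 2), (53, 2), (54, 2), (56, 1), (58, 2), (59, 1), (60, 2), (61, 2), (62, 2), (67, 2), (70, 1), (71, 2), (72, 2), (76, 2), (82, 2), (85, 2), (86, 1), (87, 2), (93, 2), (95, 2), (97, 2), (98, 2), (100, 2), (102, 2), (104, 2), (105, 2), (106, 2), (107, 2), (108, 1), (112, 1), (113, 1), (117, 3), (125, 2), (128, 2), (130, 2), (131, 2), (135, 2), (144, 3), (146, 1), (148, 2), (149, 1), (151, 2), (152, 3), (157, 2), (158, 2), (161, 2), (162, 2), (164, 2), (165, 3), (166, 2), (168, 2), (169, 3), (171, 2), (173, 2), (174, 2), (177, 1), (178, 2), (182, 3), (183, 2), (184, 2), (185, 2), (188, 2), (189, 1), (190,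 2), (191, 2), (192, 2), (193, 2), (194, 2), (195, 3), (199, 2), (200, 2), (201, 2), (211, 2), (221, 2), (225, 2), (226, 2), (228, 2), (229, 2), (234, 2), (235, 2), (236, 2), (238, 2), (239, 2), (243, 2), (244, 3), (251, 1), (256, 3), (265, 1), (267, 3), (270, 2)], 0),
    ([(0, 2), (6, 2), (8, 2), (11, 2), (12, 2), (13, 2), (18, 2), (19, 3), (20, 3), (22, 1), (30, 2), (31, 2), (33, 3), (38, 2), (40, 2), (41, 1), (43, 2), (44, 2), (45, 1), (49, 2), (51, 2), (52, 2), (53, 2), (54, 2), (56, 1), (58, 2), (59, 1), (60, 2), (61, 2), (62, 2), (67, 2), (70, 1), (71, 2), (72, 2), (76, 2), (82, 2), (85, 2), (86, 1), (87, 2), (93, 2), (95, 2), (97, 2), (98, 2), (100, 2), (102, 2), (104, 2), (105, 2), (106, 2), (107, 2), (108, 1), (112, 1), (113, 1), (117, 3), (119, 2), (121, 2),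 (122, 2), (123, 2), (125, 2), (126, 2), (127, 2), (128, 2), (129, 2), (130, 2), (131, 2), (135, 2), (140, 2), (144, 3), (146, 1), (148, 2), (149, 1), (151, 2), (152, 3), (153, 2), (157, 2), (158, 2), (161, 2), (162, 2), (164, 2), (165, 3), (166, 2), (168, 2), (169, 3), (171, 2), (173, 2), (174, 2), (177, 1), (178, 2), (182, 3), (183, 2), (184, 2), (185, 2), (188, 2), (189, 1), (190, 2), (191, 2), (192, 2), (193, 2), (194, 2), (195, 3), (199, 2), (200, 2), (201, 2), (206, 2), (210, 2), (211, 2), (213, 2), (221, 2), (223, 1), (224, 2), (225, 2), (226, 2), (228, 2), (229, 2), (234, 2), (235, 2), (236, 2), (237, 2), (238, 2), (239, 2), (243, 2), (244, 3), (248, 2), (249, 3), (251, 1), (256, 3), (259, 1), (260, 1), (262, 2), (264, 1), (265, 1), (267, 3), (270, 2), (271, 1),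 (275, 2), (280, 2), (282, 2), (283, 3), (287, 2), (292, 2), (293, 2), (294, 3), (295, 3), (296, 2)], 0),
    ([(121, 2), (123, 2), (126, 2), (129, 2), (153, 2), (206, 2), (210, 2), (213, 2), (223, 1), (224, 2), (237, 2), (259, 1), (260, 1), (262, 2), (283, 3), (287, 2), (292, 2)], 0),
    ([(22, 1), (33, 3), (249, 3), (271, 1)], 0),
    ([(6, 3), (8, 1), (11, 3), (12, 3), (13, 1), (16, 2), (18, 3), (19, 2), (20, 3), (30, 1), (31, 3), (38, 3), (40, 1), (41, 1), (43, 1), (44, 1), (45, 1), (49, 3), (51, 3), (52, 3), (53, 1), (54, 1), (56, 3), (58, 3), (60, 1), (61, 3), (62, 1), (67, 1), (68, 2), (71, 1), (72, 3), (74, 2), (75, 2), (76, 1), (77, 2), (79, 2), (80, 2), (81, 2), (82, 1), (85, 3), (86, 1), (87, 1), (88, 2), (93, 3), (95, 1), (97, 3), (98, 3), (100, 3), (102, 1),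 (103, 2), (104, 3), (105, 3), (106, 1), (107, 1), (110, 2), (112, 3), (113, 3), (114, 2), (115, 2), (117, 3), (125, 1), (128, 1), (130, 1), (131, 3), (133, 2), (135, 1), (137, 2), (140, 2), (144, 3), (146, 1), (148, 1), (151, 3), (152, 3), (155, 2), (157, 3), (158, 3), (161, 3), (162, 3), (164, 3), (165, 2), (166, 3), (167, 2), (168, 1), (169, 1), (170, 2), (171, 3), (173, 1), (174, 3), (175, 3), (176, 2), (177, 2), (178, 1), (182, 3), (183, 3), (184, 1), (185, 3), (186, 2), (187, 2), (188, 3), (189, 2), (190, 3), (191, 3), (192, 3), (193, 3), (194, 3), (195, 2), (196, 2), (197, 2), (198, 2), (199, 1), (200, 1), (201, 1), (211, 1), (218, 2), (221, 3), (222, 2), (225, 3), (226, 3), (227, 2), (228, 1), (229, 3), (231, 2), (234, 1), (235, 1), (236, 3), (238, 3), (239, 3),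 (240, 2), (241, 2), (242, 2), (243, 1), (244, 3), (251, 1)], 0),
    ([(223, 1), (259, 3)], 0),
    ([(149, 1), (256, 3)], 0),
    ([(3, 1), (6, 2), (8, 2), (14, 3), (16, 3), (25, 1), (30, 1), (32, 3), (33, 1), (34, 3), (38, 1), (40, 1), (44, 1), (49, 2), (52, 2), (53, 2), (54, 2), (56, 3), (58, 3), (59, 3), (60, 2), (62, 1), (63, 3), (64, 2), (66, 3), (68, 3), (71, 2), (72, 2), (75, 3), (76, 2), (78, 1), (79, 1), (80, 3), (81, 3), (82, 1), (83, 2), (84, 2), (85, 2), (87, 3), (88, 1), (89, 2), (93, 3), (95, 1), (96, 3), (97, 2), (98, 1), (100, 2), (101, 3), (102, 3), (103, 3), (104, 1), (105, 3), (106, 1), (107, 2), (109, 2), (112, 2), (113, 2), (116, 3), (125, 2), (128, 2), (130, 3), (131, 2), (132, 3), (133, 3), (134, 1), (135, 3), (136, 3), (137, 3), (140, 1), (142,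 1), (148, 1), (151, 2), (155, 3), (156, 1), (157, 2), (158, 3), (161, 2), (162, 3), (165, 1), (166, 2), (168, 3), (171, 2), (173, 3), (174, 1), (176, 3), (177, 2), (178, 1), (179, 1), (180, 3), (181, 3), (183, 2), (184, 2), (185, 1), (187, 1), (188, 2), (189, 2), (191, 3), (192, 3), (193, 1), (194, 2), (195, 2), (196, 3), (197, 3), (198, 1), (199, 2), (201, 2), (202, 1), (203, 1), (205, 1), (212, 3), (220, 2), (221, 3), (222, 1), (225, 2), (229, 2), (231, 1), (232, 2), (235, 2), (236, 2), (238, 2), (239, 1), (240, 3), (241, 1), (242, 1), (243, 1), (250, 3), (251, 3), (272, 2), (277, 2), (279, 2), (297, 2), (298, 2), (299, 2)], 2),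
    ([(0, 2), (6, 2), (8, 2), (11, 2), (12, 2), (13, 2), (18, 2), (19, 3), (20, 3), (22, 1), (30, 2), (31, 2), (33, 3), (38, 2), (40, 2), (41, 1), (43, 2), (44, 2), (45, 1), (49, 2), (51, 2), (52, 2), (53, 2), (54, 2), (56, 1), (58, 2), (59, 1), (60, 2), (61, 2), (62, 2), (67, 2), (70, 1), (71, 2), (72, 2), (76, 2), (82, 2), (85, 2), (86, 1), (87, 2), (93, 2), (95, 2), (97, 2), (98, 2), (100, 2), (102, 2), (104, 2), (105, 2), (106, 2), (107, 2), (108, 1), (112, 1), (113, 1), (117, 3), (119, 2), (121, 2), (122, 2), (123, 2), (125, 2), (126, 2), (127, 2), (128, 2), (129, 2), (130, 2), (131, 2), (135, 2), (140, 2), (144, 3), (146, 1), (148, 2), (149, 1), (151, 2), (152, 3), (153, 2), (157, 2), (158, 2), (161, 2), (162, 2), (164, 2), (165, 3), (166, 2), (168, 2), (169, 3),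 (171, 2), (173, 2), (174, 2), (177, 1), (178, 2), (182, 3), (183, 2), (184, 2), (185, 2), (188, 2), (189, 1), (190, 2), (191, 2), (192, 2), (193, 2), (194, 2), (195, 3), (199, 2), (200, 2), (201, 2), (206, 2), (210, 2), (211, 2), (213, 2), (221, 2), (223, 1), (224, 2), (225, 2), (226, 2), (228, 2), (229, 2), (234, 2), (235, 2), (236, 2), (237, 2), (238, 2), (239, 2), (243, 2), (244, 3), (248, 2), (249, 3), (251, 1), (256, 3), (259, 1), (260, 1), (262, 2), (264, 1), (265, 1), (266, 3), (267, 3), (270, 2), (271, 1), (273, 2), (275, 2), (280, 2), (282, 2), (283, 3), (287, 2), (292, 2), (293, 2), (294, 3), (295, 3), (296, 2)], 0),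
    ([(9, 1), (13, 3), (19, 1), (20, 2), (29, 2), (31, 3), (33, 2), (38, 2), (41, 2), (43, 3), (45, 1), (49, 1), (51, 2), (52, 1), (53, 3), (55, 3), (56, 2), (58, 2), (59, 2), (60, 3), (61, 1), (62, 2), (68, 1), (70, 2), (71, 1), (72, 1), (73, 1), (74, 1), (75, 3), (77, 2), (80, 1), (82, 3), (84, 1), (85, 2), (88, 3), (92, 3), (99, 2), (100, 1), (103, 1), (105, 3), (107, 3), (108, 2), (109, 2), (110, 1), (112, 2), (113, 2), (114, 1), (115, 1), (116, 2), (117, 2), (125, 3), (130, 1), (135, 3), (136, 1), (143, 3), (144, 2), (150, 1), (151, 1), (152, 2), (155, 3), (156, 3), (163, 1), (165, 2), (167, 3), (169, 2), (170, 3), (171, 1), (173, 3), (175, 3), (177, 3), (179, 3), (182, 2), (184, 3), (185, 1), (186, 1), (187, 3), (189, 1), (190, 2), (191, 3), (195, 2), (196, 1), (198,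 3), (199, 3), (200, 1), (201, 1), (218, 1), (220, 3), (221, 3), (226, 1), (227, 3), (228, 1), (231, 1), (232, 3), (234, 3), (244, 2), (250, 2), (251, 2)], 0),
    ([(26, 3), (36, 1), (252, 3)], 0),
    ([(11, 1), (13, 3), (18, 1), (19, 1), (20, 2), (29, 1), (43, 3), (51, 3), (52, 1), (53, 3), (55, 1), (56, 1), (58, 3), (59, 3), (60, 3), (61, 1), (62, 3), (68, 1), (70, 3), (71, 3), (74, 1), (75, 3), (77, 1), (79, 1), (82, 3), (83, 1), (84, 3), (88, 3), (95, 1), (103, 2), (105, 3), (107, 1), (108, 3), (110, 1), (112, 1), (113, 1), (114, 1), (116, 1), (117, 3), (130, 3), (132, 1), (133, 1), (134, 3), (135, 2), (136, 2), (137, 2), (143, 3), (146, 1), (150, 1), (151, 1), (152, 2), (155, 1), (156, 3), (172, 3), (174, 1), (175, 3), (177, 3), (178, 1), (179, 3), (184, 3), (187,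 3), (189, 2), (190, 3), (191, 3), (196, 1), (197, 1), (198, 3), (200, 1), (202, 3), (221, 3), (225, 3), (226, 1), (228, 3), (232, 1), (233, 3)], 0),
    ([(6, 1), (8, 3), (11, 1), (12, 1), (13, 3), (16, 2), (18, 1), (19, 3), (30, 3), (31, 1), (38, 1), (40, 3), (43, 3), (44, 3), (49, 1), (51, 1), (52, 1), (53, 3), (54, 3), (56, 2), (58, 1), (59, 3), (60, 3), (61, 1), (62, 3), (67, 3), (68, 2), (70, 3), (71, 3), (72, 1), (74, 2), (75, 2), (76, 3), (77, 2), (79, 2), (80, 2), (81, 2), (82, 3), (85, 1), (87, 3), (88, 2), (93, 1), (95, 3), (97, 1), (98, 1), (100, 1), (102, 3), (103, 2), (104, 1), (105, 1), (106, 3), (107, 3), (108, 3), (110, 2), (112, 2), (113, 2), (114, 2), (115, 2), (125, 3), (128, 3), (130, 3), (131, 1), (133, 2), (135, 3), (137, 2), (140, 2), (148, 3), (151,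 1), (155, 2), (157, 1), (158, 1), (161, 1), (162, 1), (164, 1), (165, 3), (166, 1), (167, 2), (168, 3), (169, 2), (170, 2), (171, 1), (173, 3), (174, 1), (175, 3), (176, 2), (177, 1), (178, 3), (183, 1), (184, 3), (185, 1), (186, 2), (187, 2), (188, 1), (189, 1), (190, 1), (191, 1), (192, 1), (193, 1), (194, 1), (195, 3), (196, 2), (197, 2), (198, 2), (199, 3), (200, 3), (201, 3), (211, 3), (218, 2), (221, 1), (222, 2), (225, 1), (226, 1), (227, 2), (228, 3), (229, 1), (231, 2), (234, 3), (235, 3), (236, 1), (238, 1), (239, 1), (240, 2), (241, 2), (242, 2), (243, 3)], 0),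
    ([(25, 2), (31, 1), (40, 3), (51, 2), (55, 2), (58, 2), (68, 2), (87, 3), (88, 2), (89, 1), (94, 1), (96, 2), (102, 1), (104, 3), (110, 2), (114, 2), (170, 1), (171, 3), (190, 2), (193, 1), (196, 2), (200, 3), (218, 3), (232, 1), (235, 1), (236, 3), (239, 3), (243, 3)], 0),
    ([(3, 3), (6, 2), (8, 2), (14, 1), (16, 1), (19, 3), (20, 1), (25, 2), (30, 2), (32, 1), (33, 3), (34, 1), (38, 3), (40, 2), (44, 3), (45, 1), (46, 3), (49, 2), (51, 2), (52, 2), (53, 2), (54, 1), (55, 2), (56, 3), (58, 3), (60, 2), (61, 3), (62, 1), (63, 1), (64, 3), (66, 1), (67, 3), (68, 3), (70, 3), (71, 3), (72, 2), (74, 1), (76, 1), (77, 2), (78, 3), (79, 1), (82, 3), (83, 1), (84, 2), (85, 2), (87, 1), (88, 1), (89, 3), (95, 1), (97, 3), (98, 3), (99, 1), (100, 3), (101, 2), (103, 1),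 (105, 3), (106, 2), (108, 3), (109, 2), (110, 2), (114, 2), (117, 3), (125, 2), (128, 2), (130, 2), (131, 3), (133, 3), (134, 3), (135, 1), (137, 3), (140, 3), (142, 3), (143, 1), (148, 3), (150, 3), (151, 1), (152, 1), (157, 3), (158, 1), (161, 2), (162, 1), (164, 1), (165, 3), (166, 2), (168, 1), (169, 2), (170, 3), (171, 3), (172, 2), (173, 1), (174, 1), (175, 2), (178, 2), (180, 1), (183, 2), (184, 3), (185, 3), (186, 1), (188, 3), (189, 2), (190, 2), (191, 3), (192, 2), (193, 1), (194, 3), (195, 3), (196, 3), (197, 2), (198, 2), (199, 2), (200, 3), (201, 2), (202, 3), (203, 3), (205, 2), (211, 3), (212, 1), (218, 1), (220, 2), (221, 3), (225, 2), (226, 2), (228, 3), (229, 3), (231, 2), (232, 3), (233, 3), (234, 3), (235, 1), (236, 2), (238, 2), (240, 2), (241, 3),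 (242, 1), (243, 1), (250, 1), (251, 1), (272, 2), (277, 2), (279, 2), (297, 2), (298, 2), (299, 2)], 2),
    ([(55, 1), (62, 1), (77, 1), (84, 1), (100, 3), (143, 1), (150, 3), (151, 3), (163, 3), (167, 1), (170, 1), (171, 3), (174, 3), (180, 1), (185, 3), (186, 3), (187, 3), (189, 3), (201, 3), (218, 3)], 0),
    ([(19, 1), (20, 3), (29, 2), (45, 2), (56, 1), (59, 3), (61, 1), (62, 3), (70, 3), (73, 3), (79, 1), (80, 3), (83, 1), (85, 3), (92, 1), (95, 1), (96, 3), (108, 3), (112, 1), (113, 1), (116, 3), (117, 3), (137, 3), (146, 2), (152, 3), (172, 3), (175, 2), (177, 2), (189, 2)], 0),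
    ([], 0),
    ([(21, 3), (269, 1)], 0),
    ([(21, 3), (285, 1)], 0),
    ([(22, 3), (33, 1), (245, 3), (249, 1), (271, 3), (282, 3), (284, 2)], 0),
    ([], 0),
    ([(21, 3)], 0),
    ([(33, 3), (271, 1)], 0),
    ([], 0),
    ([], 0),
    ([(22, 3), (33, 1), (271, 3)], 0),
    ([(33, 3)], 0),
    ([], 0),
    ([(6, 2), (8, 2), (11, 2), (12, 2), (13, 2), (18, 2), (19, 1), (20, 1), (30, 2), (31, 2), (33, 1), (38, 2), (40, 2), (41, 3), (43, 2), (44, 2), (45, 3), (47, 1), (49, 2), (51, 2), (52, 2), (53, 2), (54, 2), (56, 3), (58, 2), (59, 3), (60, 2), (61, 2), (62, 2), (67, 2), (70, 3), (71, 2), (72, 2), (76, 2), (82, 2), (85, 2), (86, 3), (87, 2), (93, 2), (95, 2), (97, 2), (98, 2), (100, 2), (102, 2), (104, 2), (105, 2), (106, 2), (107, 2), (108, 3), (112, 3), (113,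 3), (117, 1), (125, 2), (128, 2), (130, 2), (131, 2), (135, 2), (144, 1), (146, 3), (148, 2), (149, 2), (151, 2), (152, 1), (157, 2), (158, 2), (161, 2), (162, 2), (164, 2), (165, 1), (166, 2), (168, 2), (169, 1), (171, 2), (173, 2), (174, 2), (177, 3), (178, 2), (182, 1), (183, 2), (184, 2), (185, 2), (188, 2), (189, 3), (190, 2), (191, 2), (192, 2), (193, 2), (194, 2), (195, 1), (199, 2), (200, 2), (201, 2), (211, 2), (221, 2), (225, 2), (226, 2), (228, 2), (229, 2), (234, 2), (235, 2), (236, 2), (238, 2), (239, 2), (243, 2), (244, 1), (247, 3), (251, 3), (256, 2), (265, 3), (267, 1), (270, 2), (271, 3)], 0),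
    ([(26, 3)], 0),
    ([], 0),
    ([(19, 1), (20, 3), (33, 3), (38, 3), (41, 1), (45, 1), (56, 1), (59, 3), (70, 3), (108, 3), (112, 1), (113, 1), (117, 3), (144, 3), (146, 1), (152, 3), (165, 1), (169, 3), (175, 2), (177, 3), (182, 3), (189, 3), (195, 1), (244, 3), (250, 1), (251, 1)], 0),
    ([(26, 1), (36, 3)], 0),
    ([(29, 3)], 0),
    ([(19, 3), (20, 1), (33, 1), (41, 3), (45, 3), (56, 3), (59, 1), (70, 1), (108, 1), (112, 3), (113, 3), (117, 1), (144, 1), (146, 3), (152, 1), (165, 3), (169, 1), (175, 2), (177, 1), (182, 1), (189, 1), (195, 3), (244, 1), (250, 3), (251, 3)], 0),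
    ([(40, 3)], 0),
    ([(30, 3), (40, 1)], 0),
    ([], 0),
    ([(45, 3)], 0),
    ([], 0),
    ([(0, 2), (6, 2), (8, 2), (11, 2), (12, 2), (13, 2), (18, 2), (19, 1), (20, 1), (22, 3), (30, 2), (31, 2), (33, 1), (38, 2), (40, 2), (41, 3), (43, 2), (44, 2), (45, 3), (49, 2), (51, 2), (52, 2), (53, 2), (54, 2), (56, 3), (58, 2), (59, 3), (60, 2), (61, 2), (62, 2), (67, 2), (70, 3), (71, 2), (72, 2), (76, 2), (82, 2), (85, 2), (86, 3), (87, 2), (93, 2), (95, 2), (97, 2), (98, 2), (100, 2), (102, 2), (104, 2), (105, 2), (106, 2), (107, 2), (108, 3), (112, 3), (113, 3), (117, 1), (119, 2), (121, 2), (122, 2), (123, 1), (125, 2), (126, 3), (127, 2), (128, 2), (129, 1), (130, 2), (131, 2), (135, 2), (138, 1), (140, 2), (141, 1), (144, 1), (146, 3), (148, 2), (149, 3), (151,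 2), (152, 1), (153, 2), (157, 2), (158, 2), (159, 3), (160, 1), (161, 2), (162, 2), (164, 2), (165, 1), (166, 2), (168, 2), (169, 1), (171, 2), (173, 2), (174, 2), (177, 3), (178, 2), (182, 1), (183, 2), (184, 2), (185, 2), (188, 2), (189, 3), (190, 2), (191, 2), (192, 2), (193, 2), (194, 2), (195, 1), (199, 2), (200, 2), (201, 2), (206, 1), (210, 3), (211, 2), (213, 3), (221, 2), (223, 2), (224, 2), (225, 2), (226, 2), (228, 2), (229, 2), (234, 2), (235, 2), (236, 2), (237, 2), (238, 2), (239, 2), (243, 2), (244, 1), (248, 2), (249, 1), (251, 3), (255, 3), (256, 1), (259, 1), (260, 1), (262, 3), (264, 3), (265, 3), (266, 1), (267, 1), (270, 2), (271, 3), (273, 2), (275, 2), (280, 2), (282, 2), (283, 3), (286, 1), (287, 2), (292, 1), (293, 2), (294, 1), (295, 1), (296,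 2)], 0),
    ([(22, 3), (33, 1), (246, 1), (249, 1), (271, 3), (282, 3), (284, 2)], 0),
    ([(138, 3), (274, 1)], 0),
    ([], 0),
    ([(140, 3), (275, 1)], 0),
    ([(0, 2), (6, 2), (8, 2), (11, 2), (12, 2), (13, 2), (18, 2), (19, 1), (20, 1), (22, 3), (30, 2), (31, 2), (33, 1), (38, 2), (40, 2), (41, 3), (43, 2), (44, 2), (45, 3), (49, 2), (51, 2), (52, 2), (53, 2), (54, 2), (56, 3), (58, 2), (59, 3), (60, 2), (61, 2), (62, 2), (67, 2), (70, 3), (71, 2), (72, 2), (76, 2), (82, 2), (85, 2), (86, 3), (87, 2), (93, 2), (95, 2), (97, 2), (98, 2), (100, 2), (102, 2), (104, 2), (105, 2), (106, 2), (107, 2), (108, 3), (112, 3), (113, 3), (117, 1), (119, 2), (120, 1), (122, 2), (125, 2), (127, 2), (128, 2), (130, 2), (131, 2), (135, 2), (138, 1), (140, 2), (144, 1), (146,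 3), (148, 2), (149, 3), (151, 2), (152, 1), (157, 2), (158, 2), (161, 2), (162, 2), (164, 2), (165, 1), (166, 2), (168, 2), (169, 1), (171, 2), (173, 2), (174, 2), (177, 3), (178, 2), (182, 1), (183, 2), (184, 2), (185, 2), (188, 2), (189, 3), (190, 2), (191, 2), (192, 2), (193, 2), (194, 2), (195, 1), (199, 2), (200, 2), (201, 2), (211, 2), (221, 2), (223, 2), (225, 2), (226, 2), (228, 2), (229, 2), (234, 2), (235, 2), (236, 2), (238, 2), (239, 2), (243, 2), (244, 1), (248, 2), (249, 1), (251, 3), (253, 3), (256, 1), (259, 2), (260, 2), (264, 2), (265, 3), (267, 1), (270, 2), (271, 3), (274, 3), (275, 2), (280, 2), (282, 2), (283, 2), (293, 2), (294, 1), (295, 1), (296, 2)], 0),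
    ([(138, 3)], 0),
    ([], 0),
    ([(140, 3)], 0),
    ([(0, 2), (6, 2), (8, 2), (11, 2), (12, 2), (13, 2), (18, 2), (19, 3), (20, 3), (22, 1), (30, 2), (31, 2), (33, 3), (38, 2), (40, 2), (41, 1), (43, 2), (44, 2), (45, 1), (49, 2), (51, 2), (52, 2), (53, 2), (54, 2), (56, 1), (58, 2), (59, 1), (60, 2), (61, 2), (62, 2), (67, 2), (70, 1), (71, 2), (72, 2), (76, 2), (82, 2), (85, 2), (86, 1), (87, 2), (93, 2), (95, 2), (97, 2), (98, 2), (100, 2), (102, 2), (104, 2), (105, 2), (106, 2), (107, 2), (108, 1), (112, 1), (113, 1), (117, 3), (119, 2), (122, 2), (125, 2), (127, 2), (128, 2), (130, 2), (131, 2), (135, 2), (138, 3), (140, 2), (141, 3), (144, 3), (146, 1), (148, 2), (149, 1), (151, 2), (152, 3), (157, 2), (158, 2), (160, 3), (161, 2), (162, 2), (164, 2), (165,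 3), (166, 2), (168, 2), (169, 3), (171, 2), (173, 2), (174, 2), (177, 1), (178, 2), (182, 3), (183, 2), (184, 2), (185, 2), (188, 2), (189, 1), (190, 2), (191, 2), (192, 2), (193, 2), (194, 2), (195, 3), (199, 2), (200, 2), (201, 2), (211, 2), (221, 2), (223, 2), (225, 2), (226, 2), (228, 2), (229, 2), (234, 2), (235, 2), (236, 2), (238, 2), (239, 2), (243, 2), (244, 3), (248, 2), (249, 3), (251, 1), (255, 1), (256, 3), (259, 2), (260, 2), (264, 1), (265, 1), (266, 3), (267, 3), (270, 2), (271, 1), (273, 2), (275, 2), (280, 2), (282, 2), (283, 2), (293, 2), (294, 3), (295, 3), (296, 2)], 0),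
    ([(149, 3)], 0),
    ([], 0),
    ([(0, 2), (6, 2), (8, 2), (11, 2), (12, 2), (13, 2), (18, 2), (19, 1), (20, 1), (22, 3), (30, 2), (31, 2), (33, 1), (38, 2), (40, 2), (41, 3), (43, 2), (44, 2), (45, 3), (49, 2), (51, 2), (52, 2), (53, 2), (54, 2), (56, 3), (58, 2), (59, 3), (60, 2), (61, 2), (62, 2), (67, 2), (70, 3), (71, 2), (72, 2), (76, 2), (82, 2), (85, 2), (86, 3), (87, 2), (93, 2), (95, 2), (97, 2), (98, 2), (100, 2), (102, 2), (104, 2), (105, 2), (106, 2), (107, 2), (108, 3), (112, 3), (113, 3), (117, 1), (119, 2), (122, 2), (125, 2), (127, 2), (128, 2), (130, 2), (131, 2), (135, 2), (138, 1), (140, 2), (144, 1), (146, 3), (148, 2), (149, 3), (151, 2), (152, 1), (157, 2), (158, 2), (160, 1), (161, 2), (162, 2), (164, 2), (165, 1), (166, 2), (168, 2), (169,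 1), (171, 2), (173, 2), (174, 2), (177, 3), (178, 2), (182, 1), (183, 2), (184, 2), (185, 2), (188, 2), (189, 3), (190, 2), (191, 2), (192, 2), (193, 2), (194, 2), (195, 1), (199, 2), (200, 2), (201, 2), (211, 2), (221, 2), (223, 2), (225, 2), (226, 2), (228, 2), (229, 2), (234, 2), (235, 2), (236, 2), (238, 2), (239, 2), (243, 2), (244, 1), (248, 2), (249, 1), (251, 3), (255, 3), (256, 1), (259, 2), (260, 2), (264, 3), (265, 3), (266, 1), (267, 1), (270, 2), (271, 3), (273, 2), (275, 2), (280, 2), (282, 2), (283, 2), (293, 2), (294, 1), (295, 1), (296, 2)], 0),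
    ([(143, 3), (151, 1)], 0),
    ([], 0),
    ([(173, 3)], 0),
    ([(151, 3)], 0),
    ([(146, 3)], 0),
    ([], 0),
    ([(143, 1), (150, 3), (151, 3)], 0),
    ([(146, 1), (175, 3)], 0),
    ([], 0),
    ([(0, 3), (7, 3), (10, 1), (22, 3), (33, 1), (42, 1), (50, 3), (119, 3), (122, 1), (127, 3), (140, 1), (154, 2), (248, 3), (249, 1), (271, 3), (275, 3)], 0),
    ([(0, 2), (6, 2), (8, 2), (11, 2), (12, 2), (13, 2), (18, 2), (19, 1), (20, 1), (22, 3), (30, 2), (31, 2), (33, 1), (38, 2), (40, 2), (41, 3), (43, 2), (44, 2), (45, 3), (49, 2), (51, 2), (52, 2), (53, 2), (54, 2), (56, 3), (58, 2), (59, 3), (60, 2), (61, 2), (62, 2), (67, 2), (70, 3), (71, 2), (72, 2), (76, 2), (82, 2), (85, 2), (86, 3), (87, 2), (93, 2), (95, 2), (97, 2), (98, 2), (100, 2), (102, 2), (104,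 2), (105, 2), (106, 2), (107, 2), (108, 3), (112, 3), (113, 3), (117, 1), (119, 2), (121, 1), (122, 2), (123, 3), (125, 2), (126, 3), (127, 2), (128, 2), (129, 3), (130, 2), (131, 2), (135, 2), (138, 1), (140, 2), (141, 1), (144, 1), (146, 3), (148, 2), (149, 3), (151, 2), (152, 1), (157, 2), (158, 2), (160, 1), (161, 2), (162, 2), (164, 2), (165, 1), (166, 2), (168, 2), (169, 1), (171, 2), (173, 2), (174, 2), (177, 3), (178, 2), (182, 1), (183, 2), (184, 2), (185, 2), (188, 2), (189, 3), (190, 2), (191, 2), (192, 2), (193, 2), (194, 2), (195, 1), (199, 2), (200, 2), (201, 2), (204, 1), (206, 1), (210, 3), (211, 2), (213, 3), (221, 2), (223, 1), (224, 1), (225, 2), (226, 2), (228, 2), (229, 2), (234, 2), (235, 2), (236, 2), (238, 2), (239, 2), (243, 2), (244, 1), (248,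 2), (249, 1), (251, 3), (255, 3), (256, 1), (259, 2), (260, 2), (264, 3), (265, 3), (266, 1), (267, 1), (270, 2), (271, 3), (273, 2), (275, 2), (276, 1), (280, 2), (282, 2), (283, 2), (293, 2), (294, 1), (295, 1), (296, 2)], 0),
    ([(121, 2), (123, 2), (126, 2), (129, 2), (153, 2), (206, 2), (210, 2), (213, 2), (223, 1), (224, 2), (237, 2), (257, 3), (259, 1), (260, 1), (262, 2), (263, 2), (264, 2), (283, 3), (287, 2), (289, 2), (290, 1), (291, 2), (292, 2)], 0),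
    ([(2, 1), (4, 3), (5, 1), (6, 2), (7, 3), (8, 2), (10, 3), (11, 2), (12, 2), (13, 2), (18, 2), (19, 3), (20, 3), (23, 1), (30, 2), (31, 2), (33, 3), (38, 2), (40, 2), (41, 1), (43, 2), (44, 2), (45, 1), (47, 2), (49, 2), (51, 2), (52, 2), (53, 2), (54, 2), (56, 1), (58, 2), (59, 1), (60, 2), (61, 2), (62, 2), (67, 2), (70, 1), (71, 2), (72, 2), (76, 2), (82, 2), (85, 2), (86, 1), (87, 2), (93, 2), (95, 2), (97, 2), (98, 2), (100, 2), (102, 2), (104, 2), (105, 2), (106, 2), (107, 2), (108, 1), (112, 1), (113, 1), (117, 3), (119, 1), (122, 3), (124, 3), (125, 2), (127, 1), (128, 2), (130, 2), (131, 2), (135, 2), (144, 3), (146, 1), (148, 2), (149, 3), (151, 2), (152, 3), (157, 2), (158, 2), (161, 2), (162, 2), (164, 2), (165, 3), (166, 2), (168, 2), (169, 3), (171, 2),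 (173, 2), (174, 2), (177, 1), (178, 2), (182, 3), (183, 2), (184, 2), (185, 2), (188, 2), (189, 1), (190, 2), (191, 2), (192, 2), (193, 2), (194, 2), (195, 3), (199, 2), (200, 2), (201, 2), (211, 2), (221, 2), (225, 2), (226, 2), (228, 2), (229, 2), (234, 2), (235, 2), (236, 2), (238, 2), (239, 2), (243, 2), (244, 3), (247, 1), (251, 1), (256, 2), (265, 1), (267, 3), (270, 2), (271, 1)], 0),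
    ([(120, 1), (121, 3), (123, 1), (126, 1), (129, 1), (138, 3), (141, 3), (160, 3), (204, 3), (206, 3), (210, 1), (213, 1), (223, 1), (224, 3), (254, 1), (255, 1), (264, 3), (266, 3), (273, 2), (276, 3)], 0),
    ([], 0),
    ([(24, 1)], 0),
    ([], 0),
    ([(223, 3)], 0),
    ([(2, 3), (4, 1), (5, 3), (6, 2), (7, 1), (8, 2), (10, 1), (11, 2), (12, 2), (13, 2), (18, 2), (19, 1), (20, 1), (30, 2), (31, 2), (33, 1), (38, 2), (40, 2), (41, 3), (43, 2), (44, 2), (45, 3), (47, 2), (49, 2), (51, 2), (52, 2), (53, 2), (54, 2), (56, 3), (58, 2), (59, 3), (60, 2), (61, 2), (62, 2), (67, 2), (70, 3), (71, 2), (72, 2), (76, 2), (82, 2), (85, 2), (86, 3), (87, 2), (93, 2), (95, 2), (97, 2), (98, 2), (100, 2), (102, 2), (104, 2), (105, 2), (106, 2), (107, 2), (108, 3), (112, 3),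 (113, 3), (117, 1), (119, 3), (122, 1), (124, 1), (125, 2), (127, 3), (128, 2), (130, 2), (131, 2), (135, 2), (144, 1), (146, 3), (148, 2), (149, 1), (151, 2), (152, 1), (157, 2), (158, 2), (161, 2), (162, 2), (164, 2), (165, 1), (166, 2), (168, 2), (169, 1), (171, 2), (173, 2), (174, 2), (177, 3), (178, 2), (182, 1), (183, 2), (184, 2), (185, 2), (188, 2), (189, 3), (190, 2), (191, 2), (192, 2), (193, 2), (194, 2), (195, 1), (199, 2), (200, 2), (201, 2), (211, 2), (221, 2), (225, 2), (226, 2), (228, 2), (229, 2), (234, 2), (235, 2), (236, 2), (238, 2), (239, 2), (243, 2), (244, 1), (247, 3), (251, 3), (256, 2), (265, 3), (267, 1), (270, 2), (271, 3)], 0),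
    ([(28, 3), (63, 1), (66, 1), (208, 3), (212, 1)], 0),
    ([(0, 2), (6, 2), (8, 2), (11, 2), (12, 2), (13, 2), (18, 2), (19, 3), (20, 3), (22, 1), (30, 2), (31, 2), (33, 3), (38, 2), (40, 2), (41, 1), (43, 2), (44, 2), (45, 1), (49, 2), (51, 2), (52, 2), (53, 2), (54, 2), (56, 1), (58, 2), (59, 1), (60, 2), (61, 2), (62, 2), (67, 2), (70, 1), (71, 2), (72, 2), (76, 2), (82, 2), (85, 2), (86, 1), (87, 2), (93, 2), (95, 2), (97, 2), (98, 2), (100, 2), (102, 2), (104, 2), (105, 2), (106, 2), (107, 2), (108, 1), (112, 1), (113, 1), (117, 3), (119, 2), (121, 2), (122, 2), (123, 3), (125, 2), (126, 1), (127, 2), (128, 2), (129, 3), (130, 2), (131, 2), (135, 2), (138, 3), (140, 2), (141, 3), (144, 3), (146, 1), (148, 2), (149, 1), (151, 2), (152, 3), (153, 2), (157, 2), (158,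 2), (159, 1), (160, 3), (161, 2), (162, 2), (164, 2), (165, 3), (166, 2), (168, 2), (169, 3), (171, 2), (173, 2), (174, 2), (177, 1), (178, 2), (182, 3), (183, 2), (184, 2), (185, 2), (188, 2), (189, 1), (190, 2), (191, 2), (192, 2), (193, 2), (194, 2), (195, 3), (199, 2), (200, 2), (201, 2), (206, 2), (210, 2), (211, 2), (213, 2), (221, 2), (223, 3), (224, 2), (225, 2), (226, 2), (228, 2), (229, 2), (234, 2), (235, 2), (236, 2), (237, 2), (238, 2), (239, 2), (243, 2), (244, 3), (248, 2), (249, 3), (251, 1), (255, 1), (256, 3), (259, 3), (260, 3), (262, 1), (264, 1), (265, 1), (266, 3), (267, 3), (270, 2), (271, 1), (273, 2), (275, 2), (280, 2), (282, 2), (283, 1), (287, 2), (292, 3), (293, 2), (294, 3), (295, 3), (296, 2)], 0),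
    ([], 0),
    ([(28, 1)], 0),
    ([(226, 3)], 0),
    ([], 0),
    ([(31, 3), (232, 3)], 0),
    ([(27, 1), (28, 1), (63, 3), (66, 3), (208, 1), (212, 3)], 0),
    ([(31, 1), (228, 3), (232, 1)], 0),
    ([(31, 1)], 0),
    ([(1, 3)], 0),
    ([], 0),
    ([(121, 2), (123, 2), (126, 2), (129, 2), (153, 2), (206, 2), (210, 2), (213, 2), (223, 1), (224, 2), (237, 2), (258, 1), (259, 1), (260, 1), (262, 2), (263, 2), (264, 2), (283, 3), (287, 2), (289, 2), (290, 1), (291, 2), (292, 2)], 0),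
    ([(6, 1), (8, 3), (16, 3), (19, 3), (20, 1), (29, 2), (30, 1), (31, 1), (32, 1), (33, 1), (38, 1), (40, 1), (41, 3), (45, 1), (49, 1), (51, 2), (52, 3), (53, 1), (54, 1), (55, 3), (58, 3), (59, 3), (60, 1), (62, 3), (64, 1), (67, 2), (68, 1), (70, 3), (71, 3), (72, 1), (74, 2), (75, 2), (76, 1), (77, 1), (79, 3), (82, 1), (83, 3), (85, 1), (87, 2), (89, 1), (93, 1), (95, 2), (96, 2), (97, 3), (98, 2), (99, 3), (100, 3), (102, 3), (103, 1), (104, 1), (105, 2), (106, 1), (107, 2), (108, 3), (109, 1), (115, 3), (117, 1), (125, 3), (128, 1), (130, 1), (131, 3), (132, 2), (133, 1), (134, 1), (135, 2), (136, 3), (137, 1), (140, 2), (142, 3), (144, 1), (146, 1), (148, 3), (151, 1), (152, 1), (155, 2), (156, 3), (157, 3), (158, 1), (161, 1), (162, 1), (164, 2), (165, 2), (166,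 1), (167, 2), (168, 3), (169, 1), (170, 2), (171, 1), (172, 1), (174, 2), (175, 2), (176, 3), (177, 3), (178, 3), (179, 3), (180, 1), (181, 3), (182, 1), (183, 1), (184, 1), (187, 3), (188, 3), (189, 1), (190, 1), (191, 2), (192, 3), (193, 3), (194, 1), (195, 3), (196, 1), (197, 3), (198, 1), (199, 3), (200, 2), (201, 3), (202, 1), (205, 3), (211, 2), (218, 2), (220, 3), (221, 1), (225, 1), (228, 3), (229, 3), (231, 1), (233, 2), (234, 2), (235, 3), (236, 1), (238, 1), (239, 1), (240, 3), (241, 1), (242, 1), (244, 1), (250, 3), (251, 3), (272, 1), (277, 3), (279, 3), (297, 3), (298, 3), (299, 1)], 3),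
    ([(0, 2), (6, 2), (8, 2), (11, 2), (12, 2), (13, 2), (18, 2), (19, 3), (20, 3), (22, 1), (30, 2), (31, 2), (33, 3), (38, 2), (40, 2), (41, 1), (43, 2), (44, 2), (45, 1), (49, 2), (51, 2), (52, 2), (53, 2), (54, 2), (56, 1), (58, 2), (59, 1), (60, 2), (61, 2), (62, 2), (67, 2), (70, 1), (71, 2), (72, 2), (76, 2), (82, 2), (85, 2), (86, 1), (87, 2), (93, 2), (95, 2), (97, 2), (98, 2), (100, 2), (102, 2), (104, 2), (105, 2), (106, 2), (107, 2), (108, 1), (112, 1), (113, 1), (117, 3), (118, 3), (119, 2), (122, 2), (125, 2), (126, 1), (127, 2), (128, 2), (129, 1), (130, 2), (131, 2), (135, 2), (138, 2), (140, 2), (141, 2), (144, 3), (146, 1), (148, 2), (149, 1), (151, 2), (152, 3), (153, 2), (157, 2), (158, 2), (159, 1), (160, 3), (161, 2), (162, 2), (164, 2), (165, 3),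 (166, 2), (168, 2), (169, 3), (171, 2), (173, 2), (174, 2), (177, 1), (178, 2), (182, 3), (183, 2), (184, 2), (185, 2), (188, 2), (189, 1), (190, 2), (191, 2), (192, 2), (193, 2), (194, 2), (195, 3), (199, 2), (200, 2), (201, 2), (204, 3), (206, 3), (211, 2), (221, 2), (224, 3), (225, 2), (226, 2), (228, 2), (229, 2), (234, 2), (235, 2), (236, 2), (237, 2), (238, 2), (239, 2), (243, 2), (244, 3), (248, 2), (249, 3), (251, 1), (255, 2), (256, 3), (259, 1), (262, 2), (264, 1), (265, 1), (266, 3), (267, 3), (270, 2), (271, 1), (273, 2), (275, 2), (280, 2), (282, 2), (292, 3), (293, 2), (294, 3), (295, 3), (296, 2)], 0),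
    ([(121, 2), (123, 2), (126, 2), (129, 2), (153, 2), (206, 2), (210, 2), (213, 2), (223, 3), (224, 2), (237, 2), (259, 3), (260, 3), (261, 3), (262, 2), (283, 1), (287, 2), (292, 2)], 0),
    ([(6, 1), (8, 3), (16, 3), (19, 3), (20, 1), (25, 3), (29, 2), (30, 1), (31, 3), (33, 1), (34, 1), (38, 1), (40, 2), (41, 3), (49, 1), (51, 3), (52, 3), (53, 1), (54, 1), (56, 3), (58, 3), (60, 1), (64, 1), (67, 2), (71, 3), (72, 1), (74, 2), (75, 2), (76, 1), (77, 3), (80, 1), (81, 1), (82, 1), (83, 3), (84, 2), (85, 1), (87, 3), (89, 1), (95, 1), (96, 3), (97, 3), (98, 1), (99, 1), (100, 3), (101, 1), (102, 2), (104, 2), (105, 3), (106, 2), (108, 3), (109, 1), (112, 3), (114, 3), (115, 1), (116, 1), (117, 1), (125, 3), (128, 1), (131, 3), (132, 3), (134, 2), (135, 3), (136, 2),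 (140, 2), (144, 1), (146, 1), (148, 3), (151, 1), (152, 1), (155, 3), (157, 3), (161, 1), (162, 1), (164, 2), (165, 3), (166, 1), (167, 2), (168, 3), (169, 1), (170, 2), (171, 1), (172, 3), (173, 1), (174, 1), (175, 2), (176, 1), (177, 1), (181, 2), (182, 1), (183, 1), (184, 1), (185, 3), (188, 3), (189, 3), (190, 3), (191, 3), (192, 2), (194, 1), (195, 1), (197, 2), (198, 2), (199, 3), (200, 2), (201, 3), (202, 2), (205, 3), (211, 2), (218, 2), (220, 3), (222, 3), (225, 1), (228, 1), (229, 3), (231, 2), (232, 2), (233, 2), (234, 2), (235, 3), (236, 1), (238, 1), (239, 2), (240, 2), (241, 2), (242, 2), (243, 3), (244, 1), (250, 3), (251, 3), (272, 1), (277, 3), (279, 3), (297, 3), (298, 3), (299, 1)], 3),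
    ([(35, 1), (145, 3)], 0),
    ([(0, 2), (6, 2), (8, 2), (11, 2), (12, 2), (13, 2), (18, 2), (19, 3), (20, 3), (22, 1), (30, 2), (31, 2), (33, 3), (38, 2), (40, 2), (41, 1), (43, 2), (44, 2), (45, 1), (49, 2), (51, 2), (52, 2), (53, 2), (54, 2), (56, 1), (58, 2), (59, 1), (60, 2), (61, 2), (62, 2), (67, 2), (70, 1), (71, 2), (72, 2), (76, 2), (82, 2), (85, 2), (86, 1), (87, 2), (93, 2), (95, 2), (97, 2), (98, 2), (100, 2), (102, 2), (104, 2), (105, 2), (106, 2), (107, 2), (108, 1), (112, 1), (113, 1), (117, 3), (119, 2), (121, 3), (122, 2), (123, 1), (125, 2), (126, 1), (127, 2), (128, 2), (129, 1), (130, 2), (131, 2), (135, 2), (138, 3), (140, 2), (141, 3), (144, 3), (146, 1), (148, 2), (149, 1), (151, 2), (152, 3), (157, 2), (158, 2), (160, 3), (161, 2), (162, 2),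 (164, 2), (165, 3), (166, 2), (168, 2), (169, 3), (171, 2), (173, 2), (174, 2), (177, 1), (178, 2), (182, 3), (183, 2), (184, 2), (185, 2), (188, 2), (189, 1), (190, 2), (191, 2), (192, 2), (193, 2), (194, 2), (195, 3), (199, 2), (200, 2), (201, 2), (204, 3), (206, 3), (207, 1), (211, 2), (213, 1), (221, 2), (223, 3), (224, 3), (225, 2), (226, 2), (228, 2), (229, 2), (234, 2), (235, 2), (236, 2), (238, 2), (239, 2), (243, 2), (244, 3), (248, 2), (249, 3), (251, 1), (255, 1), (256, 3), (259, 2), (260, 2), (264, 1), (265, 1), (266, 3), (267, 3), (270, 2), (271, 1), (273, 2), (275, 2), (280, 2), (282, 2), (283, 2), (293, 2), (294, 3), (295, 3), (296, 2)], 0),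
    ([(19, 3), (20, 1), (45, 3), (55, 1), (56, 3), (59, 1), (62, 1), (70, 1), (77, 1), (84, 1), (110, 1), (112, 3), (115, 3), (117, 1), (142, 1), (146, 2), (152, 1), (174, 3), (175, 2), (177, 1), (185, 3), (189, 1)], 0),
    ([(11, 3), (13, 1), (18, 3), (19, 2), (20, 3), (30, 1), (31, 3), (33, 3), (38, 3), (40, 1), (41, 1), (43, 1), (45, 1), (49, 3), (51, 3), (52, 3), (53, 1), (54, 1), (56, 3), (58, 3), (60, 1), (61, 3), (62, 1), (64, 3), (67, 1), (68, 2), (71, 1), (72, 3), (74, 2), (75, 2), (76, 1), (77, 2), (79, 2), (80, 2), (81, 2), (82, 1), (85, 3), (87, 1), (88, 2), (93, 3), (95, 1), (97, 3), (98, 3), (100, 3), (102, 1), (103, 2), (104, 3), (105, 3), (106, 1), (107, 1), (110, 2), (112, 3), (113, 3), (114, 2), (115, 2), (117, 3), (125, 1), (128, 1), (130, 1), (131,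 3), (133, 2), (135, 1), (137, 2), (144, 3), (146, 1), (152, 3), (155, 2), (157, 3), (158, 3), (161, 3), (164, 3), (165, 2), (167, 2), (169, 1), (170, 2), (171, 3), (173, 1), (174, 3), (175, 3), (176, 2), (177, 2), (178, 1), (182, 3), (183, 3), (184, 1), (185, 3), (186, 2), (187, 2), (188, 3), (189, 2), (190, 3), (191, 3), (192, 3), (193, 3), (194, 3), (195, 2), (196, 2), (197, 2), (198, 2), (199, 1), (200, 1), (201, 1), (209, 1), (211, 1), (212, 3), (218, 2), (221, 3), (222, 2), (225, 3), (226, 3), (227, 2), (228, 1), (229, 3), (231, 2), (234, 1), (235, 1), (236, 3), (238, 3), (239, 3), (240, 2), (241, 2), (242, 2), (243, 1), (244, 3), (250, 1), (251, 1)], 0),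
    ([(121, 2), (123, 2), (126, 2), (129, 2), (139, 1), (153, 2), (206, 2), (210, 2), (213, 2), (223, 1), (224, 2), (237, 2), (259, 1), (260, 1), (261, 1), (262, 2), (283, 3), (287, 2), (292, 2)], 0),
    ([(41, 3), (144, 1)], 0),
    ([(39, 1)], 0),
    ([(25, 3), (31, 1), (40, 1), (51, 1), (55, 3), (58, 1), (67, 1), (68, 3), (87, 1), (88, 1), (89, 3), (94, 3), (96, 3), (110, 3), (114, 3), (117, 1), (146, 3), (164, 3), (169, 2), (181, 1), (190, 1), (193, 1), (195, 3), (196, 3), (214, 1), (217, 3), (230, 3), (232, 1), (240, 3), (241, 1), (242, 1), (243, 3)], 0),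
    ([(145, 1)], 0),
    ([(37, 3), (64, 3), (65, 3), (209, 1), (216, 1), (217, 3)], 0),
    ([(11, 1), (13, 3), (18, 1), (19, 2), (20, 1), (30, 3), (31, 1), (33, 1), (37, 1), (38, 1), (40, 3), (41, 3), (43, 3), (45, 3), (49, 1), (51, 1), (52, 1), (53, 3), (54, 3), (56, 1), (58, 1), (60, 3), (61, 1), (62, 3), (64, 1), (67, 3), (68, 2), (71, 3), (72, 1), (74, 2), (75, 2), (76, 3), (77, 2), (79, 2), (80, 2), (81, 2), (82, 3), (85, 1), (87, 3), (88, 2), (93, 1), (95, 3), (97, 1), (98, 1), (100, 1), (102, 3), (103, 2), (104, 1), (105, 1), (106, 3), (107, 3), (110, 2), (112, 1), (113, 1), (114, 2), (115, 2), (117, 1), (125, 3), (128, 3), (130, 3), (131, 1), (133, 2), (135, 3), (137, 2), (144, 1), (146, 3), (152, 1), (155, 2), (157, 1), (158, 1), (161, 1), (164, 1), (165, 2),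 (167, 2), (169, 3), (170, 2), (171, 1), (173, 3), (174, 1), (175, 1), (176, 2), (177, 2), (178, 3), (182, 1), (183, 1), (184, 3), (185, 1), (186, 2), (187, 2), (188, 1), (189, 2), (190, 1), (191, 1), (192, 1), (193, 1), (194, 1), (195, 2), (196, 2), (197, 2), (198, 2), (199, 3), (200, 3), (201, 3), (209, 3), (211, 3), (212, 1), (218, 2), (221, 1), (222, 2), (225, 1), (226, 1), (227, 2), (228, 3), (229, 1), (231, 2), (234, 3), (235, 3), (236, 1), (238, 1), (239, 1), (240, 2), (241, 2), (242, 2), (243, 3), (244, 1), (250, 3), (251, 3)], 0),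
    ([(147, 1)], 0),
    ([(41, 1)], 0),
    ([(2, 1), (4, 3), (10, 3), (140, 1), (149, 1), (275, 3)], 0),
    ([(3, 1), (14, 3), (16, 1), (19, 1), (20, 3), (41, 1), (44, 1), (45, 1), (56, 1), (59, 3), (70, 3), (108, 3), (112, 1), (113, 1), (117, 3), (140, 1), (144, 3), (146, 1), (148, 3), (152, 3), (162, 1), (165, 1), (168, 1), (169, 3), (175, 2), (177, 3), (182, 3), (189, 3), (195, 1), (244, 3)], 0),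
    ([(4, 1)], 0),
    ([(5, 1), (6, 2), (8, 2), (10, 3), (11, 2), (12, 2), (13, 2), (18, 2), (19, 3), (20, 3), (30, 2), (31, 2), (33, 3), (38, 2), (40, 2), (41, 1), (42, 3), (43, 2), (44, 2), (45, 1), (47, 3), (49, 2), (51, 2), (52, 2), (53, 2), (54, 2), (56, 1), (58, 2), (59, 1), (60, 2), (61, 2), (62, 2), (67, 2), (70, 1), (71, 2), (72, 2), (76, 2), (82, 2), (85, 2), (86, 1), (87, 2), (93, 2), (95, 2), (97, 2), (98, 2), (100, 2), (102, 2), (104, 2), (105, 2), (106, 2), (107, 2), (108, 1), (112, 1), (113, 1), (117, 3), (125, 2), (128, 2), (130, 2), (131, 2), (135, 2), (144, 3), (146, 1), (148, 2), (149, 1), (151, 2), (152, 3), (157, 2), (158, 2), (161, 2), (162, 2), (164, 2), (165, 3), (166, 2), (168, 2), (169, 3), (171, 2), (173, 2), (174, 2), (177, 1), (178, 2), (182,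 3), (183, 2), (184, 2), (185, 2), (188, 2), (189, 1), (190, 2), (191, 2), (192, 2), (193, 2), (194, 2), (195, 3), (199, 2), (200, 2), (201, 2), (211, 2), (221, 2), (225, 2), (226, 2), (228, 2), (229, 2), (234, 2), (235, 2), (236, 2), (238, 2), (239, 2), (243, 2), (244, 3), (247, 1), (251, 1), (256, 3), (265, 1), (267, 3), (270, 2), (271, 1)], 0),
    ([(6, 1), (8, 3), (16, 3), (140, 1), (151, 1)], 0),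
    ([(6, 2), (7, 1), (8, 2), (10, 3), (11, 2), (12, 2), (13, 2), (18, 2), (19, 1), (20, 1), (30, 2), (31, 2), (33, 1), (38, 2), (40, 2), (41, 3), (43, 2), (44, 2), (45, 3), (47, 1), (49, 2), (51, 2), (52, 2), (53, 2), (54, 2), (56, 3), (58, 2), (59, 3), (60, 2), (61, 2), (62, 2), (67, 2), (70, 3), (71, 2), (72, 2), (76, 2), (82, 2), (85, 2), (86, 3), (87, 2), (93, 2), (95, 2), (97, 2), (98, 2), (100, 2), (102, 2), (104, 2), (105, 2), (106, 2), (107, 2), (108, 3), (112, 3), (113, 3), (117, 1), (125, 2), (128, 2), (130, 2), (131, 2), (135, 2), (144, 1), (146, 3), (148, 2), (149, 2), (151, 2), (152, 1), (157, 2), (158, 2), (161, 2), (162, 2), (164, 2), (165, 1), (166, 2), (168, 2), (169, 1), (171, 2), (173, 2), (174, 2), (177, 3), (178, 2), (182, 1), (183, 2), (184, 2),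 (185, 2), (188, 2), (189, 3), (190, 2), (191, 2), (192, 2), (193, 2), (194, 2), (195, 1), (199, 2), (200, 2), (201, 2), (211, 2), (221, 2), (225, 2), (226, 2), (228, 2), (229, 2), (234, 2), (235, 2), (236, 2), (238, 2), (239, 2), (243, 2), (244, 1), (247, 3), (251, 3), (256, 2), (265, 3), (267, 1), (270, 2), (271, 3)], 0),
    ([(8, 1)], 0),
    ([(11, 3), (13, 1), (18, 3), (19, 2), (20, 3), (33, 3), (38, 3), (41, 1), (43, 1), (49, 3), (51, 3), (52, 3), (53, 1), (55, 3), (56, 3), (58, 3), (59, 1), (60, 1), (61, 2), (62, 2), (68, 2), (70, 1), (71, 3), (72, 3), (74, 3), (75, 1), (77, 1), (79, 3), (82, 1), (83, 3), (84, 2), (85, 3), (88, 2), (95, 2), (96, 1), (99, 2), (103, 2), (105, 2), (107, 3), (108, 1), (110, 2), (112, 3), (113, 3), (114, 2), (115, 3), (116, 3), (117,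 1), (125, 1), (130, 3), (133, 3), (134, 1), (135, 2), (136, 2), (137, 1), (143, 1), (144, 3), (146, 3), (150, 3), (151, 3), (152, 3), (155, 1), (156, 2), (165, 1), (169, 3), (172, 2), (173, 1), (174, 1), (175, 3), (177, 1), (179, 2), (180, 3), (182, 3), (184, 1), (187, 2), (190, 3), (191, 2), (195, 1), (196, 2), (197, 3), (198, 1), (199, 1), (200, 2), (202, 1), (220, 1), (221, 1), (226, 3), (227, 1), (231, 3), (234, 1), (244, 3), (250, 1), (251, 1)], 0),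
    ([(10, 1)], 0),
    ([(11, 1), (13, 3), (19, 1), (20, 2), (33, 3), (38, 3), (41, 1), (56, 1), (59, 3), (70, 3), (108, 3), (112, 1), (113, 1), (117, 3), (144, 3), (146, 1), (152, 3), (165, 1), (169, 3), (175, 2), (177, 3), (182, 3), (189, 3), (195, 1), (244, 3), (250, 1), (251, 1)], 0),
    ([(6, 3), (8, 1), (11, 3), (13, 1), (16, 1), (18, 3), (19, 2), (20, 3), (30, 1), (31, 3), (33, 3), (38, 3), (40, 1), (41, 1), (43, 1), (45, 1), (49, 3), (51, 3), (52, 3), (53, 1), (54, 1), (56, 3), (58, 3), (60, 1), (61, 3), (62, 1), (67, 1), (68, 2), (71, 1), (72, 3), (74, 2), (75, 2), (76, 1), (77, 2), (79, 2), (80, 2), (81, 2), (82, 1), (85, 3), (87, 1), (88, 2), (93, 3), (95, 1), (97, 3), (98, 3), (100, 3), (102, 1), (103, 2), (104, 3), (105, 3), (106, 1), (107, 1), (110, 2),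 (112, 3), (113, 3), (114, 2), (115, 2), (117, 3), (125, 1), (128, 1), (130, 1), (131, 3), (133, 2), (135, 1), (137, 2), (140, 2), (144, 3), (146, 1), (148, 1), (151, 3), (152, 3), (155, 2), (157, 3), (158, 3), (161, 3), (162, 3), (164, 3), (165, 2), (166, 3), (167, 2), (168, 1), (169, 1), (170, 2), (171, 3), (173, 1), (174, 3), (175, 3), (176, 2), (177, 2), (178, 1), (182, 3), (183, 3), (184, 1), (185, 3), (186, 2), (187, 2), (188, 3), (189, 2), (190, 3), (191, 3), (192, 3), (193, 3), (194, 3), (195, 2), (196, 2), (197, 2), (198, 2), (199, 1), (200, 1), (201, 1), (211, 1), (218, 2), (221, 3), (222, 2), (225, 3), (226, 3), (227, 2), (228, 1), (229, 3), (231, 2), (234, 1), (235, 1), (236, 3), (238, 3), (239, 3), (240, 2), (241, 2), (242, 2), (243, 1), (244, 3), (250, 1),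 (251, 1)], 0),
    ([(13, 1)], 0),
    ([(14, 1), (16, 3), (19, 3), (20, 1), (33, 1), (41, 3), (45, 3), (56, 3), (59, 1), (70, 1), (108, 1), (112, 3), (113, 3), (117, 1), (144, 1), (146, 3), (152, 1), (165, 3), (169, 1), (175, 2), (177, 1), (182, 1), (189, 1), (195, 3), (244, 1), (250, 3), (251, 3)], 0),
    ([(15, 1)], 0),
    ([(16, 1)], 0),
    ([(17, 1)], 0),
    ([(18, 1), (146, 3), (152, 3), (175, 1)], 0),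
    ([(19, 1), (20, 3), (146, 3), (175, 1)], 0),
    ([(20, 1)], 0),
    ([(0, 2), (6, 2), (8, 2), (11, 2), (12, 2), (13, 2), (18, 2), (19, 1), (20, 1), (22, 3), (30, 2), (31, 2), (33, 1), (38, 2), (40, 2), (41, 3), (43, 2), (44, 2), (45, 3), (49, 2), (51, 2), (52, 2), (53, 2), (54, 2), (56, 3), (58, 2), (59, 3), (60, 2), (61, 2), (62, 2), (67, 2), (70, 3), (71, 2), (72, 2), (76, 2), (82, 2), (85, 2), (86, 3), (87, 2), (93, 2), (95, 2), (97, 2), (98, 2), (100, 2), (102, 2), (104, 2), (105, 2), (106, 2), (107, 2), (108, 3), (112, 3), (113, 3), (117, 1), (119, 2), (121, 1), (122, 2), (125, 2), (126, 2), (127, 2), (128, 2), (130, 2), (131, 2), (135, 2), (138, 1), (140, 2), (141, 1), (144, 1), (146, 3), (148, 2), (149, 3), (151, 2), (152, 1), (153, 3), (157, 2), (158, 2),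 (159, 1), (160, 1), (161, 2), (162, 2), (164, 2), (165, 1), (166, 2), (168, 2), (169, 1), (171, 2), (173, 2), (174, 2), (177, 3), (178, 2), (182, 1), (183, 2), (184, 2), (185, 2), (188, 2), (189, 3), (190, 2), (191, 2), (192, 2), (193, 2), (194, 2), (195, 1), (199, 2), (200, 2), (201, 2), (206, 1), (210, 3), (211, 2), (213, 3), (221, 2), (224, 1), (225, 2), (226, 2), (228, 2), (229, 2), (234, 2), (235, 2), (236, 2), (237, 3), (238, 2), (239, 2), (243, 2), (244, 1), (248, 2), (249, 1), (251, 3), (255, 3), (256, 1), (259, 3), (260, 2), (264, 3), (265, 3), (266, 1), (267, 1), (270, 2), (271, 3), (273, 2), (275, 2), (280, 2), (282, 2), (283, 2), (293, 2), (294, 1), (295, 1), (296, 2)], 0),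
    ([(6, 2), (8, 2), (11, 2), (12, 2), (13, 2), (18, 2), (19, 1), (20, 1), (30, 2), (31, 2), (38, 2), (40, 2), (41, 3), (43, 2), (44, 2), (45, 3), (47, 1), (49, 2), (51, 2), (52, 2), (53, 2), (54, 2), (56, 3), (58, 2), (59, 3), (60, 2), (61, 2), (62, 2), (67, 2), (70, 3), (71, 2), (72, 2), (76, 2), (82, 2), (85, 2), (86, 3), (87, 2), (93, 2), (95, 2), (97, 2), (98, 2), (100, 2), (102, 2), (104, 2), (105, 2), (106, 2), (107, 2), (108, 3), (112, 3), (113, 3), (117, 1), (125, 2), (128, 2), (130, 2), (131, 2), (135, 2), (144, 1), (146, 3), (148, 2), (149, 2), (151, 2), (152, 1), (154, 3), (157, 2), (158, 2), (161, 2), (162, 2), (164, 2), (165, 1), (166, 2), (168, 2), (169, 1), (171, 2), (173, 2), (174, 2), (177, 3), (178, 2), (182, 1), (183, 2), (184, 2), (185, 2), (188,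 2), (189, 3), (190, 2), (191, 2), (192, 2), (193, 2), (194, 2), (195, 1), (199, 2), (200, 2), (201, 2), (211, 2), (221, 2), (225, 2), (226, 2), (228, 2), (229, 2), (234, 2), (235, 2), (236, 2), (238, 2), (239, 2), (243, 2), (244, 1), (248, 1), (251, 3), (256, 2), (265, 3), (267, 1), (270, 2)], 0),
    ([(120, 3)], 0),
    ([(121, 2), (123, 2), (126, 2), (129, 2), (153, 2), (206, 2), (210, 2), (213, 2), (223, 3), (224, 2), (237, 2), (259, 3), (260, 3), (262, 3), (283, 1), (287, 2), (292, 2)], 0),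
    ([(6, 2), (8, 2), (11, 2), (12, 2), (13, 2), (18, 2), (19, 3), (20, 3), (30, 2), (31, 2), (38, 2), (40, 2), (41, 1), (43, 2), (44, 2), (45, 1), (47, 3), (48, 1), (49, 2), (50, 3), (51, 2), (52, 2), (53, 2), (54, 2), (56, 1), (58, 2), (59, 1), (60, 2), (61, 2), (62, 2), (67, 2), (70, 1), (71, 2), (72, 2), (76, 2), (82, 2), (85, 2), (86, 1), (87, 2), (93, 2), (95, 2), (97, 2), (98, 2), (100, 2), (102, 2), (104, 2), (105, 2), (106, 2), (107, 2), (108, 1), (112, 1), (113, 1), (117, 3), (122, 1), (125, 2), (127, 1), (128, 2), (130, 2), (131, 2), (135, 2), (144, 3), (146, 1), (148, 2), (149, 2), (151, 2), (152, 3), (157, 2), (158, 2), (161, 2), (162, 2), (164, 2), (165, 3), (166, 2), (168, 2), (169, 3), (171, 2), (173, 2), (174, 2), (177, 1), (178, 2), (182, 3), (183, 2),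 (184, 2), (185, 2), (188, 2), (189, 1), (190, 2), (191, 2), (192, 2), (193, 2), (194, 2), (195, 3), (199, 2), (200, 2), (201, 2), (211, 2), (221, 2), (225, 2), (226, 2), (228, 2), (229, 2), (234, 2), (235, 2), (236, 2), (238, 2), (239, 2), (243, 2), (244, 3), (248, 3), (251, 1), (256, 2), (265, 1), (267, 3), (270, 2)], 0),
    ([(6, 1), (8, 3), (16, 3), (19, 2), (20, 2), (29, 2), (30, 1), (31, 1), (33, 2), (38, 2), (40, 1), (41, 2), (49, 2), (51, 1), (52, 3), (53, 1), (54, 1), (56, 3), (58, 1), (60, 1), (64, 1), (67, 2), (68, 1), (71, 3), (72, 1), (74, 2), (75, 2), (76, 1), (77, 2), (79, 3), (82, 1), (83, 3), (84, 1), (85, 1), (87, 2), (88, 3), (89, 1), (93, 1), (95, 3), (96, 1), (97, 3), (98, 2), (99, 3), (100, 3), (102, 3), (103, 1), (104, 1), (105, 2), (106, 1), (107,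 2), (108, 3), (109, 1), (110, 1), (112, 3), (115, 2), (117, 2), (125, 3), (128, 1), (130, 1), (131, 3), (132, 2), (133, 1), (134, 1), (135, 2), (136, 3), (137, 1), (140, 2), (143, 3), (144, 2), (146, 1), (148, 3), (150, 1), (151, 2), (152, 2), (155, 2), (156, 2), (157, 3), (158, 1), (161, 1), (162, 1), (164, 2), (165, 1), (166, 1), (167, 2), (168, 3), (169, 2), (170, 2), (171, 1), (174, 1), (178, 3), (179, 3), (180, 1), (181, 3), (182, 2), (183, 1), (184, 1), (185, 3), (187, 3), (188, 3), (189, 2), (190, 1), (191, 1), (192, 3), (193, 3), (194, 1), (195, 2), (196, 1), (197, 3), (198, 1), (199, 3), (200, 3), (201, 3), (202, 1), (205, 3), (211, 2), (218, 2), (220, 3), (221, 1), (225, 1), (228, 3), (229, 3), (231, 1), (233, 2), (234, 2), (235, 3), (236, 1), (238, 1), (239,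 1), (240, 3), (241, 1), (242, 1), (244, 2), (250, 2), (251, 2), (272, 1), (277, 3), (279, 3), (297, 3), (298, 3), (299, 1)], 3),
    ([(224, 1)], 0),
    ([(154, 1)], 0),
    ([(11, 3), (13, 1), (18, 3), (19, 3), (20, 2), (31, 3), (43, 1), (51, 1), (55, 3), (56, 3), (58, 1), (59, 1), (68, 3), (70, 1), (88, 1), (95, 3), (103, 2), (105, 1), (107, 3), (108, 1), (109, 1), (110, 3), (112, 3), (113, 3), (114, 3), (117, 1), (133, 3), (134, 1), (135, 1), (136, 3), (143, 1), (146, 3), (150, 3), (151, 3), (152, 2), (156, 1), (172, 1), (175, 1), (177, 1), (179, 1), (189, 1), (190, 1), (191, 1), (196, 3), (197, 3), (198, 1), (200, 3), (202, 1), (225, 1), (228, 1), (232, 3)], 0),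
    ([(0, 2), (6, 2), (8, 2), (11, 2), (12, 2), (13, 2), (18, 2), (19, 3), (20, 3), (22, 1), (30, 2), (31, 2), (33, 3), (38, 2), (40, 2), (41, 1), (43, 2), (44, 2), (45, 1), (49, 2), (51, 2), (52, 2), (53, 2), (54, 2), (56, 1), (58, 2), (59, 1), (60, 2), (61, 2), (62, 2), (67, 2), (70, 1), (71, 2), (72, 2), (76, 2), (82, 2), (85, 2), (86, 1), (87, 2), (93, 2), (95, 2), (97, 2), (98, 2), (100, 2), (102, 2), (104, 2), (105, 2), (106, 2), (107, 2), (108, 1), (112, 1), (113, 1), (117, 3), (119, 2), (121, 2), (122, 2), (123, 3), (125, 2), (126, 1), (127, 2), (128, 2), (129, 3), (130, 2), (131, 2), (135, 2), (138, 3), (140, 2), (141, 3), (144, 3), (146, 1), (148, 2), (149, 1), (151, 2), (152, 3), (153, 2), (157, 2), (158, 2), (159, 1), (160, 3), (161, 2), (162, 2), (164, 2),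 (165, 3), (166, 2), (168, 2), (169, 3), (171, 2), (173, 2), (174, 2), (177, 1), (178, 2), (182, 3), (183, 2), (184, 2), (185, 2), (188, 2), (189, 1), (190, 2), (191, 2), (192, 2), (193, 2), (194, 2), (195, 3), (199, 2), (200, 2), (201, 2), (206, 2), (210, 2), (211, 2), (213, 2), (221, 2), (223, 3), (224, 2), (225, 2), (226, 2), (228, 2), (229, 2), (234, 2), (235, 2), (236, 2), (237, 2), (238, 2), (239, 2), (243, 2), (244, 3), (248, 2), (249, 3), (251, 1), (255, 1), (256, 3), (259, 3), (260, 3), (262, 1), (264, 1), (265, 1), (266, 3), (267, 3), (270, 2), (271, 1), (273, 2), (275, 2), (280, 2), (282, 2), (283, 1), (287, 2), (292, 2), (293, 2), (294, 3), (295, 3), (296, 2)], 0),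
    ([(61, 3), (62, 1), (130, 1), (132, 3), (137, 1), (173, 3), (177, 1), (178, 3), (189, 1)], 0),
    ([(6, 3), (8, 1), (11, 2), (13, 2), (16, 1), (18, 2), (19, 3), (20, 3), (25, 3), (29, 3), (30, 2), (31, 2), (33, 3), (38, 3), (41, 1), (43, 2), (49, 3), (51, 1), (52, 2), (53, 2), (54, 3), (55, 3), (56, 3), (58, 1), (59, 2), (60, 2), (61, 3), (64, 3), (67, 2), (70, 2), (71, 2), (72, 3), (76, 2), (77, 3), (79, 3), (80, 3), (81, 3), (82, 2), (84, 2), (85, 3), (87, 2), (89, 2), (94, 3), (95, 1), (96, 3), (97, 2), (98, 3), (99, 3), (100, 2), (103, 2), (105, 3), (107, 2), (108, 3), (112, 3), (113, 2), (114, 1), (115, 3), (116, 3), (117, 1), (125, 1), (128, 2), (130, 1), (131, 2), (132, 2), (133, 2), (134, 2), (136, 2), (137, 2), (140, 2), (144, 3), (146, 2), (148, 1), (151,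 3), (152, 3), (155, 1), (156, 1), (157, 2), (161, 3), (162, 3), (163, 1), (164, 2), (165, 1), (166, 3), (167, 1), (168, 1), (169, 3), (171, 1), (172, 3), (173, 2), (174, 3), (176, 3), (177, 1), (179, 1), (180, 3), (181, 2), (182, 3), (183, 3), (184, 2), (185, 2), (186, 1), (188, 1), (189, 1), (190, 1), (191, 3), (193, 3), (194, 3), (195, 3), (197, 2), (198, 2), (199, 1), (200, 1), (201, 2), (202, 2), (205, 1), (211, 2), (220, 1), (221, 1), (222, 1), (225, 3), (226, 1), (227, 3), (228, 1), (229, 2), (232, 3), (233, 1), (234, 2), (238, 3), (240, 2), (241, 2), (242, 2), (243, 2), (244, 3), (250, 1), (251, 1), (272, 3), (277, 1), (279, 1), (297, 1), (298, 1), (299, 3)], 1),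
    ([(227, 1)], 0),
    ([(19, 3), (20, 1), (45, 3), (56, 3), (59, 1), (70, 1), (95, 3), (96, 1), (108, 1), (112, 3), (113, 3), (117, 1), (143, 1), (146, 1), (150, 3), (151, 3), (152, 1), (156, 1), (172, 1), (175, 2), (177, 1), (189, 1), (191, 1), (200, 3)], 0),
    ([(11, 1), (13, 3), (18, 1), (20, 3), (29, 1), (43, 3), (45, 3), (52, 1), (53, 3), (60, 3), (61, 2), (62, 2), (71, 2), (74, 2), (75, 2), (77, 2), (79, 2), (82, 2), (83, 2), (84, 2), (103, 1), (106, 1), (107, 3), (109, 1), (116, 3), (128, 3), (130, 2), (135, 2), (136, 2), (146, 3), (152, 3), (155, 3), (173, 3), (174, 2), (175, 1), (178, 3), (184, 3), (187, 3), (189, 2), (192, 3), (221, 2), (226, 1), (227, 3), (229, 1), (231, 1), (233, 3)], 0),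
    ([(11, 3), (13, 1), (18, 3), (20, 1), (29, 3), (43, 1), (45, 1), (52, 3), (53, 1), (60, 1), (61, 2), (62, 2), (71, 2), (74, 2), (75, 2), (77, 2), (79, 2), (82, 2), (83, 2), (84, 2), (103, 3), (106, 3), (107, 1), (109, 3), (116, 1), (128, 1), (130, 2), (135, 2), (136, 2), (146, 1), (152, 1), (155, 1), (173, 1), (174, 2), (175, 3), (178, 1), (184, 1), (187, 1), (189, 2), (192, 1), (221, 2), (226, 3), (227, 1), (231, 3), (233, 1)], 0),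
    ([(157, 1)], 0),
    ([(61, 1), (62, 3), (177, 3), (189, 3)], 0),
    ([(11, 3), (13, 1), (18, 3), (19, 2), (20, 3), (30, 1), (31, 3), (33, 3), (38, 3), (40, 2), (41, 1), (43, 1), (45, 1), (49, 3), (52, 3), (53, 1), (54, 1), (55, 3), (56, 3), (60, 1), (61, 3), (62, 1), (64, 3), (67, 1), (68, 1), (71, 1), (72, 3), (74, 2), (75, 2), (76, 1), (77, 2), (79, 2), (80, 2), (81, 2), (82, 1), (85, 3), (87, 1), (88, 3), (89, 3), (95, 1), (96, 3), (97, 3), (98, 3), (100, 3), (102, 1), (103, 2), (104, 3), (105, 3), (106, 1), (107, 1), (110, 1), (112, 3), (113, 3), (114, 1), (115, 2), (117, 3), (125, 1), (128, 1), (130, 1), (131, 3), (133, 2), (135, 1), (137, 2), (144, 3), (146, 1), (152, 3), (155, 2), (157, 3), (158, 3), (161, 3), (164, 3), (165, 2), (167, 2), (169, 1), (170,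 2), (171, 3), (173, 1), (174, 3), (175, 3), (176, 2), (177, 2), (178, 1), (182, 3), (183, 3), (184, 1), (185, 3), (186, 2), (187, 2), (188, 3), (189, 2), (191, 3), (192, 3), (193, 3), (194, 3), (195, 2), (196, 1), (197, 2), (198, 2), (199, 1), (200, 1), (201, 1), (205, 1), (211, 1), (218, 2), (221, 3), (222, 2), (225, 3), (226, 3), (227, 2), (228, 1), (229, 3), (231, 2), (234, 1), (235, 1), (236, 3), (238, 3), (239, 3), (240, 2), (241, 2), (242, 2), (243, 1), (244, 3), (250, 1), (251, 1)], 0),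
    ([(0, 2), (6, 2), (8, 2), (11, 2), (12, 2), (13, 2), (18, 2), (19, 3), (20, 3), (22, 1), (30, 2), (31, 2), (33, 3), (38, 2), (40, 2), (41, 1), (43, 2), (44, 2), (45, 1), (49, 2), (51, 2), (52, 2), (53, 2), (54, 2), (56, 1), (58, 2), (59, 1), (60, 2), (61, 2), (62, 2), (67, 2), (70, 1), (71, 2), (72, 2), (76, 2), (82, 2), (85, 2), (86, 1), (87, 2), (93, 2), (95, 2), (97, 2), (98, 2), (100, 2), (102, 2), (104, 2), (105, 2), (106, 2), (107, 2), (108, 1), (112, 1), (113, 1), (117, 3), (119, 2), (121, 2), (122, 2), (123, 3), (125, 2), (126, 1), (127, 2), (128, 2), (129, 3), (130, 2), (131, 2), (135, 2), (138, 3), (140, 2), (141, 3), (144, 3), (146, 1), (148, 2), (149, 1), (151, 2), (152, 3), (153, 2), (157, 2), (158, 2), (159, 1), (160, 3), (161, 2), (162, 2), (164, 2),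 (165, 3), (166, 2), (168, 2), (169, 3), (171, 2), (173, 2), (174, 2), (177, 1), (178, 2), (182, 3), (183, 2), (184, 2), (185, 2), (188, 2), (189, 1), (190, 2), (191, 2), (192, 2), (193, 2), (194, 2), (195, 3), (199, 2), (200, 2), (201, 2), (206, 3), (210, 1), (211, 2), (213, 1), (221, 2), (223, 2), (224, 2), (225, 2), (226, 2), (228, 2), (229, 2), (234, 2), (235, 2), (236, 2), (237, 2), (238, 2), (239, 2), (243, 2), (244, 3), (248, 2), (249, 3), (251, 1), (255, 1), (256, 3), (259, 3), (260, 3), (262, 1), (264, 1), (265, 1), (266, 3), (267, 3), (270, 2), (271, 1), (273, 2), (275, 2), (280, 2), (282, 2), (283, 1), (287, 2), (292, 3), (293, 2), (294, 3), (295, 3), (296, 2)], 0),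
    ([(0, 2), (6, 2), (8, 2), (11, 2), (12, 2), (13, 2), (18, 2), (19, 1), (20, 1), (22, 3), (30, 2), (31, 2), (33, 1), (38, 2), (40, 2), (41, 3), (43, 2), (44, 2), (45, 3), (49, 2), (51, 2), (52, 2), (53, 2), (54, 2), (56, 3), (58, 2), (59, 3), (60, 2), (61, 2), (62, 2), (67, 2), (70, 3), (71, 2), (72, 2), (76, 2), (82, 2), (85, 2), (86, 3), (87, 2), (93, 2), (95, 2), (97, 2), (98, 2), (100, 2), (102, 2), (104, 2), (105, 2), (106, 2), (107, 2), (108, 3), (112, 3), (113, 3), (117, 1), (119, 2), (121, 1), (122, 2), (123, 3), (125, 2), (126, 3), (127, 2), (128, 2), (129, 3), (130, 2), (131, 2), (135, 2), (138, 1), (140, 2), (141, 1), (144, 1), (146, 3), (148, 2), (149, 3), (151, 2), (152, 1), (157, 2), (158, 2), (160, 1), (161, 2), (162, 2), (164, 2), (165, 1), (166, 2),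 (168, 2), (169, 1), (171, 2), (173, 2), (174, 2), (177, 3), (178, 2), (182, 1), (183, 2), (184, 2), (185, 2), (188, 2), (189, 3), (190, 2), (191, 2), (192, 2), (193, 2), (194, 2), (195, 1), (199, 2), (200, 2), (201, 2), (204, 1), (206, 1), (210, 3), (211, 2), (213, 3), (221, 2), (223, 1), (224, 1), (225, 2), (226, 2), (228, 2), (229, 2), (234, 2), (235, 2), (236, 2), (238, 2), (239, 2), (243, 2), (244, 1), (248, 2), (249, 1), (251, 3), (255, 3), (256, 1), (259, 2), (260, 2), (264, 3), (265, 3), (266, 1), (267, 1), (270, 2), (271, 3), (273, 2), (275, 2), (280, 2), (282, 2), (283, 2), (293, 2), (294, 1), (295, 1), (296, 2)], 0),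
    ([(63, 1)], 0),
    ([(11, 1), (13, 3), (18, 1), (19, 2), (20, 1), (30, 3), (31, 1), (33, 1), (38, 1), (40, 3), (41, 3), (43, 3), (45, 3), (49, 1), (51, 1), (52, 1), (53, 3), (54, 3), (56, 1), (58, 1), (60, 3), (61, 1), (62, 3), (64, 1), (67, 3), (68, 2), (71, 3), (72, 1), (74, 2), (75, 2), (76, 3), (77, 2), (79, 2), (80, 2), (81, 2), (82, 3), (85, 1), (87, 3), (88, 2), (93, 1), (95, 3), (97, 1), (98, 1), (100, 1), (102, 3), (103, 2), (104, 1), (105, 1), (106, 3), (107, 3), (110, 2), (112, 1), (113, 1), (114, 2), (115, 2), (117, 1), (125, 3), (128, 3), (130, 3), (131, 1), (133, 2), (135, 3), (137, 2), (144, 1), (146, 3), (152, 1), (155, 2), (157, 1), (158, 1), (161, 1), (164, 1), (165, 2), (167, 2), (169, 3), (170, 2), (171, 1), (173, 3), (174, 1), (175, 1), (176,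 2), (177, 2), (178, 3), (182, 1), (183, 1), (184, 3), (185, 1), (186, 2), (187, 2), (188, 1), (189, 2), (190, 1), (191, 1), (192, 1), (193, 1), (194, 1), (195, 2), (196, 2), (197, 2), (198, 2), (199, 3), (200, 3), (201, 3), (211, 3), (218, 2), (221, 1), (222, 2), (225, 1), (226, 1), (227, 2), (228, 3), (229, 1), (231, 2), (234, 3), (235, 3), (236, 1), (238, 1), (239, 1), (240, 2), (241, 2), (242, 2), (243, 3), (244, 1), (250, 3), (251, 3)], 0),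
    ([(210, 1)], 0),
    ([(11, 3), (13, 1), (18, 3), (19, 3), (20, 2), (25, 1), (29, 3), (31, 3), (33, 1), (38, 1), (40, 3), (41, 3), (43, 1), (49, 1), (51, 2), (56, 3), (58, 2), (59, 1), (61, 2), (62, 2), (68, 1), (70, 1), (71, 2), (72, 1), (77, 1), (80, 3), (81, 3), (83, 1), (84, 1), (85, 1), (87, 3), (88, 3), (93, 1), (95, 1), (96, 2), (98, 1), (99, 3), (105, 3), (106, 2), (107, 3), (108, 1), (110, 1), (112, 3), (113, 3), (114, 1), (115, 2), (117, 2), (125, 3), (130, 2), (132, 3), (143, 3), (144, 1), (146, 1), (150, 1), (151, 1), (152, 2), (155, 2), (156, 3), (158, 1), (161, 1), (165, 2), (167, 2), (169, 1), (170, 3), (172, 2), (174, 2), (175, 1), (176, 3), (178, 3), (179, 3), (181, 1), (182, 1), (183, 1), (186, 1), (187, 3), (189, 2), (190, 2), (191, 3), (192, 2),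 (193, 3), (194, 1), (195, 1), (196, 1), (197, 1), (198, 3), (199, 3), (201, 3), (218, 1), (221, 3), (222, 1), (225, 1), (227, 3), (228, 2), (231, 1), (232, 2), (233, 1), (234, 3), (238, 1), (240, 1), (241, 3), (242, 3), (243, 1), (244, 1), (250, 3), (251, 3)], 0),
    ([(212, 1)], 0),
    ([(213, 1)], 0),
    ([(25, 3), (31, 3), (51, 1), (55, 3), (58, 1), (67, 3), (68, 3), (88, 1), (96, 3), (102, 3), (104, 1), (110, 3), (114, 3), (117, 3), (146, 1), (164, 1), (169, 2), (170, 3), (171, 1), (181, 3), (190, 1), (193, 2), (195, 1), (196, 3), (200, 1), (218, 1), (232, 3), (235, 3), (236, 1), (239, 1), (240, 1), (241, 3), (242, 3), (243, 2)], 0),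
    ([(66, 1)], 0),
    ([(31, 3), (215, 1), (217, 3), (232, 3)], 0),
    ([(11, 3), (13, 1), (18, 3), (19, 2), (20, 3), (30, 1), (31, 3), (33, 3), (38, 3), (40, 1), (41, 1), (43, 1), (45, 1), (49, 3), (51, 3), (52, 3), (53, 1), (54, 1), (56, 3), (58, 3), (60, 1), (61, 3), (62, 1), (67, 1), (68, 2), (71, 1), (72, 3), (74, 2), (75, 2), (76, 1), (77, 2), (79, 2), (80, 2), (81, 2), (82, 1), (85, 3), (87, 1), (88, 2), (93, 3), (95, 1), (97, 3), (98, 3), (100, 3), (102, 1), (103, 2), (104, 3), (105, 3), (106, 1), (107, 1), (110, 2), (112, 3), (113, 3), (114, 2), (115, 2), (117, 3), (125, 1), (128, 1), (130, 1), (131, 3), (133, 2), (135, 1), (137, 2), (144, 3), (146, 1), (152, 3), (155, 2), (157, 3), (158, 3), (161, 3), (164, 3), (165, 2), (167, 2), (169, 1), (170, 2), (171,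 3), (173, 1), (174, 3), (175, 3), (176, 2), (177, 2), (178, 1), (182, 3), (183, 3), (184, 1), (185, 3), (186, 2), (187, 2), (188, 3), (189, 2), (190, 3), (191, 3), (192, 3), (193, 3), (194, 3), (195, 2), (196, 2), (197, 2), (198, 2), (199, 1), (200, 1), (201, 1), (211, 1), (218, 2), (221, 3), (222, 2), (225, 3), (226, 3), (227, 2), (228, 1), (229, 3), (231, 2), (234, 1), (235, 1), (236, 3), (238, 3), (239, 3), (240, 2), (241, 2), (242, 2), (243, 1), (244, 3), (250, 1), (251, 1)], 0),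
    ([(217, 1)], 0),
    ([(65, 1), (212, 3)], 0),
    ([(218, 1)], 0),
    ([(67, 1)], 0),
    ([(6, 2), (8, 2), (11, 2), (12, 2), (13, 2), (18, 2), (19, 1), (20, 1), (30, 2), (31, 2), (38, 2), (40, 2), (41, 3), (43, 2), (44, 2), (45, 3), (47, 1), (49, 2), (51, 2), (52, 2), (53, 2), (54, 2), (56, 3), (58, 2), (59, 3), (60, 2), (61, 2), (62, 2), (67, 2), (70, 3), (71, 2), (72, 2), (76, 2), (82, 2), (85, 2), (86, 3), (87, 2), (93, 2), (95, 2), (97, 2), (98, 2), (100, 2), (102, 2), (104, 2), (105, 2), (106, 2), (107, 2), (108, 3), (112, 3), (113, 3), (117, 1), (122, 3), (125, 2), (128, 2), (130, 2), (131, 2), (135, 2), (144, 1), (146, 3), (148, 2), (149, 2), (151, 2), (152, 1), (154, 3), (157, 2), (158, 2), (161, 2), (162, 2), (164, 2), (165, 1), (166, 2), (168, 2), (169,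 1), (171, 2), (173, 2), (174, 2), (177, 3), (178, 2), (182, 1), (183, 2), (184, 2), (185, 2), (188, 2), (189, 3), (190, 2), (191, 2), (192, 2), (193, 2), (194, 2), (195, 1), (199, 2), (200, 2), (201, 2), (211, 2), (221, 2), (225, 2), (226, 2), (228, 2), (229, 2), (234, 2), (235, 2), (236, 2), (238, 2), (239, 2), (243, 2), (244, 1), (248, 1), (251, 3), (256, 2), (265, 3), (267, 1), (270, 2)], 0),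
    ([(6, 3), (8, 1), (9, 3), (13, 1), (16, 1), (19, 1), (30, 3), (33, 1), (38, 1), (40, 3), (41, 3), (43, 1), (45, 3), (49, 2), (54, 3), (56, 3), (59, 2), (61, 3), (62, 2), (64, 3), (67, 2), (68, 2), (70, 2), (71, 3), (72, 2), (73, 3), (74, 1), (75, 3), (76, 3), (79, 1), (80, 3), (83, 1), (84, 2), (85, 1), (87, 2), (88, 2), (89, 3), (92, 1), (93, 3), (95, 2), (96, 2), (97, 1), (98, 2), (102, 1), (103, 2), (104, 3), (105, 3), (106, 3), (107, 3), (108, 3), (109, 1), (110, 2), (112, 3), (113, 2), (114, 3), (115, 1), (116, 2), (125, 2), (128, 3), (130, 2), (131, 1), (132, 2), (133, 3), (134, 3), (135, 3), (137, 3), (140, 2), (143, 2), (144, 1), (146, 1), (148, 1), (150, 2), (151, 1), (155, 3), (156, 2), (157, 1), (158, 3), (161, 3), (162, 3), (163, 3), (164, 2), (166, 3),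 (167, 3), (168, 1), (169, 1), (170, 3), (171, 2), (172, 3), (175, 1), (177, 1), (178, 1), (179, 2), (181, 1), (182, 1), (183, 3), (186, 3), (187, 1), (188, 1), (191, 3), (192, 1), (193, 1), (194, 3), (195, 3), (196, 2), (197, 1), (199, 2), (200, 1), (202, 3), (205, 1), (211, 2), (218, 1), (220, 2), (225, 3), (226, 3), (227, 1), (229, 1), (231, 2), (232, 1), (233, 2), (234, 3), (235, 1), (236, 3), (238, 3), (239, 3), (240, 1), (241, 3), (242, 3), (244, 1), (250, 3), (251, 3), (272, 3), (277, 1), (279, 1), (297, 1), (298, 1), (299, 3)], 1),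
    ([(7, 3), (10, 1), (42, 1), (50, 1)], 0),
    ([(19, 1), (20, 3), (33, 3), (38, 3), (41, 1), (45, 1), (51, 1), (55, 3), (56, 1), (58, 1), (59, 3), (70, 3), (88, 1), (108, 3), (112, 1), (113, 1), (117, 3), (144, 3), (146, 1), (152, 3), (165, 1), (169, 3), (175, 2), (176, 3), (177, 3), (182, 3), (189, 3), (195, 1), (244, 3), (250, 1), (251, 1)], 0),
    ([(11, 1), (13, 3), (18, 1), (20, 3), (43, 3), (45, 3), (103, 1), (106, 1), (107, 3), (146, 3), (152, 3), (175, 1), (192, 3), (231, 1)], 0),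
    ([(47, 3)], 0),
    ([(29, 3), (53, 1), (55, 1), (57, 3), (62, 1), (77, 1), (84, 1), (174, 3), (185, 3)], 0),
    ([(6, 1), (8, 3), (11, 2), (13, 2), (16, 3), (18, 2), (19, 3), (20, 3), (25, 3), (29, 3), (30, 2), (31, 2), (33, 1), (38, 1), (40, 2), (41, 3), (43, 2), (49, 1), (52, 2), (53, 2), (54, 2), (56, 1), (59, 1), (60, 2), (64, 1), (67, 2), (68, 3), (70, 1), (71, 3), (72, 1), (73, 1), (76, 2), (77, 1), (80, 2), (81, 1), (82, 2), (83, 3), (84, 2), (85, 2), (87, 3), (88, 1), (89, 1), (92, 3), (95, 3), (97, 2), (98, 1), (99, 1), (100, 2), (102, 3), (103, 2), (104, 1), (107, 2), (110, 3), (112, 1), (113, 2), (114, 2), (115, 1), (116, 2), (117, 1), (125, 3), (128, 2), (130, 3), (131, 2), (132, 2), (133, 3), (134, 1), (135, 3), (136, 3), (137, 3), (140, 2), (143, 2),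 (144, 1), (146, 2), (148, 3), (150, 2), (151, 3), (152, 3), (155, 3), (156, 2), (157, 2), (161, 1), (162, 1), (164, 2), (165, 3), (166, 1), (167, 2), (168, 3), (169, 1), (170, 2), (171, 1), (172, 1), (173, 2), (174, 1), (176, 1), (177, 3), (179, 2), (181, 2), (182, 1), (183, 1), (184, 2), (185, 2), (186, 3), (187, 1), (188, 2), (194, 1), (195, 1), (196, 3), (197, 2), (198, 2), (199, 3), (200, 1), (201, 3), (202, 1), (205, 3), (211, 2), (218, 2), (220, 3), (221, 3), (222, 3), (225, 1), (226, 3), (227, 1), (228, 2), (229, 2), (232, 1), (233, 3), (234, 2), (235, 3), (236, 1), (238, 1), (239, 1), (240, 2), (241, 2), (242, 2), (243, 3), (244, 1), (250, 3), (251, 3), (272, 1), (277, 3), (279, 3), (297, 3), (298, 3), (299, 1)], 3),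
    ([(71, 3), (174, 1)], 0),
    ([(40, 3), (45, 3), (70, 1), (112, 3), (114, 3)], 0),
    ([(57, 1), (187, 3)], 0),
    ([(176, 1)], 0),
    ([(59, 1), (188, 3)], 0),
    ([(55, 3), (60, 1), (62, 3), (77, 3), (84, 3), (100, 1), (174, 1), (185, 1)], 0),
    ([(177, 1)], 0),
    ([(71, 1)], 0),
    ([(0, 2), (6, 2), (8, 2), (11, 2), (12, 2), (13, 2), (18, 2), (19, 3), (20, 3), (22, 1), (30, 2), (31, 2), (33, 3), (38, 2), (40, 2), (41, 1), (43, 2), (44, 2), (45, 1), (49, 2), (51, 2), (52, 2), (53, 2), (54, 2), (56, 1), (58, 2), (59, 1), (60, 2), (61, 2), (62, 2), (67, 2), (70, 1), (71, 2), (72, 2), (76, 2), (82, 2), (85, 2), (86, 1), (87, 2), (93, 2), (95, 2), (97, 2), (98, 2), (100, 2), (102, 2), (104, 2), (105, 2), (106, 2), (107, 2), (108, 1), (112, 1), (113, 1), (117,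 3), (119, 2), (121, 2), (122, 2), (123, 3), (125, 2), (126, 1), (127, 2), (128, 2), (129, 2), (130, 2), (131, 2), (135, 2), (138, 3), (140, 2), (141, 3), (144, 3), (146, 1), (148, 2), (149, 1), (151, 2), (152, 3), (153, 2), (157, 2), (158, 2), (160, 3), (161, 2), (162, 2), (164, 2), (165, 3), (166, 2), (168, 2), (169, 3), (171, 2), (173, 2), (174, 2), (177, 1), (178, 2), (182, 3), (183, 2), (184, 2), (185, 2), (188, 2), (189, 1), (190, 2), (191, 2), (192, 2), (193, 2), (194, 2), (195, 3), (199, 2), (200, 2), (201, 2), (206, 2), (210, 2), (211, 2), (213, 2), (221, 2), (223, 3), (224, 2), (225, 2), (226, 2), (228, 2), (229, 2), (234, 2), (235, 2), (236, 2), (237, 2), (238, 2), (239, 2), (243, 2), (244, 3), (248, 2), (249, 3), (251, 1), (255, 1), (256, 3), (259, 3), (260,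 3), (262, 1), (264, 1), (265, 1), (266, 3), (267, 3), (270, 2), (271, 1), (273, 2), (275, 2), (280, 2), (282, 2), (283, 1), (287, 2), (292, 2), (293, 2), (294, 3), (295, 3), (296, 2)], 0),
    ([(2, 1), (4, 3), (5, 1), (7, 3), (10, 3), (33, 3), (47, 3), (48, 3), (50, 1), (119, 1), (122, 2), (127, 3), (149, 1), (247, 1), (248, 1), (271, 1)], 0),
    ([(6, 3), (8, 1), (11, 3), (13, 1), (16, 1), (18, 3), (19, 1), (29, 1), (30, 3), (31, 2), (33, 2), (38, 2), (40, 3), (41, 2), (43, 1), (49, 2), (54, 3), (55, 3), (59, 1), (61, 2), (62, 2), (64, 3), (67, 2), (68, 2), (70, 1), (71, 2), (72, 3), (74, 1), (75, 3), (76, 3), (77, 1), (85, 3), (87, 2), (88, 2), (89, 3), (93, 3), (96, 3), (97, 1), (98, 2), (99, 1), (100, 1), (102, 1), (103, 1), (104, 3), (105, 3), (106, 3), (107, 1),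 (108, 2), (109, 3), (110, 2), (113, 3), (114, 3), (115, 1), (116, 1), (117, 3), (125, 2), (128, 3), (130, 1), (131, 1), (132, 3), (133, 2), (136, 3), (137, 3), (140, 2), (143, 2), (144, 2), (146, 2), (148, 1), (150, 2), (151, 1), (156, 3), (157, 1), (158, 3), (161, 3), (162, 3), (164, 2), (165, 3), (166, 3), (167, 2), (168, 1), (169, 2), (170, 2), (171, 3), (172, 1), (174, 2), (175, 1), (177, 2), (178, 2), (179, 2), (180, 3), (181, 1), (182, 2), (183, 3), (185, 1), (187, 2), (188, 1), (189, 1), (192, 1), (193, 1), (194, 3), (195, 2), (196, 2), (199, 1), (201, 1), (205, 1), (211, 2), (218, 2), (220, 1), (225, 3), (227, 1), (228, 2), (229, 1), (231, 3), (232, 3), (233, 2), (234, 2), (235, 1), (236, 3), (238, 3), (239, 3), (240, 1), (241, 3), (242, 3), (244, 2), (250, 2),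 (251, 2), (272, 3), (277, 1), (279, 1), (297, 1), (298, 1), (299, 3)], 1),
    ([(126, 1), (224, 3)], 0),
    ([(127, 1), (154, 3)], 0),
    ([(29, 3), (52, 3), (53, 1), (60, 1), (61, 3), (62, 1), (71, 1), (74, 3), (75, 1), (77, 3), (79, 3), (82, 1), (83, 3), (84, 1), (109, 3), (116, 2), (128, 1), (130, 1), (132, 1), (135, 1), (136, 3), (137, 2), (155, 2), (173, 1), (174, 3), (178, 2), (184, 1), (187, 1), (189, 1), (221, 1), (226, 3), (227, 1), (233, 1)], 0),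
    ([(0, 2), (6, 2), (8, 2), (11, 2), (12, 2), (13, 2), (18, 2), (19, 1), (20, 1), (22, 3), (30, 2), (31, 2), (33, 1), (38, 2), (40, 2), (41, 3), (43, 2), (44, 2), (45, 3), (49, 2), (51, 2), (52, 2), (53, 2), (54, 2), (56, 3), (58, 2), (59, 3), (60, 2), (61, 2), (62, 2), (67, 2), (70, 3), (71, 2), (72, 2), (76, 2), (82, 2), (85, 2), (86, 3), (87, 2), (93, 2), (95, 2), (97, 2), (98, 2), (100, 2), (102, 2), (104, 2), (105, 2), (106, 2), (107, 2), (108, 3), (112, 3), (113, 3), (117, 1), (119, 2), (121, 2), (122, 2), (123, 1), (125, 2), (126, 3), (127, 2), (128, 2), (129, 2), (130, 2), (131, 2), (135, 2), (138, 1), (140, 2), (141, 1), (144, 1), (146, 3), (148, 2), (149, 3), (151, 2), (152, 1), (153, 2), (157, 2), (158, 2), (159, 3), (160, 1), (161, 2), (162, 2), (164, 2),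 (165, 1), (166, 2), (168, 2), (169, 1), (171, 2), (173, 2), (174, 2), (177, 3), (178, 2), (182, 1), (183, 2), (184, 2), (185, 2), (188, 2), (189, 3), (190, 2), (191, 2), (192, 2), (193, 2), (194, 2), (195, 1), (199, 2), (200, 2), (201, 2), (206, 2), (210, 2), (211, 2), (213, 2), (221, 2), (223, 1), (224, 2), (225, 2), (226, 2), (228, 2), (229, 2), (234, 2), (235, 2), (236, 2), (237, 2), (238, 2), (239, 2), (243, 2), (244, 1), (248, 2), (249, 1), (251, 3), (255, 3), (256, 1), (259, 1), (260, 1), (262, 3), (264, 3), (265, 3), (266, 1), (267, 1), (270, 2), (271, 3), (273, 2), (275, 2), (280, 2), (282, 2), (283, 3), (287, 2), (292, 2), (293, 2), (294, 1), (295, 1), (296, 2)], 0),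
    ([(61, 1), (62, 3), (137, 3), (177, 3), (178, 1), (189, 3)], 0),
    ([(3, 1), (6, 3), (8, 1), (11, 3), (13, 1), (14, 3), (16, 2), (18, 3), (20, 1), (25, 1), (29, 2), (32, 3), (33, 2), (34, 3), (38, 2), (40, 3), (41, 3), (43, 1), (44, 1), (46, 1), (49, 3), (51, 1), (52, 1), (53, 3), (55, 2), (60, 3), (63, 3), (64, 2), (66, 3), (67, 3), (68, 1), (70, 1), (71, 1), (72, 3), (74, 1), (75, 2), (76, 1), (78, 1), (79, 2), (80, 1), (81, 1), (82, 1), (83, 1), (84, 1), (85, 3), (87, 2), (88, 3), (89, 2), (96, 3), (97, 3), (98, 2), (101, 2), (102, 3), (103, 2), (104, 1), (106, 3), (107, 1), (109, 3), (110, 2), (112, 3), (114, 1), (115, 1), (117, 2), (125, 1), (128, 3), (130, 3), (132, 2), (133, 1), (134, 3), (135, 2), (136, 2), (137, 3), (140, 3), (142, 1), (143, 3), (144, 1),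 (146, 2), (150, 1), (152, 1), (155, 2), (158, 3), (161, 3), (164, 1), (166, 3), (167, 2), (168, 2), (169, 3), (170, 3), (171, 2), (172, 1), (174, 3), (175, 3), (176, 1), (177, 1), (178, 1), (180, 3), (181, 2), (182, 1), (183, 3), (184, 2), (186, 3), (189, 2), (190, 1), (192, 1), (193, 3), (194, 2), (195, 2), (196, 1), (199, 1), (200, 3), (201, 1), (202, 3), (203, 1), (205, 1), (211, 3), (212, 3), (218, 1), (220, 1), (221, 2), (222, 3), (225, 3), (226, 2), (228, 1), (231, 3), (233, 3), (234, 3), (235, 2), (236, 3), (238, 3), (239, 1), (241, 3), (242, 1), (243, 2), (244, 1), (250, 2), (251, 2), (272, 3), (277, 1), (279, 1), (297, 1), (298, 1), (299, 3)], 1),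
    ([(132, 1), (227, 3)], 0),
    ([(51, 1), (55, 3), (58, 1), (68, 3), (88, 1), (96, 3), (105, 1), (110, 3), (114, 3), (179, 1), (190, 1), (196, 3)], 0),
    ([(11, 3), (13, 1), (18, 3), (20, 1), (29, 3), (43, 1), (45, 1), (52, 3), (53, 1), (60, 1), (61, 2), (62, 2), (71, 2), (74, 2), (75, 2), (77, 2), (79, 2), (82, 2), (83, 2), (84, 2), (103, 3), (106, 3), (107, 1), (109, 3), (116, 1), (128, 1), (130, 2), (134, 1), (135, 2), (136, 2), (146, 1), (152, 1), (155, 1), (173, 1), (174, 2), (175, 3), (178, 1), (184, 1), (187, 1), (189, 2), (192, 1), (221, 2), (226, 3), (227, 1), (229, 3), (231, 3), (233, 1)], 0),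
    ([(11, 1), (13, 3), (18, 1), (20, 3), (29, 1), (31, 3), (43, 3), (45, 3), (52, 1), (53, 3), (60, 3), (61, 2), (62, 2), (71, 2), (74, 2), (75, 2), (77, 2), (79, 2), (82, 2), (83, 2), (84, 2), (103, 1), (106, 1), (107, 3), (109, 1), (116, 3), (128, 3), (130, 2), (135, 3), (136, 1), (146, 3), (152, 3), (155, 3), (173, 3), (174, 2), (175, 1), (178, 3), (184, 3), (187, 3), (189, 2), (192, 3), (221, 2), (226, 1), (227, 3), (228, 1), (231, 1), (232, 3), (233, 3)], 0),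
    ([(136, 1), (157, 3)], 0),
    ([(61, 3), (62, 1), (137, 1), (177, 1), (189, 1)], 0),
    ([(6, 3), (8, 1), (11, 3), (13, 1), (16, 1), (18, 3), (20, 1), (29, 2), (30, 3), (31, 2), (33, 2), (38, 2), (40, 3), (41, 2), (43, 1), (49, 2), (51, 1), (54, 3), (55, 2), (58, 1), (59, 1), (61, 3), (62, 1), (64, 3), (67, 2), (68, 1), (70, 1), (71, 2), (72, 2), (74, 1), (75, 3), (76, 3), (77, 1), (79, 1), (83, 1), (85, 2), (87, 2), (88, 3), (89, 3), (93, 3), (96, 3), (97, 1), (98, 2), (100, 1), (102, 1), (103, 1), (104, 3), (106, 3), (107, 1), (108, 2), (109, 3), (110, 1), (113, 3), (114, 2), (115, 1), (117, 3), (125, 2), (128, 3), (130, 1), (131, 1), (132, 3), (133, 2), (136, 3), (137, 2), (140, 2), (143, 2), (144, 2), (148, 1), (150, 2), (151, 1), (152, 1), (156, 3), (157, 1),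 (158, 3), (161, 3), (162, 3), (164, 2), (165, 3), (166, 3), (167, 2), (168, 1), (169, 2), (170, 2), (171, 3), (172, 1), (174, 2), (175, 3), (177, 1), (178, 2), (179, 3), (180, 3), (181, 1), (182, 2), (183, 3), (185, 1), (187, 2), (188, 1), (190, 1), (192, 1), (193, 1), (194, 3), (195, 2), (196, 1), (199, 2), (201, 1), (205, 1), (211, 2), (218, 2), (220, 1), (225, 3), (227, 1), (228, 2), (229, 1), (231, 3), (232, 3), (233, 2), (234, 2), (235, 1), (236, 3), (238, 3), (239, 3), (240, 1), (241, 3), (242, 3), (244, 2), (250, 2), (251, 2), (272, 3), (277, 1), (279, 1), (297, 1), (298, 1), (299, 3)], 1),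
    ([(19, 3), (20, 1), (41, 3), (45, 3), (56, 3), (59, 1), (70, 1), (108, 1), (112, 3), (113, 3), (117, 1), (144, 1), (146, 3), (152, 1), (165, 3), (169, 1), (175, 2), (177, 1), (189, 1), (195, 3), (244, 1)], 0),
    ([(123, 3), (126, 1), (129, 3), (153, 1), (159, 3), (237, 1)], 0),
    ([(143, 1), (150, 3), (151, 3), (173, 3), (180, 1), (187, 3), (189, 3)], 0),
    ([(25, 3), (40, 1), (51, 1), (55, 3), (58, 1), (68, 3), (87, 1), (88, 1), (89, 3), (94, 3), (96, 3), (102, 3), (104, 1), (110, 3), (114, 3), (170, 3), (171, 1), (190, 1), (196, 3), (218, 1), (239, 1), (243, 1)], 0),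
    ([(160, 3)], 0),
    ([(19, 1), (20, 3), (45, 1), (56, 1), (59, 3), (70, 3), (108, 3), (112, 1), (113, 1), (117, 3), (146, 1), (152, 3), (165, 1), (169, 3), (175, 2), (177, 3), (189, 3), (195, 1)], 0),
    ([(19, 1), (20, 3), (41, 1), (45, 1), (56, 1), (59, 3), (70, 3), (90, 1), (91, 3), (108, 3), (112, 1), (113, 1), (117, 3), (144, 3), (146, 1), (152, 3), (162, 1), (165, 1), (168, 1), (169, 3), (175, 2), (177, 3), (182, 3), (189, 3), (195, 1), (244, 3)], 0),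
    ([(11, 2), (13, 2), (18, 2), (20, 2), (31, 2), (43, 2), (45, 2), (61, 1), (62, 3), (71, 3), (77, 1), (79, 1), (83, 1), (84, 3), (103, 2), (106, 2), (107, 2), (116, 1), (130, 3), (132, 1), (137, 2), (146, 2), (152, 2), (155, 1), (174, 1), (175, 2), (178, 1), (189, 3), (192, 2), (194, 1), (221, 3), (226, 1), (228, 2), (231, 1), (232, 2), (234, 3), (238, 1)], 0),
    ([(182, 1)], 0),
    ([(102, 3), (104, 1), (170, 3), (171, 1), (193, 3), (218, 1), (239, 1), (240, 1), (241, 3), (242, 3), (243, 1)], 0),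
    ([(102, 1), (104, 3), (170, 1), (171, 3), (218, 3), (239, 3), (243, 3)], 0),
    ([(183, 1)], 0),
    ([(19, 3), (20, 1), (45, 3), (56, 3), (59, 1), (70, 1), (108, 1), (112, 3), (113, 3), (117, 1), (146, 2), (152, 1), (172, 1), (175, 2), (177, 1), (189, 1)], 0),
    ([(29, 3), (45, 3), (73, 1), (79, 3), (84, 3)], 0),
    ([(11, 3), (13, 1), (18, 3), (20, 1), (31, 1), (43, 1), (45, 1), (61, 3), (62, 1), (71, 1), (77, 3), (79, 3), (83, 3), (84, 1), (103, 3), (106, 3), (107, 1), (116, 3), (130, 1), (132, 3), (137, 2), (146, 1), (152, 1), (155, 3), (174, 3), (175, 3), (178, 3), (189, 1), (192, 1), (221, 1), (228, 3), (231, 3), (232, 1)], 0),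
    ([(7, 3), (10, 1), (42, 1)], 0),
    ([(75, 1)], 0),
    ([(6, 3), (8, 1), (11, 1), (13, 3), (16, 1), (18, 1), (19, 1), (20, 2), (25, 1), (29, 2), (30, 3), (33, 3), (38, 3), (40, 2), (41, 1), (43, 3), (45, 3), (49, 3), (51, 1), (52, 1), (53, 3), (54, 3), (56, 1), (58, 1), (60, 3), (61, 1), (62, 3), (64, 3), (67, 2), (72, 3), (74, 2), (75, 2), (76, 3), (77, 2), (79, 1), (80, 3), (81, 3), (82, 3), (83, 2), (84, 1), (85, 3), (87, 1), (89, 3), (95, 3), (96, 1), (97, 1), (98, 3), (99, 3), (100, 1), (102, 1), (103, 1), (104, 3), (105, 1), (106, 3), (107, 3), (108, 1), (109, 3), (112, 1), (114, 1), (115, 3), (117, 3), (125, 1), (128, 3), (130, 3), (131, 1), (132, 2), (134, 2), (135, 1), (136, 2), (137, 2), (140, 2), (144, 3), (146, 2), (148, 1), (151, 3), (152, 2), (155,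 2), (157, 1), (161, 3), (162, 3), (164, 2), (165, 1), (166, 3), (167, 2), (168, 1), (169, 3), (170, 2), (171, 3), (172, 1), (173, 3), (175, 3), (176, 3), (177, 3), (178, 1), (181, 2), (182, 3), (183, 3), (184, 3), (185, 1), (188, 1), (190, 1), (191, 1), (192, 1), (194, 3), (195, 3), (197, 2), (198, 2), (199, 1), (200, 2), (201, 1), (202, 2), (205, 1), (211, 2), (218, 2), (220, 1), (221, 3), (222, 1), (225, 3), (229, 1), (231, 3), (232, 1), (233, 2), (234, 2), (235, 1), (236, 3), (238, 3), (239, 3), (240, 2), (241, 2), (242, 2), (243, 1), (244, 3), (250, 1), (251, 1), (272, 3), (277, 1), (279, 1), (297, 1), (298, 1), (299, 3)], 1),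
    ([(77, 1)], 0),
    ([(30, 3), (40, 1), (78, 1), (82, 3)], 0),
    ([(79, 1)], 0),
    ([(19, 1), (20, 3), (61, 3), (62, 1), (80, 1), (83, 3), (84, 1), (137, 1), (146, 2), (152, 3), (175, 2), (177, 1), (189, 1)], 0),
    ([(81, 1)], 0),
    ([(82, 1)], 0),
    ([(61, 1), (62, 3), (83, 1), (84, 3), (137, 3), (177, 3), (189, 3)], 0),
    ([(84, 1)], 0),
    ([(11, 3), (13, 1), (18, 3), (19, 2), (20, 3), (25, 3), (29, 3), (30, 1), (31, 1), (40, 1), (43, 1), (45, 1), (51, 1), (52, 3), (53, 1), (54, 1), (56, 3), (58, 1), (60, 1), (61, 1), (62, 3), (68, 3), (71, 3), (74, 2), (75, 2), (76, 1), (77, 3), (79, 2), (80, 1), (81, 1), (82, 1), (83, 1), (84, 1), (87, 1), (88, 1), (93, 3), (95, 3), (96, 1), (97, 3), (98, 3), (99, 3), (100, 3), (102, 3), (103, 3), (104, 1), (105,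 1), (106, 3), (107, 1), (109, 3), (110, 3), (112, 3), (113, 3), (114, 3), (116, 1), (117, 3), (128, 1), (130, 2), (131, 3), (133, 3), (134, 3), (136, 1), (137, 1), (143, 2), (150, 2), (151, 2), (152, 3), (155, 1), (156, 2), (157, 3), (170, 3), (171, 1), (172, 1), (173, 1), (174, 1), (175, 3), (176, 1), (177, 1), (178, 1), (179, 2), (184, 1), (185, 3), (186, 3), (187, 1), (188, 3), (189, 3), (190, 1), (191, 1), (192, 1), (196, 3), (202, 3), (218, 1), (221, 2), (222, 3), (226, 3), (227, 1), (228, 2), (229, 3), (231, 3), (232, 1), (233, 1), (235, 3), (236, 1), (239, 1), (243, 1)], 0),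
    ([(58, 1), (88, 1), (176, 3)], 0),
    ([(40, 3), (51, 3), (55, 1), (58, 3), (68, 1), (88, 3), (89, 1), (93, 3), (96, 1), (110, 1), (114, 1), (190, 3), (196, 1)], 0),
    ([(19, 3), (20, 1), (41, 3), (45, 3), (56, 3), (59, 1), (70, 1), (108, 1), (112, 3), (113, 3), (117, 1), (144, 1), (146, 3), (152, 1), (162, 3), (165, 3), (169, 1), (175, 2), (177, 1), (189, 1), (195, 3), (244, 1)], 0),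
    ([(99, 3), (190, 1)], 0),
    ([(14, 3), (16, 1), (44, 1), (91, 1)], 0),
    ([(92, 1), (199, 3)], 0),
    ([(86, 3)], 0),
    ([(93, 1), (200, 3)], 0),
    ([(51, 1), (55, 3), (58, 1), (68, 3), (88, 1), (94, 1), (96, 3), (105, 1), (110, 3), (114, 3), (190, 1), (196, 3)], 0),
    ([(191, 1)], 0),
    ([(99, 1)], 0),
    ([(184, 3)], 0),
    ([(31, 3), (232, 3), (236, 1), (241, 3)], 0),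
    ([(237, 1)], 0),
    ([(11, 3), (13, 1), (18, 3), (20, 1), (43, 1), (45, 1), (103, 3), (106, 3), (107, 1), (146, 1), (152, 1), (175, 3), (192, 1)], 0),
    ([(239, 1)], 0),
    ([(11, 3), (13, 1), (18, 3), (20, 1), (31, 2), (43, 1), (45, 1), (61, 3), (62, 1), (71, 1), (77, 3), (79, 3), (83, 3), (84, 1), (103, 3), (106, 3), (107, 1), (116, 3), (130, 1), (132, 3), (137, 2), (146, 1), (152, 1), (155, 3), (174, 3), (175, 3), (178, 3), (189, 1), (192, 1), (194, 3), (221, 1), (226, 3), (228, 2), (231, 3), (232, 2), (234, 1)], 0),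
    ([(193, 1)], 0),
    ([(241, 1)], 0),
    ([(242, 1)], 0),
    ([(194, 1)], 0),
    ([(11, 1), (13, 3), (18, 1), (20, 3), (43, 3), (45, 3), (103, 1), (106, 1), (107, 3), (146, 3), (152, 3), (175, 1)], 0),
    ([(55, 3), (62, 3), (77, 3), (84, 3), (174, 1), (185, 1)], 0),
    ([(19, 3), (20, 1), (31, 3), (45, 3), (51, 1), (55, 2), (56, 3), (58, 1), (59, 1), (62, 3), (68, 3), (70, 1), (77, 3), (84, 3), (88, 1), (95, 3), (100, 1), (105, 1), (108, 1), (110, 3), (112, 3), (113, 3), (114, 3), (117, 1), (133, 3), (134, 1), (135, 1), (136, 3), (143, 1), (146, 2), (150, 3), (151, 3), (152, 1), (156, 1), (172, 1), (174, 1), (175, 2), (177, 1), (179, 1), (185, 1), (186, 1), (189, 1), (190, 1), (191, 1), (196, 3), (200, 3), (202, 1), (228, 1), (232, 3)], 0),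
    ([(55, 1), (71, 1), (174, 3)], 0),
    ([(19, 1), (20, 3), (45, 1), (56, 1), (59, 3), (70, 3), (112, 1), (114, 1), (117, 3), (146, 2), (152, 3), (175, 2), (177, 3), (189, 3)], 0),
    ([(187, 1)], 0),
    ([(58, 1), (176, 3)], 0),
    ([(188, 1)], 0),
    ([(55, 1), (62, 1), (77, 1), (84, 1), (100, 3), (174, 3), (185, 3)], 0),
    ([(189, 1)], 0),
    ([(62, 1), (71, 3)], 0),
    ([(243, 1)], 0),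
    ([(11, 1), (13, 3), (18, 1), (19, 1), (20, 2), (31, 1), (43, 3), (51, 3), (55, 1), (56, 1), (58, 3), (59, 3), (68, 1), (70, 3), (88, 3), (95, 1), (103, 2), (105, 3), (107, 1), (108, 3), (109, 3), (110, 1), (112, 1), (113, 1), (114, 1), (117, 3), (133, 1), (134, 3), (135, 3), (136, 1), (143, 3), (146, 1), (150, 1), (151, 1), (152, 2), (156, 3), (172, 3), (175, 3), (177, 3), (179, 3), (189, 3), (190, 3), (191, 3), (196, 1), (197, 1), (198, 3), (200, 1), (202, 3), (228, 3), (232, 1)], 0),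
    ([(78, 3), (82, 1), (97, 1), (104, 1)], 0),
    ([(29, 1), (31, 1), (52, 1), (53, 3), (60, 3), (61, 1), (62, 3), (71, 3), (74, 1), (75, 3), (77, 1), (79, 1), (82, 3), (83, 1), (84, 3), (116, 2), (128, 3), (130, 3), (132, 3), (135, 3), (136, 1), (137, 2), (155, 2), (173, 3), (174, 1), (178, 2), (184, 3), (187, 3), (189, 3), (221, 3), (227, 3)], 0),
    ([(51, 3), (55, 1), (58, 3), (68, 1), (88, 3), (96, 1), (110, 1), (114, 1), (190, 3), (196, 1)], 0),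
    ([(11, 1), (13, 3), (18, 1), (19, 2), (20, 1), (29, 1), (30, 3), (31, 2), (43, 3), (45, 3), (52, 1), (53, 3), (54, 3), (55, 3), (56, 1), (60, 3), (61, 3), (62, 1), (71, 1), (74, 2), (75, 2), (76, 3), (77, 1), (79, 2), (80, 3), (81, 3), (82, 3), (83, 3), (84, 3), (89, 3), (93, 1), (94, 3), (95, 1), (96, 2), (97, 1), (98, 1), (99, 1), (100, 1), (103, 1), (105, 3), (106, 1), (107, 3), (109, 1), (112, 1), (113, 1), (116, 3), (117, 1), (128, 3), (130, 2), (131, 1), (133, 1), (134, 1), (136, 3), (137, 3), (143, 2), (150, 2), (151, 2), (152, 1), (155, 3), (156, 2), (157, 1), (172, 3), (173, 3), (174, 3), (175, 1), (176, 3), (177, 3), (178, 3), (179, 2), (184, 3), (185, 1), (186, 1), (187, 3), (188, 1), (189, 1), (191, 3), (192, 3), (202, 1), (221, 2), (222, 1), (226, 1),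 (227, 3), (228, 2), (229, 1), (231, 1), (232, 2), (233, 3)], 0),
    ([(101, 3)], 0),
    ([(11, 3), (13, 1), (18, 3), (19, 3), (20, 2), (31, 3), (43, 1), (51, 1), (55, 3), (56, 3), (58, 1), (59, 1), (68, 3), (70, 1), (88, 1), (95, 3), (103, 3), (105, 1), (108, 1), (110, 3), (112, 3), (113, 3), (114, 3), (117, 1), (133, 3), (134, 1), (135, 1), (136, 3), (143, 1), (146, 3), (150, 3), (151, 3), (152, 2), (156, 1), (172, 1), (175, 1), (177, 1), (179, 1), (189, 1), (190, 1), (191, 1), (196, 3), (200, 3), (202, 1), (228, 1), (232, 3)], 0),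
    ([(109, 1)], 0),
    ([(19, 3), (20, 1), (45, 3), (56, 3), (59, 1), (70, 1), (108, 1), (112, 3), (113, 3), (117, 1), (146, 2), (152, 1), (175, 2), (177, 1), (189, 1), (195, 3)], 0),
    ([(11, 1), (13, 3), (18, 1), (19, 1), (20, 2), (30, 3), (31, 1), (33, 1), (38, 1), (40, 3), (41, 2), (43, 3), (45, 2), (49, 1), (51, 1), (52, 1), (53, 3), (54, 3), (58, 1), (59, 1), (60, 3), (61, 1), (62, 3), (67, 3), (68, 2), (70, 1), (71, 3), (72, 1), (74, 2), (75, 2), (76, 3), (77, 2), (79, 2), (80, 2), (81, 2), (82, 3), (85, 1), (87, 3), (88, 2), (90, 3), (91, 1), (93, 1), (95, 3), (97, 1), (98, 1), (100, 1), (102, 3), (103, 2), (104, 1), (105, 1), (106, 3), (107, 3), (108, 1), (110, 2), (114, 2), (115, 2), (117, 2), (125, 3), (128, 3), (130, 3), (131, 1), (133, 2), (135, 3), (137,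 2), (144, 2), (146, 2), (152, 2), (155, 2), (157, 1), (158, 1), (161, 1), (162, 3), (164, 1), (165, 1), (166, 1), (167, 2), (168, 2), (170, 2), (171, 1), (173, 3), (174, 1), (175, 3), (176, 2), (177, 3), (178, 3), (182, 2), (183, 1), (184, 3), (185, 1), (186, 2), (187, 2), (188, 1), (189, 3), (190, 1), (191, 1), (192, 1), (193, 1), (194, 1), (195, 1), (196, 2), (197, 2), (198, 2), (199, 3), (200, 3), (201, 3), (211, 3), (218, 2), (221, 1), (222, 2), (225, 1), (226, 1), (227, 2), (228, 3), (229, 1), (231, 2), (234, 3), (235, 3), (236, 1), (238, 1), (239, 1), (240, 2), (241, 2), (242, 2), (243, 3), (244, 2), (250, 3), (251, 3)], 0),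
    ([(11, 2), (13, 2), (18, 2), (20, 2), (31, 2), (43, 2), (45, 2), (61, 3), (62, 1), (71, 1), (77, 3), (79, 3), (83, 3), (84, 1), (103, 2), (106, 2), (107, 2), (116, 3), (130, 1), (132, 3), (137, 2), (146, 2), (152, 2), (155, 3), (167, 1), (174, 3), (175, 2), (178, 3), (189, 1), (192, 2), (194, 3), (221, 1), (226, 3), (228, 2), (231, 3), (232, 2), (234, 1), (238, 3)], 0),
    ([(168, 1), (182, 3)], 0),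
    ([(102, 1), (104, 3), (169, 1), (170, 1), (171, 3), (193, 1), (218, 3), (239, 3), (240, 3), (241, 1), (242, 1), (243, 3)], 0),
    ([(102, 3), (104, 1), (239, 1), (243, 1)], 0),
    ([(171, 1), (183, 3)], 0),
    ([(19, 1), (20, 3), (45, 1), (56, 1), (59, 3), (70, 3), (108, 3), (112, 1), (113, 1), (117, 3), (146, 2), (152, 3), (175, 2), (177, 3), (189, 3)], 0),
    ([(110, 3)], 0),
    ([(116, 1), (130, 3), (132, 1), (137, 3), (155, 1), (178, 1)], 0),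
    ([(51, 1), (55, 3), (58, 1), (68, 3), (88, 1), (99, 3), (190, 1)], 0),
    ([(117, 1), (165, 3), (169, 1), (172, 3), (181, 1), (195, 3)], 0),
    ([(11, 1), (13, 3), (18, 1), (19, 1), (20, 2), (31, 1), (43, 3), (51, 3), (55, 1), (56, 1), (58, 3), (59, 3), (68, 1), (70, 3), (88, 3), (95, 1), (103, 1), (105, 3), (107, 1), (108, 3), (109, 3), (110, 1), (112, 1), (113, 1), (114, 1), (117, 3), (133, 1), (134, 3), (135, 3), (136, 1), (143, 3), (146, 1), (150, 1), (151, 1), (152, 2), (156, 3), (172, 3), (175, 3), (177, 3), (179, 3), (189, 3), (190, 3), (191, 3), (196, 1), (197, 1), (198, 3), (200, 1), (202, 3), (228, 3), (232, 1)], 0),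
    ([(19, 3), (20, 1), (146, 2), (152, 1), (175, 2), (198, 1)], 0),
    ([(115, 1)], 0),
    ([(111, 1)], 0),
    ([(14, 3), (16, 1), (44, 1)], 0),
    ([(112, 1)], 0),
    ([(78, 3), (82, 1), (97, 1)], 0),
    ([(19, 3), (20, 1), (45, 3), (56, 3), (59, 1), (70, 1), (108, 1), (112, 3), (114, 3), (117, 1), (146, 2), (152, 1), (175, 2), (177, 1), (189, 1)], 0),
    ([(114, 1)], 0),
    ([(199, 3)], 0),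
    ([(215, 3), (217, 1), (230, 1)], 0),
    ([(29, 1), (31, 1), (52, 1), (57, 3), (61, 1), (62, 3), (69, 3), (71, 3), (74, 1), (75, 3), (77, 1), (79, 1), (82, 3), (83, 1), (84, 3), (100, 1), (116, 2), (128, 3), (130, 3), (132, 3), (135, 3), (136, 1), (137, 2), (155, 2), (173, 3), (174, 1), (178, 2), (184, 3), (187, 3), (189, 3), (221, 3), (227, 3)], 0),
    ([(201, 1)], 0),
    ([(116, 1)], 0),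
    ([(200, 1)], 0),
    ([(51, 3), (55, 1), (58, 3), (68, 1), (88, 3), (96, 1), (105, 3), (110, 1), (114, 1), (190, 3), (196, 1)], 0),
    ([(19, 1), (20, 3), (45, 1), (56, 1), (59, 3), (70, 3), (95, 1), (96, 3), (108, 3), (112, 1), (113, 1), (117, 3), (146, 2), (152, 3), (172, 3), (175, 2), (177, 3), (189, 3), (191, 3)], 0),
    ([(96, 1), (99, 3)], 0),
    ([(11, 1), (13, 3), (18, 1), (19, 2), (20, 1), (29, 1), (30, 3), (31, 2), (43, 3), (45, 3), (52, 1), (53, 3), (54, 3), (55, 3), (56, 1), (60, 3), (61, 3), (62, 1), (71, 1), (74, 2), (75, 2), (76, 3), (77, 1), (79, 2), (80, 3), (81, 3), (82, 3), (83, 3), (84, 3), (95, 1), (96, 2), (97, 1), (99, 1), (100, 1), (103, 1), (106, 1), (107, 3), (109, 1), (112, 1), (113, 1), (116, 3), (117, 1), (128, 3), (130, 2), (131, 1),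 (133, 1), (134, 1), (136, 3), (137, 3), (143, 2), (150, 2), (151, 2), (152, 1), (155, 3), (156, 2), (157, 1), (172, 3), (173, 3), (174, 3), (175, 1), (176, 3), (177, 3), (178, 3), (179, 2), (184, 3), (185, 1), (186, 1), (187, 3), (188, 1), (189, 1), (191, 3), (192, 3), (202, 1), (221, 2), (222, 1), (226, 1), (227, 3), (228, 2), (229, 1), (231, 1), (232, 2), (233, 3)], 0),
    ([(202, 1)], 0),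
    ([(117, 1)], 0),
    ([(19, 1), (20, 3), (31, 1), (45, 1), (51, 3), (55, 1), (56, 1), (58, 3), (59, 3), (68, 1), (70, 3), (88, 3), (95, 1), (105, 3), (108, 3), (110, 1), (112, 1), (113, 1), (114, 1), (117, 3), (133, 1), (134, 3), (135, 3), (136, 1), (143, 3), (146, 2), (150, 1), (151, 1), (152, 3), (156, 3), (172, 3), (175, 2), (177, 3), (179, 3), (189, 3), (190, 3), (191, 3), (196, 1), (200, 1), (202, 3), (228, 3), (232, 1)], 0),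
    ([(107, 1), (109, 3)], 0),
    ([(19, 3), (20, 1), (146, 2), (152, 1), (175, 2)], 0)]
  tau := [0, 0, 0, 0, 0, 0, 0, 0, 0, 0, 0, 0, 0, 0, 0, 0, 0, 0, 0, 0, 0, 0, 0, 0, 0, 0, 0, 0, 0, 0, 0, 0, 0, 0, 0, 0, 0, 0, 0, 0, 0, 0, 0, 0, 0, 0, 0, 0, 0, 0, 0, 0, 0, 0, 0, 0, 0, 0, 0, 0, 0, 0, 0, 0, 0, 0, 0, 0, 0, 0, 0, 0, 0, 0, 0, 0, 0, 0, 0, 0, 0, 0, 0, 0, 0, 0, 0, 0, 0, 0, 0, 0, 0, 0, 0, 0, 0, 0, 0, 0, 0, 0, 0, 0, 0, 0, 0, 0, 0, 0, 0, 0, 0, 0, 0, 0, 0, 0, 0, 0, 0, 0, 0, 0, 0, 0, 0, 0, 0, 0, 0, 0, 0, 0, 0, 0, 0, 0, 0, 0, 0, 0, 0, 0, 0, 0, 0, 0, 0, 0, 0, 0, 0, 0, 0, 0, 0, 0, 0, 0, 0, 0, 0, 0, 0, 0, 0, 0, 0, 0, 0, 0, 0, 0, 0, 0, 0, 0, 0, 0, 0, 0, 0, 0, 0, 0, 0, 0, 0, 0, 0, 0, 0, 0, 0, 1, 0, 0, 0, 0, 0, 0, 0, 0, 0, 0, 0, 0, 0, 0, 0, 0, 0, 0, 0, 0, 0, 0, 0, 0, 0, 0, 3, 0, 0, 0, 0,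 0, 0, 0, 0, 0, 0, 0, 0, 0, 0, 0, 0, 0, 0, 0, 0, 0, 0, 0, 0, 0, 3, 0, 0, 0, 0, 0, 0, 0, 0, 0, 0, 0, 0, 0, 0, 0, 0, 0, 0, 0, 0, 0, 0, 0, 0, 0, 0, 0, 0, 0, 0, 0, 0, 0, 0, 0, 0, 0, 0, 0, 0, 0, 0, 0, 0, 0, 0, 0, 0, 0, 0, 0, 0, 0, 0, 0, 0, 0, 0, 0, 0, 0, 0, 0, 0, 0, 0, 0, 0, 0, 0, 3, 0, 0, 0, 0, 0, 0, 0, 0, 0, 0, 0, 0, 0, 0, 0, 0, 0, 0, 0, 0, 0, 0, 0, 0, 0, 0, 0, 0, 0, 0, 0, 0, 0, 0, 0, 0, 0, 0, 0, 0, 0, 0, 0, 0, 0, 0, 0, 0, 0, 0, 0, 0, 0, 0, 0, 0, 0, 0, 0, 0, 0, 0, 0, 0, 0, 0, 0, 0, 0, 0, 0, 3]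
  tauCombo := [(3, 3), (6, 2), (8, 2), (14, 1), (16, 1), (19, 2), (20, 2), (25, 3), (28, 3), (29, 2), (30, 1), (32, 1), (33, 3), (34, 1), (38, 3), (40, 1), (44, 3), (45, 2), (49, 3), (51, 3), (52, 2), (53, 2), (54, 1), (55, 2), (56, 2), (59, 1), (60, 2), (62, 3), (64, 3), (66, 1), (67, 1), (68, 2), (70, 1), (71, 2), (72, 3), (73, 1), (74, 1), (75, 3), (76, 1), (77, 1), (79, 3), (80, 3), (81, 3), (82, 2), (83, 1), (84, 2), (85, 3), (87, 3), (88, 3), (89, 3), (93, 2), (94, 1), (95, 1), (96, 1), (97, 3), (100, 3), (101, 1), (102, 3), (103, 1), (104, 1), (105, 3), (106, 2), (109, 2), (110, 1), (112, 2), (113, 3), (115, 2), (117, 3), (125, 1), (128, 1), (130, 1), (131, 3), (133, 2), (135, 2), (136, 3), (137, 1), (140, 3), (142, 3), (143, 1), (146, 1), (148, 3), (150, 3), (151,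 1), (152, 2), (155, 2), (157, 3), (158, 2), (161, 3), (162, 1), (164, 3), (165, 2), (166, 2), (167, 2), (168, 1), (169, 2), (170, 1), (172, 1), (174, 3), (176, 2), (178, 1), (180, 1), (181, 3), (183, 3), (184, 2), (186, 2), (187, 2), (188, 3), (189, 1), (190, 2), (191, 3), (192, 2), (193, 1), (194, 3), (195, 3), (196, 2), (197, 2), (198, 2), (199, 1), (200, 3), (201, 1), (203, 3), (205, 2), (211, 3), (212, 1), (218, 3), (219, 3), (220, 2), (221, 3), (222, 1), (227, 2), (229, 3), (231, 1), (233, 1), (234, 3), (238, 3), (239, 1), (240, 1), (241, 3), (242, 3), (243, 1), (250, 1), (251, 1), (268, 1), (272, 2), (277, 2), (278, 2), (279, 2), (297, 2), (298, 2), (299, 2)]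

/-- The equations. -/
def twoFourTwoEqs : List (List ℕ) := [
  [0,0,0,0,0,0,0,3,0,0,3,0,0,0,0,0,0,0,0,0,0,0,0,0,0,0,0,0,3,0,0,3,0,0,0,0,0,0,0,0,0,0,0,0,0,0,0,0,0,0,0,0,0,0,0,0,0,0,0,0,0,0,0,0,0,0,0,0,0,0,3,0,0,0,0,0,0,0,0,0,0,0,0,0,0,0,0,0,0,0,0,0,0,0,0,0,0,0,0,0,0,0,0,0,0,0,0,0,0,0,1,0,0,1,0,0,0,0,0,0,0,0,0,0,0,0,0,0,0,0,3,0,0,3,0,0,0,0,0,0,0,0,0,0,0,0,0,0,0,0,0,0,0,0,0,0,0,0,0,0,0,0,0,0,0,0,3,0,0,0,0,0,0,0,0,0,0,0,0,0,0,3,0,0,3,0,0,0,0,0,0,0,0,0,0,0,0,0,0,0,0,0,0,0,0,0,0,0,0,0,0,3],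
  [0,0,0,0,0,0,0,0,0,0,0,0,0,0,0,0,0,0,0,0,0,0,0,0,0,0,0,0,0,0,0,0,0,0,0,0,0,0,0,0,0,0,0,0,0,0,0,0,0,0,0,0,0,0,0,0,0,0,0,0,0,0,0,0,0,0,0,0,0,0,0,0,0,0,0,0,0,0,0,0,0,0,0,0,0,0,0,0,0,0,3],
  [0,0,0,0,0,0,0,0,0,0,0,0,0,0,0,0,0,0,0,0,0,0,0,0,0,0,0,0,0,0,0,0,0,0,0,0,0,0,0,0,0,0,0,0,0,0,0,0,0,0,0,0,1,0,0,0,0,0,1,0,0,0,0,0,0,0,0,0,0,0,0,0,0,0,0,0,0,0,0,0,0,0,0,0,0,0,0,0,0,0,0,0,0,0,0,0,0,0,0,0,0,0,0,0,0,0,0,0,0,0,1,0,1,0,0,0,0,0,1],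
  [0,0,0,0,0,0,0,0,0,0,0,0,0,0,0,0,0,0,0,0,0,0,0,0,0,0,0,0,0,0,0,0,3,0,0,0,0,0,3,0,0,0,0,0,0,0,0,0,0,0,0,0,0,0,0,0,0,0,0,0,0,0,0,0,0,0,0,0,0,0,0,0,0,0,0,0,0,0,0,0,0,0,0,0,0,0,0,0,0,0,0,0,0,0,0,0,0,0,0,0,0,0,0,0,0,0,0,0,0,0,0,1,0,0,1,0,0,0,0,0,1,0,0,0,0,0,0,0,0,0,0,0,0,0,0,0,0,0,0,0,0,0,0,0,0,0,0,0,0,0,0,0,0,0,0,0,0,0,0,0,0,0,0,0,0,0,0,0,0,0,0,0,0,0,0,0,0,0,0,0,0,0,0,0,0,0,0,0,0,0,0,0,0,0,0,0,1,0,0,0,0,0,1,0,0,0,0,0,0,0,0,0,0,0,0,0,0,0,0,0,0,0,0,0,0,0,0,0,0,0,0,0,0,0,0,0,0,0,0,0,0,0,0,0,0,0,0,0,0,0,0,0,0,0,0,0,0,0,0,0,0,0,0,0,0,1,0,3,0,0,0,0,0,0,0,0,0,0,0,0,3],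
  [0,0,0,0,0,0,0,0,0,0,0,0,0,0,0,0,0,0,0,0,0,0,0,0,0,0,0,0,0,0,0,0,0,0,0,0,0,0,0,0,0,0,0,0,0,0,0,0,0,0,0,0,0,0,0,0,0,0,0,0,0,0,0,0,0,0,0,0,0,0,0,0,0,0,0,0,0,0,0,0,0,0,0,0,0,0,0,0,0,0,0,0,0,0,0,0,0,0,0,0,0,0,0,0,0,0,0,0,0,0,0,0,1],
  [0,0,0,0,0,0,0,0,0,0,0,0,0,1,0,0,0,0,0,0,0,0,0,0,0,0,0,0,0,0,0,0,0,0,0,0,0,0,0,0,0,0,0,0,0,0,0,0,0,0,0,0,0,0,0,1,0,0,0,0,0,0,0,0,0,0,0,0,0,0,0,0,0,0,0,0,0,0,0,0,0,0,0,0,0,0,0,0,0,0,0,0,0,0,0,0,0,0,0,0,0,0,0,0,0,0,0,0,0,0,0,0,0,1,0,1,0,0,1,0,0,0,0,0,0,0,0,0,0,0,0,0,0,0,0,0,0,0,0,0,0,0,0,0,0,0,0,0,0,0,0,0,0,0,0,0,0,0,0,0,0,0,0,0,0,0,0,0,0,0,0,0,0,0,0,0,0,0,0,0,0,0,0,0,0,0,0,0,0,0,0,0,0,0,0,0,0,0,0,0,0,0,0,0,0,0,0,0,0,0,0,1],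
  [0,0,0,0,0,0,0,0,0,0,0,0,0,0,0,0,0,0,0,0,0,0,0,0,0,0,0,0,0,0,0,0,0,0,0,0,0,0,0,0,0,0,0,0,0,0,0,0,0,0,0,0,0,0,0,0,1,0,0,0,0,0,0,0,1,0,0,0,0,0,0,0,0,0,0,0,0,0,0,0,0,0,0,0,0,0,0,0,0,0,0,0,0,0,0,0,0,0,0,0,0,0,0,0,0,0,0,0,0,0,0,0,0,0,1,0,1,0,0,0,0,0,0,0,1],
  [0,0,0,0,0,0,0,0,0,0,0,0,0,0,0,0,0,0,0,0,0,0,0,0,0,0,0,0,0,0,0,0,0,0,0,0,3,0,0,0,0,0,0,0,0,0,0,0,0,0,0,0,0,0,0,0,0,0,0,0,0,0,0,0,0,0,0,0,0,0,0,0,0,0,0,0,0,0,0,0,0,0,0,0,0,0,0,0,0,0,0,0,0,0,0,0,0,0,0,0,0,0,0,0,0,0,0,0,0,0,0,0,0,0,0,1,0,0,1],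
  [0,0,0,0,0,0,0,0,0,0,0,0,0,0,0,0,0,0,0,0,0,0,0,0,0,0,0,0,0,0,0,0,0,0,0,0,0,0,0,0,0,0,0,0,0,0,0,0,0,0,0,0,0,0,0,0,0,0,0,0,0,0,0,0,0,0,0,0,0,0,0,0,0,0,0,0,0,0,0,0,0,0,0,0,0,0,0,0,0,0,0,0,0,0,0,0,0,0,0,0,0,0,0,0,0,0,0,0,0,0,0,0,0,0,0,0,1],
  [0,0,0,0,0,0,0,0,0,0,0,0,0,0,0,0,1,0,0,0,0,0,1,1,0,0,0,0,0,0,0,0,0,0,0,0,0,0,0,0,0,0,0,0,0,0,0,0,0,0,0,0,0,0,0,0,0,0,0,1,0,0,0,0,0,0,1,0,0,0,0,0,0,0,0,0,0,0,0,0,0,0,0,0,0,0,0,0,0,0,0,0,0,0,0,0,0,0,0,0,0,0,0,0,0,0,0,0,0,0,0,0,0,0,0,0,0,1,0,1,0,1,0,0,0,0,1,1,1,0,0,0,0,0,0,0,0,0,0,0,0,0,0,0,0,0,0,0,0,0,0,0,0,0,0,0,0,0,0,0,0,0,0,0,0,0,0,0,0,0,0,0,0,0,0,0,0,0,0,0,0,0,0,0,0,0,0,0,0,0,0,0,0,0,0,0,0,0,0,0,0,0,0,0,0,0,0,0,0,0,0,0,0,0,0,0,0,0,0,0,0,0,0,0,0,0,0,0,0,0,0,0,0,0,0,0,0,0,0,0,0,0,0,0,0,0,0,0,0,0,0,0,0,0,0,0,1,0,0,0,0,0,1,0,0,0,0,0,0,0,0,0,0,0,0,0,0,1,0,0,0,0,0,0,0,0,0,0,0,0,0,0,0,0,0,0,0,1,1,2],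
  [0,0,0,0,0,0,0,0,0,0,0,0,0,0,0,0,0,0,0,0,0,0,0,0,0,0,0,0,0,0,0,0,0,0,0,0,0,0,0,0,0,0,0,0,0,0,0,0,0,0,0,0,0,0,0,0,0,0,0,0,0,0,0,0,0,0,0,0,0,0,0,0,0,0,0,0,0,0,0,0,0,0,0,0,0,0,0,0,0,0,0,0,0,0,0,0,0,0,0,0,0,0,0,0,0,0,0,0,0,0,0,0,0,0,0,0,0,0,1],
  [0,0,0,0,0,0,0,0,0,0,0,0,0,0,0,0,0,0,0,0,0,0,0,0,0,0,0,0,0,0,0,0,0,0,0,0,0,0,0,3,0,0,0,0,0,0,3,0,0,0,0,0,0,0,0,0,0,0,0,0,0,0,0,0,0,0,0,0,0,0,0,0,0,0,0,0,0,0,0,0,0,0,0,0,0,0,0,0,0,0,0,0,0,0,0,0,0,0,0,0,0,0,0,0,0,0,0,0,0,0,0,0,0,0,0,0,0,0,0,1,0,1,0,0,0,0,0,0,1],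
  [0,0,0,0,0,0,0,0,0,0,0,0,0,0,0,0,0,0,0,1,0,0,0,0,0,0,0,0,0,0,0,0,0,0,0,0,0,0,0,0,0,0,0,0,0,0,0,0,0,0,0,0,0,0,0,0,0,0,0,0,0,0,1,0,0,0,0,0,0,0,0,0,0,0,0,0,0,0,0,0,0,0,0,0,0,0,0,0,0,0,0,0,0,0,0,0,0,0,0,0,0,0,0,0,0,0,0,0,0,0,0,0,0,0,0,0,0,0,0,0,1,0,1,0,1,0,0,0,0,0,0,0,0,0,0,0,0,0,0,0,0,0,0,0,0,0,0,0,0,0,0,0,0,0,0,0,0,0,0,0,0,0,0,0,0,0,0,0,0,0,0,0,0,0,0,0,0,0,0,0,0,0,0,0,0,0,0,0,0,0,0,0,0,0,0,0,0,0,0,0,0,0,0,0,0,0,0,0,0,0,0,0,0,0,0,0,0,0,0,0,0,0,0,0,0,0,0,0,0,0,0,0,0,0,0,0,0,0,0,0,0,0,0,0,0,0,0,0,0,0,0,0,0,0,0,0,0,0,0,0,0,0,0,0,0,0,0,0,0,0,0,0,0,0,0,0,0,0,0,0,1],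
  [0,0,0,0,0,0,0,0,0,0,0,0,0,0,0,0,0,0,0,0,0,0,0,0,0,0,0,0,0,0,0,0,0,0,0,0,0,0,0,0,0,0,0,0,0,0,0,0,0,0,0,0,0,0,0,0,0,0,0,0,0,0,0,0,0,0,0,0,0,0,0,0,0,0,0,0,0,0,0,0,0,0,0,0,0,0,0,0,0,0,0,0,0,0,0,0,0,0,0,0,0,0,0,0,0,0,0,0,0,0,0,0,0,0,0,0,0,0,0,0,0,1],
  [0,0,0,0,0,0,0,0,0,0,0,0,0,0,0,0,0,0,0,0,0,0,0,0,0,0,0,0,0,0,0,0,0,0,0,0,0,0,0,0,0,0,3,0,0,0,0,0,0,0,0,0,0,0,0,0,0,0,0,0,0,0,0,0,0,0,0,0,0,0,0,0,0,0,0,0,0,0,0,0,0,0,0,0,0,0,0,0,0,0,0,0,0,0,0,0,0,0,0,0,0,0,0,0,0,0,0,0,0,0,0,0,0,0,0,0,0,0,0,0,0,0,1,0,1],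
  [0,0,0,0,0,0,0,0,0,0,0,0,0,0,0,0,0,0,0,0,0,0,0,0,0,0,0,0,0,0,0,0,0,0,0,0,0,0,0,0,0,0,0,0,0,0,0,0,0,0,0,0,0,0,0,0,0,0,0,0,0,0,0,0,0,0,0,0,0,0,0,0,0,0,0,0,0,0,0,0,0,0,0,0,0,0,0,0,0,0,0,0,0,0,0,0,0,0,0,0,0,0,0,0,0,0,0,0,0,0,0,0,0,0,0,0,0,0,0,0,0,0,0,1],
  [0,0,0,0,0,0,0,0,0,0,0,0,0,0,0,0,0,0,0,0,0,0,0,0,0,0,0,0,0,0,0,0,0,0,0,0,0,0,0,0,0,0,0,0,0,0,0,0,0,0,0,0,0,0,0,0,0,0,0,0,0,0,0,0,0,0,0,0,0,0,0,0,0,0,0,0,0,0,0,0,0,0,0,0,0,0,0,0,0,0,0,0,0,0,0,0,0,0,0,0,0,0,0,0,0,0,0,0,0,0,0,0,0,0,0,0,0,0,0,0,0,0,0,0,1],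
  [0,0,0,0,0,0,0,0,0,0,0,0,0,0,0,0,0,0,0,0,0,0,0,0,0,0,0,0,0,0,0,0,0,0,0,0,0,0,0,0,0,0,0,0,0,0,0,0,0,0,0,0,0,0,0,0,0,0,0,0,0,0,0,0,0,0,0,0,0,0,0,0,0,0,0,0,0,0,0,0,0,0,0,0,0,0,0,0,0,0,0,0,0,0,0,0,0,0,0,0,0,0,0,0,0,0,0,0,0,0,0,0,0,0,0,0,0,0,0,0,0,0,0,0,0,1],
  [0,0,0,0,0,0,0,0,0,0,0,0,0,0,0,0,0,0,0,0,0,0,0,0,0,0,0,0,0,0,0,0,0,0,0,0,0,0,0,0,0,0,0,0,0,3,0,0,0,0,0,0,0,0,0,0,0,0,0,0,0,0,0,0,0,0,0,0,0,0,0,0,0,0,0,0,0,0,0,0,0,0,0,0,0,0,0,0,0,0,0,0,0,0,0,0,0,0,0,0,0,0,0,0,0,0,0,0,0,0,0,0,0,0,0,0,0,0,0,0,0,0,0,0,0,0,1,1,0,0,0,0,0,0,0,0,0,0,0,0,0,0,0,0,0,0,0,0,0,0,0,0,0,0,0,0,0,0,0,0,0,0,0,0,0,0,0,0,0,0,0,0,0,0,0,0,0,0,0,0,0,0,0,0,0,0,0,0,0,0,0,0,0,0,0,0,0,0,0,0,0,0,0,0,0,0,0,0,0,0,0,0,0,0,0,0,0,0,0,0,0,0,0,0,0,0,0,0,0,0,0,0,0,0,0,0,0,0,0,0,0,0,0,0,0,0,0,0,0,0,0,0,0,0,0,0,0,0,0,0,0,0,0,0,0,0,0,0,0,0,0,0,0,0,0,0,0,0,0,0,0,0,0,0,0,0,0,0,0,0,0,0,0,0,0,0,0,0,0,1],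
  [0,0,0,0,0,0,0,0,0,0,0,0,0,0,0,0,0,0,0,0,0,0,0,0,0,0,0,0,0,0,0,0,0,0,0,0,0,0,0,0,0,0,0,0,0,0,0,0,0,0,0,0,0,0,0,0,0,0,0,0,0,0,0,0,0,0,0,0,1,0,0,0,0,0,0,0,0,0,0,0,0,0,0,0,0,0,0,0,0,0,0,0,0,0,0,0,0,0,0,0,0,0,0,0,0,0,0,0,0,0,0,0,0,0,0,0,0,0,0,0,0,0,0,0,0,0,0,1,1],
  [0,0,0,0,0,0,0,0,0,0,0,0,0,0,0,0,0,0,0,0,0,0,0,0,0,0,0,0,0,0,0,0,0,0,0,0,0,0,0,0,0,0,0,0,0,0,0,0,0,0,0,0,0,0,0,0,0,0,0,0,0,0,0,0,0,0,0,0,0,0,0,0,0,0,0,0,0,0,0,0,0,0,0,0,0,0,0,0,0,0,0,0,0,0,0,0,0,0,0,0,0,0,0,0,0,0,0,0,0,0,0,0,0,0,0,0,0,0,0,0,0,0,0,0,0,0,0,0,1],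
  [0,0,0,0,0,0,0,0,0,0,0,0,0,0,0,0,0,0,0,0,0,0,0,0,0,0,0,0,0,3,0,0,0,0,0,0,0,0,0,0,0,0,0,0,0,0,0,0,0,0,0,0,0,0,0,0,0,0,0,0,0,0,0,0,0,0,0,0,0,0],
  [0,0,0,0,0,0,0,0,0,0,0,0,0,0,0,0,0,0,0,0,0,0,0,0,0,0,0,0,0,0,3,0,0,3,0,0,0,0,0,0,0,0,0,0,0,0,0,0,0,0,0,0,0,0,0,0,0,0,0,0,0,0,0,0,0,0,0,0,0,0,0],
  [0,0,0,0,0,0,0,0,0,0,0,0,0,0,0,0,0,0,0,0,0,0,0,0,0,0,0,0,0,0,0,0,0,0,0,0,0,0,0,0,0,0,0,0,0,0,0,0,0,0,0,0,0,0,0,0,0,0,0,0,0,0,0,0,0,0,0,0,0,0,0,0,0,1,0,0,0,0,0,1],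
  [0,0,0,0,0,0,0,0,0,0,0,0,0,0,0,0,0,0,0,0,0,0,0,0,0,0,0,0,0,0,0,0,0,0,0,0,0,0,0,0,0,0,0,0,0,0,0,0,0,0,0,0,0,0,0,0,0,0,0,0,0,0,0,0,0,0,0,0,0,0,0,0,0,0,0,0,1],
  [0,0,0,0,0,0,0,0,0,0,0,0,0,0,0,0,0,0,0,0,1,0,0,0,0,0,0,0,0,0,0,0,0,0,0,3,0,0,0,0,0,0,0,0,0,0,0,0,0,0,0,0,0,0,0,0,0,0,0,0,0,0,0,0,0,0,0,0,0,0,0,0,0,0,0,0,0,1,0,0,0,0,0,0,0,1,0,0,0,0,0,0,0,0,0,0,0,0,0,0,0,0,0,0,0,0,0,0,0,0,0,0,0,0,0,0,0,0,0,0,0,0,0,0,0,0,0,0,0,0,0,0,0,0,0,0,0,0,0,0,0,0,0,0,0,0,0,0,0,0,0,0,0,0,0,0,0,0,0,0,0,0,0,0,0,0,0,0,0,0,0,0,0,0,0,0,0,0,0,0,0,0,0,0,0,0,0,0,0,0,0,0,0,0,0,0,0,0,0,0,0,0,0,0,0,0,0,0,0,0,0,0,0,0,0,0,0,0,0,0,0,0,1,0,0,0,0,0,0,0,0,0,0,0,0,0,0,0,0,0,3,0,0,0,0,0,0,0,0,0,0,0,0,0,0,0,0,0,0,3,1,0,0,0,0,0,0,0,0,0,0,0,0,0,0,0,0,0,0,0,0,0,0,0,0,0,0,0,0,0,1],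
  [0,0,0,0,0,0,0,0,0,0,0,0,0,0,0,0,0,0,0,0,0,0,0,0,0,0,0,0,0,0,0,0,0,0,0,0,0,3,0,0,0,0,0,0,0,0,0,0,0,0,0,0,0,0,0,0,0,0,0,0,0,0,0,0,0,0,0,0,0,0,0,0,0,0,0,0,0,0],
  [0,0,0,0,0,0,0,0,0,0,0,0,0,0,0,0,0,0,0,0,0,0,0,0,0,0,0,0,0,0,0,0,0,0,0,0,0,0,0,0,0,0,0,0,0,0,0,0,0,0,0,0,0,0,0,0,0,0,0,0,0,0,0,0,0,0,0,0,0,0,0,0,0,0,0,0,0,0,0,0,1,0,0,0,0,0,0,1],
  [0,0,0,0,0,0,0,0,0,0,0,0,0,0,0,0,0,0,0,0,0,0,0,0,0,0,0,0,0,0,0,0,0,0,0,0,0,0,0,0,0,0,0,0,0,0,0,0,0,0,0,0,0,0,0,0,0,0,0,0,0,0,0,0,0,0,0,0,0,0,0,0,0,0,0,0,0,0,0,0,0,0,0,1],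
  [0,0,0,0,0,0,0,0,0,0,0,0,0,0,0,0,0,0,0,0,0,0,0,0,0,0,0,0,0,0,0,0,0,0,0,0,0,0,0,0,0,3,0,0,0,0,0,0,0,0,0,0,0,0,0,0,0,0,0,0,0,0,0,0,0,0,0,0,0,0,0,0,0,0,0,0,0,0,0,0,0,0,0],
  [0,0,0,0,0,0,0,0,0,0,0,0,0,0,0,0,0,0,0,0,0,0,0,0,0,0,0,0,0,0,0,0,0,0,0,0,0,0,0,0,0,0,0,3,3,0,0,0,0,0,0,0,0,0,0,0,0,0,0,0,0,0,0,0,0,0,0,0,0,0,0,0,0,0,0,0,0,0,0,0,0,0,0,0,0,0],
  [0,0,0,0,0,0,0,0,0,0,0,0,0,0,0,0,0,0,0,0,0,0,0,0,0,0,0,0,0,0,0,0,0,0,0,0,0,0,0,0,0,0,0,0,0,0,0,0,0,0,0,0,0,0,0,0,0,0,0,0,0,0,0,0,0,0,0,0,0,0,0,0,0,0,0,0,0,0,0,0,0,0,0,0,0,0,0,0,0,1],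
  [0,0,0,0,0,0,0,0,0,0,0,0,0,0,0,0,1,0,0,0,0,0,0,0,0,0,0,0,0,0,0,0,3,0,0,0,0,0,0,0,0,0,0,0,0,0,0,0,0,0,0,0,0,0,0,0,0,0,0,0,0,0,0,0,0,0,0,0,0,0,0,0,0,0,0,0,0,0,0,0,0,0,0,0,0,0,0,0,0,0,0,0,0,1,0,0,0,0,0,1,0,0,0,0,0,0,0,0,0,0,0,0,0,0,0,0,0,0,0,0,0,0,0,0,0,0,0,0,0,0,0,0,0,0,0,0,0,0,0,0,0,0,0,0,0,0,0,0,0,0,0,0,0,0,0,0,0,0,0,0,0,0,0,0,0,1,0,0,0,0,0,0,0,0,0,0,0,0,0,0,0,0,0,0,0,0,0,0,0,0,0,0,0,0,0,0,0,0,3,0,0,0,0,0,0,0,0,0,0,0,0,0,0,0,0,0,0,0,0,0,0,0,0,3,0,0,1,0,0,0,0,0,0,0,0,0,0,0,0,0,0,0,0,0,0,0,0,1],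
  [0,0,0,0,0,0,0,0,0,0,0,0,0,0,0,0,0,0,0,0,0,0,0,0,0,0,0,0,0,0,0,0,0,0,3,0,0,0,0,0,0,0,0,0,0,0,0,0,0,0,0,0,0,0,0,0,0,0,0,0,0,0,0,0,0,0,0,0,0,0,0,0,0,0,0,0,0,0,0,0,0,0,0,0,0,0,0,0,0,0,0,0,0,0],
  [0,0,0,0,0,0,0,0,0,0,0,0,0,0,0,0,0,0,0,0,0,0,0,0,0,0,0,0,0,0,0,0,0,0,0,3,0,0,3,0,0,0,0,0,0,0,0,0,0,0,0,0,0,0,0,0,0,0,0,0,0,0,0,0,0,0,0,0,0,0,0,0,0,0,0,0,0,0,0,0,0,0,0,0,0,0,0,0,0,0,0,0,0,0,0,0,1,0,0,0,0,0,0,0,0,0,0,0,0,0,0,0,0,0,0,0,0,0,0,0,0,0,0,0,0,0,0,0,0,0,0,0,0,0,0,0,0,0,0,0,0,0,0,0,0,0,0,0,0,0,0,0,0,0,0,0,0,0,0,0,0,0,0,0,0,0,0,0,0,0,0,0,0,0,0,0,0,0,0,0,0,0,0,0,0,0,0,0,0,0,0,0,0,0,0,0,0,0,0,0,0,0,0,0,0,0,0,0,0,0,1,0,0,1,0,0,0,0,0,0,0,0,0,0,0,0,0,0,0,0,0,0,0,0,0,0,0,0,0,0,0,0,0,0,0,0,0,0,0,0,0,0,0,0,0,1,0,0,0,0,0,1,0,0,0,0,0,0,0,3,0,0,0,0,0,0,0,0,0,0,0,0,0],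
  [0,0,0,0,0,0,0,0,0,0,0,0,0,0,0,0,0,0,0,0,0,0,0,0,0,0,0,0,0,0,0,0,0,0,0,0,0,0,0,0,0,0,0,0,0,0,0,0,0,0,0,0,0,0,0,0,0,0,0,0,0,0,0,0,0,0,0,0,0,0,0,0,0,0,0,0,0,0,0,0,0,0,0,0,0,0,0,0,0,0,0,0,0,0,0,0,0,1,0,0,0,0,0,0,0,1],
  [0,0,0,0,0,0,0,0,0,0,0,0,0,0,0,0,0,0,0,0,0,0,0,0,0,0,0,0,0,0,0,0,0,0,0,0,0,3,0,0,3,0,0,0,0,0,0,0,0,0,0,0,0,0,0,0,0,0,0,0,0,0,0,0,0,0,0,0,0,0,0,0,0,0,0,0,0,0,0,0,0,0,0,0,0,0,0,0,0,0,0,0,0,0,0,0,0],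
  [0,0,0,0,0,0,0,0,0,0,0,0,0,0,0,0,0,0,0,0,0,0,0,0,0,0,0,0,0,0,0,0,0,0,0,0,0,0,0,0,0,0,0,0,0,0,0,0,0,0,0,0,0,0,0,0,0,0,0,0,0,0,0,0,0,0,0,0,0,0,0,0,0,0,0,0,0,0,0,0,0,0,0,0,0,0,0,0,0,0,0,0,0,0,0,0,0,0,0,0,1,0,0,0,0,0,0,1],
  [0,0,0,0,0,0,0,0,0,0,0,0,0,0,0,0,0,0,0,0,0,0,0,0,0,0,0,0,0,0,0,0,0,0,0,0,0,0,0,3,0,0,3,0,0,0,0,0,0,0,0,0,0,0,0,0,0,0,0,0,0,0,0,0,0,0,0,0,0,0,0,0,0,0,0,0,0,0,0,0,0,0,0,0,0,0,0,0,0,0,0,0,0,0,0,0,0,0,0,0],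
  [0,0,0,0,0,0,0,0,0,0,0,0,0,0,0,0,0,0,0,0,0,0,0,0,0,0,0,0,0,0,0,0,0,0,0,0,0,0,0,0,0,0,0,0,0,0,0,0,0,0,0,0,0,0,0,0,0,0,0,0,0,0,0,0,0,0,0,0,0,0,0,0,0,0,0,0,0,0,0,0,0,0,0,0,0,0,0,0,0,0,0,0,0,0,0,0,0,0,0,0,0,0,0,1],
  [0,0,0,0,0,0,0,0,0,0,0,0,0,0,0,0,0,0,0,0,0,0,0,0,0,0,0,0,0,0,0,0,0,0,0,0,0,0,0,0,0,0,0,3,0,0,0,0,0,0,0,0,0,0,0,0,0,0,0,0,0,0,0,0,0,0,0,0,0,0,0,0,0,0,0,0,0,0,0,0,0,0,0,0,0,0,0,0,0,0,0,0,0,0,0,0,0,0,0,0,0,0,0,0,0],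
  [0,0,0,0,0,0,0,0,0,0,0,0,0,0,0,0,0,0,0,0,0,0,0,0,0,0,0,0,0,0,0,0,0,0,0,0,0,0,0,0,0,0,0,0,0,0,0,0,0,0,0,0,0,0,0,0,0,0,0,0,0,0,0,0,0,0,0,0,0,0,0,0,0,0,0,0,0,0,0,0,0,0,0,0,0,0,0,0,0,0,0,0,0,0,0,0,0,0,0,0,0,0,0,0,0,0,0,0,0,1],
  [0,0,0,0,0,0,0,0,0,0,0,0,0,0,0,0,0,0,0,0,0,0,0,0,0,0,0,0,0,0,0,0,0,0,0,0,3,0,0,0,0,0,0,0,0,0,0,0,0,0,0,0,0,0,0,0,0,0,0,0,0,0,0,0,0,0,0,0,0,0,0,0,0,0,0,0,0,0,0,0,0,0,0,0,0,0,0,0,0,0,0,0,0,0,0,0,0,0,0,0,0,0,0,0,0,0,0,0,0,0,0,0,0,0,0,1,0,0,0,0,0,0,0,0,0,0,0,0,0,0,0,0,0,0,0,0,0,0,0,0,0,0,0,0,0,0,0,0,0,0,0,0,0,0,0,0,0,0,0,0,0,0,0,0,0,0,0,0,0,0,0,0,0,0,0,0,0,0,0,0,0,0,0,0,0,0,0,0,0,0,0,0,0,0,0,0,0,0,0,0,0,0,0,0,0,0,0,0,0,0,0,1],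
  [0,0,0,0,0,0,0,0,0,0,0,0,0,0,0,0,0,0,0,0,0,0,0,0,0,0,0,0,0,0,0,0,0,0,0,0,0,0,0,3,0,0,0,0,0,3,0,0,0,0,0,0,0,0,0,0,0,0,0,0,0,0,0,0,0,0,0,0,0,0,0,0,0,0,0,0,0,0,0,0,0,0,0,0,0,0,0,0,0,0,0,0,0,0,0,0,0,0,0,0,0,0,0,0,0,0,0,0,0,0,0,0,0,0,0,0,0,0,0,1,0,0,0,0,0,0,1,0,0,0,0,0,0,0,0,0,0,0,0,0,0,0,0,0,0,0,0,0,0,0,0,0,0,0,0,0,0,0,0,0,0,0,0,0,0,0,0,0,0,0,0,0,0,0,0,0,0,0,0,0,0,0,0,0,0,0,0,0,0,0,0,0,0,0,0,0,0,0,0,0,0,0,0,0,0,0,0,0,0,0,0,0,0,0,0,0,0,0,0,0,0,0,0,0,0,0,0,0,0,0,0,0,0,0,0,0,0,0,0,0,0,0,0,0,0,0,0,0,0,0,0,0,0,0,0,0,1,0,0,0,0,0,1,0,0,0,0,0,0,0,0,0,0,0,0,0,3,0,0,0,0,0,0,0,0,0,0,0,0,0,0,0,0,0,0,0,0,1],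
  [0,0,0,0,0,0,0,0,0,0,0,0,0,0,0,0,0,0,0,0,0,0,0,0,0,0,0,0,0,0,0,0,0,0,0,0,0,0,0,0,0,0,3,0,0,0,0,0,0,0,0,0,0,0,0,0,0,0,0,0,0,0,0,0,0,0,0,0,0,0,0,0,0,0,0,0,0,0,0,0,0,0,0,0,0,0,0,0,0,0,0,0,0,0,0,0,0,0,0,0,0,0,0,0,0,0,0,0,0,0,0,0,0,0,0,0,0,0,0,0,0,0,1,0,0,0,0,0,0,0,0,0,0,0,0,0,0,0,0,0,0,0,0,0,0,0,0,0,0,0,0,0,0,0,0,0,0,0,0,0,0,0,0,0,0,0,0,0,0,0,0,0,0,0,0,0,0,0,0,0,0,0,0,0,0,0,0,0,0,0,0,0,0,0,0,0,0,0,0,0,0,0,0,0,0,0,0,0,0,0,0,0,0,0,0,0,0,0,0,0,0,0,0,0,0,0,0,0,0,0,0,0,0,0,0,0,0,0,0,0,0,0,0,0,0,0,0,0,0,0,0,0,0,0,0,0,0,0,0,0,0,0,0,0,0,0,0,0,0,0,0,0,0,0,0,0,0,0,0,0,1],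
  [0,0,0,0,0,0,0,0,0,0,0,0,0,0,0,0,0,0,0,0,0,0,0,0,0,0,0,0,0,0,0,0,0,0,0,0,0,0,0,0,0,0,0,0,0,0,3,0,0,0,0,0,0,0,0,0,0,0,0,0,0,0,0,0,0,0,0,0,0,0,0,0,0,0,0,0,0,0,0,0,0,0,0,0,0,0,0,0,0,0,0,0,0,0,0,0,0,0,0,0,0,0,0,0,0,0,0,0,0,0,0,0,0,0,0,0,0,0,0,0,0,0,0,0,0,0,0],
  [0,0,0,0,0,0,0,0,0,0,0,0,0,0,3,0,0,0,0,0,0,3,0,0,0,0,0,0,0,0,0,0,0,0,0,3,0,0,0,0,0,0,0,0,0,0,0,0,0,0,0,0,0,0,0,0,0,0,0,0,0,0,0,0,0,0,0,0,0,0,0,0,0,0,0,0,0,0,0,0,0,0,0,0,0,0,0,0,0,0,0,0,0,0,0,0,0,0,0,0,0,0,0,0,0,0,0,0,0,0,0,0,0,0,0,0,0,0,0,0,0,0,0,0,0,0,0,0,0,0,0,0,0,0,0,0,0,0,0,0,0,0,0,0,0,0,0,3,0,0,0,0,0,3,0,0,0,0,0,0,0,0,0,0,0,0,0,0,1,0,0,0,0,0,0,0,0,0,0,0,0,0,0,0,0,0,0,0,0,0,0,0,0,0,0,0,0,0,0,0,0,0,0,0,0,0,0,0,0,0,0,0,0,0,0,0,0,0,0,0,0,0,0,0,0,0,0,0,0,0,0,0,0,0,3,3,0,0,0,3,0,0,3,0,0,3,0,0,0,1,0,0,0,0,0,0,0,0,3,0,0,3],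
  [0,0,0,0,0,0,0,0,0,0,0,0,0,0,0,0,0,0,0,0,0,0,0,0,0,0,0,0,0,0,0,0,0,0,0,0,0,0,0,0,0,0,0,0,0,0,0,0,0,0,0,0,0,0,0,0,0,0,0,0,0,0,0,0,0,0,0,0,0,0,0,0,0,0,0,0,0,0,0,0,0,0,0,0,0,0,0,0,0,0,0,0,0,0,0,0,0,0,0,0,0,0,0,0,0,0,0,0,0,0,0,0,0,0,0,0,0,0,0,0,0,0,0,0,0,0,0,0,0,0,0,0,0,0,0,0,0,0,0,0,0,0,0,0,0,0,0,0,0,0,0,0,0,0,0,0,0,0,0,0,0,0,0,0,0,0,0,0,0,3],
  [0,0,0,0,0,0,0,0,0,0,0,0,0,0,0,0,0,0,0,0,0,0,0,0,0,0,0,0,0,0,0,0,0,0,0,0,0,0,0,0,0,0,0,0,0,0,0,0,0,0,0,0,0,0,0,0,0,0,0,0,0,0,0,0,0,0,0,0,0,0,0,0,0,0,0,0,0,0,0,0,0,0,0,0,0,0,0,0,0,0,0,0,0,0,0,0,0,0,0,0,0,0,0,0,0,0,0,0,0,0,0,0,0,0,0,0,0,0,0,0,0,0,0,0,0,0,0,0,0,0,0,0,0,1,0,0,0,0,0,0,0,0,0,0,0,0,0,0,0,0,0,0,0,0,0,0,0,0,0,0,0,0,0,0,1,0,1,0,0,0,0,0,0,0,0,0,0,0,0,0,0,0,0,0,3,0,0,0,0,0,0,0,0,0,0,0,0,0,0,0,0,0,0,0,0,0,0,0,0,0,0,3],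
  [0,0,0,0,0,0,0,0,0,0,0,0,0,0,0,0,1,0,0,0,0,0,0,0,0,0,0,0,0,0,0,0,0,0,0,0,0,0,0,0,0,0,0,0,0,0,0,0,0,0,0,0,0,0,0,0,0,0,0,0,0,0,0,0,0,0,0,0,0,0,0,0,0,0,0,0,0,0,0,0,0,0,0,0,0,0,0,0,0,0,0,0,0,0,0,0,0,0,0,0,0,0,0,0,0,0,0,0,0,0,0,0,0,0,0,0,0,0,0,0,0,0,0,0,0,0,0,0,0,0,0,0,0,0,1,0,0,0,0,0,0,0,1,0,0,0,0,0,0,0,0,0,0,0,0,0,0,0,0,0,0,0,0,0,0,1,0,1,0,0,0,0,1,0,0,1,0,0,0,0,0,0,0,0,0,0,0,0,0,0,0,0,0,0,0,0,0,0,3,0,0,0,0,0,0,0,0,0,0,0,0,0,0,0,0,0,0,0,0,0,0,0,0,3,0,0,1,0,0,0,0,0,0,0,0,0,0,0,0,0,0,0,0,0,0,0,0,2,0,0,1],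
  [0,0,0,0,0,0,0,0,0,0,0,0,0,0,0,0,0,0,0,0,0,0,0,0,0,0,0,0,0,0,0,0,0,0,0,0,0,0,0,0,0,0,0,0,0,0,0,0,0,0,0,0,0,0,0,0,0,0,0,0,0,0,0,0,0,0,0,0,0,0,0,0,0,0,0,0,0,0,0,0,0,0,0,0,0,0,0,0,0,0,0,0,0,0,0,0,0,0,0,0,0,0,0,0,0,0,0,0,0,0,0,0,0,0,0,0,0,0,0,0,0,0,0,0,0,0,0,0,0,0,0,0,0,0,0,0,0,0,0,0,0,0,0,0,0,0,0,0,0,0,0,0,0,0,0,0,0,0,0,0,0,0,0,0,0,0,1,0,0,0,0,0,0,0,0,0,0,0,0,0,0,0,0,0,0,0,0,0,0,0,0,0,0,0,0,0,0,0,0,0,0,0,0,0,0,0,0,0,0,0,0,3],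
  [0,0,0,0,0,0,0,0,0,0,0,0,0,0,0,0,0,0,0,0,0,0,0,0,0,0,0,0,0,0,0,0,0,0,0,0,0,0,0,3,0,0,0,0,0,0,0,0,0,0,0,0,0,0,0,0,0,0,0,0,0,0,0,0,0,0,0,0,0,0,0,0,0,0,0,0,0,0,0,0,0,0,0,0,0,0,0,0,0,0,0,0,0,0,0,0,0,0,0,0,0,0,0,0,0,0,0,0,0,0,0,0,0,0,0,0,0,0,0,0,0,0,0,0,0,0,0,0,0,0,0,0,0,0,0,0,0,0,0,0,0,0,0,0,0,0,0,0,0,0,0,0,0,0,0,0,0,0,0,0,0,0,0,0,0,0,0,1,0,0,0,0,1,0,0,0,0,0,0,0,0,0,0,0,0,0,0,0,0,0,0,0,0,0,0,0,0,0,0,0,0,0,0,0,0,0,0,0,0,0,0,0,0,0,0,0,0,0,0,0,0,0,0,3,0,0,0,0,0,0,0,0,0,0,0,0,0,0,0,0,0,0,0,0,0,0,0,1],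
  [0,0,0,0,0,0,0,0,0,0,0,0,0,0,0,0,0,0,1,0,0,0,0,0,0,0,0,0,0,0,0,0,0,0,0,0,0,0,0,0,0,0,0,0,0,0,0,0,0,0,0,0,0,0,0,0,0,0,0,0,0,0,0,0,0,0,0,0,0,0,0,0,0,0,0,0,0,0,0,0,0,0,0,0,0,0,0,0,0,0,0,0,0,0,0,0,0,0,0,0,0,0,0,0,0,0,0,0,0,0,0,0,0,0,0,0,0,0,0,0,0,0,0,0,0,0,0,0,0,0,0,0,0,0,0,0,0,1,0,0,0,0,0,0,1,0,0,0,0,0,0,0,0,0,0,0,0,0,0,0,0,0,0,0,0,0,0,0,1,0,1,0,0,0,1,0,0,1,0,0,0,0,0,0,0,0,0,0,0,0,0,0,0,0,0,0,0,0,0,0,0,0,0,0,0,0,0,0,0,0,0,0,0,0,0,0,0,0,0,0,0,0,0,0,0,0,0,0,0,0,0,0,0,0,3,0,0,0,0,0,0,0,0,0,0,1,0,0,0,2,0,0,1,0,0,0,0,0,1],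
  [0,0,0,0,0,0,0,0,0,0,0,0,0,0,0,0,0,0,0,0,0,0,0,0,0,0,0,0,0,0,0,0,0,0,0,0,0,0,0,0,0,3,0,0,0,0,0,0,0,0,0,0,0,0,0,0,0,0,0,0,0,0,0,0,0,0,0,0,0,0,0,0,0,0,0,0,0,0,0,0,0,0,0,0,0,0,0,0,0,0,0,0,0,0,0,0,0,0,0,0,0,0,0,0,0,0,0,0,0,0,0,0,0,0,0,0,0,0,0,0,0,0,0,0,0,0,0,0,0,0,0,0,0,0,0,0,0,0,0,0,0,0,0,0,0,0,0,0,0,0,0,0,0,0,0,0,0,0,0,0,0,0,0,0,0,0,0,0,0,0,1,0,0,0,1,0,0,0,0,0,0,0,0,0,0,0,0,0,0,0,0,0,0,0,0,0,0,0,0,0,0,0,0,0,0,0,0,0,0,0,0,0,0,0,0,0,0,0,0,0,0,0,0,0,0,0,0,0,0,0,0,0,0,0,0,0,0,0,0,0,0,0,0,0,0,1,0,0,0,1],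
  [0,0,0,0,0,0,0,0,0,0,0,0,0,0,0,0,0,0,0,0,1,0,1,1,0,0,0,0,0,0,0,0,0,0,0,0,0,0,0,0,0,0,0,0,0,0,0,0,0,0,0,0,0,0,0,0,0,0,0,0,0,0,0,0,0,0,0,0,0,0,0,0,0,0,0,0,0,0,0,0,0,0,0,0,0,0,0,0,0,0,0,0,0,0,0,0,0,0,0,0,0,0,0,0,0,0,0,0,0,0,0,0,0,0,0,0,0,0,0,0,0,0,0,0,0,0,0,0,0,0,0,0,0,0,0,0,0,0,0,0,1,0,0,0,0,0,0,0,0,0,0,0,0,0,0,0,0,0,0,0,0,0,0,0,0,0,0,0,0,0,0,1,0,1,0,0,1,0,1,0,0,0,0,0,0,0,0,0,0,0,0,0,0,0,0,0,0,0,0,0,0,0,0,0,0,0,0,0,0,0,0,0,0,0,0,0,0,0,0,0,0,0,0,0,0,0,0,0,0,0,0,0,0,0,0,0,0,0,0,0,0,0,0,0,0,0,1,0,1,0,0,2,0,1,1,0,0,0,0,0,0,0,0,0,0,0,0,0,0,0,0,0,0,0,0,0,0,0,0,0,0,1,0,1,1,0,0,0,0,0,0,0,0,0,0,0,2,0,0,2],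
  [0,0,0,0,0,0,0,0,0,0,0,0,0,0,0,0,0,0,0,0,0,0,0,0,0,0,0,0,0,0,0,0,0,0,0,0,0,0,0,0,0,0,0,0,0,0,0,0,0,0,0,0,0,0,0,0,0,0,0,0,0,0,0,0,0,0,0,0,0,0,0,0,0,0,0,0,0,0,0,0,0,0,0,0,0,0,0,0,0,0,0,0,0,0,0,0,0,0,0,0,0,0,0,0,0,0,0,0,0,0,0,0,0,0,0,0,0,0,0,0,0,0,0,0,0,0,0,0,0,0,0,0,0,0,0,0,0,0,0,0,0,0,0,0,0,0,0,0,0,0,0,0,0,0,0,0,0,0,0,0,0,0,0,0,0,0,0,0,0,0,0,0,1,0,0,0,0,0,0,0,0,0,0,0,0,0,0,0,0,0,0,0,0,0,0,0,0,0,0,0,0,0,0,0,0,0,0,0,0,0,0,0,0,0,0,0,0,0,0,0,0,0,0,0,0,0,0,0,0,0,0,0,0,0,0,0,0,0,0,0,0,0,0,0,0,0,0,1],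
  [0,0,0,0,0,0,0,0,0,0,0,0,0,0,0,0,0,0,0,0,0,0,0,0,0,0,0,0,0,0,0,0,0,0,0,0,0,0,0,0,0,0,0,3,0,3,0,0,0,0,0,0,0,0,0,0,0,0,0,0,0,0,0,0,0,0,0,0,0,0,0,0,0,0,0,0,0,0,0,0,0,0,0,0,0,0,0,0,0,0,0,0,0,0,0,0,0,0,0,0,0,0,0,0,0,0,0,0,0,0,0,0,0,0,0,0,0,0,0,0,0,0,0,0,0,0,0,0,0,0,0,0,0,0,0,0,0,0,0,0,0,0,0,0,0,0,0,0,0,0,0,0,0,0,0,0,0,0,0,0,0,0,0,0,0,0,0,0,0,0,0,0,0,1,0,0,1,0,1,0,0,0,0,0,0,0,0,0,0,0,0,0,0,0,0,0,0,0,0,0,0,0,0,0,0,0,0,0,0,0,0,0,0,0,0,0,0,0,0,0,0,0,0,0,0,0,0,0,0,0,0,0,0,0,0,0,0,0,0,0,0,0,0,0,0,0,0,0,1,0,0,1,0,1,0,0,0,0,0,0,0,0,0,0,0,0,0,0,0,0,0,0,0,0,0,0,0,0,0,0,0,0,0,0,0,0,0,0,0,0,0,0,0,0,0,0,1,0,0,1],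
  [0,0,0,0,0,0,0,0,0,0,0,0,0,0,0,0,0,0,0,0,0,0,0,0,0,0,0,0,0,0,0,0,0,0,0,0,0,0,0,0,0,0,0,0,0,0,0,0,0,0,0,0,0,0,0,0,0,0,0,0,0,0,0,0,0,0,0,0,0,0,0,0,0,0,0,0,0,0,0,0,0,0,0,0,0,0,0,0,0,0,0,0,0,0,0,0,0,0,0,0,0,0,0,0,0,0,0,0,0,0,0,0,0,0,0,0,0,0,0,0,0,0,0,0,0,0,0,0,0,0,0,0,0,0,0,0,0,0,0,0,0,0,0,0,0,0,0,0,0,0,0,0,0,0,0,0,0,0,0,0,0,0,0,0,0,0,0,0,0,0,0,0,0,0,1,0,0,0,0,0,0,0,0,0,0,0,0,0,0,0,0,0,0,0,0,0,0,0,0,0,0,0,0,0,0,0,0,0,0,0,0,0,0,0,0,0,0,0,0,0,0,0,0,0,0,0,0,0,0,0,0,0,0,0,0,0,0,0,0,0,0,0,0,0,0,0,0,0,0,1],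
  [0,0,0,0,0,0,0,0,0,0,0,0,0,0,0,0,0,0,0,0,0,0,0,0,0,0,0,0,0,0,0,0,0,0,0,0,0,0,0,0,0,0,0,0,0,0,0,0,0,0,0,0,0,0,0,0,0,0,0,0,0,0,0,0,0,0,0,0,0,0,0,0,0,0,0,0,0,0,0,0,0,0,0,0,0,0,0,0,0,0,0,0,0,0,0,0,0,0,0,0,0,0,0,0,0,0,0,0,0,0,0,0,0,0,0,0,0,0,0,0,0,0,0,0,0,0,0,0,0,0,0,0,0,0,0,0,0,0,0,0,0,0,0,0,0,0,0,0,0,0,0,0,0,0,0,0,0,0,0,0,0,0,0,0,0,0,0,0,0,0,0,0,0,0,0,1,0,0,0,0,0,0,0,0,0,0,0,0,0,0,0,0,0,0,0,0,0,0,0,0,0,0,0,0,0,0,0,0,0,0,0,0,0,0,0,0,0,0,0,0,0,0,0,0,0,0,0,0,0,0,0,0,0,0,0,0,0,0,0,0,0,0,0,0,0,0,0,0,0,0,1],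
  [0,0,0,0,0,0,0,0,0,0,0,0,0,0,0,0,0,0,0,0,0,0,0,0,0,0,0,0,0,0,0,0,0,0,0,0,0,0,0,0,0,0,0,0,0,0,0,0,0,0,0,0,0,0,0,0,0,0,0,0,0,0,0,0,0,0,0,0,0,0,0,0,0,0,0,0,0,0,0,0,0,0,0,0,0,0,0,0,0,0,0,0,0,0,0,0,0,0,0,0,0,0,0,0,0,0,0,0,0,0,0,0,0,0,0,0,0,0,0,0,0,0,0,0,0,0,0,0,0,0,0,0,0,0,0,0,0,0,0,0,0,0,0,0,0,0,0,0,0,0,0,0,0,0,0,0,0,0,0,0,0,0,0,0,0,0,0,0,0,0,0,0,0,0,0,0,1,0,0,0,0,0,0,0,0,0,0,0,0,0,0,0,0,0,0,0,0,0,0,0,0,0,0,0,0,0,0,0,0,0,0,0,0,0,0,0,0,0,0,0,0,0,0,0,0,0,0,0,0,0,0,0,0,0,0,0,0,0,0,0,0,0,0,0,0,0,0,0,0,0,0,1],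
  [0,0,0,0,0,0,0,0,0,0,0,0,0,0,0,0,0,0,0,0,0,0,0,0,0,0,0,0,0,0,0,0,0,0,0,0,0,0,0,0,0,0,0,0,0,0,0,0,0,0,0,0,0,0,0,0,0,0,0,0,0,0,0,0,0,0,0,0,0,0,0,0,0,0,0,0,0,0,0,0,0,0,0,0,0,0,0,0,0,0,0,0,0,0,0,0,0,0,0,0,0,0,0,0,0,0,0,0,0,0,0,0,0,0,0,0,0,0,0,0,0,0,0,0,0,0,0,0,0,0,0,0,0,0,0,0,0,0,0,0,0,0,0,0,0,0,0,0,0,0,0,0,0,0,0,0,0,0,0,0,0,0,0,0,0,0,0,0,0,0,0,0,0,0,0,0,0,1,0,0,0,0,0,0,0,0,0,0,0,0,0,0,0,0,0,0,0,0,0,0,0,0,0,0,0,0,0,0,0,0,0,0,0,0,0,0,0,0,0,0,0,0,0,0,0,0,0,0,0,0,0,0,0,0,0,0,0,0,0,0,0,0,0,0,0,0,0,0,0,0,0,0,1],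
  [0,0,0,0,0,0,0,0,0,0,0,0,0,0,0,0,0,0,0,0,0,0,0,0,0,0,0,0,0,0,0,0,0,0,0,0,0,0,0,0,0,0,0,0,0,0,0,0,0,0,0,0,0,0,0,0,0,0,0,0,0,0,0,0,0,0,0,0,0,0,0,0,0,0,0,0,0,0,0,0,0,0,0,0,0,0,0,0,0,0,0,0,0,0,0,0,0,0,0,0,0,0,0,0,0,0,0,0,0,0,0,0,0,0,0,0,0,0,0,0,0,0,0,0,0,0,0,0,0,0,0,0,0,0,0,0,0,0,0,0,0,0,0,0,0,0,1,0,0,0,0,0,0,0,0,0,0,0,0,0,0,0,0,0,0,0,0,0,0,0,0,0,0,0,0,0,0,0,1,1,0,0,0,0,0,0,0,0,0,0,0,0,0,0,0,0,0,0,0,0,0,0,0,0,0,0,0,0,0,0,0,0,0,0,0,0,0,0,0,0,0,0,0,0,0,0,0,0,0,0,0,0,0,0,0,0,0,0,0,0,0,0,0,0,0,0,0,0,0,0,0,0,0,1,1],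
  [0,0,0,0,0,0,0,0,0,0,0,0,0,0,0,0,0,0,0,0,0,0,0,0,0,0,0,0,0,0,0,0,0,0,0,0,0,0,0,0,0,0,0,0,0,0,0,0,0,0,0,0,0,0,0,0,0,0,0,0,0,0,0,0,0,0,0,0,0,0,0,0,0,0,0,0,0,0,0,0,0,0,0,0,0,0,0,0,0,0,0,0,0,0,0,0,0,0,0,0,0,0,0,0,0,0,0,0,0,0,0,0,0,0,0,0,0,0,0,0,0,0,0,0,0,0,0,0,0,0,0,0,0,0,0,0,0,0,0,0,0,0,0,0,0,0,0,0,0,0,0,0,0,0,0,0,0,0,0,0,0,0,0,0,0,0,0,0,0,0,0,0,0,0,0,0,0,0,0,1,0,0,0,0,0,0,0,0,0,0,0,0,0,0,0,0,0,0,0,0,0,0,0,0,0,0,0,0,0,0,0,0,0,0,0,0,0,0,0,0,0,0,0,0,0,0,0,0,0,0,0,0,0,0,0,0,0,0,0,0,0,0,0,0,0,0,0,0,0,0,0,0,0,0,1],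
  [0,0,0,0,0,0,0,0,0,0,0,0,0,0,0,0,0,0,0,0,0,0,0,0,0,0,0,0,0,0,0,0,0,0,0,0,0,0,0,0,0,0,0,0,0,0,0,0,0,0,0,0,0,0,0,0,0,0,0,0,0,0,0,0,0,0,0,0,0,0,0,0,0,0,0,0,0,0,0,0,0,0,0,0,0,0,0,0,0,0,0,0,0,0,0,0,0,0,0,0,0,0,0,0,0,0,0,0,0,0,0,0,0,0,0,0,0,0,0,0,0,0,0,0,0,0,0,0,0,0,0,0,0,0,0,0,0,0,0,0,0,0,0,0,0,0,0,0,0,0,1],
  [0,0,0,0,0,0,0,0,0,0,0,0,0,0,0,0,0,0,0,0,0,0,0,0,0,0,0,0,0,0,0,0,0,0,0,0,0,0,0,0,0,0,0,0,0,0,0,0,0,0,0,0,0,0,0,0,0,0,0,0,0,0,0,0,0,0,0,0,0,0,0,0,0,0,0,0,0,0,0,0,0,0,0,0,0,0,0,0,0,0,0,0,0,0,0,0,0,0,0,0,0,0,0,0,0,0,0,0,0,0,0,0,0,0,0,0,0,0,0,0,0,0,0,0,0,0,0,0,0,0,0,0,0,0,0,0,0,0,0,0,0,0,0,0,0,0,0,0,0,0,0,1,0,0,0,0,0,0,0,1],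
  [0,0,0,0,0,0,0,0,0,0,0,0,0,0,0,0,0,0,0,0,0,0,0,0,0,0,0,0,0,0,0,0,0,0,0,0,0,0,0,0,0,0,0,0,0,0,0,0,0,0,0,0,0,0,0,0,0,0,0,0,0,0,0,0,0,0,0,0,0,0,0,0,0,0,0,0,0,0,0,0,0,0,0,0,0,0,0,0,0,0,0,0,0,0,0,0,0,0,0,0,0,0,0,0,0,0,0,0,0,0,0,0,0,0,0,0,0,0,0,0,0,0,0,0,0,0,0,0,0,0,0,0,0,0,0,0,0,0,0,0,0,0,0,0,0,0,0,0,0,0,0,0,0,0,1,0,0,0,0,0,0,1],
  [0,0,0,0,0,0,0,0,0,0,0,0,0,0,0,0,0,0,0,0,0,0,0,0,0,0,0,0,0,0,0,0,0,0,0,0,0,0,0,0,0,0,0,0,0,0,0,0,0,0,0,0,0,0,0,0,0,0,0,0,0,0,0,0,0,0,0,0,0,0,0,0,0,0,0,0,0,0,0,0,0,0,0,0,0,0,0,0,0,0,0,0,0,0,0,0,0,0,0,0,0,0,0,0,0,0,0,0,0,0,0,0,0,0,0,0,0,0,0,0,0,0,0,0,0,0,0,0,0,0,0,0,0,0,0,0,0,0,0,0,0,0,0,0,0,0,0,0,0,0,0,0,0,0,0,0,0,1],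
  [0,0,0,0,0,0,0,0,0,0,0,0,0,0,0,0,0,0,0,0,0,0,0,0,0,0,0,0,0,0,0,0,0,0,0,0,0,0,0,0,0,0,0,0,0,0,0,0,0,0,0,0,0,0,0,0,0,0,0,0,0,0,0,0,0,0,0,0,0,0,0,0,0,0,0,0,0,0,0,0,0,0,0,0,0,0,0,0,0,0,0,0,0,0,0,0,0,0,0,0,0,0,0,0,0,0,0,0,0,0,0,0,0,0,0,0,0,0,0,0,0,0,0,0,0,0,0,0,0,0,0,0,0,0,0,0,0,0,0,0,0,0,0,0,0,0,0,0,0,0,0,0,0,0,0,0,0,0,0,0,0,0,0,1],
  [0,0,0,0,0,0,0,0,0,0,0,0,0,0,0,0,0,0,0,0,0,0,0,0,0,0,0,0,0,0,0,0,0,0,0,0,0,0,0,3,0,0,0,0,0,0,0,0,0,0,0,0,0,0,0,0,0,0,0,0,0,0,0,0,0,0,0,0,0,0,0,0,0,0,0,0,0,0,0,0,0,0,0,0,0,0,0,0,0,0,0,0,0,0,0,0,0,0,0,0,0,0,0,0,0,0,0,0,0,0,0,0,0,0,0,0,0,0,0,0,0,0,0,0,0,0,0,0,0,0,0,0,0,0,0,0,0,0,0,0,0,0,0,0,0,0,0,0,0,0,0,0,0,0,0,0,0,0,0,0,0,0,0,0,0,0,0,1,0,0,0,0,0,0,0,1,0,0,0,0,0,0,0,0,0,0,0,0,0,0,0,0,0,0,0,0,0,0,0,0,0,0,0,0,0,0,0,0,0,0,0,0,0,0,0,0,0,0,0,0,0,0,0,0,0,0,1,0,0,0,0,0,0,0,0,0,0,0,0,0,0,0,0,0,0,0,0,0,0,0,0,0,0,0,0,0,0,0,0,0,0,0,0,0,0,0,0,0,0,0,0,0,0,0,3],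
  [0,0,0,0,0,0,0,0,0,0,0,0,0,0,0,0,0,0,0,0,0,0,0,0,0,0,0,0,0,0,0,0,0,0,0,0,0,0,0,0,0,3,0,0,0,0,0,0,0,0,0,0,0,0,0,0,0,0,0,0,0,0,0,0,0,0,0,0,0,0,0,0,0,0,0,0,0,0,0,0,0,0,0,0,0,0,0,0,0,0,0,0,0,0,0,0,0,0,0,0,0,0,0,0,0,0,0,0,0,0,0,0,0,0,0,0,0,0,0,0,0,0,0,0,0,0,0,0,0,0,0,0,0,0,0,0,0,0,0,0,0,0,0,0,0,0,0,0,0,0,0,0,0,0,0,0,0,0,0,0,0,0,0,0,0,0,0,0,0,0,1,0,0,0,0,0,0,1,0,0,0,0,0,0,0,0,0,0,0,0,0,0,0,0,0,0,0,0,0,0,0,0,0,0,0,0,0,0,0,0,0,0,0,0,0,0,0,0,0,0,0,0,0,0,0,0,0,0,0,0,0,0,0,0,0,0,0,0,0,0,0,0,0,0,0,0,0,0,0,0,0,0,0,0,0,0,0,0,1,0,0,0,0,0,0,0,0,0,0,0,0,0,0,0,0,0,0,0,0,0,0,0,0,0,0,0,0,3],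
  [0,0,0,0,0,0,0,0,0,0,0,0,0,0,0,0,0,0,0,0,0,0,0,0,0,0,0,0,0,0,0,0,0,0,0,0,0,0,0,0,0,0,0,3,0,0,3,0,0,0,0,0,0,0,0,0,0,0,0,0,0,0,0,0,0,0,0,0,0,0,0,0,0,0,0,0,0,0,0,0,0,0,0,0,0,0,0,0,0,0,0,0,0,0,0,0,0,0,0,0,0,0,0,0,0,0,0,0,0,0,0,0,0,0,0,0,0,0,0,0,0,0,0,0,0,0,0,0,0,0,0,0,0,0,0,0,0,0,0,0,0,0,0,0,0,0,0,0,0,0,0,0,0,0,0,0,0,0,0,0,0,0,0,0,0,0,0,0,0,0,0,0,0,1,0,0,0,0,0,0,0,0,0,0,0,0,0,0,0,0,0,0,0,0,0,0,0,0,0,0,0,0,0,0,0,0,0,0,0,0,0,0,0,0,0,0,0,0,0,0,0,0,0,0,0,0,0,0,0,0,0,0,0,0,0,0,0,0,0,0,0,0,0,0,0,0,0,0,0,0,0,0,0,0,0,0,0,0,0,0,0,0,0,0,0,0,0,0,0,0,0,0,0,0,0,0,0,0,0,0,0,1,0,0,1],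
  [0,0,0,0,0,0,0,0,0,0,0,0,0,0,0,0,0,0,0,0,0,0,0,0,0,0,0,0,0,0,0,0,0,0,0,0,0,0,0,0,0,0,0,0,0,0,0,0,0,0,0,0,0,0,0,0,0,0,0,0,0,0,0,0,0,0,0,0,0,0,0,0,0,0,0,0,0,0,0,0,0,0,0,0,0,0,0,0,0,0,0,0,0,0,0,0,0,0,0,0,0,0,0,0,0,0,0,0,0,0,0,0,0,0,0,0,0,0,0,0,0,0,0,0,0,0,0,0,0,0,0,0,0,0,0,0,0,0,0,0,0,0,0,0,0,0,0,0,0,0,0,0,0,0,0,0,0,0,0,0,0,0,0,0,0,0,0,0,0,0,0,0,0,0,0,0,0,0,0,1],
  [0,0,0,0,0,0,0,0,0,0,0,0,0,0,0,0,0,0,0,0,0,0,0,1,0,0,0,0,0,0,0,0,0,0,0,0,0,0,0,0,0,0,0,0,0,0,0,0,0,0,0,0,0,0,0,0,0,0,0,0,0,0,0,0,0,0,0,0,0,0,0,0,0,0,0,0,0,0,0,0,0,0,0,0,0,0,0,0,0,0,0,0,0,0,0,0,0,0,0,0,0,0,0,0,0,0,0,0,0,0,0,0,0,0,0,0,0,0,0,0,0,0,0,0,0,0,0,0,0,0,0,0,0,0,0,0,0,0,0,0,0,0,0,0,0,0,0,0,0,0,0,0,0,0,0,0,0,0,0,0,0,0,0,0,0,0,0,0,0,0,0,0,0,0,0,0,0,0,0,0,0,0,1,0,0,0,0,0,0,0,1,0,0,0,0,3,0,0,0,0,0,0,0,0,0,0,0,0,0,1,0,0,0,0,0,0,1,1,0,0,1,1,0,0,0,0,0,0,3,0,0,0,3,0,0,0,0,0,0,0,0,0,0,0,0,0,0,0,0,0,0,0,0,0,0,0,0,0,0,0,0,0,0,0,0,0,0,0,0,0,0,0,0,0,0,0,0,0,0,0,0,0,0,0,0,0,0,0,0,0,0,0,3,1,0,0,0,0,0,2],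
  [0,0,0,0,0,0,0,0,0,0,0,0,0,0,0,0,0,0,0,0,0,0,0,0,0,0,0,0,0,0,0,0,0,0,0,0,0,0,0,0,0,3,0,0,0,0,3,0,0,0,0,0,0,0,0,0,0,0,0,0,0,0,0,0,0,0,0,0,0,0,0,0,0,0,0,0,0,0,0,0,0,0,0,0,0,0,0,0,0,0,0,0,0,0,0,0,0,0,0,0,0,0,0,0,0,0,0,0,0,0,0,0,0,0,0,0,0,0,0,0,0,0,0,0,0,0,0,0,0,0,0,0,0,0,0,0,0,0,0,0,0,0,0,0,0,0,0,0,0,0,0,0,0,0,0,0,0,0,0,0,0,0,0,0,0,0,0,0,0,0,0,0,0,0,0,0,0,0,0,0,0,0,0,0,0,0,0,0,0,0,0,0,0,0,0,0,0,0,0,0,0,0,0,0,0,0,0,0,0,1,0,0,0,0,0,0,1,0,0,0,0,1],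
  [0,0,0,0,0,0,0,0,0,0,0,0,0,0,0,0,0,0,0,0,0,0,0,0,0,0,0,0,0,0,0,0,0,0,0,0,0,0,0,0,0,0,0,0,0,0,0,0,0,0,0,0,0,0,0,0,0,0,0,0,0,0,0,0,0,0,0,0,0,0,0,0,0,0,0,0,0,0,0,0,0,0,0,0,0,0,0,0,0,0,0,0,0,0,0,0,0,0,0,0,0,0,0,0,0,0,0,0,0,0,0,0,0,0,0,0,0,0,0,0,0,0,0,0,0,0,0,0,0,0,0,0,0,0,0,0,0,0,0,0,0,0,0,0,0,0,0,0,0,0,0,0,0,0,0,0,0,0,0,0,0,0,0,0,0,0,0,0,0,0,0,0,0,0,0,0,0,0,0,0,0,0,0,0,0,1,0,0,0,0,0,0,1,0,0,0,0,0,0,0,0,0,0,0,0,0,0,0,0,0,1,0,1,0,0,0,0,0,0,1],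
  [0,0,0,0,0,0,0,0,0,0,0,0,0,0,0,0,0,0,0,0,0,0,0,0,0,0,0,0,0,0,0,0,0,0,0,0,0,0,0,0,0,0,0,0,0,0,0,0,0,0,0,0,0,0,0,0,0,0,0,0,0,0,0,0,0,0,0,0,0,0,0,0,0,0,0,0,0,0,0,0,0,0,0,0,0,0,0,0,0,0,0,0,0,0,0,0,0,0,0,0,0,0,0,0,0,0,0,0,0,0,0,0,0,0,0,0,0,0,0,0,0,0,0,0,0,0,0,0,0,0,0,0,0,0,0,0,0,0,0,0,0,0,0,0,0,0,0,0,0,0,0,0,0,0,0,0,0,0,0,0,0,0,0,0,0,0,0,0,0,0,0,0,0,0,0,0,0,0,0,0,0,0,0,0,0,0,0,0,0,0,0,0,0,0,0,0,0,0,0,0,0,0,0,0,0,0,0,0,0,0,0,0,1],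
  [0,0,0,0,0,0,0,0,0,0,0,0,0,0,0,0,0,0,0,0,0,1,0,0,0,0,0,0,0,0,0,0,0,0,0,0,0,0,0,0,0,0,0,0,0,0,0,0,0,0,0,0,0,0,0,0,0,0,0,0,0,0,0,0,0,0,0,0,0,0,0,0,0,0,0,0,0,0,0,0,0,0,0,0,0,0,0,0,0,0,0,0,0,0,0,0,0,0,0,0,0,0,0,0,0,0,0,0,0,0,0,0,0,0,0,0,0,0,0,0,0,0,0,0,0,0,0,0,0,0,0,0,0,0,0,0,0,0,0,0,0,0,0,0,0,0,0,0,0,0,0,0,0,0,0,0,0,0,0,0,0,0,0,0,0,0,0,0,0,0,0,0,0,0,0,0,0,0,0,0,0,0,0,0,0,0,0,0,1,0,0,0,0,0,0,0,0,0,0,0,0,0,0,0,0,0,0,0,0,0,0,0,0,1,0,1,0,0,0,1,0,0,0,0,0,0,0,0,0,0,0,0,0,0,0,0,0,0,0,0,0,0,0,0,0,0,0,0,0,0,0,0,0,0,0,0,0,0,0,0,0,0,0,0,0,0,0,0,0,0,0,0,0,0,0,0,0,0,0,0,0,0,1],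
  [0,0,0,0,0,0,0,0,0,0,0,0,0,0,0,0,0,0,0,0,0,0,0,0,0,0,0,0,0,0,0,0,0,0,0,0,0,0,0,0,0,0,0,0,0,0,0,0,0,0,0,0,0,0,0,0,0,0,0,0,0,0,0,0,0,0,0,0,0,0,0,0,0,0,0,0,0,0,0,0,0,0,0,0,0,0,0,0,0,0,0,0,0,0,0,0,0,0,0,0,0,0,0,0,0,0,0,0,0,0,0,0,0,0,0,0,0,0,0,0,0,0,0,0,0,0,0,0,0,0,0,0,0,0,0,0,0,0,0,0,0,0,0,0,0,0,0,0,0,0,0,0,0,0,0,0,0,0,0,0,0,0,0,0,0,0,0,0,0,0,0,0,0,0,0,0,0,0,0,0,0,0,0,0,0,0,0,0,0,0,0,0,0,0,0,0,0,0,0,0,0,0,0,0,0,0,0,0,0,0,0,0,0,0,1],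
  [0,0,0,0,0,0,0,0,0,0,0,0,0,0,0,0,0,0,0,0,0,0,0,0,0,0,0,0,0,0,0,0,0,0,0,0,0,0,0,0,0,0,0,0,3,0,0,0,0,0,0,0,0,0,0,0,0,0,0,0,0,0,0,0,0,0,0,0,0,0,0,0,0,0,0,0,0,0,0,0,0,0,0,0,0,0,0,0,0,0,0,0,0,0,0,0,0,0,0,0,0,0,0,0,0,0,0,0,0,0,0,0,0,0,0,0,0,0,0,0,0,0,0,0,0,0,0,0,0,0,0,0,0,0,0,0,0,0,0,0,0,0,0,0,0,0,0,0,0,0,0,0,0,0,0,0,0,0,0,0,0,0,0,0,0,0,0,0,0,0,0,0,0,0,0,0,0,0,0,0,0,0,0,0,0,0,0,0,0,0,0,0,0,0,0,0,0,0,0,0,0,0,0,0,0,0,0,0,0,0,0,0,0,0,0,1,0,0,0,1],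
  [0,0,0,0,0,0,0,0,0,0,0,0,0,0,0,0,0,0,0,0,0,0,0,0,0,0,0,0,0,0,0,0,0,0,0,0,0,0,0,0,0,0,0,0,0,0,0,0,0,0,0,0,0,0,0,0,0,0,0,0,0,0,0,0,0,0,0,0,0,0,0,0,0,0,0,0,0,0,0,0,0,0,0,0,0,0,0,0,0,0,0,0,0,0,0,0,0,0,0,0,0,0,0,0,0,0,0,0,0,0,0,0,0,0,0,0,0,0,0,0,0,0,0,0,0,0,0,0,0,0,0,0,0,0,0,0,0,0,0,0,0,0,0,0,0,0,0,0,0,0,0,0,0,0,0,0,0,0,0,0,0,0,0,0,0,0,0,0,0,0,0,0,0,0,0,0,0,0,0,0,0,0,0,0,0,0,0,0,0,0,0,0,0,0,0,0,0,0,0,0,0,0,0,0,0,0,0,0,0,0,0,0,0,0,0,0,1],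
  [0,0,0,0,0,0,0,0,0,0,0,0,0,0,0,0,0,0,0,0,0,0,0,0,0,0,0,0,0,0,0,0,0,0,0,0,0,0,0,0,0,0,0,0,0,3,0,0,0,0,0,0,0,0,0,0,0,0,0,0,0,0,0,0,0,0,0,0,0,0,0,0,0,0,0,0,0,0,0,0,0,0,0,0,0,0,0,0,0,0,0,0,0,0,0,0,0,0,0,0,0,0,0,0,0,0,0,0,0,0,0,0,0,0,0,0,0,0,0,0,0,0,0,0,0,0,0,0,0,0,0,0,0,0,0,0,0,0,0,0,0,0,0,0,0,0,0,0,0,0,0,0,0,0,0,0,0,0,0,0,0,0,0,0,0,0,0,0,0,0,0,0,0,0,0,0,0,0,0,0,0,0,0,0,0,0,0,0,0,0,0,0,0,0,0,0,0,0,0,0,0,0,0,0,0,0,0,0,0,0,0,0,0,0,0,0,0,1,0,0,1,0,0,0,0,0,0,0,0,0,0,0,0,0,0,0,0,0,0,0,0,0,0,0,0,0,0,0,0,0,0,0,0,0,0,0,0,0,0,0,0,0,0,0,0,0,0,0,0,0,0,0,0,0,0,0,0,0,0,0,0,0,0,0,0,0,0,0,0,0,0,0,0,0,0,0,0,0,0,1],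
  [0,0,0,0,0,0,0,0,0,0,0,0,0,0,0,0,0,0,0,0,0,0,0,0,0,0,0,0,0,0,0,0,0,0,0,0,0,0,0,0,0,0,0,0,0,0,0,0,0,0,0,0,0,0,0,0,0,0,0,0,0,0,0,0,0,0,0,0,0,0,0,0,0,0,0,0,0,0,0,0,0,0,0,0,0,0,0,0,0,0,0,0,0,0,0,0,0,0,0,0,0,0,0,0,0,0,0,0,0,0,0,0,0,0,0,0,0,0,0,0,0,0,0,0,0,0,0,0,0,0,0,0,0,0,0,0,0,0,0,0,0,0,0,0,0,0,0,0,0,0,0,0,0,0,0,0,0,0,0,0,0,0,0,0,0,0,0,0,0,0,0,0,0,0,0,0,0,0,0,0,0,0,0,0,0,0,0,0,0,0,0,0,0,0,0,0,0,0,0,0,0,0,0,0,0,0,0,0,0,0,0,0,0,0,0,0,0,0,1],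
  [0,0,0,0,0,0,0,0,0,0,0,0,0,0,0,0,0,0,0,0,0,0,0,0,0,0,0,0,0,0,0,0,0,0,0,0,0,0,0,0,0,0,0,0,0,0,0,0,0,0,0,0,0,0,0,0,0,0,0,0,0,0,0,0,0,0,0,0,0,0,0,0,0,0,0,0,0,0,0,0,0,0,0,0,0,0,0,0,0,0,0,0,0,0,0,0,0,0,0,0,0,0,0,0,0,0,0,0,0,0,0,0,0,0,0,0,0,0,0,0,0,0,0,0,0,0,0,0,0,0,0,0,0,0,0,0,0,0,0,0,0,0,0,0,0,0,0,0,0,0,0,0,0,0,0,0,0,0,0,0,0,0,0,0,0,0,0,0,0,0,0,0,0,0,0,0,0,0,0,0,0,0,0,0,0,0,0,0,0,0,0,0,0,0,0,0,0,0,0,0,0,0,0,0,0,0,0,0,0,0,0,0,0,0,0,0,0,0,0,1],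
  [0,0,0,0,0,0,0,0,0,0,0,0,0,0,0,0,0,0,0,0,0,0,0,0,0,0,0,0,0,0,0,0,0,0,0,0,0,0,0,0,0,0,0,0,0,0,0,0,0,0,0,0,0,0,0,0,0,0,0,0,0,0,0,0,0,0,0,0,0,0,0,0,0,0,0,0,0,0,0,0,0,0,0,0,0,0,0,0,0,0,0,0,0,0,0,0,0,0,0,0,0,0,0,0,0,0,0,0,0,0,0,0,0,0,0,0,0,0,0,0,0,0,0,0,0,0,0,0,0,0,0,0,0,0,0,0,0,0,0,0,0,0,0,0,0,0,0,0,0,0,0,0,0,0,0,0,0,0,0,0,0,0,0,0,0,0,0,0,0,0,0,0,0,0,0,0,0,0,0,0,0,0,0,0,0,0,0,0,0,0,0,0,0,0,1,0,0,0,0,0,0,0,0,0,0,0,0,0,0,0,0,0,0,0,0,0,0,0,0,0,1,1],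
  [0,0,0,0,0,0,0,0,0,0,0,0,0,0,0,0,0,0,0,0,0,0,0,0,0,0,0,0,0,0,0,0,0,0,0,0,0,0,0,0,0,0,0,0,0,0,0,0,0,0,0,0,0,0,0,0,0,0,0,0,0,0,0,0,0,0,0,0,0,0,0,0,0,0,0,0,0,0,0,0,0,0,0,0,0,0,0,0,0,0,0,0,0,0,0,0,0,0,0,0,0,0,0,0,0,0,0,0,0,0,0,0,0,0,0,0,0,0,0,0,0,0,0,0,0,0,0,0,0,0,0,0,0,0,0,0,0,0,0,0,0,0,0,0,0,0,0,0,0,0,0,0,0,0,0,0,0,0,0,0,0,0,0,0,0,0,0,0,0,0,0,0,0,0,0,0,0,0,0,0,0,0,0,0,0,0,0,0,0,0,0,0,0,0,0,0,0,0,0,0,0,0,0,0,0,0,0,0,0,0,0,0,0,0,0,0,0,0,0,0,0,1],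
  [0,0,0,0,0,0,0,0,0,0,0,0,0,0,0,0,0,0,0,0,0,0,0,3,0,0,0,0,0,0,0,0,0,0,0,0,0,0,0,0,0,3,0,0,0,3,0,0,0,0,0,0,0,0,0,0,0,0,0,0,0,0,0,0,0,0,0,0,0,0,0,0,0,0,0,0,0,0,0,0,0,0,0,0,0,0,0,0,0,0,0,0,0,0,0,0,0,0,0,0,0,0,0,0,0,0,0,0,0,0,0,0,0,0,0,0,0,0,0,0,0,0,0,0,0,0,0,0,0,0,0,0,0,0,0,0,0,0,0,0,0,0,0,0,0,0,0,0,0,0,0,0,0,0,0,0,0,0,0,0,0,0,0,0,0,0,0,0,0,0,0,0,0,0,0,0,0,0,0,0,0,0,0,0,0,0,0,0,0,0,0,0,0,0,0,0,0,0,0,0,0,0,0,0,0,0,0,0,0,3,0,0,0,0,0,0,0,3,0,0,0,0,0,0,0,0,0,0,1,0,0,0,1,0,0,0,0,0,0,0,0,0,0,0,0,0,0,0,0,0,0,0,0,0,0,0,0,0,0,0,0,0,0,0,0,0,0,0,0,0,0,0,0,0,0,0,0,0,0,0,0,0,0,0,0,3,0,0,0,3,0,0,1,0,0,0,0,0,0,3],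
  [0,0,0,0,0,0,0,0,0,0,0,0,0,0,0,0,0,0,0,0,0,0,0,0,0,0,0,0,0,0,0,0,0,0,0,0,0,0,0,0,0,0,0,0,0,0,0,0,0,0,0,0,0,0,0,0,0,0,0,0,0,0,0,0,0,0,0,0,0,0,0,0,0,0,0,0,0,0,0,0,0,0,0,0,0,0,0,0,0,0,0,0,0,0,0,0,0,0,0,0,0,0,0,0,0,0,0,0,0,0,0,0,0,0,0,0,0,0,0,0,0,0,0,0,0,0,0,0,0,0,0,0,0,0,0,0,0,0,0,0,0,0,0,0,0,0,0,0,0,0,0,0,0,0,0,0,0,0,0,0,0,0,0,0,0,0,0,0,0,0,0,0,0,0,0,0,0,0,0,0,0,0,0,0,0,0,0,0,0,0,0,0,0,0,0,0,0,0,0,0,0,0,0,0,0,0,0,0,0,0,0,0,0,0,0,0,0,0,0,0,0,0,0,0,0,0,0,0,0,3],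
  [0,0,0,0,0,0,0,0,0,0,0,0,0,0,0,0,0,0,0,0,1,0,0,0,0,0,0,0,0,0,0,0,0,0,0,0,0,0,0,0,0,0,0,0,0,0,0,0,0,0,0,0,0,0,0,0,0,0,0,0,0,0,0,0,0,0,0,0,0,0,0,0,0,0,0,0,0,0,0,0,0,0,0,0,0,0,0,0,0,0,0,0,0,0,0,0,0,0,0,0,0,0,0,0,0,0,0,0,0,0,0,0,0,0,0,0,0,0,0,0,0,0,0,0,0,0,0,0,0,0,0,0,0,0,0,0,0,0,0,0,0,0,0,0,0,0,0,0,0,0,0,0,0,0,0,0,0,0,0,0,0,0,0,0,0,0,0,0,0,0,0,0,0,0,0,0,0,0,0,0,0,0,0,0,0,0,0,0,0,0,0,0,0,0,0,0,0,0,0,1,0,0,0,0,0,0,1,0,0,0,0,0,0,0,0,0,0,0,0,0,0,0,1,0,1,0,0,0,0,0,1,1,0,0,0,0,0,0,0,0,3,0,0,0,0,0,0,0,0,0,0,0,0,0,0,0,0,0,0,3,1,0,0,0,0,0,0,0,0,0,0,0,0,0,0,0,0,0,0,0,0,0,0,0,0,0,0,0,0,0,2,1],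
  [0,0,0,0,0,0,0,0,0,0,0,0,0,0,0,0,0,0,0,0,0,0,0,0,0,0,0,0,0,0,0,0,0,0,0,0,0,0,0,0,0,0,0,0,0,0,0,0,0,0,0,0,0,0,0,0,0,0,0,0,0,0,0,0,0,0,0,0,0,0,0,0,0,0,0,0,0,0,0,0,0,0,0,0,0,0,0,0,0,0,0,0,0,0,0,0,0,0,0,0,0,0,0,0,0,0,0,0,0,0,0,0,0,0,0,0,0,0,0,0,0,0,0,0,0,0,0,0,0,0,0,0,0,0,0,0,0,0,0,0,0,0,0,0,0,0,0,0,0,0,0,0,0,0,0,0,0,0,0,0,0,0,0,0,0,0,0,0,0,0,0,0,0,0,0,0,0,0,0,0,0,0,0,0,0,0,0,0,0,0,0,0,0,0,0,0,0,0,0,0,0,0,0,0,0,0,0,0,0,0,0,0,0,0,0,0,0,0,0,0,0,0,0,1,0,0,0,0,0,0,0,0,0,0,0,0,0,0,0,0,0,0,0,0,0,0,0,0,0,0,3],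
  [0,0,0,0,0,0,0,0,0,0,0,0,0,0,0,0,0,0,0,0,0,0,0,0,0,0,0,0,0,0,0,0,0,0,0,0,0,0,0,0,0,0,0,3,0,0,0,0,0,0,0,0,0,0,0,0,0,0,0,0,0,0,0,0,0,0,0,0,0,0,0,0,0,0,0,0,0,0,0,0,0,0,0,0,0,0,0,0,0,0,0,0,0,0,0,0,0,0,0,0,0,0,0,0,0,0,0,0,0,0,0,0,0,0,0,0,0,0,0,0,0,0,0,0,0,0,0,0,0,0,0,0,0,0,0,0,0,0,0,0,0,0,0,0,0,0,0,0,0,0,0,0,0,0,0,0,0,0,0,0,0,0,0,0,0,0,0,0,0,0,0,0,0,0,0,0,0,0,0,0,0,0,0,0,0,0,0,0,0,0,0,0,0,0,0,0,0,0,0,0,0,0,0,0,0,0,0,0,0,0,0,0,0,0,0,0,0,0,0,0,0,0,0,0,1,0,0,0,0,0,1,0,0,0,0,0,0,0,0,0,0,0,0,0,0,0,0,0,0,0,0,0,0,0,0,0,0,0,0,3,0,0,0,0,0,0,0,0,0,0,0,0,0,0,0,0,0,0,0,0,0,0,0,0,0,0,0,0,0,0,1],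
  [0,0,0,0,0,0,0,0,0,0,0,0,0,0,0,0,0,0,0,0,0,0,0,0,0,0,0,0,0,0,0,0,0,0,0,0,0,0,0,0,0,0,0,0,0,0,0,0,0,0,0,0,0,0,0,0,0,0,0,0,0,0,0,0,0,0,0,0,0,0,0,0,0,0,0,0,0,0,0,0,0,0,0,0,0,0,0,0,0,0,0,0,0,0,0,0,0,0,0,0,0,0,0,0,0,0,0,0,0,0,0,0,0,0,0,0,0,0,0,0,0,0,0,0,0,0,0,0,0,0,0,0,0,0,0,0,0,0,0,0,0,0,0,0,0,0,0,0,0,0,0,0,0,0,0,0,0,0,0,0,0,0,0,0,0,0,0,0,0,0,0,0,0,0,0,0,0,0,0,0,0,0,0,0,0,0,0,0,0,0,0,0,0,0,0,0,0,0,0,0,0,0,1,0,0,0,0,0,0,0,0,0,0,0,0,0,0,0,0,0,0,0,0,0,0,1,0,1,0,0,0,0,0,0,0,0,0,0,0,0,0,0,0,0,0,0,0,0,0,0,0,0,0,0,0,0,0,0,0,0,0,0,0,0,0,0,0,3,0,0,0,0,0,0,0,0,0,0,0,0,3],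
  [0,0,0,0,0,0,0,0,0,0,0,0,0,0,0,0,0,0,0,0,0,0,0,0,0,0,0,0,0,0,0,0,0,0,0,0,0,0,0,0,0,0,0,0,0,0,0,0,0,0,0,0,0,0,0,0,0,0,0,0,0,0,0,0,0,0,0,0,0,0,0,0,0,0,0,0,0,0,0,0,0,0,0,0,0,0,0,0,0,0,0,0,0,0,0,0,0,0,0,0,0,0,0,0,0,0,0,0,0,0,0,0,0,0,0,0,0,0,0,0,0,0,0,0,0,0,0,0,0,0,0,0,0,0,0,0,0,0,0,0,0,0,0,0,0,0,0,0,0,0,0,0,0,0,0,0,0,0,0,0,0,0,0,0,0,0,0,0,0,0,0,0,0,0,0,0,0,0,0,0,0,0,0,0,0,0,0,0,0,0,0,0,0,0,0,0,0,0,0,0,0,0,0,0,0,0,0,0,0,0,0,0,0,0,0,0,0,0,0,0,0,0,0,0,0,0,0,1,0,0,0,0,0,0,0,0,0,0,0,0,0,0,0,0,0,0,0,0,0,0,0,0,0,0,0,0,0,0,0,0,0,0,0,0,0,0,0,0,0,0,0,0,0,0,0,0,0,0,0,0,3],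
  [0,0,0,0,0,0,0,0,0,0,0,0,0,0,0,0,0,0,0,0,0,0,0,0,0,0,0,0,0,0,0,0,0,0,0,0,0,0,0,0,0,0,0,0,0,0,0,0,0,0,0,0,0,0,0,0,0,0,0,0,0,0,0,0,0,0,0,0,0,0,0,0,0,0,0,0,0,0,0,0,0,0,0,0,0,0,0,0,0,0,0,0,0,0,0,0,0,0,0,0,0,0,0,0,0,0,0,0,0,0,0,0,0,0,0,0,0,0,0,0,0,0,0,0,0,0,0,0,0,0,0,0,0,0,0,0,0,0,0,0,0,0,0,0,0,0,0,0,0,0,0,0,0,0,0,0,0,0,0,0,0,0,0,0,0,0,0,0,0,0,0,0,0,0,0,0,0,0,0,0,0,0,0,0,0,0,0,0,0,0,0,0,0,0,0,0,0,0,0,0,0,0,0,0,0,0,0,0,0,0,0,0,0,0,0,0,0,0,0,0,0,0,0,0,0,0,0,0,1,0,0,0,0,0,0,0,0,0,0,0,0,0,0,0,0,0,0,0,0,0,0,0,0,0,0,0,0,0,0,0,0,0,0,0,0,0,0,0,0,0,0,0,0,0,0,0,0,0,0,0,0,0,0,0,0,3],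
  [0,0,0,0,0,0,0,0,0,0,0,0,0,0,0,0,0,0,0,0,0,0,0,0,0,0,0,0,0,0,0,0,0,0,0,0,0,0,0,0,0,0,0,0,0,0,0,0,0,0,0,0,0,0,0,0,0,0,0,0,0,0,0,0,0,0,0,0,0,0,0,0,0,0,0,0,0,0,0,0,0,0,0,0,0,0,0,0,0,0,0,0,0,0,0,0,0,0,0,0,0,0,0,0,0,0,0,0,0,0,0,0,0,0,0,0,0,0,0,0,0,0,0,0,0,0,0,0,0,0,0,0,0,0,0,0,0,0,0,0,0,0,0,0,0,0,0,0,0,0,0,0,0,0,0,0,0,0,0,0,0,0,0,0,0,0,0,0,0,0,0,0,0,0,0,0,0,0,0,0,0,0,0,0,0,0,0,0,0,0,0,0,0,0,0,0,0,0,0,0,0,0,0,0,0,0,0,0,0,0,0,0,0,0,0,0,0,0,0,0,0,0,0,0,0,0,0,0,0,0,1,0,0,0,0,0,0,0,0,0,0,0,0,0,0,0,0,0,0,0,0,0,0,0,0,0,0,0,0,0,0,0,0,0,0,0,0,0,0,0,0,0,0,0,0,0,0,0,0,0,0,0,0,0,0,0,0,0,0,0,1],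
  [0,0,0,0,0,0,0,0,0,0,0,0,0,0,0,0,0,0,0,0,0,0,0,0,0,0,0,0,0,0,0,0,0,0,0,0,0,0,0,0,0,0,0,0,0,0,0,0,0,0,0,0,0,0,0,0,0,0,0,0,0,0,0,0,0,0,0,0,0,0,0,0,0,0,0,0,0,0,0,0,0,0,0,0,0,0,0,0,0,0,0,0,0,0,0,0,0,0,0,0,0,0,0,0,0,0,0,0,0,0,0,0,0,0,0,0,0,0,0,0,0,0,0,0,0,0,0,0,0,0,0,0,0,0,0,0,0,0,0,0,0,0,0,0,0,0,0,0,0,0,0,0,0,0,0,0,0,0,0,0,0,0,0,0,0,0,0,0,0,0,0,0,0,0,0,0,0,0,0,0,0,0,0,0,0,0,0,0,0,0,0,0,0,0,0,0,0,0,0,0,0,0,0,0,0,0,0,0,0,0,0,0,0,0,0,0,0,0,0,0,0,0,0,0,0,0,0,0,0,0,0,1,0,0,0,0,0,0,0,0,0,0,0,0,0,0,0,0,0,0,0,0,0,0,0,0,0,0,0,0,0,0,0,0,0,0,0,0,0,0,0,0,0,0,0,0,0,0,0,0,0,0,0,0,0,0,0,0,0,0,0,1],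
  [0,0,0,0,0,0,0,0,0,0,0,0,0,0,0,0,0,0,0,0,0,0,0,0,0,0,0,0,0,0,0,0,0,0,0,0,0,0,0,0,0,0,0,0,0,0,0,0,0,0,0,0,0,0,0,0,0,0,0,0,0,0,0,0,0,0,0,0,0,0,0,0,0,0,0,0,0,0,0,0,0,0,0,0,0,0,0,0,0,0,0,0,0,0,0,0,0,0,0,0,0,0,0,0,0,0,0,0,0,0,0,0,0,0,0,0,0,0,0,0,0,0,0,0,0,0,0,0,0,0,0,0,0,0,0,0,0,0,0,0,0,0,0,0,0,0,0,0,0,0,0,0,0,0,0,0,0,0,0,0,0,0,0,0,0,0,0,0,0,0,0,0,0,0,0,0,0,0,0,0,0,0,0,0,0,0,0,0,0,0,0,0,0,0,0,0,0,0,0,0,0,0,0,0,0,0,0,0,1,0,0,0,0,0,0,0,0,0,0,0,0,0,0,0,0,0,0,0,0,0,0,0,1,1,0,0,0,0,0,0,0,0,0,0,0,0,0,0,0,0,0,0,0,0,0,0,0,0,0,0,0,0,0,0,0,0,0,0,0,0,0,0,0,0,0,0,0,0,0,0,0,0,0,0,0,0,0,0,0,0,0,0,1,1],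
  [0,0,0,0,0,0,0,0,0,0,0,0,0,0,0,0,0,0,0,0,0,0,0,0,0,0,0,0,0,0,0,0,0,0,0,0,0,0,0,0,0,0,0,0,0,0,0,0,0,0,0,0,0,0,0,0,0,0,0,0,0,0,0,0,0,0,0,0,0,0,0,0,0,0,0,0,0,0,0,0,0,0,0,0,0,0,0,0,0,0,0,0,0,0,0,0,0,0,0,0,0,0,0,0,0,0,0,0,0,0,0,0,0,0,0,0,0,0,0,0,0,0,0,0,0,0,0,0,0,0,0,0,0,0,0,0,0,0,0,0,0,0,0,0,0,0,0,0,0,0,0,0,0,0,0,0,0,0,0,0,0,0,0,0,0,0,0,0,0,0,0,0,0,0,0,0,0,0,0,0,0,0,0,0,0,0,0,0,0,0,0,0,0,0,0,0,0,0,0,0,0,0,0,0,0,0,0,0,0,0,0,0,0,0,0,0,0,0,0,0,0,0,0,0,0,0,0,0,0,0,0,0,0,1,0,0,0,0,0,0,0,0,0,0,0,0,0,0,0,0,0,0,0,0,0,0,0,0,0,0,0,0,0,0,0,0,0,0,0,0,0,0,0,0,0,0,0,0,0,0,0,0,0,0,0,0,0,0,0,0,0,0,0,1],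
  [0,0,0,0,0,0,0,0,0,0,0,0,0,0,0,0,0,0,0,0,0,0,0,0,0,0,0,0,0,0,0,0,0,0,0,0,0,0,0,0,0,0,0,0,3,0,0,0,0,0,0,0,0,0,0,0,0,0,0,0,0,0,0,0,0,0,0,0,0,0,0,0,0,0,0,0,0,0,0,0,0,0,0,0,0,0,0,0,0,0,0,0,0,0,0,0,0,0,0,0,0,0,0,0,0,0,0,0,0,0,0,0,0,0,0,0,0,0,0,0,0,0,0,0,0,0,0,0,0,0,0,0,0,0,0,0,0,0,0,0,0,0,0,0,0,0,0,0,0,0,0,0,0,0,0,0,0,0,0,0,0,0,0,0,0,0,0,0,0,0,0,0,0,0,0,0,0,0,0,0,0,0,0,0,0,0,0,0,0,0,0,0,0,0,0,0,0,0,0,0,0,0,0,0,0,0,0,0,0,0,0,0,0,0,0,1,0,0,0,0,0,0,0,0,0,0,0,0,0,0,0,0,0,0,0,0,0,0,0,0,0,0,0,0,0,0,0,0,0,0,0,0,0,0,0,0,0,0,0,0,0,0,0,0,0,0,0,0,0,0,0,0,0,0,0,0,0,0,0,0,0,0,1],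
  [0,0,0,0,0,0,0,0,0,0,0,0,0,0,0,0,0,0,0,0,0,0,0,0,0,0,0,0,0,0,0,0,0,0,0,0,0,0,0,0,0,0,0,3,0,0,0,0,0,0,0,0,0,0,0,0,0,0,0,0,0,0,0,0,0,0,0,0,0,0,0,0,0,0,0,0,0,0,0,0,0,0,0,0,0,0,0,0,0,0,0,0,0,0,0,0,0,0,0,0,0,0,0,0,0,0,0,0,0,0,0,0,0,0,0,0,0,0,0,0,0,0,0,0,0,0,0,0,0,0,0,0,0,0,0,0,0,0,0,0,0,0,0,0,0,0,0,0,0,0,0,0,0,0,0,0,0,0,0,0,0,0,0,0,0,0,0,0,0,0,0,0,0,0,0,0,0,0,0,0,0,0,0,0,0,0,0,0,0,0,0,0,0,0,0,0,0,0,0,0,0,0,0,0,0,0,0,0,0,0,0,0,0,0,0,0,0,0,0,0,0,0,0,0,1,0,0,0,0,0,0,1,0,0,0,0,0,0,0,0,0,0,0,0,0,0,0,0,0,0,0,0,0,0,0,0,0,0,0,0,1,0,0,0,0,0,0,0,0,0,0,0,0,0,0,0,0,0,0,0,0,0,0,0,0,0,0,0,0,0,0,0,0,0,3],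
  [0,0,0,0,0,0,0,0,0,0,0,0,0,0,0,0,0,0,0,0,0,0,0,0,0,0,0,0,0,0,0,0,0,0,0,0,0,0,0,0,0,0,0,0,0,0,0,0,0,0,0,0,0,0,0,0,0,0,0,0,0,0,0,0,0,0,0,0,0,0,0,0,0,0,0,0,0,0,0,0,0,0,0,0,0,0,0,0,0,0,0,0,0,0,0,0,0,0,0,0,0,0,0,0,0,0,0,0,0,0,0,0,0,0,0,0,0,0,0,0,0,0,0,0,0,0,0,0,0,0,0,0,0,0,0,0,0,0,0,0,0,0,0,0,0,0,0,0,0,0,0,0,0,0,0,0,0,0,0,0,0,0,0,0,0,0,0,0,0,0,0,0,0,0,0,0,0,0,0,0,0,0,0,0,0,0,0,0,0,0,0,0,0,0,0,0,0,0,0,0,0,0,0,0,0,0,0,0,0,0,0,0,0,0,0,0,0,0,0,0,0,0,0,0,0,0,0,0,0,0,0,0,0,1],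
  [0,0,0,0,0,0,0,0,0,0,0,0,0,0,0,0,0,0,0,0,0,0,0,0,0,0,0,0,0,0,0,0,0,0,0,0,0,0,0,0,0,0,0,0,0,0,0,0,0,0,0,0,0,0,0,0,0,0,0,0,0,0,0,0,0,0,0,0,0,0,0,0,0,0,0,0,0,0,0,0,0,0,0,0,0,0,0,0,0,0,0,0,0,0,0,0,0,0,0,0,0,0,0,0,0,0,0,0,0,0,0,0,0,0,0,0,0,0,0,0,0,0,0,0,0,0,0,0,0,0,0,0,0,0,0,0,0,0,0,0,0,0,0,0,0,0,0,0,0,0,0,0,0,0,0,0,0,0,0,0,0,0,0,0,0,0,0,0,0,0,0,0,0,0,0,0,0,0,0,0,0,0,0,0,0,0,0,0,0,0,0,0,0,0,0,0,0,0,0,0,0,0,0,0,0,0,0,0,0,0,0,0,0,0,0,0,0,0,0,0,0,0,0,0,0,0,0,0,0,0,0,0,0,0,0,0,0,0,0,0,0,0,0,0,0,3,0,0,0,0,0,0,3],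
  [0,0,0,0,0,0,0,0,0,0,0,0,0,0,0,0,0,0,0,0,0,0,0,0,0,0,0,0,0,0,0,0,0,0,0,0,0,0,0,0,0,0,0,0,0,0,0,0,0,0,0,0,0,0,0,0,0,0,0,0,0,0,0,0,0,0,0,0,0,0,0,0,0,0,0,0,0,0,0,0,0,0,0,0,0,0,0,0,0,0,0,0,0,0,0,0,0,0,0,0,0,0,0,0,0,0,0,0,0,0,0,0,0,0,0,0,0,0,0,0,0,0,0,0,0,0,0,0,0,0,0,0,0,0,0,0,0,0,0,0,0,0,0,0,0,0,0,0,0,0,0,0,0,0,0,0,0,0,0,0,0,0,0,0,0,0,0,0,0,0,0,0,0,0,0,0,0,0,0,0,0,0,0,0,0,0,0,0,0,0,0,0,0,0,0,0,0,0,0,0,0,0,0,0,0,0,0,0,0,0,0,0,0,0,0,0,0,0,0,0,0,0,0,0,0,0,0,0,0,0,0,0,0,0,0,0,0,0,0,0,0,0,0,0,0,0,0,0,0,0,0,0,0,0,0,0,0,0,0,0,0,3],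
  [0,0,0,0,0,0,0,0,0,0,0,0,0,0,0,0,0,0,0,0,0,0,0,0,0,0,0,0,0,0,0,0,0,0,0,0,0,0,0,0,0,0,0,0,0,0,0,0,0,0,0,0,0,0,0,0,0,0,0,0,0,0,0,0,0,0,0,0,0,0,0,0,0,0,0,0,0,0,0,0,0,0,0,0,0,0,0,0,0,0,0,0,0,0,0,0,0,0,0,0,0,0,0,0,0,0,0,0,0,0,0,0,0,0,0,0,0,0,0,0,0,0,0,0,0,0,0,0,0,0,0,0,0,0,0,0,0,0,0,0,0,0,0,0,0,0,0,0,0,0,0,0,0,0,0,0,0,0,0,0,0,0,0,0,0,0,0,0,0,0,0,0,0,0,0,0,0,0,0,0,0,0,0,0,0,0,0,0,0,0,0,0,0,0,0,0,0,0,0,0,0,0,0,0,0,0,0,0,0,0,0,0,0,0,0,0,0,0,0,0,0,0,0,0,0,0,0,0,0,0,0,0,0,0,0,0,0,0,1,0,0,0,0,0,0,0,0,0,0,0,0,0,0,0,0,1,0,1,0,0,0,0,0,0,0,0,0,0,0,3,0,0,0,0,0,0,0,0,0,0,0,0,3],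
  [0,0,0,0,0,0,0,0,0,0,0,0,0,0,0,0,0,0,0,0,0,0,0,0,0,0,0,0,0,0,0,0,0,0,0,0,0,0,0,0,0,0,0,0,0,0,0,0,0,0,0,0,0,0,0,0,0,0,0,0,0,0,0,0,0,0,0,0,0,0,0,0,0,0,0,0,0,0,0,0,0,0,0,0,0,0,0,0,0,0,0,0,0,0,0,0,0,0,0,0,0,0,0,0,0,0,0,0,0,0,0,0,0,0,0,0,0,0,0,0,0,0,0,0,0,0,0,0,0,0,0,0,0,0,0,0,0,0,0,0,0,0,0,0,0,0,0,0,0,0,0,0,0,0,0,0,0,0,0,0,0,0,0,0,0,0,0,0,0,0,0,0,0,0,0,0,0,0,0,0,0,0,0,0,0,0,0,0,0,0,0,0,0,0,0,0,0,0,0,0,0,0,0,0,0,0,0,0,0,0,0,0,0,0,0,0,0,0,0,0,0,0,0,0,0,0,0,0,0,0,0,0,0,0,0,0,0,0,0,0,0,0,0,0,0,0,0,0,0,0,0,0,0,0,0,0,1,0,0,0,0,0,0,0,0,0,0,0,0,0,0,0,0,0,0,0,3],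
  [0,0,0,0,0,0,0,0,0,0,0,0,0,0,0,0,0,0,0,0,0,0,0,0,0,0,0,0,0,0,0,0,0,0,0,0,0,0,0,0,0,0,0,0,0,0,0,0,0,0,0,0,0,0,0,0,0,0,0,0,0,0,0,0,0,0,0,0,0,0,0,0,0,0,0,0,0,0,0,0,0,0,0,0,0,0,0,0,0,0,0,0,0,0,0,0,0,0,0,0,0,0,0,0,0,0,0,0,0,0,0,0,0,0,0,0,0,0,0,0,0,0,0,0,0,0,0,0,0,0,0,0,0,0,0,0,0,0,0,0,0,0,0,0,0,0,0,0,0,0,0,0,0,0,0,0,0,0,0,0,0,0,0,0,0,0,0,0,0,0,0,0,0,0,0,0,0,0,0,0,0,0,0,0,0,0,0,0,0,0,0,0,0,0,0,0,0,0,0,0,0,0,0,0,0,0,0,0,0,0,0,0,0,0,0,0,0,0,0,0,0,0,0,0,0,0,0,0,0,0,0,0,0,0,0,0,0,0,0,0,0,0,0,0,0,0,0,0,0,0,0,0,0,0,0,0,0,1,0,0,0,0,0,0,0,0,0,0,0,0,0,0,0,0,0,0,0,0,0,0,0,0,3],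
  [0,0,0,0,0,0,0,0,0,0,0,0,0,0,0,0,0,0,0,0,0,0,0,0,0,0,0,0,0,0,0,0,0,0,0,0,0,0,0,0,0,0,0,0,0,0,0,0,0,0,0,0,0,0,0,0,0,0,0,0,0,0,0,0,0,0,0,0,0,0,0,0,0,0,0,0,0,0,0,0,0,0,0,0,0,0,0,0,0,0,0,0,0,0,0,0,0,0,0,0,0,0,0,0,0,0,0,0,0,0,0,0,0,0,0,0,0,0,0,0,0,0,0,0,0,0,0,0,0,0,0,0,0,0,0,0,0,0,0,0,0,0,0,0,0,0,0,0,0,0,0,0,0,0,0,0,0,0,0,0,0,0,0,0,0,0,0,0,0,0,0,0,0,0,0,0,0,0,0,0,0,0,0,0,0,0,0,0,0,0,0,0,0,0,0,0,0,0,0,0,0,0,0,0,0,0,0,0,0,0,0,0,0,0,0,0,0,0,0,0,0,0,0,0,0,0,0,0,0,0,0,0,0,0,0,0,0,0,0,0,0,0,0,0,0,0,0,0,0,0,0,0,0,0,0,0,0,0,0,1,0,0,0,0,0,0,0,0,0,0,0,0,0,0,0,0,0,0,0,0,0,0,0,0,0,0,0,0,0,0,0,3],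
  [0,0,0,0,0,0,0,0,0,0,0,0,0,0,0,0,0,0,0,0,0,0,0,0,0,0,0,0,0,0,0,0,0,0,0,0,0,0,0,0,0,0,0,0,0,0,0,0,0,0,0,0,0,0,0,0,0,0,0,0,0,0,0,0,0,0,0,0,0,0,0,0,0,0,0,0,0,0,0,0,0,0,0,0,0,0,0,0,0,0,0,0,0,0,0,0,0,0,0,0,0,0,0,0,0,0,0,0,0,0,0,0,0,0,0,0,0,0,0,0,0,0,0,0,0,0,0,0,0,0,0,0,0,0,0,0,0,0,0,0,0,0,0,0,0,0,0,0,0,0,0,0,0,0,0,0,0,0,0,0,0,0,0,0,0,0,0,0,0,0,0,0,0,0,0,0,0,0,0,0,0,0,0,0,0,0,0,0,0,0,0,0,0,0,0,0,0,0,0,0,0,0,0,0,0,0,0,0,0,0,0,0,0,0,0,0,0,0,0,0,0,0,0,0,0,0,0,0,0,0,0,0,0,0,0,0,0,0,0,0,0,0,0,0,1,0,0,0,0,0,0,0,0,0,0,0,0,0,0,0,0,0,1,1,0,0,0,0,0,0,0,0,0,0,0,0,0,0,0,0,0,0,0,0,0,0,0,0,0,0,0,0,0,0,0,0,0,1,1],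
  [0,0,0,0,0,0,0,0,0,0,0,0,0,0,0,0,0,0,0,0,0,0,0,0,0,0,0,0,0,0,0,0,0,0,0,0,0,0,0,0,0,0,0,0,0,0,0,0,0,0,0,0,0,0,0,0,0,0,0,0,0,0,0,0,0,0,0,0,0,0,0,0,0,0,0,0,0,0,0,0,0,0,0,0,0,0,0,0,0,0,0,0,0,0,0,0,0,0,0,0,0,0,0,0,0,0,0,0,0,0,0,0,0,0,0,0,0,0,0,0,0,0,0,0,0,0,0,0,0,0,0,0,0,0,0,0,0,0,0,0,0,0,0,0,0,0,0,0,0,0,0,0,0,0,0,0,0,0,0,0,0,0,0,0,0,0,0,0,0,0,0,0,0,0,0,0,0,0,0,0,0,0,0,0,0,0,0,0,0,0,0,0,0,0,0,0,0,0,0,0,0,0,0,0,0,0,0,0,0,0,0,0,0,0,0,0,0,0,0,0,0,0,0,0,0,0,0,0,0,0,0,0,0,0,0,0,0,0,0,0,0,0,0,0,0,0,0,0,0,0,0,0,0,0,0,0,0,0,0,0,0,0,0,1,0,0,0,0,0,0,0,0,0,0,0,0,0,0,0,0,0,0,0,0,0,0,0,0,0,0,0,0,0,0,0,0,0,0,1],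
  [0,0,0,0,0,0,0,0,0,0,0,0,0,0,0,0,0,0,0,0,0,0,0,0,0,0,0,0,0,0,0,0,0,0,0,0,0,0,0,0,0,0,0,0,0,3,0,0,0,0,0,0,0,0,0,0,0,0,0,0,0,0,0,0,0,0,0,0,0,0,0,0,0,0,0,0,0,0,0,0,0,0,0,0,0,0,0,0,0,0,0,0,0,0,0,0,0,0,0,0,0,0,0,0,0,0,0,0,0,0,0,0,0,0,0,0,0,0,0,0,0,0,0,0,0,0,0,0,0,0,0,0,0,0,0,0,0,0,0,0,0,0,0,0,0,0,0,0,0,0,0,0,0,0,0,0,0,0,0,0,0,0,0,0,0,0,0,0,0,0,0,0,0,0,0,0,0,0,0,0,0,0,0,0,0,0,0,0,0,0,0,0,0,0,0,0,0,0,0,0,0,0,0,0,0,0,0,0,0,0,0,0,0,0,0,0,0,0,0,0,0,0,0,0,0,0,0,0,0,0,0,0,0,0,0,0,0,0,0,0,0,0,0,0,0,0,0,0,1,0,0,0,0,0,0,0,0,0,0,0,0,0,0,0,0,0,0,0,0,0,0,0,0,0,0,0,0,0,0,0,0,0,0,1],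
  [0,0,0,0,0,0,0,0,0,0,0,0,0,0,0,0,0,0,0,0,0,0,0,0,0,0,0,0,0,0,0,0,0,0,0,0,0,0,0,0,0,0,0,0,0,0,0,0,0,0,0,0,0,0,0,0,0,0,0,0,0,0,0,0,0,0,0,0,0,0,0,0,0,0,0,0,0,0,0,0,0,0,0,0,0,0,0,0,0,0,0,0,0,0,0,0,0,0,0,0,0,0,0,0,0,0,0,0,0,0,0,0,0,0,0,0,0,0,0,0,0,0,0,0,0,0,0,0,0,0,0,0,0,0,0,0,0,0,0,0,0,0,0,0,0,0,0,0,0,0,0,0,0,0,0,0,0,0,0,0,0,0,0,0,0,0,0,0,0,0,0,0,0,0,0,0,0,0,0,0,0,0,0,0,0,0,0,0,0,0,0,0,0,0,0,0,0,0,0,0,0,0,0,0,0,0,0,0,0,0,0,0,0,0,0,0,0,0,0,0,0,0,0,0,0,0,0,0,0,0,0,0,0,0,0,0,0,0,0,0,0,0,0,0,0,0,0,0,0,0,0,0,0,0,0,0,0,0,0,0,0,0,0,1],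
  [0,0,0,0,0,0,0,0,0,0,0,0,0,0,0,0,0,0,0,0,0,0,0,0,0,0,0,0,0,0,0,0,0,0,0,0,0,0,0,0,0,0,0,0,0,0,0,0,0,0,0,0,0,0,0,0,0,0,0,0,0,0,0,0,0,0,0,0,0,0,0,0,0,0,0,0,0,0,0,0,0,0,0,0,0,0,0,0,0,0,0,0,0,0,0,0,0,0,0,0,0,0,0,0,0,0,0,0,0,0,0,0,0,0,0,0,0,0,0,0,0,0,0,0,0,0,0,0,0,0,0,0,0,0,0,0,0,0,0,0,0,0,0,0,0,0,0,0,0,0,0,0,0,0,0,0,0,0,0,0,0,0,0,0,0,0,0,0,0,0,0,0,0,0,0,0,0,0,0,0,0,0,0,0,0,0,0,0,0,0,0,0,0,0,0,0,0,0,0,0,0,0,0,0,0,0,0,0,0,0,0,0,0,0,0,0,0,0,0,0,0,0,0,0,0,0,0,0,0,0,0,0,0,0,0,0,0,0,0,0,0,0,0,0,0,0,0,0,0,0,0,0,0,0,0,0,0,0,0,0,0,0,0,0,0,0,0,0,0,0,0,0,3],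
  [0,0,0,0,0,0,0,0,0,0,0,0,0,0,0,0,0,0,0,0,0,0,0,0,0,0,0,0,0,0,0,0,0,0,0,0,0,0,0,0,0,0,0,0,0,0,0,0,0,0,0,0,0,0,0,0,0,0,0,0,0,0,0,0,0,0,0,0,0,0,0,0,0,0,0,0,0,0,0,0,0,0,0,0,0,0,0,0,0,0,0,0,0,0,0,0,0,0,0,0,0,0,0,0,0,0,0,0,0,0,0,0,0,0,0,0,0,0,0,0,0,0,0,0,0,0,0,0,0,0,0,0,0,0,0,0,0,0,0,0,0,0,0,0,0,0,0,0,0,0,0,0,0,0,0,0,0,0,0,0,0,0,0,0,0,0,0,0,0,0,0,0,0,0,0,0,0,0,0,0,0,0,0,0,0,0,0,0,0,0,0,0,0,0,0,0,0,0,0,0,0,0,0,0,0,0,0,0,0,0,0,0,0,0,0,0,0,0,0,0,0,0,0,0,0,0,0,0,0,0,0,0,0,0,0,0,0,0,0,0,0,0,0,0,0,0,0,0,0,0,0,0,0,0,0,0,0,0,0,0,0,0,0,0,0,0,0,0,0,0,0,0,0,0,0,0,0,0,0,1],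
  [0,0,0,0,0,0,0,0,0,0,0,0,0,0,0,0,0,0,0,0,0,0,0,0,0,0,0,0,0,0,0,0,0,0,0,0,0,0,0,0,0,0,0,0,0,0,0,0,0,0,0,0,0,0,0,0,0,0,0,0,0,0,0,0,0,0,0,0,0,0,0,0,0,0,0,0,0,0,0,0,0,0,0,0,0,0,0,0,0,0,0,0,0,0,0,0,0,0,0,0,0,0,0,0,0,0,0,0,0,0,0,0,0,0,0,0,0,0,0,0,0,0,0,0,0,0,0,0,0,0,0,0,0,0,0,0,0,0,0,0,0,0,0,0,0,0,0,0,0,0,0,0,0,0,0,0,0,0,0,0,0,0,0,0,0,0,0,0,0,0,0,0,0,0,0,0,0,0,0,0,0,0,0,0,0,0,0,0,0,0,0,0,0,0,0,0,0,0,0,0,0,0,0,0,0,0,0,0,0,0,0,0,0,0,0,0,0,0,0,0,0,0,0,0,0,0,0,0,0,0,0,0,0,0,0,0,0,0,0,0,0,0,0,0,0,0,0,0,0,0,0,0,0,0,0,0,0,0,0,0,0,0,0,0,0,0,0,0,0,0,0,0,0,0,0,0,0,0,0,0,0,1],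
  [0,0,0,0,0,0,0,0,0,0,0,0,0,0,0,0,0,0,0,0,0,0,0,0,0,0,0,0,0,0,0,0,0,0,0,0,0,0,0,0,0,0,0,0,0,0,0,0,0,0,0,0,0,0,0,0,0,0,0,0,0,0,0,0,0,0,0,0,0,0,0,0,0,0,0,0,0,0,0,0,0,0,0,0,0,0,0,0,0,0,0,0,0,0,0,0,0,0,0,0,0,0,0,0,0,0,0,0,0,0,0,0,0,0,0,0,0,0,0,0,0,0,0,0,0,0,0,0,0,0,0,0,0,0,0,0,0,0,0,0,0,0,0,0,0,0,0,0,0,0,0,0,0,0,0,0,0,0,0,0,0,0,0,0,0,0,0,0,0,0,0,0,0,0,0,0,0,0,0,0,0,0,0,0,0,0,0,0,0,0,0,0,0,0,0,0,0,0,0,0,0,0,0,0,0,0,0,0,0,0,0,0,0,0,0,0,0,0,0,0,0,0,0,0,0,0,0,0,0,0,0,0,0,0,0,0,0,0,0,0,0,0,0,0,0,0,0,0,0,0,0,0,0,0,0,0,0,0,0,0,0,0,0,0,0,0,0,0,0,0,0,1,0,0,0,0,0,0,0,0,0,0,0,1,1],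
  [0,0,0,0,0,0,0,0,0,0,0,0,0,0,0,0,0,0,0,0,0,0,0,0,0,0,0,0,0,0,0,0,0,0,0,0,0,0,0,0,0,0,0,0,0,0,0,0,0,0,0,0,0,0,0,0,0,0,0,0,0,0,0,0,0,0,0,0,0,0,0,0,0,0,0,0,0,0,0,0,0,0,0,0,0,0,0,0,0,0,0,0,0,0,0,0,0,0,0,0,0,0,0,0,0,0,0,0,0,0,0,0,0,0,0,0,0,0,0,0,0,0,0,0,0,0,0,0,0,0,0,0,0,0,0,0,0,0,0,0,0,0,0,0,0,0,0,0,0,0,0,0,0,0,0,0,0,0,0,0,0,0,0,0,0,0,0,0,0,0,0,0,0,0,0,0,0,0,0,0,0,0,0,0,0,0,0,0,0,0,0,0,0,0,0,0,0,0,0,0,0,0,0,0,0,0,0,0,0,0,0,0,0,0,0,0,0,0,0,0,0,0,0,0,0,0,0,0,0,0,0,0,0,0,0,0,0,0,0,0,0,0,0,0,0,0,0,0,0,0,0,0,0,0,0,0,0,0,0,0,0,0,0,0,0,0,0,0,0,0,0,0,0,0,0,0,0,0,0,0,0,0,0,0,1],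
  [0,0,0,0,0,0,0,0,0,0,0,0,0,0,0,0,0,0,0,0,0,0,0,0,0,0,0,0,0,0,0,0,0,0,0,0,0,0,0,0,0,0,0,0,0,0,0,0,0,0,0,0,0,0,0,0,0,0,0,0,0,0,0,0,0,0,0,0,0,0,0,0,0,0,0,0,0,0,0,0,0,0,0,0,0,0,0,0,0,0,0,0,0,0,0,0,0,0,0,0,0,0,0,0,0,0,0,0,0,0,0,0,0,0,0,0,0,0,0,0,0,0,0,0,0,0,0,0,0,0,0,0,0,0,0,0,0,0,0,0,0,0,0,0,0,0,0,0,0,0,0,0,0,0,0,0,0,0,0,0,0,0,0,0,0,0,0,0,0,0,0,0,0,0,0,0,0,0,0,0,0,0,0,0,0,0,0,0,0,0,0,0,0,0,0,0,0,0,0,0,0,0,0,0,0,0,0,0,0,0,0,0,0,0,0,0,0,0,0,0,0,0,0,0,0,0,0,0,0,0,0,0,0,0,0,0,0,0,0,0,0,0,0,0,0,0,0,0,0,0,0,0,0,0,0,0,0,0,0,0,0,0,0,0,0,0,0,0,0,0,0,0,0,0,0,0,0,0,1],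
  [0,0,0,0,0,0,0,0,0,0,0,0,0,0,0,0,0,0,0,0,0,0,0,0,0,0,0,0,0,0,0,0,0,0,0,0,0,0,0,0,0,0,0,0,0,0,0,0,0,0,0,0,0,0,0,0,0,0,0,0,0,0,0,0,0,0,0,0,0,0,0,0,0,0,0,0,0,0,0,0,0,0,0,0,0,0,0,0,0,0,0,0,0,0,0,0,0,0,0,0,0,0,0,0,0,0,0,0,0,0,0,0,0,0,0,0,0,0,0,0,0,0,0,0,0,0,0,0,0,0,0,0,0,0,0,0,0,0,0,0,0,0,0,0,0,0,0,0,0,0,0,0,0,0,0,0,0,0,0,0,0,0,0,0,0,0,0,0,0,0,0,0,0,0,0,0,0,0,0,0,0,0,0,0,0,0,0,0,0,0,0,0,0,0,0,0,0,0,0,0,0,0,0,0,0,0,0,0,0,0,0,0,0,0,0,0,0,0,0,0,0,0,0,0,0,0,0,0,0,0,0,0,0,0,0,0,0,0,0,0,0,0,0,0,0,0,0,0,0,0,0,0,0,0,0,0,0,0,0,0,0,0,0,0,0,0,0,0,0,0,0,0,0,0,0,0,0,0,0,0,0,0,0,0,0,0,0,0,0,1],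
  [0,0,0,0,0,0,0,0,0,0,0,0,0,0,0,0,0,0,0,0,0,0,0,0,0,0,0,0,0,0,0,0,0,0,0,0,0,0,0,0,0,0,0,0,0,0,0,0,0,0,0,0,0,0,0,0,0,0,0,0,0,0,0,0,0,0,0,0,0,0,0,0,0,0,0,0,0,0,0,0,0,0,0,0,0,0,0,0,0,0,0,0,0,0,0,0,0,0,0,0,0,0,0,0,0,0,0,0,0,0,0,0,0,0,0,0,0,0,0,0,0,0,0,0,0,0,0,0,0,0,0,0,0,0,0,0,0,0,0,0,0,0,0,0,0,0,0,0,0,0,0,0,0,0,0,0,0,0,0,0,0,0,0,0,0,0,0,0,0,0,0,0,0,0,0,0,0,0,0,0,0,0,0,0,0,0,0,0,0,0,0,0,0,0,0,0,0,0,0,0,0,0,0,0,0,0,0,0,0,0,0,0,0,0,0,0,0,0,0,0,0,0,0,0,0,0,0,0,0,0,0,0,0,0,0,0,0,0,0,0,0,0,0,0,0,0,0,0,0,0,0,0,0,0,0,0,0,0,0,0,0,0,0,0,0,0,0,0,0,0,0,0,0,0,0,0,0,0,0,0,0,0,0,0,0,0,0,0,0,0,0,0,0,0,0,0,1],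
  [0,0,0,0,0,0,0,0,0,3,0,0,0,0,0,3,0,0,0,0,0,0,0,0,0,0,0,0,0,0,0,0,0,0,0,0,0,0,0,0,0,0,0,0,0,0,0,0,0,0,0,3,0,0,0,0,0,0,0,0,0,0,0,0,0,0,0,0,0,0,0,0,0,0,0,0,0,0,0,0,0,0,0,0,0,0,0,0,0,0,0,3,0,0,3,0,0,0,0,0,0,0,0,0,0,0,0,0,0,0,0,0,0,0,0,0,0,0,0,0,0,0,0,0,0,0,0,0,0,1,0,0,0,0,0,0,0,0,0,0,0,0,0,0,0,0,0,0,3,3,0,0,3,0,0,3,0,0,0,0,0,0,0,0,0,0,0,0,0,0,0,0,0,0,0,0,0,0,0,0,3,0,0,1,0,0,0,0,0,0,0,0,0,0,0,0,0,3,0,0,3],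
  [0,0,0,0,0,0,0,0,0,0,0,0,0,3,0,0,0,0,0,0,0,0,0,0,0,0,0,0,0,0,0,0,0,0,0,0,0,0,0,0,0,0,0,0,0,0,0,0,0,0,0,0,3,0,0,3,0,0,0,0,0,0,0,0,0,0,0,0,0,0,0,0,0,0,0,0,0,0,0,0,0,0,0,0,0,0,0,0,0,0,0,0,0,0,0,0,0,0,0,0,0,0,0,0,0,0,0,0,0,0,3,0,0,3,0,0,0,0,0,0,0,0,0,0,0,0,0,0,0,0,1,0,0,1,0,0,0,0,0,0,0,0,0,0,0,0,0,0,0,0,0,0,0,0,0,0,0,0,0,0,0,0,0,0,3,0,0,0,0,3,0,0,0,0,0,0,0,0,0,0,0,1,0,0,0,0,0,0,0,0,0,0,0,0,0,0,0,0,0,0,0,0,0,0,0,0,0,0,0,0,0,3],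
  [0,0,0,0,0,0,0,0,0,0,0,0,0,0,0,0,0,0,0,0,0,0,0,0,0,0,0,0,0,0,0,0,0,0,0,0,0,0,0,0,0,0,0,0,0,0,0,0,0,0,0,0,0,0,0,0,0,0,0,0,0,0,0,0,0,0,0,0,0,0,0,0,0,0,0,0,0,0,0,0,0,0,0,0,0,0,0,0,0,0,0,0,0,0,0,0,0,0,0,0,0,0,0,0,0,0,0,0,0,0,0,0,0,0,0,0,0,0,0,0,0,0,0,0,0,0,0,0,0,0,0,3],
  [0,0,0,0,0,0,0,0,0,0,0,0,1,0,0,0,0,0,0,0,0,0,0,0,0,0,0,0,0,0,0,0,0,0,0,0,0,0,0,0,0,0,0,0,0,0,0,0,0,0,0,0,0,0,0,0,0,0,0,0,0,0,0,0,0,0,0,0,0,0,0,0,0,0,0,1,0,0,0,0,0,1,0,0,0,0,0,0,0,0,0,0,0,0,0,0,0,0,0,0,0,0,0,0,0,0,0,0,0,0,0,0,0,0,0,0,0,0,0,0,0,0,0,0,0,0,0,0,0,1,0,0,1,0,0,1,0,0,1,0,0,0,0,0,0,0,0,0,3,0,0,0,0,0,0,0,0,0,0,0,0,0,0,0,0,0,0,0,0,0,0,0,0,0,0,0,0,0,0,0,1,0,0,2,0,0,1,0,0,0,0,0,0,0,0,0,0,1],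
  [0,0,0,0,0,0,0,0,0,0,0,0,0,0,0,0,0,0,0,0,0,0,0,0,0,0,0,0,0,0,0,0,0,0,0,0,0,0,0,0,0,0,0,0,0,0,0,0,0,0,0,0,0,0,0,0,0,0,0,0,0,0,0,0,0,0,0,0,0,0,0,0,0,0,0,0,0,0,0,0,0,0,0,0,0,0,0,0,0,0,0,0,0,0,0,0,0,0,0,0,0,0,0,0,0,0,0,0,0,0,0,0,0,0,0,0,0,0,0,0,0,0,0,0,0,0,0,0,0,0,1,0,0,0,0,0,0,0,0,0,0,0,0,0,0,0,0,0,0,0,0,0,0,0,0,0,0,0,0,0,0,0,0,0,3],
  [0,0,0,0,0,0,0,0,0,0,0,0,0,0,0,0,0,0,0,0,0,0,0,0,0,0,0,0,0,0,0,0,0,0,0,0,0,0,0,0,0,0,0,0,0,0,0,0,0,0,0,0,0,0,0,0,0,3,0,0,0,0,0,0,0,0,0,0,0,0,0,0,0,0,0,0,0,0,0,0,0,0,0,0,0,0,0,0,0,0,0,0,0,0,0,0,0,0,0,0,0,0,0,0,0,0,0,0,0,0,0,0,0,0,0,0,0,0,0,0,0,0,0,0,0,0,0,0,0,0,0,0,1,0,0,1,0,0,0,0,0,0,0,0,0,0,0,0,0,0,0,0,0,0,0,0,0,0,0,0,0,0,0,0,0,0,0,0,0,0,0,0,0,0,0,0,0,0,0,0,1,0,0,1],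
  [0,0,0,0,0,0,0,0,0,0,0,0,0,0,0,0,0,0,0,0,0,0,0,0,0,0,0,0,0,0,0,0,0,0,0,0,0,0,0,0,0,0,0,0,0,0,0,0,0,0,0,0,0,0,0,0,0,0,0,0,0,0,0,0,0,0,0,0,0,0,0,0,0,0,0,0,0,0,0,1,0,0,0,0,0,0,0,0,0,0,0,0,0,0,0,0,0,0,0,0,0,0,0,0,0,0,0,0,0,0,0,0,0,0,0,0,0,0,0,0,0,0,0,0,0,0,0,0,0,0,0,0,0,1,0,0,1,0,0,0,0,0,0,0,0,0,0,0,0,0,0,0,0,0,0,0,0,0,0,0,0,0,0,0,0,0,0,0,0,0,0,0,0,0,0,0,0,0,0,0,0,1,0,0,1],
  [0,0,0,0,0,0,0,0,0,0,0,0,0,0,0,0,0,0,1,0,0,0,0,0,0,0,0,0,0,0,0,0,0,0,0,0,0,0,0,0,0,0,0,0,0,0,0,0,0,0,0,0,0,0,0,0,0,0,0,3,0,0,0,0,0,0,0,0,0,0,0,0,0,0,0,0,0,0,0,0,0,0,0,0,0,0,0,0,0,0,0,0,0,0,0,0,0,0,0,0,0,0,0,0,0,0,0,0,0,0,0,0,0,0,0,0,0,0,0,0,0,0,0,0,0,0,0,0,0,0,0,0,0,0,1,0,0,1,0,0,0,0,0,0,0,0,0,0,0,0,0,0,0,0,0,0,0,0,0,0,0,0,0,0,0,0,0,0,0,0,0,0,0,0,0,0,0,0,0,0,0,0,1,0,0,1,0,1,0,1,0,0,0,0,0,0,0,0,0,0,0,0,0,0,0,0,0,0,0,0,0,0,0,0,0,0,0,0,0,0,0,0,0,0,0,0,0,0,0,0,0,0,0,0,0,0,0,0,0,0,0,0,0,0,0,0,0,0,0,0,0,0,0,0,0,0,1,0,1,0,0,0,0,1,0,0,0,0,0,0,0,0,0,1,0,0,0,0,1,0,0,0,0,0,0,0,0,0,0,1],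
  [0,0,0,0,0,0,0,0,0,0,0,0,0,0,0,0,0,0,0,0,0,0,0,0,0,0,0,0,0,0,0,0,0,0,0,0,0,0,0,0,0,0,0,0,0,0,0,0,0,0,0,0,0,0,0,0,0,0,0,0,0,0,0,0,0,0,0,0,0,0,0,0,0,0,0,0,0,0,0,0,0,0,0,0,0,0,0,0,0,0,0,0,0,0,0,0,0,0,0,0,0,0,0,0,0,0,0,0,0,0,0,0,0,0,0,0,0,0,0,0,0,0,0,0,0,0,0,0,0,0,0,0,0,0,0,1,0,0,0,0,0,0,0,0,0,0,0,0,0,0,0,0,0,0,0,0,0,0,0,0,0,0,0,0,0,0,0,0,0,0,0,0,0,0,0,0,0,0,0,0,0,0,0,1],
  [0,0,0,0,0,0,0,0,0,0,0,0,0,0,0,0,0,0,0,0,0,0,0,0,0,0,0,0,0,0,0,0,0,0,0,0,0,0,0,0,0,0,0,0,0,0,0,0,0,0,0,0,0,0,0,0,0,0,0,0,0,0,0,0,0,0,0,0,0,0,0,0,0,0,0,0,0,0,0,0,0,0,0,0,0,0,0,0,0,0,0,0,0,0,0,0,0,0,0,0,0,0,0,0,0,0,0,0,0,0,0,0,0,0,0,0,0,0,0,0,0,0,0,0,0,0,0,0,0,0,0,0,0,0,0,0,1,0,0,0,0,0,0,0,0,0,0,0,0,0,0,0,0,0,0,0,0,0,0,0,0,0,0,0,0,0,0,0,0,0,0,0,0,0,0,0,0,0,0,0,0,0,0,0,1],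
  [0,0,0,0,0,0,0,0,0,0,0,0,0,0,0,0,0,0,1,0,0,0,0,0,0,0,0,0,0,0,0,0,0,0,0,0,0,0,0,0,0,0,0,0,0,0,0,0,0,0,0,0,0,0,0,0,0,0,0,0,0,0,0,0,0,0,0,0,0,0,0,0,0,0,0,0,0,0,0,0,0,0,1,0,0,0,0,0,0,1,0,0,0,0,0,0,0,0,0,0,0,0,0,0,0,0,0,0,0,0,0,0,0,0,0,0,0,0,0,0,0,0,0,0,0,0,0,0,0,0,0,0,0,0,0,0,0,1,0,1,0,1,0,0,0,0,1,0,0,0,0,0,0,0,0,0,0,0,0,0,0,0,0,0,0,0,0,0,0,0,0,0,0,0,0,0,0,0,0,0,0,0,0,0,0,1,0,1,0,2,0,0,0,0,1,0,0,0,0,0,0,0,0,0,0,0,0,0,0,0,0,0,0,0,0,0,0,0,0,0,0,0,0,0,0,0,0,0,0,0,0,0,0,0,0,0,0,0,0,0,0,0,0,0,0,0,0,0,0,0,0,0,0,0,0,0,0,0,0,0,0,0,0,0,0,0,0,0,0,0,0,0,0,1],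
  [0,0,0,0,0,0,0,0,0,0,0,0,0,0,0,0,0,0,0,0,0,0,0,0,0,0,0,0,0,0,0,0,0,0,0,0,0,0,0,0,0,0,0,0,0,0,0,0,0,0,0,0,0,0,0,0,0,0,0,0,0,0,0,0,0,0,0,0,0,0,0,0,0,0,0,0,0,0,0,0,0,0,0,0,0,0,0,0,0,0,0,0,0,0,0,0,0,0,0,0,0,0,0,0,0,0,0,0,0,0,0,0,0,0,0,0,0,0,0,0,0,0,0,0,0,0,0,0,0,0,0,0,0,0,0,0,0,0,1,0,0,0,0,0,0,0,0,0,0,0,0,0,0,0,0,0,0,0,0,0,0,0,0,0,0,0,0,0,0,0,0,0,0,0,0,0,0,0,0,0,0,0,0,0,0,0,1],
  [0,0,0,0,0,0,0,0,0,0,0,0,0,0,0,0,0,0,0,0,0,0,0,0,0,0,0,0,0,0,0,0,0,0,0,0,0,0,0,0,0,0,0,0,0,0,0,0,0,0,0,0,0,0,0,0,0,0,0,0,0,0,0,3,0,0,0,0,0,0,0,0,0,0,0,0,0,0,0,0,0,0,0,0,0,0,0,0,0,0,0,0,0,0,0,0,0,0,0,0,0,0,0,0,0,0,0,0,0,0,0,0,0,0,0,0,0,0,0,0,0,0,0,0,0,0,0,0,0,0,0,0,0,0,0,0,0,0,0,1,0,1,0,0,0,0,0,0,0,0,0,0,0,0,0,0,0,0,0,0,0,0,0,0,0,0,0,0,0,0,0,0,0,0,0,0,0,0,0,0,0,0,0,0,0,0,0,1,0,1],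
  [0,0,0,0,0,0,0,0,0,0,0,0,0,0,0,0,0,0,0,0,1,1,1,0,0,0,0,0,0,0,0,0,0,0,0,0,0,0,0,0,0,0,0,0,0,0,0,0,0,0,0,0,0,0,0,0,0,0,0,0,0,0,0,0,0,0,0,0,0,0,0,0,0,0,0,0,0,0,0,0,0,0,0,0,0,1,0,0,0,0,0,0,0,0,0,0,0,0,0,0,0,0,0,0,0,0,0,0,0,0,0,0,0,0,0,0,0,0,0,0,0,0,0,0,0,0,0,0,0,0,0,0,0,0,0,0,0,0,0,0,1,0,1,1,1,0,0,0,0,0,0,0,0,0,0,0,0,0,0,0,0,0,0,0,0,0,0,0,0,0,0,0,0,0,0,0,0,0,0,0,0,0,0,0,0,0,0,0,1,0,1,2,1,1,0,0,0,0,0,0,0,0,0,0,0,0,0,0,0,0,0,0,0,0,0,0,0,0,0,0,0,0,0,0,0,0,0,0,0,0,0,0,0,0,0,0,0,0,0,0,0,0,0,0,0,0,0,0,0,0,0,0,0,0,0,0,0,0,0,0,0,0,0,0,0,0,0,0,0,0,0,0,0,0,0,0,0,0,0,0,0,0,0,0,0,0,0,0,0,0,1,1,1,0,0,2,0,2],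
  [0,0,0,0,0,0,0,0,0,0,0,0,0,0,0,0,0,0,0,0,0,0,0,0,0,0,0,0,0,0,0,0,0,0,0,0,0,0,0,0,0,0,0,0,0,0,0,0,0,0,0,0,0,0,0,0,0,0,0,0,0,0,0,0,0,0,0,0,0,0,0,0,0,0,0,0,0,0,0,0,0,0,0,0,0,0,0,0,0,0,0,0,0,0,0,0,0,0,0,0,0,0,0,0,0,0,0,0,0,0,0,0,0,0,0,0,0,0,0,0,0,0,0,0,0,0,0,0,0,0,0,0,0,0,0,0,0,0,0,0,0,1,0,0,0,0,0,0,0,0,0,0,0,0,0,0,0,0,0,0,0,0,0,0,0,0,0,0,0,0,0,0,0,0,0,0,0,0,0,0,0,0,0,0,0,0,0,0,0,1],
  [0,0,0,0,0,0,0,0,0,0,0,0,0,0,0,0,0,0,0,0,0,0,0,0,0,0,0,0,0,0,0,0,0,0,0,0,0,0,0,0,0,0,0,0,0,0,0,0,0,0,0,0,0,0,0,0,0,0,0,0,0,0,0,0,0,3,3,0,0,0,0,0,0,0,0,0,0,0,0,0,0,0,0,0,0,0,0,0,0,0,0,0,0,0,0,0,0,0,0,0,0,0,0,0,0,0,0,0,0,0,0,0,0,0,0,0,0,0,0,0,0,0,0,0,0,0,0,0,0,0,0,0,0,0,0,0,0,0,0,0,0,0,1,1,1,0,0,0,0,0,0,0,0,0,0,0,0,0,0,0,0,0,0,0,0,0,0,0,0,0,0,0,0,0,0,0,0,0,0,0,0,0,0,0,0,0,0,0,0,0,1,1,1,0,0,0,0,0,0,0,0,0,0,0,0,0,0,0,0,0,0,0,0,0,0,0,0,0,0,0,0,0,0,0,0,0,0,0,0,0,0,0,0,0,0,0,0,0,0,0,0,0,0,0,0,0,0,0,0,0,0,0,0,0,0,0,0,0,0,0,0,0,0,0,0,0,0,0,0,0,0,0,0,0,0,0,0,0,0,0,0,0,0,0,0,0,0,0,0,0,0,0,0,0,0,1,0,1],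
  [0,0,0,0,0,0,0,0,0,0,0,0,0,0,0,0,0,0,0,0,0,0,0,0,0,0,0,0,0,0,0,0,0,0,0,0,0,0,0,0,0,0,0,0,0,0,0,0,0,0,0,0,0,0,0,0,0,0,0,0,0,0,0,0,0,0,0,0,0,0,0,0,0,0,0,0,0,0,0,0,0,0,0,0,0,0,0,0,0,0,0,0,0,0,0,0,0,0,0,0,0,0,0,0,0,0,0,0,0,0,0,0,0,0,0,0,0,0,0,0,0,0,0,0,0,0,0,0,0,0,0,0,0,0,0,0,0,0,0,0,0,0,0,1,0,0,0,0,0,0,0,0,0,0,0,0,0,0,0,0,0,0,0,0,0,0,0,0,0,0,0,0,0,0,0,0,0,0,0,0,0,0,0,0,0,0,0,0,0,0,0,1],
  [0,0,0,0,0,0,0,0,0,0,0,0,0,0,0,0,0,0,0,0,0,0,0,0,0,0,0,0,0,0,0,0,0,0,0,0,0,0,0,0,0,0,0,0,0,0,0,0,0,0,0,0,0,0,0,0,0,0,0,0,0,0,0,0,0,0,0,0,0,0,0,0,0,0,0,0,0,0,0,0,0,0,0,0,0,0,0,0,1,0,0,0,0,0,0,0,0,0,0,0,0,0,0,0,0,0,0,0,0,0,0,0,0,0,0,0,0,0,0,0,0,0,0,0,0,0,0,0,0,0,0,0,0,0,0,0,0,0,0,0,0,0,0,0,1,1,0,0,0,0,0,0,0,0,0,0,0,0,0,0,0,0,0,0,0,0,0,0,0,0,0,0,0,0,0,0,0,0,0,0,0,0,0,0,0,0,0,0,0,0,0,0,1,1],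
  [0,0,0,0,0,0,0,0,0,0,0,0,0,0,0,0,0,0,0,0,0,0,0,0,0,0,0,0,0,0,0,0,0,0,0,0,0,0,0,0,0,0,0,0,0,0,0,0,0,0,0,0,0,0,0,0,0,0,0,0,0,0,0,0,0,0,0,0,0,0,0,0,0,0,0,0,0,0,0,0,0,0,0,0,0,0,0,0,0,0,0,0,0,0,0,0,0,0,0,0,0,0,0,0,0,0,0,0,0,0,0,0,0,0,0,0,0,0,0,0,0,0,0,0,0,0,0,0,0,0,0,0,0,0,0,0,0,0,0,0,0,0,0,0,0,1,0,0,0,0,0,0,0,0,0,0,0,0,0,0,0,0,0,0,0,0,0,0,0,0,0,0,0,0,0,0,0,0,0,0,0,0,0,0,0,0,0,0,0,0,0,0,0,1],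
  [0,0,0,0,0,0,0,0,0,0,0,0,0,0,0,0,0,0,0,0,0,0,0,0,0,0,0,0,0,0,0,0,0,0,0,0,0,0,0,0,0,0,0,0,0,0,0,0,0,0,0,0,0,0,0,0,0,0,0,0,0,0,0,0,0,0,0,0,0,0,0,0,0,0,0,0,0,0,0,0,0,0,0,0,0,0,0,0,0,0,0,0,0,0,0,0,0,0,0,0,0,0,0,0,0,0,0,0,0,0,0,0,0,0,0,0,0,0,0,0,0,0,0,0,0,0,0,0,0,0,0,0,0,0,0,0,0,0,0,0,0,0,0,0,0,0,1,0,0,0,0,0,0,0,0,0,0,0,0,0,0,0,0,0,0,0,0,0,0,0,0,0,0,0,0,0,0,0,0,0,0,0,0,0,0,0,0,0,0,0,0,0,0,0,1],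
  [0,0,0,0,0,0,0,0,0,0,0,0,0,0,0,0,0,0,0,0,0,0,0,0,0,0,0,0,0,0,0,0,0,0,0,0,0,0,0,0,0,0,0,0,0,0,0,0,0,0,0,0,0,0,3,0,0,0,0,0,0,0,0,0,0,0,0,0,0,0,0,0,0,0,0,0,0,0,0,0,0,0,0,0,0,0,0,0,0,0,0,0],
  [0,0,0,0,0,0,0,0,0,0,0,0,0,0,0,0,0,0,0,0,0,0,0,0,0,0,0,0,0,0,0,0,0,0,0,0,0,0,0,0,0,0,0,0,0,0,0,0,0,0,0,0,0,0,0,0,0,0,0,0,0,0,0,0,0,0,0,0,0,0,0,0,0,0,0,0,0,0,0,0,0,0,0,0,0,0,0,0,0,0,0,0,0,0,0,1,0,0,0,0,0,1],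
  [0,0,0,0,0,0,0,0,0,0,0,0,0,0,0,0,0,0,0,0,0,0,0,0,0,0,0,0,0,0,0,0,0,0,0,0,0,0,0,0,0,0,0,0,0,0,0,0,0,0,0,0,0,0,0,0,3,0,0,0,0,0,0,0,0,0,0,0,0,0,0,0,0,0,0,0,0,0,0,0,0,0,0,0,0,0,0,0,0,0,0,0,0,0],
  [0,0,0,0,0,0,0,0,0,0,0,0,0,0,0,0,0,0,0,0,0,0,0,0,0,0,0,0,0,0,0,0,0,0,0,0,0,0,0,0,0,0,0,0,0,0,0,0,0,0,0,0,0,0,0,0,0,3,0,0,3,0,0,0,0,0,0,0,0,0,0,0,0,0,0,0,0,0,0,0,0,0,0,0,0,0,0,0,0,0,0,0,0,0,0],
  [0,0,0,0,0,0,0,0,0,0,0,0,0,0,0,0,0,0,0,0,0,0,0,0,0,0,0,0,0,0,0,0,0,0,0,0,0,0,0,0,0,0,0,0,0,0,0,0,0,0,0,0,0,0,0,0,0,0,0,3,0,0,3,0,0,0,0,0,0,0,0,0,0,0,0,0,0,0,0,0,0,0,0,0,0,0,0,0,0,0,0,0,0,0,0,0,0,0,0,1,0,0,0,0,0,0,0,0,0,0,0,0,0,0,0,0,0,0,0,0,0,0,0,0,0,0,0,0,0,0,0,0,0,0,0,0,0,0,0,0,0,0,0,0,0,0,0,0,0,0,0,0,0,0,0,0,0,0,0,0,0,0,0,0,0,0,0,0,0,0,0,0,0,0,0,0,0,0,0,0,0,0,0,0,0,0,0,0,0,0,0,0,0,0,0,0,0,0,0,0,0,0,0,0,0,0,0,0,0,0,0,0,0,0,0,0,0,0,0,0,0,0,0,0,0,0,0,0,0,0,0,0,0,0,0,0,0,0,0,0,0,0,0,0,0,1,0,0,1,0,0,0,0,0,0,0,0,0,0,0,0,0,0,0,0,0,0,0,0,0,0,0,1,0,0,0,0,0,1,0,0,0,0,0,3,0,0,0,0,0,0,0,0,0],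
  [0,0,0,0,0,0,0,0,0,0,0,0,0,0,0,0,0,0,0,0,0,0,0,0,0,0,0,0,0,0,0,0,0,0,0,0,0,0,0,0,0,0,0,0,0,0,0,0,0,0,0,0,0,0,0,0,0,0,0,0,0,3,0,0,3,0,0,0,0,0,0,0,0,0,0,0,0,0,0,0,0,0,0,0,0,0,0,0,0,0,0,0,0,0,0,0,0,0,0,0],
  [0,0,0,0,0,0,0,0,0,0,0,0,0,0,0,0,0,0,0,0,0,0,0,0,0,0,0,0,0,0,0,0,0,0,0,0,0,0,0,0,0,0,0,0,0,0,0,0,0,0,0,0,0,0,0,0,0,0,0,0,0,0,0,0,0,0,0,0,0,0,0,0,0,0,0,0,0,0,0,0,0,0,0,0,0,0,0,0,0,0,0,0,0,0,0,0,0,0,0,0,0,0,1,0,0,0,0,0,0,1],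
  [0,0,0,0,0,0,0,0,0,0,0,0,0,0,0,0,0,0,0,0,0,0,0,0,0,0,0,0,0,0,0,0,0,0,0,0,0,0,0,0,0,0,0,0,0,0,0,0,0,0,0,0,0,0,0,0,0,0,0,0,0,0,0,0,0,0,0,0,0,0,0,0,0,0,0,0,0,0,0,0,0,0,0,0,0,0,0,0,0,0,0,0,0,0,0,0,0,0,0,0,0,0,0,0,0,1],
  [0,0,0,0,0,0,0,0,0,0,0,0,0,0,0,0,0,0,0,0,0,0,0,0,0,0,0,0,0,0,0,0,0,0,0,0,0,0,0,0,0,0,0,0,0,0,0,0,0,0,0,0,0,0,0,0,0,0,0,0,0,0,0,0,0,3,0,0,0,0,0,0,0,0,0,0,0,0,0,0,0,0,0,0,0,0,0,0,0,0,0,0,0,0,0,0,0,0,0,0,0,0,0,0,0],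
  [0,0,0,0,0,0,0,0,0,0,0,0,0,0,0,0,0,0,0,0,0,0,0,0,0,0,0,0,0,0,0,0,0,0,0,0,0,0,0,0,0,0,0,0,0,0,0,0,0,0,0,0,0,0,0,0,0,0,0,0,0,0,0,0,0,0,0,0,0,0,0,0,0,0,0,0,0,0,0,0,0,0,0,0,0,0,0,0,0,0,0,0,0,0,0,0,0,0,0,0,0,0,0,0,0,0,0,0,1],
  [0,0,0,0,0,0,0,0,0,0,0,0,0,0,0,0,0,0,0,0,0,0,0,0,0,0,0,0,0,0,0,0,0,0,0,0,0,0,0,0,0,0,0,0,0,0,0,0,0,0,0,0,0,0,0,0,3,0,0,0,0,0,3,0,0,0,0,0,0,0,0,0,0,0,0,0,0,0,0,0,0,0,0,0,0,0,0,0,0,0,0,0,0,0,0,0,0,0,0,0,0,0,0,0,0,0,0,0,0,0,0,0,0,0,1,0,0,0,0,0,1,0,0,0,0,0,0,0,0,0,0,0,0,0,0,0,0,0,0,0,0,0,0,0,0,0,0,0,0,0,0,0,0,0,0,0,0,0,0,0,0,0,0,0,0,0,0,0,0,0,0,0,0,0,0,0,0,0,0,0,0,0,0,0,0,0,0,0,0,0,0,0,0,0,0,0,1,0,0,0,0,0,1,0,0,0,0,0,0,0,0,0,0,0,0,0,0,0,0,0,0,0,0,0,0,3,0,0,0,0,0,0,0,0,0,0,0,0,0,0,0,0,0,0,0,0,0,0,0,0,0,0,0,0,0,0,0,0,0,0,0,0,0,0,0,1],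
  [0,0,0,0,0,0,0,0,0,0,0,0,0,0,0,0,0,0,0,0,0,0,0,0,0,0,0,0,0,0,0,0,0,0,0,0,0,0,0,0,0,0,0,0,0,0,0,0,0,0,0,0,0,0,0,0,0,0,3,0,0,0,0,0,0,0,0,0,0,0,0,0,0,0,0,0,0,0,0,0,0,0,0,0,0,0,0,0,0,0,0,0,0,0,0,0,0,0,0,0,0,0,0,0,0,0,0,0,0,0,0,0,0,0],
  [0,0,0,0,0,0,0,0,0,0,0,0,0,0,0,0,0,0,0,0,0,0,0,0,0,0,0,0,0,0,0,0,0,0,0,0,0,0,0,0,0,0,0,0,0,0,0,0,0,0,0,0,0,0,0,0,0,0,0,0,0,3,0,0,0,0,0,3,0,0,0,0,0,0,0,0,0,0,0,0,0,0,0,0,0,0,0,0,0,0,0,0,0,0,0,0,0,0,0,0,0,0,0,0,0,0,0,0,0,0,0,0,0,0,0,0,0,0],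
  [0,0,0,0,0,0,0,0,0,0,0,0,0,0,0,0,0,0,0,0,0,0,0,0,0,0,0,0,0,0,0,0,0,0,0,0,0,0,0,0,0,0,0,0,0,0,0,0,0,0,0,0,0,0,0,0,0,0,0,0,0,0,0,0,3,0,0,0,0,0,0,0,0,0,0,0,0,0,0,0,0,0,0,0,0,0,0,0,0,0,0,0,0,0,0,0,0,0,0,0,0,0,0,0,0,0,0,0,0,0,0,0,0,0,0,0,0,0,0,0,0],
  [0,0,0,0,0,0,0,0,0,0,0,0,0,0,0,0,0,0,0,0,0,0,0,0,0,0,0,0,0,0,0,0,0,0,0,0,0,0,0,0,0,0,0,0,0,0,0,0,0,0,0,0,0,0,0,0,0,0,0,0,0,0,0,0,0,0,0,0,3,0,0,0,0,0,0,0,0,0,0,0,0,0,0,0,0,0,0,0,0,0,0,0,0,0,0,0,0,0,0,0,0,0,0,0,0,0,0,0,0,0,0,0,0,0,0,0,0,0,0,0,0,0,0,0,0,0,0,1,0,0,0,0,0,0,0,0,0,0,0,0,0,0,0,0,0,0,0,0,0,0,0,0,0,0,0,0,0,0,0,0,0,0,0,0,0,0,0,0,0,0,0,0,0,0,0,0,0,0,0,0,0,0,0,0,0,0,0,0,0,0,0,0,0,0,0,0,0,0,0,0,0,0,0,0,0,0,0,0,0,0,0,0,0,0,0,0,0,0,0,0,0,0,0,0,0,0,0,0,0,0,0,0,0,0,0,0,0,0,0,0,0,0,0,0,0,0,0,0,0,0,0,0,0,0,0,0,0,0,0,0,0,0,0,0,0,0,0,0,0,0,0,0,0,0,0,0,0,0,0,0,0,0,0,0,0,0,0,0,0,0,0,0,0,0,0,0,0,0,0,1],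
  [0,0,0,0,0,0,0,0,0,0,0,0,0,0,0,0,0,0,0,0,0,0,0,0,0,0,0,0,0,0,0,0,0,0,0,0,0,0,0,0,0,0,0,0,0,0,0,0,0,0,0,0,0,0,0,0,0,3,0,0,0,0,0,0,0,0,0,0,0,0,0,0,0,0,0,0,0,0,0,0,0,0,0,0,0,0,0,0,0,0,0,0,0,0,0,0,0,0,0,0,0,0,0,0,0,0,0,0,0,0,0,0,0,0,0,0,0,0,0,0,0,0,0,0,0,0,0,0,0,0,0,0,1,0,0,0,0,0,1,0,0,0,0,0,0,0,0,0,0,0,0,0,0,0,0,0,0,0,0,0,0,0,0,0,0,0,0,0,0,0,0,0,0,0,0,0,0,0,0,0,0,0,0,0,0,0,0,0,0,0,0,0,0,0,0,0,0,1,0,0,0,0,0,0,0,0,0,0,0,0,0,0,0,0,0,0,0,0,0,0,0,0,0,0,0,0,0,0,0,0,0,0,0,0,0,0,3],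
  [0,0,0,0,0,0,0,0,0,0,0,0,0,0,0,0,0,0,0,0,0,0,0,0,0,0,0,0,0,0,0,0,0,0,0,0,0,0,0,0,0,0,0,0,0,0,0,0,0,0,0,0,0,0,0,0,0,0,0,0,0,0,0,0,0,0,0,0,0,0,0,0,0,0,0,0,0,0,0,0,0,0,0,0,0,0,0,0,0,0,0,0,0,0,0,0,0,0,0,0,0,0,0,0,0,0,0,0,0,0,0,0,0,0,0,0,0,0,0,0,0,0,0,0,0,0,0,0,0,0,0,0,0,0,0,0,1],
  [0,0,0,0,0,0,0,0,0,0,0,0,0,0,0,0,0,0,0,0,0,0,0,0,0,0,0,0,0,0,0,0,0,0,0,0,0,0,0,0,0,0,0,0,0,0,0,0,0,0,0,0,0,0,0,0,0,0,0,0,0,0,0,3,0,0,0,0,0,0,0,0,0,0,0,0,0,0,0,0,0,0,0,0,0,0,0,0,0,0,0,0,0,0,0,0,0,0,0,0,0,0,0,0,0,0,0,0,0,0,0,0,0,0,0,0,0,0,0,0,0,0,0,0,0,0,0,0,0,0,0,0,0,0,0,0,0,0,0,1,0,0,0,0,0,0,1,0,0,0,0,0,0,0,0,0,0,0,0,0,0,0,0,0,0,0,0,0,0,0,0,0,0,0,0,0,0,0,0,0,0,0,0,0,0,0,0,0,0,0,0,0,0,0,0,0,0,0,0,0,0,0,0,0,0,0,0,0,0,0,0,0,0,0,0,0,0,0,0,0,0,0,0,0,0,0,0,0,0,0,0,0,0,0,0,0,0,0,0,0,0,0,0,0,0,0,0,0,0,0,0,0,0,0,0,0,0,0,0,0,0,0,0,0,0,0,0,0,0,0,0,0,0,1,0,0,0,0,0,0,0,0,0,0,0,0,0,0,0,3],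
  [0,0,0,0,0,0,0,0,0,0,0,0,0,0,0,0,0,0,0,0,0,0,0,0,0,0,0,0,0,0,0,0,0,0,0,0,0,0,0,0,0,0,0,0,0,0,0,0,0,0,0,0,0,0,0,0,0,0,0,0,0,0,0,0,0,3,0,3,0,0,0,0,0,0,0,0,0,0,0,0,0,0,0,0,0,0,0,0,0,0,0,0,0,0,0,0,0,0,0,0,0,0,0,0,0,0,0,0,0,0,0,0,0,0,0,0,0,0,0,0,0,0,0,0,0,0,0,0,0,0,0,0,0,0,0,0,0,0,0,0,0,0,1,0,0,0,0,0,0,0,0,0,0,0,0,0,0,0,0,0,0,0,0,0,0,0,0,0,0,0,0,0,0,0,0,0,0,0,0,0,0,0,0,0,0,0,0,0,0,0,0,0,0,0,0,0,0,0,0,0,0,0,0,0,0,0,0,0,0,0,0,0,0,0,0,0,0,0,0,0,0,0,0,0,0,0,0,0,0,0,0,0,0,0,0,0,0,0,0,0,0,0,0,0,0,0,0,0,0,0,0,0,0,0,0,0,0,0,0,0,0,0,0,0,0,0,0,0,0,0,0,0,0,0,0,0,0,0,0,0,0,0,0,0,0,0,0,0,0,0,1,0,1],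
  [0,0,0,0,0,0,0,0,0,0,0,0,0,0,0,0,0,0,0,0,0,0,0,0,0,0,0,0,0,0,0,0,0,0,0,0,0,0,0,0,0,0,0,0,0,0,0,0,0,0,0,0,0,0,0,0,0,0,0,0,0,0,0,0,0,0,0,0,0,0,0,0,0,0,0,0,0,0,0,0,0,0,0,0,0,0,0,0,0,0,0,0,0,0,0,0,0,0,0,0,0,0,0,0,0,0,0,0,0,0,0,0,0,0,0,0,0,0,0,0,0,0,0,0,0,0,0,0,0,0,0,0,0,0,0,0,0,0,0,0,0,0,0,0,0,1],
  [0,0,0,0,0,0,0,0,0,0,0,0,0,0,0,0,3,0,0,0,0,0,0,3,0,0,0,0,0,0,0,0,0,0,0,0,0,0,0,0,0,0,0,0,0,0,0,0,0,0,0,0,0,0,0,0,0,0,0,3,0,0,0,0,0,0,0,0,0,0,0,0,0,0,0,0,0,0,0,0,0,0,0,0,0,0,0,0,0,0,0,0,0,0,0,0,0,0,0,0,0,0,0,0,0,0,0,0,0,0,0,0,0,0,0,0,0,0,0,0,0,0,0,0,0,0,0,0,0,0,0,0,0,0,0,0,0,0,0,0,0,0,0,0,0,0,0,0,0,0,0,0,0,0,0,0,0,0,0,0,0,0,0,0,0,3,0,0,0,0,0,3,0,0,0,0,0,0,0,0,0,0,0,0,0,0,0,0,0,0,0,0,0,0,0,0,0,0,0,1,0,0,0,0,0,0,0,0,0,0,0,0,0,0,0,0,0,0,0,0,0,0,0,0,0,0,0,0,0,0,0,0,0,0,0,0,0,0,0,0,0,0,0,0,0,0,0,0,0,0,0,0,0,0,0,3,3,0,0,0,3,0,0,3,3,0,0,0,1,0,0,0,0,0,0,3,0,0,3],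
  [0,0,0,0,0,0,0,0,0,0,0,0,0,0,0,0,0,0,0,0,0,0,0,0,0,0,0,0,0,0,0,0,0,0,0,0,0,0,0,0,0,0,0,0,0,0,0,0,0,0,0,0,0,0,0,0,0,0,0,0,0,0,0,0,0,0,0,0,0,0,0,0,0,0,0,0,0,0,0,0,0,0,0,0,0,0,0,0,0,0,0,0,0,0,0,0,0,0,0,0,0,0,0,0,0,0,0,0,0,0,0,0,0,0,0,0,0,0,0,0,0,0,0,0,0,0,0,0,0,0,0,0,0,0,0,0,0,0,0,0,0,0,0,0,0,0,0,0,0,0,0,0,0,0,0,0,0,0,0,0,0,0,0,0,0,0,0,0,0,0,0,0,0,0,0,0,0,0,0,0,3,0,0,0,0,0,3],
  [0,0,0,0,0,0,0,0,0,0,0,0,0,0,0,0,0,0,0,0,0,0,0,0,0,0,0,0,0,0,0,0,0,0,0,0,0,0,0,0,0,0,0,0,0,0,0,0,0,0,0,0,0,0,0,0,0,0,0,0,0,0,0,0,0,0,0,0,0,0,0,0,0,0,0,0,0,0,0,0,0,0,0,0,0,0,0,0,0,0,0,0,0,0,0,0,0,0,0,0,0,0,0,0,0,0,0,0,0,0,0,0,0,0,0,0,0,0,0,0,0,0,0,0,0,0,0,0,0,0,0,0,0,0,0,0,0,0,0,0,0,0,0,0,0,0,0,0,0,0,0,0,0,0,0,0,0,0,0,0,0,0,0,0,0,0,0,0,0,0,0,0,0,0,0,0,0,0,0,0,0,0,0,0,0,0,0,0,0,0,0,0,0,0,0,0,0,0,0,0,3],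
  [0,0,0,0,0,0,0,0,0,0,0,0,0,0,0,0,0,0,1,0,0,0,0,0,0,0,0,0,0,0,0,0,0,0,0,0,0,0,0,0,0,0,0,0,0,0,0,0,0,0,0,0,0,0,0,0,0,0,0,0,0,0,0,0,0,0,0,0,0,0,0,0,0,0,0,0,0,0,0,0,0,0,0,0,0,0,0,0,0,0,0,0,0,0,0,0,0,0,0,0,0,0,0,0,0,0,0,0,0,0,0,0,0,0,0,0,0,0,0,0,0,0,0,0,0,0,0,0,0,0,0,0,0,0,0,0,0,0,0,0,0,0,0,0,0,0,0,0,0,0,0,0,0,1,0,0,0,0,0,0,0,0,0,0,0,0,0,0,0,0,0,0,0,0,0,0,0,0,0,0,0,0,0,0,0,0,0,0,0,0,0,0,0,0,0,1,0,0,1,0,0,0,0,1,0,0,1,0,0,0,0,0,0,3,0,0,0,0,0,0,0,0,0,0,0,0,0,0,0,0,0,0,0,0,0,0,0,0,0,0,0,0,0,0,0,0,3,0,0,1,0,0,3,1,0,0,0,0,0,0,0,0,0,0,0,0,2,0,0,1,1,0,0,0,0,0,0,0,0,0,0,0,0,0,0,0,0,0,1,0,0,0,0,0,0,0,0,0],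
  [0,0,0,0,0,0,0,0,0,0,0,0,0,0,0,0,0,0,0,0,0,0,0,0,0,0,0,0,0,0,0,0,0,0,0,0,0,0,0,0,0,0,0,0,0,0,0,0,0,0,0,0,0,0,0,0,0,0,0,0,0,0,0,0,0,0,0,0,0,0,0,0,0,0,0,0,0,0,0,0,0,0,0,0,0,0,0,0,0,0,0,0,0,0,0,0,0,0,0,0,0,0,0,0,0,0,0,0,0,0,0,0,0,0,0,0,0,0,0,0,0,0,0,0,0,0,0,0,0,0,0,0,0,0,0,0,0,0,0,0,0,0,0,0,0,0,0,0,0,0,0,0,0,0,0,0,0,0,0,0,0,0,0,0,0,0,0,0,0,0,0,0,0,0,0,0,0,0,0,0,0,0,0,0,0,0,0,0,0,0,0,0,0,0,0,0,1,0,0,0,0,0,0,0,0,0,0,0,0,0,0,0,0,0,0,0,0,0,0,0,0,0,0,0,0,3],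
  [0,0,0,0,0,0,0,0,0,0,0,0,0,0,0,0,0,0,0,0,0,0,3,0,0,0,0,0,0,0,0,0,0,0,0,0,0,0,0,0,0,0,0,0,0,0,0,0,0,0,0,0,0,0,0,0,0,0,0,0,0,0,0,3,0,0,3,0,0,0,0,0,0,0,0,0,0,0,0,0,0,0,0,0,0,0,0,0,0,0,0,0,0,0,0,0,0,0,0,0,0,0,0,0,0,0,0,0,0,0,0,0,0,0,0,0,0,0,0,0,0,0,0,0,0,0,0,0,0,0,0,0,0,0,0,0,0,0,0,0,0,0,0,0,0,0,0,0,0,0,0,0,0,0,0,0,0,0,0,0,0,0,0,0,0,0,0,0,0,0,0,0,0,0,0,0,0,0,0,0,0,0,0,0,0,0,0,0,0,0,0,0,0,0,0,0,0,0,1,0,0,0,0,1,0,0,1,0,0,0,0,0,0,0,0,0,0,0,0,0,0,0,0,0,0,0,0,0,0,0,0,0,0,0,0,0,0,0,0,0,0,0,0,0,0,0,3,0,0,0,0,0,0,0,0,0,0,0,0,0,0,0,0,0,0,0,1,0,0,1,0,0,0,0,0,0,0,0,0,0,0,0,0,0,0,0,0,0,3,0,0,0,0,0,0,0,0,3],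
  [0,0,0,0,0,0,0,0,0,0,0,0,0,0,0,0,0,0,0,0,1,0,0,0,0,0,0,0,0,0,0,0,0,0,0,0,0,0,0,0,0,0,0,0,0,0,0,0,0,0,0,0,0,0,0,0,0,0,0,0,0,0,0,0,0,0,0,0,0,0,0,0,0,0,0,0,0,0,0,0,0,0,0,0,0,0,0,0,0,0,0,0,0,0,0,0,0,0,0,0,0,0,0,0,0,0,0,0,0,0,0,0,0,0,0,0,0,0,0,0,0,0,0,0,0,0,0,0,0,0,0,0,0,0,0,0,0,0,0,0,0,0,0,0,0,0,0,0,0,0,0,0,0,0,0,0,1,0,0,0,0,0,0,1,0,0,0,0,0,0,0,0,0,0,0,0,0,0,0,0,0,0,0,0,0,0,0,0,0,0,0,0,0,0,0,0,0,0,0,1,0,1,0,0,0,1,0,0,1,0,0,0,0,0,0,0,0,0,0,0,0,0,0,0,0,0,0,0,0,0,0,0,0,0,0,0,0,0,0,0,0,0,0,0,0,0,0,0,0,0,0,0,0,0,0,3,0,0,0,0,0,0,0,0,1,0,0,0,2,0,0,1,0,0,0,1],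
  [0,0,0,0,0,0,0,0,0,0,0,0,0,0,0,0,0,0,0,0,0,0,0,0,0,0,0,0,0,0,0,0,0,0,0,0,0,0,0,0,0,0,0,0,0,0,0,0,0,0,0,0,0,0,0,0,0,0,0,0,0,0,0,0,0,3,0,0,0,0,0,0,0,0,0,0,0,0,0,0,0,0,0,0,0,0,0,0,0,0,0,0,0,0,0,0,0,0,0,0,0,0,0,0,0,0,0,0,0,0,0,0,0,0,0,0,0,0,0,0,0,0,0,0,0,0,0,0,0,0,0,0,0,0,0,0,0,0,0,0,0,0,0,0,0,0,0,0,0,0,0,0,0,0,0,0,0,0,0,0,0,0,0,0,0,0,0,0,0,0,0,0,0,0,0,0,0,0,0,0,0,0,0,0,0,0,0,0,0,0,0,0,0,0,0,0,0,0,0,0,0,1,0,0,0,1,0,0,0,0,0,0,0,0,0,0,0,0,0,0,0,0,0,0,0,0,0,0,0,0,0,0,0,0,0,0,0,0,0,0,0,0,0,0,0,0,0,0,0,0,0,0,0,0,0,0,0,0,0,0,0,0,0,0,1,0,0,0,1],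
  [0,0,0,0,0,0,0,0,0,0,0,0,0,0,0,0,0,0,0,0,0,0,0,0,0,0,0,0,0,0,0,0,0,0,0,0,0,0,0,0,0,0,0,0,0,0,0,0,0,0,0,0,0,0,0,0,0,0,0,0,0,0,0,0,0,0,0,0,0,0,0,0,0,0,0,0,0,0,0,0,0,0,0,0,0,0,0,0,0,0,0,0,0,0,0,0,0,0,0,0,0,0,0,0,0,0,0,0,0,0,0,0,0,0,0,0,0,0,0,0,0,0,0,0,0,0,0,0,0,0,0,0,0,0,0,0,0,0,0,0,0,0,0,0,0,0,0,0,0,0,0,0,0,0,0,0,0,0,0,1,0,0,0,0,0,0,0,0,0,0,0,0,0,0,0,0,0,0,0,0,0,0,0,0,0,0,0,0,0,0,0,0,0,0,0,0,0,0,0,0,0,0,1,0,1,0,0,0,0,0,0,0,0,0,0,0,0,0,0,0,0,0,0,0,0,0,0,0,0,0,0,0,0,0,0,0,0,0,0,0,0,0,0,0,0,0,0,0,0,0,0,0,0,0,0,0,0,0,0,0,0,0,0,0,0,1,0,1],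
  [0,0,0,0,0,0,0,0,0,0,0,0,0,0,0,0,0,0,0,0,0,0,0,0,0,0,0,0,0,0,0,0,0,0,0,0,0,0,0,0,0,0,0,0,0,0,0,0,0,0,0,0,0,0,0,0,0,0,0,0,0,0,0,0,0,0,0,0,0,0,0,0,0,0,0,0,0,0,0,0,0,0,0,0,0,0,0,0,0,0,0,0,0,0,0,0,0,0,0,0,0,0,0,0,0,0,0,0,0,0,0,0,0,0,0,0,0,0,0,0,0,0,0,0,0,0,0,0,0,0,0,0,0,0,0,0,0,0,0,0,0,0,0,0,0,0,0,0,0,0,0,0,0,0,0,0,0,0,0,0,0,0,0,0,0,0,0,0,0,0,0,0,0,0,0,0,0,0,0,0,0,0,0,0,0,0,0,0,0,0,0,0,0,0,0,0,0,0,0,0,0,0,0,1,0,0,0,0,0,0,0,0,0,0,0,0,0,0,0,0,0,0,0,0,0,0,0,0,0,0,0,0,0,0,0,0,0,0,0,0,0,0,0,0,0,0,0,0,0,0,0,0,0,0,0,0,0,0,0,0,0,0,0,0,0,0,1],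
  [0,0,0,0,0,0,0,0,0,0,0,0,0,0,0,0,0,0,0,0,0,0,0,0,0,0,0,0,0,0,0,0,0,0,0,0,0,0,0,0,0,0,0,0,0,0,0,0,0,0,0,0,0,0,0,0,0,0,0,0,0,0,0,0,0,0,0,0,0,0,0,0,0,0,0,0,0,0,0,0,0,0,0,0,0,0,0,0,0,0,0,0,0,0,0,0,0,0,0,0,0,0,0,0,0,0,0,0,0,0,0,0,0,0,0,0,0,0,0,0,0,0,0,0,0,0,0,0,0,0,0,0,0,0,0,0,0,0,0,0,0,0,0,0,0,0,0,0,0,0,0,0,0,0,0,0,0,0,0,0,0,0,0,0,0,0,0,0,0,0,0,0,0,0,0,0,0,0,0,0,0,0,0,0,0,0,0,0,0,0,0,0,0,0,0,0,0,0,0,0,0,0,0,0,1,0,0,0,0,0,0,0,0,0,0,0,0,0,0,0,0,0,0,0,0,0,0,0,0,0,0,0,0,0,0,0,0,0,0,0,0,0,0,0,0,0,0,0,0,0,0,0,0,0,0,0,0,0,0,0,0,0,0,0,0,0,0,1],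
  [0,0,0,0,0,0,0,0,0,0,0,0,0,0,0,0,0,0,0,0,0,0,0,0,0,0,0,0,0,0,0,0,0,0,0,0,0,0,0,0,0,0,0,0,0,0,0,0,0,0,0,0,0,0,0,0,0,0,0,0,0,0,0,0,0,0,0,0,0,0,0,0,0,0,0,0,0,0,0,0,0,0,0,0,0,0,0,0,0,0,0,0,0,0,0,0,0,0,0,0,0,0,0,0,0,0,0,0,0,0,0,0,0,0,0,0,0,0,0,0,0,0,0,0,0,0,0,0,0,0,0,0,0,0,0,0,0,0,0,0,0,0,0,0,0,0,0,0,0,0,0,0,0,0,0,0,0,0,0,0,0,0,0,0,0,0,0,0,0,0,0,0,0,0,0,0,0,0,0,0,0,0,0,0,0,0,0,0,0,0,0,0,0,0,0,0,0,0,0,0,0,0,0,0,0,1,0,0,0,0,0,0,0,0,0,0,0,0,0,0,0,0,0,0,0,0,0,0,0,0,0,0,0,0,0,0,0,0,0,0,0,0,0,0,0,0,0,0,0,0,0,0,0,0,0,0,0,0,0,0,0,0,0,0,0,0,0,0,1],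
  [0,0,0,0,0,0,0,0,0,0,0,0,0,0,0,0,0,0,0,0,0,0,0,0,0,0,0,0,0,0,0,0,0,0,0,0,0,0,0,0,0,0,0,0,0,0,0,0,0,0,0,0,0,0,0,0,0,0,0,0,0,0,0,0,0,0,0,0,0,0,0,0,0,0,0,0,0,0,0,0,0,0,0,0,0,0,0,0,0,0,0,0,0,0,0,0,0,0,0,0,0,0,0,0,0,0,0,0,0,0,0,0,0,0,0,0,0,0,0,0,0,0,0,0,0,0,0,0,0,0,0,0,0,0,0,0,0,0,0,0,0,0,0,0,0,0,0,0,0,0,0,0,0,0,0,0,0,0,0,0,0,0,1,0,0,0,0,0,0,0,0,0,0,0,0,0,0,0,0,0,0,0,0,0,0,0,0,0,0,0,0,0,0,0,0,0,0,0,0,0,0,0,0,0,0,0,1,1,0,0,0,0,0,0,0,0,0,0,0,0,0,0,0,0,0,0,0,0,0,0,0,0,0,0,0,0,0,0,0,0,0,0,0,0,0,0,0,0,0,0,0,0,0,0,0,0,0,0,0,0,0,0,0,0,0,0,0,0,0,1,1],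
  [0,0,0,0,0,0,0,0,0,0,0,0,0,0,0,0,0,0,0,0,0,0,0,0,0,0,0,0,0,0,0,0,0,0,0,0,0,0,0,0,0,0,0,0,0,0,0,0,0,0,0,0,0,0,0,0,0,0,0,0,0,0,0,0,0,0,0,0,0,0,0,0,0,0,0,0,0,0,0,0,0,0,0,0,0,0,0,0,0,0,0,0,0,0,0,0,0,0,0,0,0,0,0,0,0,0,0,0,0,0,0,0,0,0,0,0,0,0,0,0,0,0,0,0,0,0,0,0,0,0,0,0,0,0,0,0,0,0,0,0,0,0,0,0,0,0,0,0,0,0,0,0,0,0,0,0,0,0,0,0,0,0,0,0,0,0,0,0,0,0,0,0,0,0,0,0,0,0,0,0,0,0,0,0,0,0,0,0,0,0,0,0,0,0,0,0,0,0,0,0,0,0,0,0,0,0,0,1,0,0,0,0,0,0,0,0,0,0,0,0,0,0,0,0,0,0,0,0,0,0,0,0,0,0,0,0,0,0,0,0,0,0,0,0,0,0,0,0,0,0,0,0,0,0,0,0,0,0,0,0,0,0,0,0,0,0,0,0,0,0,1],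
  [0,0,0,0,0,0,0,0,0,0,0,0,0,0,0,0,0,0,0,0,0,0,0,0,0,0,0,0,0,0,0,0,0,0,0,0,0,0,0,0,0,0,0,0,0,0,0,0,0,0,0,0,0,0,0,0,0,0,0,0,0,0,0,0,0,0,0,0,0,0,0,0,0,0,0,0,0,0,0,0,0,0,0,0,0,0,0,0,0,0,0,0,0,0,0,0,0,0,0,0,0,0,0,0,0,0,0,0,0,0,0,0,0,0,0,0,0,0,0,0,0,0,0,0,0,0,0,0,0,0,0,0,0,0,0,0,0,0,0,0,0,0,0,0,0,0,0,0,0,0,0,0,0,0,0,0,0,0,0,0,0,0,0,0,0,0,0,0,0,0,0,0,0,0,0,0,0,0,0,0,0,0,0,0,0,0,0,0,0,0,0,0,0,0,0,0,0,0,0,0,0,0,0,0,0,0,0,0,1,0,0,0,0,0,0,0,0,0,0,0,0,0,0,0,0,0,0,0,0,0,0,0,0,0,0,0,0,0,0,0,0,0,0,0,0,0,0,0,0,0,0,0,0,0,0,0,0,0,0,0,0,0,0,0,0,0,0,0,0,0,0,1],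
  [0,0,0,0,0,0,0,0,0,0,0,0,0,0,0,0,0,0,0,0,0,0,0,0,0,0,0,0,0,0,0,0,0,0,0,0,0,0,0,0,0,0,0,0,0,0,0,0,0,0,0,0,0,0,0,0,0,0,0,0,0,0,0,3,0,0,0,0,0,0,0,0,0,0,0,0,0,0,0,0,0,0,0,0,0,0,0,0,0,0,0,0,0,0,0,0,0,0,0,0,0,0,0,0,0,0,0,0,0,0,0,0,0,0,0,0,0,0,0,0,0,0,0,0,0,0,0,0,0,0,0,0,0,0,0,0,0,0,0,0,0,0,0,0,0,0,0,0,0,0,0,0,0,0,0,0,0,0,0,0,0,0,0,0,0,0,0,0,0],
  [0,0,0,0,0,0,0,0,0,0,0,0,0,0,0,0,0,0,0,0,0,0,0,0,0,0,0,0,0,0,0,0,0,0,0,0,0,0,0,0,0,0,0,0,0,0,0,0,0,0,0,0,0,0,0,0,0,0,0,0,0,0,0,0,0,0,0,0,0,0,0,0,0,0,0,0,0,0,0,0,0,0,0,0,0,0,0,0,0,0,0,0,0,0,0,0,0,0,0,0,0,0,0,0,0,0,0,0,0,0,0,0,0,0,0,0,0,0,0,0,0,0,0,0,0,0,0,0,0,0,0,0,0,0,0,0,0,0,0,0,0,0,0,0,0,0,0,0,0,0,0,0,0,0,0,0,0,0,0,0,0,0,0,0,0,0,0,0,0,0,0,0,1,0,0,0,0,0,0,1],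
  [0,0,0,0,0,0,0,0,0,0,0,0,0,0,0,0,0,0,0,0,0,0,0,0,0,0,0,0,0,0,0,0,0,0,0,0,0,0,0,0,0,0,0,0,0,0,0,0,0,0,0,0,0,0,0,0,0,0,0,0,0,0,0,0,0,3,0,0,3,0,0,0,0,0,0,0,0,0,0,0,0,0,0,0,0,0,0,0,0,0,0,0,0,0,0,0,0,0,0,0,0,0,0,0,0,0,0,0,0,0,0,0,0,0,0,0,0,0,0,0,0,0,0,0,0,0,0,0,0,0,0,0,0,0,0,0,0,0,0,0,0,0,0,0,0,0,0,0,0,0,0,0,0,0,0,0,0,0,0,0,0,0,0,0,0,0,0,0,0,0,0,0],
  [0,0,0,0,0,0,0,0,0,0,0,0,0,0,0,0,0,0,0,0,0,0,0,0,0,0,0,0,0,0,0,0,0,0,0,0,0,0,0,0,0,0,0,0,0,0,0,0,0,0,0,0,0,0,0,0,0,0,0,0,0,0,0,0,0,0,0,0,0,0,0,0,0,0,0,0,0,0,0,0,0,0,0,0,0,0,0,0,0,0,0,0,0,0,0,0,0,0,0,0,0,0,0,0,0,0,0,0,0,0,0,0,0,0,0,0,0,0,0,0,0,0,0,0,0,0,0,0,0,0,0,0,0,0,0,0,0,0,0,0,0,0,0,0,0,0,0,0,0,0,0,0,0,0,0,0,0,0,0,0,0,0,0,0,0,0,0,0,0,0,0,0,0,0,0,1],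
  [0,0,0,0,0,0,0,0,0,0,0,0,0,0,0,0,0,0,0,0,0,0,0,0,0,0,0,0,0,0,0,0,0,0,0,0,0,0,0,0,0,0,0,0,0,0,0,0,0,0,0,0,0,0,0,0,0,0,0,0,0,0,0,0,0,0,0,0,0,0,0,0,0,0,0,0,0,0,0,0,0,0,0,0,0,0,0,0,0,0,0,0,0,0,0,0,0,0,0,0,0,0,0,0,0,0,0,0,0,0,0,0,0,0,0,0,0,0,0,0,0,0,0,0,0,0,0,0,0,0,0,0,0,0,0,0,0,0,0,0,0,0,0,0,0,0,0,0,0,0,0,0,0,0,0,0,0,0,0,0,0,0,0,0,0,0,0,0,0,0,0,0,0,0,0,0,0,0,1],
  [0,0,0,0,0,0,0,0,0,0,0,0,0,0,0,0,0,0,0,0,0,0,0,0,0,0,0,0,0,0,0,0,0,0,0,0,0,0,0,0,0,0,0,0,0,0,0,0,0,0,0,0,0,0,0,0,0,0,0,0,0,0,0,0,0,0,0,0,0,0,0,0,0,0,0,0,0,0,0,0,0,0,0,0,0,0,0,0,0,0,0,0,0,0,0,0,0,0,0,0,0,0,0,0,0,0,0,0,0,0,0,0,0,0,0,0,0,0,0,0,0,0,0,0,0,0,0,0,0,0,0,0,0,0,0,0,0,0,0,0,0,0,0,0,0,0,0,0,0,0,0,0,0,0,0,0,0,0,0,0,0,0,0,0,0,0,0,0,0,0,0,0,0,0,0,0,0,0,0,0,0,0,0,0,0,0,0,1,0,0,0,0,0,0,1],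
  [0,0,0,0,0,0,0,0,0,0,0,0,0,0,0,0,0,0,0,0,0,0,0,0,0,0,0,0,0,0,0,0,0,0,0,0,0,0,0,0,0,0,0,0,0,0,0,0,0,0,0,0,0,0,0,0,0,0,0,0,0,0,0,0,0,0,3,0,0,0,0,0,0,0,0,0,0,0,0,0,0,0,0,0,0,0,0,0,0,0,0,0,0,0,0,0,0,0,0,0,0,0,0,0,0,0,0,0,0,0,0,0,0,0,0,0,0,0,0,0,0,0,0,0,0,0,0,0,0,0,0,0,0,0,0,0,0,0,0,0,0,0,0,0,0,0,0,0,0,0,0,0,0,0,0,0,0,0,0,0,0,0,0,0,0,0,0,0,0,0,0,0,0,0,0,0,0,0,0,0,0,0,0,0,0,0,0,0,0,0,1,0,0,0,0,0,0,0,0,0,0,0,0,0,0,0,0,0,0,0,0,0,0,0,0,0,0,0,0,0,0,0,0,0,0,0,0,0,0,0,0,0,0,0,0,0,0,0,0,0,0,0,0,0,0,0,0,0,0,0,0,0,0,0,0,0,0,0,0,0,0,0,0,0,0,0,0,0,0,0,0,0,0,0,0,0,0,0,0,0,0,0,0,0,0,0,0,0,0,0,0,1],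
  [0,0,0,0,0,0,0,0,0,0,0,0,0,0,0,0,0,0,0,0,0,0,0,0,0,0,0,0,0,0,0,0,0,0,0,0,0,0,0,0,0,0,0,0,0,0,0,0,0,0,0,0,0,0,0,0,0,0,0,0,0,0,0,3,0,0,0,3,0,0,0,0,0,0,0,0,0,0,0,0,0,0,0,0,0,0,0,0,0,0,0,0,0,0,0,0,0,0,0,0,0,0,0,0,0,0,0,0,0,0,0,0,0,0,0,0,0,0,0,0,0,0,0,0,0,0,0,0,0,0,0,0,0,0,0,0,0,0,0,0,0,0,0,0,0,0,0,0,0,0,0,0,0,0,0,0,0,0,0,0,0,0,0,0,0,0,0,0,0,0,0,0,0,0,0,0,0,0,0,0,0,0,0,0,0,0,0,0,0,0,0,0,0,0,0,0,0,0,1,0,0,0,0,0,0,0,0,0,0,0,0,0,0,0,0,0,0,0,0,0,0,0,0,0,0,0,0,0,0,0,0,0,0,0,0,0,0,0,0,0,0,0,0,0,0,0,0,0,0,1,0,0,0,1],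
  [0,0,0,0,0,0,0,0,0,0,0,0,0,0,0,0,0,0,0,0,0,0,0,0,0,0,0,0,0,0,0,0,0,0,0,0,0,0,0,0,0,0,0,0,0,0,0,0,0,0,0,0,0,0,0,0,0,0,0,0,0,0,0,0,0,3,0,0,0,0,0,0,0,0,0,0,0,0,0,0,0,0,0,0,0,0,0,0,0,0,0,0,0,0,0,0,0,0,0,0,0,0,0,0,0,0,0,0,0,0,0,0,0,0,0,0,0,0,0,0,0,0,0,0,0,0,0,0,0,0,0,0,0,0,0,0,0,0,0,0,0,0,0,0,0,0,0,0,0,0,0,0,0,0,0,0,0,0,0,0,0,0,0,0,0,0,0,0,0,0,0,0,0,0,0,0,0,0,0,0,0,0,0,0,0,0,0,0,0,0,0,0,0,0,0,0,0,0,0,0,0,1,0,0,0,0,0,0,1,0,0,0,0,0,0,0,0,0,0,0,0,0,0,0,0,0,0,0,0,0,0,0,0,0,0,0,0,0,0,0,0,0,0,0,0,0,0,0,0,0,0,0,0,0,0,0,0,0,0,0,0,0,0,0,0,0,0,0,0,0,0,0,0,0,0,1,0,0,0,0,0,0,0,0,0,0,0,0,0,0,0,0,0,0,0,0,3],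
  [0,0,0,0,0,0,0,0,0,0,0,0,0,0,0,0,0,0,0,0,0,0,0,0,0,0,0,0,0,0,0,0,0,0,0,0,0,0,0,0,0,0,0,0,0,0,0,0,0,0,0,0,0,0,0,0,0,0,0,0,0,0,0,0,0,0,0,0,0,0,0,0,0,0,0,0,0,0,0,0,0,0,0,0,0,0,0,0,0,0,0,0,0,0,0,0,0,0,0,0,0,0,0,0,0,0,0,0,0,0,0,0,0,0,0,0,0,0,0,0,0,0,0,0,0,0,0,0,0,0,0,0,0,0,0,0,0,0,0,0,0,0,0,0,0,0,0,0,0,0,0,0,0,0,0,0,0,0,0,0,0,0,0,0,0,0,0,0,0,0,0,0,0,0,0,0,0,0,0,0,0,0,0,0,0,0,0,0,0,0,0,0,0,0,0,0,0,0,0,0,0,0,0,0,1],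
  [0,0,0,0,0,0,0,0,0,0,0,0,0,0,0,0,0,0,0,0,0,0,0,0,0,0,0,0,0,0,0,0,0,0,0,0,0,0,0,0,0,0,0,0,0,0,0,0,0,0,0,0,0,0,0,0,0,0,0,0,0,0,0,0,0,0,0,0,0,0,0,0,0,0,0,0,0,0,0,0,0,0,0,0,0,0,0,0,0,0,0,0,0,0,0,0,0,0,0,0,0,0,0,0,0,0,0,0,0,0,0,0,0,0,0,0,0,0,0,0,0,0,0,0,0,0,0,0,0,0,0,0,0,0,0,0,0,0,0,0,0,0,0,0,0,0,0,0,0,0,0,0,0,0,0,0,0,0,0,0,0,0,0,0,0,0,0,0,0,0,0,0,0,0,0,0,0,0,0,0,0,0,0,0,0,0,0,0,0,0,0,0,0,0,0,0,0,0,0,0,0,0,0,0,0,0,0,1],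
  [0,0,0,0,0,0,0,0,0,0,0,0,0,0,0,0,0,0,0,0,0,0,0,0,0,0,0,0,0,0,0,0,0,0,0,0,0,0,0,0,0,0,0,0,0,0,0,0,0,0,0,0,0,0,0,0,0,0,0,0,0,0,0,0,0,0,0,0,0,0,0,0,0,0,0,0,0,0,0,0,0,0,0,0,0,0,0,0,0,0,0,0,0,0,0,0,0,0,0,0,0,0,0,0,0,0,0,0,0,0,0,0,0,0,0,0,0,0,0,0,0,0,0,0,0,0,0,0,0,0,0,0,0,0,0,0,0,0,0,0,0,0,0,0,0,0,0,0,0,0,0,0,0,0,0,0,0,0,0,0,0,0,0,0,0,0,0,0,0,0,0,0,0,0,0,0,0,0,0,0,0,0,0,0,0,0,0,0,0,0,0,0,0,0,0,0,0,0,0,0,0,0,0,0,0,0,0,0,0,0,0,0,0,0,0,0,0,0,0,0,0,0,0,0,0,0,0,0,0,0,0,0,0,0,3],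
  [0,0,0,0,0,0,0,0,0,0,0,0,0,0,0,0,0,0,0,0,0,0,0,0,0,0,0,0,0,0,0,0,0,0,0,0,0,0,0,0,0,0,0,0,0,0,0,0,0,0,0,0,0,0,0,0,0,0,0,0,0,0,0,0,0,0,0,0,0,0,0,0,0,0,0,0,0,0,0,0,0,0,0,0,0,0,0,0,0,0,0,0,0,0,0,0,0,0,0,0,0,0,0,0,0,0,0,0,0,0,0,0,0,0,0,0,0,0,0,0,0,0,0,0,0,0,0,0,0,0,0,0,0,0,0,0,0,0,0,0,0,0,0,0,0,0,0,0,0,0,0,0,0,0,0,0,0,0,0,0,0,0,0,0,0,0,0,0,0,0,0,0,0,0,0,0,0,0,0,0,0,0,0,0,0,0,0,0,0,0,0,0,0,0,0,0,0,0,0,0,0,0,0,0,0,0,0,0,0,0,0,0,0,0,1,0,0,0,0,0,0,1,0,0,0,0,0,0,0,0,0,0,0,0,0,0,0,0,0,0,0,0,0,0,0,1,0,1,0,0,0,0,0,0,1],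
  [0,0,0,0,0,0,0,0,0,0,0,0,0,0,0,0,0,0,0,0,0,0,0,0,0,0,0,0,0,0,0,0,0,0,0,0,0,0,0,0,0,0,0,0,0,0,0,0,0,0,0,0,0,0,0,0,0,0,0,0,0,0,0,0,0,0,3,0,0,0,0,0,0,0,0,0,0,0,0,0,0,0,0,0,0,0,0,0,0,0,0,0,0,0,0,0,0,0,0,0,0,0,0,0,0,0,0,0,0,0,0,0,0,0,0,0,0,0,0,0,0,0,0,0,0,0,0,0,0,0,0,0,0,0,0,0,0,0,0,0,0,0,0,0,0,0,0,0,0,0,0,0,0,0,0,0,0,0,0,0,0,0,0,0,0,0,0,0,0,0,0,0,0,0,0,0,0,0,0,0,0,0,0,0,0,0,0,0,0,0,0,0,0,0,0,0,0,0,0,0,0,0,0,0,0,0,0,0,0,0,0,0,0,0,0,0,0,0,0,0,0,0,0,0,0,0,0,0,0,0,0,0,0,0,0,0,0,0,0,0,0,0,0,0,0,0,1,0,0,0,0,0,1,0,0,0,0,0,0,0,0,0,0,0,0,0,0,0,0,0,0,0,0,0,0,0,0,0,0,0,0,0,0,0,0,0,0,0,0,0,0,0,0,0,0,0,0,1],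
  [0,0,0,0,0,0,0,0,0,0,0,0,0,0,0,0,0,0,0,0,0,0,0,0,0,0,0,0,0,0,0,0,0,0,0,0,0,0,0,0,0,0,0,0,0,0,0,0,0,0,0,0,0,0,0,0,0,0,0,0,0,0,0,0,0,0,0,0,0,0,0,0,0,0,0,0,0,0,0,0,0,0,0,0,0,0,0,0,0,0,0,0,0,0,0,0,0,0,0,0,0,0,0,0,0,0,0,0,0,0,0,0,0,0,0,0,0,0,0,0,0,0,0,0,0,0,0,0,0,0,0,0,0,0,0,0,0,0,0,0,0,0,0,0,0,0,0,0,0,0,0,0,0,0,0,0,0,0,0,0,0,0,0,0,0,0,0,0,0,0,0,0,0,0,0,0,0,0,0,0,0,0,0,0,0,0,0,0,0,0,0,0,0,0,0,0,0,0,0,0,0,0,0,0,0,0,0,0,0,0,0,0,0,0,0,0,0,0,0,0,0,0,0,0,0,0,0,0,0,0,0,0,0,0,0,0,0,0,0,0,0,0,0,0,0,0,0,0,0,1],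
  [0,0,0,0,0,0,0,0,0,0,0,0,0,0,0,0,0,0,0,0,0,0,0,0,0,0,0,0,0,0,0,0,0,0,0,0,0,0,0,0,0,0,0,0,0,0,0,0,0,0,0,0,0,0,0,0,0,0,0,0,0,0,0,0,0,0,0,0,0,0,0,0,0,0,0,0,0,0,0,0,0,0,0,0,0,0,0,0,0,0,0,0,0,0,0,0,0,0,0,0,0,0,0,0,0,0,0,0,0,0,0,0,0,0,0,0,0,0,0,0,0,0,0,0,0,0,0,0,0,0,0,0,0,0,0,0,0,0,0,0,0,0,0,0,0,0,0,0,0,0,0,0,0,0,0,0,0,0,0,0,0,0,0,0,0,0,0,0,0,0,0,0,0,0,0,0,0,0,0,0,0,0,0,0,0,0,0,0,0,0,0,0,0,0,0,0,0,0,0,0,0,0,0,0,0,0,0,0,0,0,0,0,0,0,0,0,0,0,0,0,0,0,0,0,0,0,0,0,0,0,0,0,0,0,0,0,0,0,0,0,0,0,0,0,0,0,0,0,0,0,0,1],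
  [0,0,0,0,0,0,0,0,0,0,0,0,0,0,0,0,0,0,0,0,0,0,0,0,0,0,0,0,0,0,0,0,0,0,0,0,0,0,0,0,0,0,0,0,0,0,0,0,0,0,0,0,0,0,0,0,0,0,0,0,0,0,0,0,0,0,0,0,0,0,0,0,0,0,0,0,0,0,0,0,0,0,0,0,0,0,0,0,0,0,0,0,0,0,0,0,0,0,0,0,0,0,0,0,0,0,0,0,0,0,0,0,0,0,0,0,0,0,0,0,0,0,0,0,0,0,0,0,0,0,0,0,0,0,0,0,0,0,0,0,0,0,0,0,0,0,0,0,0,0,0,0,0,0,0,0,0,0,0,0,0,0,0,0,0,0,0,0,0,0,0,0,0,0,0,0,0,0,0,0,0,0,0,0,0,0,0,0,0,0,0,0,0,0,0,0,0,0,0,0,0,0,0,0,0,0,0,0,0,0,0,0,0,0,0,0,0,0,0,0,0,0,0,0,0,0,0,0,0,0,0,0,0,0,0,0,0,0,0,0,0,0,0,0,0,0,0,0,0,0,0,0,0,1],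
  [0,0,0,0,0,0,0,0,0,0,0,0,0,0,0,0,0,0,0,0,0,0,0,0,0,0,0,0,0,0,0,0,0,0,0,0,0,0,0,0,0,0,0,0,0,0,0,0,0,0,0,0,0,0,0,0,0,0,0,0,0,0,0,0,0,0,0,0,0,0,0,0,0,0,0,0,0,0,0,0,0,0,0,0,0,0,0,0,0,0,0,0,0,0,0,0,0,0,0,0,0,0,0,0,0,0,0,0,0,0,0,0,0,0,0,0,0,0,0,0,0,0,0,0,0,0,0,0,0,0,0,0,0,0,0,0,0,0,0,0,0,0,0,0,0,0,0,0,0,0,0,0,0,0,0,0,0,0,0,0,0,0,0,0,0,0,0,0,0,0,0,0,0,0,0,0,0,0,0,0,0,0,0,0,0,0,0,0,0,0,0,0,0,0,0,0,0,0,0,0,0,0,0,0,0,0,0,0,0,0,0,0,0,0,0,0,0,0,0,0,0,0,0,0,0,0,1,0,0,0,0,0,0,1],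
  [0,0,0,0,0,0,0,0,0,0,0,0,0,0,0,0,0,0,0,0,0,0,0,0,0,0,0,0,0,0,0,0,0,0,0,0,0,0,0,0,0,0,0,0,0,0,0,0,0,0,0,0,0,0,0,0,0,0,0,0,0,0,0,0,0,0,0,0,0,0,0,0,0,0,0,0,0,0,0,0,0,0,0,0,0,0,0,0,0,0,0,0,0,0,0,0,0,0,0,0,0,0,0,0,0,0,0,0,0,0,0,0,0,0,0,0,0,0,0,0,0,0,0,0,0,0,0,0,0,0,0,0,0,0,0,0,0,0,0,0,0,0,0,0,0,0,0,0,0,0,0,0,0,0,0,0,0,0,0,0,0,0,0,0,0,0,0,0,0,0,0,0,0,0,0,0,0,0,0,0,0,0,0,0,0,0,0,0,0,0,0,0,0,0,0,0,0,0,0,0,0,0,0,0,0,0,0,0,0,0,0,0,0,0,0,0,0,0,0,0,0,0,0,0,0,0,0,0,0,0,0,0,1],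
  [0,0,0,0,0,0,0,0,0,0,0,0,0,0,0,0,0,0,0,0,0,0,0,0,0,0,0,0,0,0,0,0,0,0,0,0,0,0,0,0,0,0,0,0,0,0,0,0,0,0,0,0,0,0,0,0,0,0,0,0,0,0,0,0,0,0,0,0,0,0,0,0,0,0,0,0,0,0,0,0,0,0,0,0,0,0,0,0,0,0,0,0,0,0,0,0,0,0,0,0,0,0,0,0,0,0,0,0,0,0,0,0,0,0,0,0,0,0,0,0,0,0,0,0,0,0,0,0,0,0,0,0,0,0,0,0,0,0,0,0,0,0,0,0,0,0,0,0,0,0,0,0,0,0,0,0,0,0,0,0,0,0,0,0,0,0,0,0,0,0,0,0,0,0,0,0,0,0,0,0,0,0,0,0,0,0,0,0,0,0,0,0,0,0,0,0,0,0,0,0,0,0,0,0,0,0,0,0,0,0,0,0,0,0,0,0,0,0,0,0,0,0,0,0,0,0,0,0,0,0,0,0,0,0,0,0,0,1,0,0,0,0,0,0,1],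
  [0,0,0,0,0,0,0,0,0,0,0,0,0,0,0,0,0,0,0,0,0,0,0,0,0,0,0,0,0,0,0,0,0,0,0,0,0,0,0,0,0,0,0,0,0,0,0,0,0,0,0,0,0,0,0,0,0,0,0,0,0,0,0,0,0,0,0,0,0,0,0,0,0,0,0,0,0,0,0,0,0,0,0,0,0,0,0,0,0,0,0,0,0,0,0,0,0,0,0,0,0,0,0,0,0,0,0,0,0,0,0,0,0,0,0,0,0,0,0,0,0,0,0,0,0,0,0,0,0,0,0,0,0,0,0,0,0,0,0,0,0,0,0,0,0,0,0,0,0,0,0,0,0,0,0,0,0,0,0,0,0,0,0,0,0,0,0,0,0,0,0,0,0,0,0,0,0,0,0,0,0,0,0,0,0,0,0,0,0,0,0,0,0,0,0,0,0,0,0,0,0,0,0,0,0,0,0,0,0,0,0,0,0,0,0,0,0,0,0,0,0,0,0,0,0,0,0,0,0,0,0,0,0,0,0,0,0,0,0,0,1],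
  [0,0,0,0,0,0,0,0,0,0,0,0,0,0,0,0,0,0,0,0,0,0,0,0,0,0,0,0,0,0,0,0,0,0,0,0,0,0,0,0,0,0,0,0,0,0,0,0,0,0,0,0,0,0,0,0,0,0,0,0,0,0,0,0,0,0,0,0,0,0,0,0,0,0,0,0,0,0,0,0,0,0,0,0,0,0,0,0,0,0,0,0,0,0,0,0,0,0,0,0,0,0,0,0,0,0,0,0,0,0,0,0,0,0,0,0,0,0,0,0,0,0,0,0,0,0,0,0,0,0,0,0,0,0,0,0,0,0,0,0,0,0,0,0,0,0,0,0,0,0,0,0,0,0,0,0,0,0,0,0,0,0,0,0,0,0,0,0,0,0,0,0,0,0,0,0,0,0,0,0,0,0,0,0,0,0,0,0,0,0,0,0,0,0,0,0,0,0,0,0,0,0,0,0,0,0,0,0,0,0,0,0,0,0,0,0,0,0,0,0,0,0,0,0,0,0,0,0,0,0,0,0,0,0,0,0,0,0,0,0,0,0,0,1],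
  [0,0,0,0,0,0,0,0,0,0,0,0,0,0,0,0,0,0,0,0,0,0,0,0,0,0,0,0,0,0,0,0,0,0,0,0,0,0,0,0,0,0,0,0,0,0,0,0,0,0,0,0,0,0,0,0,0,0,0,0,0,0,0,0,0,0,0,0,0,0,0,0,0,0,0,0,0,0,0,0,0,0,0,0,0,0,0,0,0,0,0,0,0,0,0,0,0,0,0,0,0,0,0,0,0,0,0,0,0,0,0,0,0,0,0,0,0,0,0,0,0,0,0,0,0,0,0,0,0,0,0,0,0,0,0,0,0,0,0,0,0,0,0,0,0,0,0,0,0,0,0,0,0,0,0,0,0,0,0,0,0,0,0,0,0,0,0,0,0,0,0,0,0,0,0,0,0,0,0,0,0,0,0,0,0,0,0,0,0,0,0,0,0,0,0,0,0,0,0,0,0,0,0,0,0,0,0,0,0,0,0,0,0,0,0,0,0,0,0,0,0,0,0,0,0,0,0,0,0,0,0,0,0,0,0,0,0,0,0,0,0,0,0,0,0,0,0,0,0,0,0,0,0,0,0,0,0,0,0,0,0,0,0,0,3,0,0,0,0,0,0,3],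
  [0,0,0,0,0,0,0,0,0,0,0,0,0,0,0,0,0,0,0,0,0,0,0,0,0,0,0,0,0,0,0,0,0,0,0,0,0,0,0,0,0,0,0,0,0,0,0,0,0,0,0,0,0,0,0,0,0,0,0,0,0,0,0,0,0,0,0,0,0,0,0,0,0,0,0,0,0,0,0,0,0,0,0,0,0,0,0,0,0,0,0,0,0,0,0,0,0,0,0,0,0,0,0,0,0,0,0,0,0,0,0,0,0,0,0,0,0,0,0,0,0,0,0,0,0,0,0,0,0,0,0,0,0,0,0,0,0,0,0,0,0,0,0,0,0,0,0,0,0,0,0,0,0,0,0,0,0,0,0,0,0,0,0,0,0,0,0,0,0,0,0,0,0,0,0,0,0,0,0,0,0,0,0,0,0,0,0,0,0,0,0,0,0,0,0,0,0,0,0,0,0,0,0,0,0,0,0,0,0,0,0,0,0,0,0,0,0,0,0,0,0,0,0,0,0,0,0,0,0,0,0,0,0,0,0,0,0,0,0,0,0,0,0,0,0,0,0,0,0,0,0,0,0,0,0,0,0,0,0,1,0,0,0,0,0,0,0,0,0,0,0,0,1,0,1,0,0,0,0,0,0,0,0,0,3,0,0,0,0,0,0,0,0,3],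
  [0,0,0,0,0,0,0,0,0,0,0,0,0,0,0,0,0,0,0,0,0,0,0,0,0,0,0,0,0,0,0,0,0,0,0,0,0,0,0,0,0,0,0,0,0,0,0,0,0,0,0,0,0,0,0,0,0,0,0,0,0,0,0,0,0,0,0,0,0,0,0,0,0,0,0,0,0,0,0,0,0,0,0,0,0,0,0,0,0,0,0,0,0,0,0,0,0,0,0,0,0,0,0,0,0,0,0,0,0,0,0,0,0,0,0,0,0,0,0,0,0,0,0,0,0,0,0,0,0,0,0,0,0,0,0,0,0,0,0,0,0,0,0,0,0,0,0,0,0,0,0,0,0,0,0,0,0,0,0,0,0,0,0,0,0,0,0,0,0,0,0,0,0,0,0,0,0,0,0,0,0,0,0,0,0,0,0,0,0,0,0,0,0,0,0,0,0,0,0,0,0,0,0,0,0,0,0,0,0,0,0,0,0,0,0,0,0,0,0,0,0,0,0,0,0,0,0,0,0,0,0,0,0,0,0,0,0,0,0,0,0,0,0,0,0,0,0,0,0,0,0,0,0,0,0,0,0,0,0,0,0,0,1,0,0,0,0,0,0,0,0,0,0,0,0,0,1,1,0,0,0,0,0,0,0,0,0,0,0,0,0,0,0,0,0,0,0,0,3,3],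
  [0,0,0,0,0,0,0,0,0,0,0,0,0,0,0,0,0,0,0,0,0,0,0,0,0,0,0,0,0,0,0,0,0,0,0,0,0,0,0,0,0,0,0,0,0,0,0,0,0,0,0,0,0,0,0,0,0,0,0,0,0,0,0,0,0,0,0,0,0,0,0,0,0,0,0,0,0,0,0,0,0,0,0,0,0,0,0,0,0,0,0,0,0,0,0,0,0,0,0,0,0,0,0,0,0,0,0,0,0,0,0,0,0,0,0,0,0,0,0,0,0,0,0,0,0,0,0,0,0,0,0,0,0,0,0,0,0,0,0,0,0,0,0,0,0,0,0,0,0,0,0,0,0,0,0,0,0,0,0,0,0,0,0,0,0,0,0,0,0,0,0,0,0,0,0,0,0,0,0,0,0,0,0,0,0,0,0,0,0,0,0,0,0,0,0,0,0,0,0,0,0,0,0,0,0,0,0,0,0,0,0,0,0,0,0,0,0,0,0,0,0,0,0,0,0,0,0,0,0,0,0,0,0,0,0,0,0,0,0,0,0,0,0,0,0,0,0,0,0,0,0,0,0,0,0,0,0,0,0,0,0,0,0,0,0,0,0,0,0,0,0,0,0,0,0,0,0,1,0,0,0,0,0,0,0,0,0,0,0,0,0,0,0,0,0,0,0,0,0,3],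
  [0,0,0,0,0,0,0,0,0,0,0,0,0,0,0,0,0,0,0,0,0,0,0,0,0,0,0,0,0,0,0,0,0,0,0,0,0,0,0,0,0,0,0,0,0,0,0,0,0,0,0,0,0,0,0,0,0,0,0,0,0,0,0,0,0,0,0,0,0,0,0,0,0,0,0,0,0,0,0,0,0,0,0,0,0,0,0,0,0,0,0,0,0,0,0,0,0,0,0,0,0,0,0,0,0,0,0,0,0,0,0,0,0,0,0,0,0,0,0,0,0,0,0,0,0,0,0,0,0,0,0,0,0,0,0,0,0,0,0,0,0,0,0,0,0,0,0,0,0,0,0,0,0,0,0,0,0,0,0,0,0,0,0,0,0,0,0,0,0,0,0,0,0,0,0,0,0,0,0,0,0,0,0,0,0,0,0,0,0,0,0,0,0,0,0,0,0,0,0,0,0,0,0,0,0,0,0,0,0,0,0,0,0,0,0,0,0,0,0,0,0,0,0,0,0,0,0,0,0,0,0,0,0,0,0,0,0,0,0,0,0,0,0,0,0,0,0,0,0,0,0,0,0,0,0,0,0,0,0,0,0,0,0,0,0,0,0,0,0,0,0,0,0,0,0,0,0,0,0,0,0,0,0,0,0,3],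
  [0,0,0,0,0,0,0,0,0,0,0,0,0,0,0,0,0,0,0,0,0,0,0,0,0,0,0,0,0,0,0,0,0,0,0,0,0,0,0,0,0,0,0,0,0,0,0,0,0,0,0,0,0,0,0,0,0,0,0,0,0,0,0,0,0,0,0,0,0,0,0,0,0,0,0,0,0,0,0,0,0,0,0,0,0,0,0,0,0,0,0,0,0,0,0,0,0,0,0,0,0,0,0,0,0,0,0,0,0,0,0,0,0,0,0,0,0,0,0,0,0,0,0,0,0,0,0,0,0,0,0,0,0,0,0,0,0,0,0,0,0,0,0,0,0,0,0,0,0,0,0,0,0,0,0,0,0,0,0,0,0,0,0,0,0,0,0,0,0,0,0,0,0,0,0,0,0,0,0,0,0,0,0,0,0,0,0,0,0,0,0,0,0,0,0,0,0,0,0,0,0,0,0,0,0,0,0,0,0,0,0,0,0,0,0,0,0,0,0,0,0,0,0,0,0,0,0,0,0,0,0,0,0,0,0,0,0,0,0,0,0,0,0,0,0,0,0,0,0,0,0,0,0,0,0,0,0,0,0,0,0,0,0,0,0,0,0,0,0,0,0,0,0,0,0,0,0,0,0,0,0,0,0,0,0,0,0,0,0,0,1],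
  [0,0,0,0,0,0,0,0,0,0,0,0,0,0,0,0,0,0,0,0,0,0,0,0,0,0,0,0,0,0,0,0,0,0,0,0,0,0,0,0,0,0,0,0,0,0,0,0,0,0,0,0,0,0,0,0,0,0,0,0,0,0,0,0,0,0,0,0,0,0,0,0,0,0,0,0,0,0,0,0,0,0,0,0,0,0,0,0,0,0,0,0,0,0,0,0,0,0,0,0,0,0,0,0,0,0,0,0,0,0,0,0,0,0,0,0,0,0,0,0,0,0,0,0,0,0,0,0,0,0,0,0,0,0,0,0,0,0,0,0,0,0,0,0,0,0,0,0,0,0,0,0,0,0,0,0,0,0,0,0,0,0,0,0,0,0,0,0,0,0,0,0,0,0,0,0,0,0,0,0,0,0,0,0,0,0,0,0,0,0,0,0,0,0,0,0,0,0,0,0,0,0,0,0,0,0,0,0,0,0,0,0,0,0,0,0,0,0,0,0,0,0,0,0,0,0,0,0,0,0,0,0,0,0,0,0,0,0,0,0,0,0,0,0,0,0,0,0,0,0,0,0,0,0,0,0,0,0,0,0,0,0,0,0,0,0,0,0,0,0,0,0,0,0,0,0,0,0,0,0,0,0,0,0,0,0,0,0,1],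
  [0,0,0,0,0,0,0,0,0,0,0,0,0,0,0,0,0,0,0,0,0,0,0,0,0,0,0,0,0,0,0,0,0,0,0,0,0,0,0,0,0,0,0,0,0,0,0,0,0,0,0,0,0,0,0,0,0,0,0,0,0,0,0,0,0,0,0,0,0,0,0,0,0,0,0,0,0,0,0,0,0,0,0,0,0,0,0,0,0,0,0,0,0,0,0,0,0,0,0,0,0,0,0,0,0,0,0,0,0,0,0,0,0,0,0,0,0,0,0,0,0,0,0,0,0,0,0,0,0,0,0,0,0,0,0,0,0,0,0,0,0,0,0,0,0,0,0,0,0,0,0,0,0,0,0,0,0,0,0,0,0,0,0,0,0,0,0,0,0,0,0,0,0,0,0,0,0,0,0,0,0,0,0,0,0,0,0,0,0,0,0,0,0,0,0,0,0,0,0,0,0,0,0,0,0,0,0,0,0,0,0,0,0,0,0,0,0,0,0,0,0,0,0,0,0,0,0,0,0,0,0,0,0,0,0,0,0,0,0,0,0,0,0,0,0,0,0,0,0,0,0,0,0,0,0,0,0,0,0,0,0,0,0,0,0,0,0,0,0,0,0,0,0,0,0,0,0,0,0,0,0,0,0,0,0,0,0,0,0,0,0,0,0,0,0,1],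
  [0,0,0,0,0,0,0,0,0,0,0,0,0,0,1,0,0,0,0,0,0,0,0,0,0,0,0,0,0,0,0,0,0,0,0,0,0,0,0,0,0,0,0,0,0,0,0,0,0,0,0,0,0,0,0,0,0,0,0,0,0,0,0,0,0,0,0,0,0,0,0,0,0,0,0,0,0,0,0,0,0,0,0,0,0,0,0,0,0,0,0,0,0,1,0,0,1,0,0,0,0,0,0,0,0,0,0,0,0,0,0,3,0,0,0,0,0,0,0,0,0,0,0,0,0,0,0,0,0,0,0,0,0,0,0,0,0,0,0,0,0,0,0,0,0,0,0,1,0,0,1,1,0,0,1,0,0,1,0,0,0,0,0,0,0,0,0,3,0,0,0,0,0,3,0,0,0,0,0,0,0,0,0,0,0,0,0,0,0,0,0,0,0,0,0,0,0,0,0,0,0,0,0,0,0,0,0,0,0,0,0,0,1,0,0,3,0,0,0,0,0,0,0,0,1],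
  [0,0,0,0,0,0,0,0,0,0,0,0,3,0,0,0,0,0,0,0,0,0,0,0,0,0,0,0,0,0,0,0,0,0,0,0,0,0,0,0,0,0,0,0,0,0,0,0,0,0,0,0,0,0,0,0,0,0,0,0,0,0,0,0,0,0,0,0,0,0,0,0,0,0,0,3,0,0,0,0,0,0,0,0,0,0,0,0,0,0,0,0,0,0,0,0,0,0,0,0,0,0,0,0,0,0,0,0,0,0,0,0,0,0,0,0,0,0,0,0,0,0,0,0,0,0,0,0,0,3,0,0,0,0,0,0,0,0,0,0,0,0,0,0,0,0,0,0,0,1,0,0,0,0,0,0,0,0,0,0,0,0,0,0,0,0,0,0,0,0,0,0,0,0,0,0,0,0,0,0,0,0,0,0,0,0,0,0,0,0,0,0,0,0,0,0,0,3],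
  [0,0,0,0,0,0,0,0,0,0,0,0,0,0,0,0,0,0,0,0,0,0,0,0,0,0,0,0,0,0,0,0,0,0,0,0,0,0,0,0,0,0,0,0,0,0,0,0,0,0,0,0,0,0,0,0,0,0,0,0,0,0,0,0,0,0,0,0,0,0,0,0,0,0,0,0,0,3,0,0,0,0,0,0,0,0,0,0,0,0,0,0,0,0,0,0,0,0,0,0,0,0,0,0,0,0,0,0,0,0,0,0,0,0,0,0,0,0,0,0,0,0,0,0,0,0,0,0,0,0,0,0,0,0,0,0,0,0,0,0,0,0,0,0,0,0,0,1,0,0,0,1,0,0,0,0,0,0,0,0,0,0,0,0,0,0,0,0,0,0,0,0,0,0,0,0,0,0,0,0,0,0,0,0,0,0,0,0,0,0,0,0,0,0,0,0,0,0,0,0,0,0,0,0,0,0,0,0,0,0,0,0,0,0,0,0,0,0,0,0,0,0,0,0,1],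
  [0,0,0,0,0,0,0,0,0,0,0,0,0,0,0,0,0,0,0,0,0,0,0,0,0,0,0,0,0,0,0,0,0,0,0,0,0,0,0,0,0,0,0,0,0,0,0,0,0,0,0,0,0,0,0,0,0,0,0,0,0,0,0,0,0,0,0,0,0,0,0,0,0,0,0,0,0,0,3,0,0,3,0,0,0,0,0,0,0,0,0,0,0,0,0,0,0,0,0,0,0,0,0,0,0,0,0,0,0,0,0,0,0,0,0,0,0,0,0,0,0,0,0,0,0,0,0,0,0,0,0,0,0,0,0,0,0,0,0,0,0,0,0,0,0,0,0,0,1,0,0,0,1,0,0,1],
  [0,0,0,0,0,0,0,0,0,0,0,0,0,0,0,0,0,0,0,0,0,0,0,0,0,0,0,0,0,0,0,0,0,0,0,0,0,0,0,0,0,0,0,0,0,0,0,0,0,0,0,0,0,0,0,0,0,0,0,0,0,0,0,0,0,0,0,0,0,0,0,0,0,0,0,0,0,0,0,0,0,0,0,0,0,0,0,0,0,0,0,0,0,0,0,0,0,0,1,0,0,0,0,0,0,0,0,0,0,0,0,0,0,0,0,0,0,0,0,0,0,0,0,0,0,0,0,0,0,0,0,0,0,0,0,0,0,0,0,0,0,0,0,0,0,0,0,0,0,1,0,0,1],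
  [0,0,0,0,0,0,0,0,0,0,0,0,0,0,0,0,0,0,0,0,0,0,0,0,0,0,0,0,0,0,0,0,0,0,0,0,0,0,0,0,0,0,0,0,0,0,0,0,0,0,0,0,0,0,0,0,0,0,0,0,0,0,0,0,0,0,0,0,0,0,0,0,0,0,0,0,0,0,0,0,3,0,0,3,0,0,0,0,0,0,0,0,0,0,0,0,0,0,0,0,0,0,0,0,0,0,0,0,0,0,0,0,0,0,0,0,0,0,0,0,0,0,0,0,0,0,0,0,0,0,0,0,0,0,0,0,0,0,0,0,0,0,0,0,0,0,0,0,0,0,1,0,0,0,1,0,0,1],
  [0,0,0,0,0,0,0,0,0,0,0,0,0,0,0,0,0,0,0,0,0,0,0,0,0,0,0,0,0,0,0,0,0,0,0,0,0,0,0,0,0,0,0,0,0,0,0,0,0,0,0,0,0,0,0,0,0,0,0,0,0,0,0,0,0,0,0,0,0,0,0,0,0,0,0,0,0,0,0,0,0,0,0,0,0,0,0,0,0,0,0,0,0,0,0,0,0,0,0,0,1,0,0,0,0,0,0,0,0,0,0,0,0,0,0,0,0,0,0,0,0,0,0,0,0,0,0,0,0,0,0,0,0,0,0,0,0,0,0,0,0,0,0,0,0,0,0,0,0,0,0,1,0,0,1],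
  [0,0,0,0,0,0,0,0,0,0,0,0,0,0,0,0,0,0,0,0,0,0,0,0,0,0,0,0,0,0,0,0,0,0,0,0,0,0,0,0,0,0,0,0,0,0,0,0,0,0,0,0,0,0,0,0,0,0,0,0,0,0,0,0,0,0,0,0,0,0,0,0,0,0,0,0,0,0,0,0,0,0,0,0,0,0,0,0,0,0,0,0,0,0,0,0,0,0,0,0,0,0,0,0,0,0,0,0,0,0,0,0,0,0,0,0,0,0,0,0,0,0,0,0,0,0,0,0,0,0,0,0,0,0,0,0,0,0,0,0,0,0,0,0,0,0,0,0,0,0,0,0,1],
  [0,0,0,0,0,0,0,0,0,0,0,0,0,0,0,0,0,0,0,0,0,0,0,0,0,0,0,0,0,0,0,0,0,0,0,0,0,0,0,0,0,0,0,0,0,0,0,0,0,0,0,0,0,0,0,0,0,0,0,0,0,0,0,0,0,0,0,0,0,0,0,0,0,0,0,0,0,0,0,0,0,0,3,0,0,3,0,0,0,0,0,0,0,0,0,0,0,0,0,0,0,0,0,0,0,0,0,0,0,0,0,0,0,0,0,0,0,0,0,0,0,0,0,0,0,0,0,0,0,0,0,0,0,0,0,0,0,0,0,0,0,0,0,0,0,0,0,0,0,0,0,0,0,1,0,0,1,0,0,1,0,0,0,0,0,0,0,0,0,0,0,0,0,0,0,0,0,0,0,0,0,0,0,0,0,0,0,0,0,0,0,0,0,0,0,0,0,0,0,0,0,0,0,0,0,0,0,0,0,0,0,0,0,0,0,0,0,0,0,0,0,0,0,0,0,0,0,0,0,0,0,0,0,0,0,0,0,0,0,0,0,0,0,0,0,0,0,0,0,0,0,0,0,0,0,0,0,0,0,0,0,0,0,0,0,0,0,0,0,0,0,0,0,1,0,0,1,0,0,0,0,0,0,0,0,0,0,0,0,0,1,1,0,0,1],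
  [0,0,0,0,0,0,0,0,0,0,0,0,0,0,0,0,0,0,0,0,0,0,0,0,0,0,0,0,0,0,0,0,0,0,0,0,0,0,0,0,0,0,0,0,0,0,0,0,0,0,0,0,0,0,0,0,0,0,0,0,0,0,0,0,0,0,0,0,0,0,0,0,0,0,0,0,0,0,0,0,0,0,0,0,0,0,0,0,0,0,0,0,0,0,0,0,0,0,0,0,0,0,0,0,0,0,0,0,0,0,0,0,0,0,0,0,0,0,0,0,0,0,0,0,0,0,0,0,0,0,0,0,0,0,0,0,0,0,0,0,0,0,0,0,0,0,0,0,0,0,0,0,0,0,1],
  [0,0,0,0,0,0,0,0,0,0,0,0,0,0,0,0,0,0,0,0,0,0,0,0,0,0,0,0,0,0,0,0,0,0,0,0,0,0,0,0,0,0,0,0,0,0,0,0,0,0,0,0,0,0,0,0,0,0,0,0,0,0,0,0,0,0,0,0,0,0,0,0,0,0,0,0,0,0,0,0,0,0,0,0,0,0,0,0,0,0,0,0,0,0,0,0,0,0,0,0,0,0,0,0,0,0,0,0,0,0,0,0,0,0,0,0,0,0,0,0,0,0,0,0,0,0,0,0,0,0,0,0,0,0,0,0,0,0,0,0,0,0,0,0,0,0,0,0,0,0,0,0,0,0,0,1],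
  [0,0,0,0,0,0,0,0,0,0,0,0,0,0,0,0,0,0,0,0,1,0,0,0,0,0,0,0,0,0,0,0,0,0,0,0,0,0,0,0,0,0,0,0,0,0,0,0,0,0,0,0,0,0,0,0,0,0,0,0,0,0,0,0,0,0,0,0,0,0,0,0,0,0,0,0,0,0,0,0,0,0,0,0,0,0,0,0,0,0,0,0,0,0,0,0,0,0,0,0,0,0,0,0,1,0,0,0,0,0,0,0,0,0,0,0,0,0,0,0,0,0,0,0,0,0,0,0,0,0,0,0,0,0,0,0,0,0,0,0,0,0,0,0,0,0,0,0,0,0,0,0,0,0,0,0,1,0,1,0,1,0,0,0,0,0,0,0,0,0,0,0,0,0,0,0,0,0,0,0,0,0,0,0,0,0,0,0,0,0,0,0,0,0,0,0,0,0,0,0,0,0,0,0,0,0,0,0,0,0,0,0,0,0,0,0,0,0,0,0,0,0,0,0,0,0,0,0,0,0,0,0,0,0,0,0,0,0,0,0,0,0,0,0,0,0,0,0,0,0,0,0,0,0,0,0,0,0,0,0,0,0,0,0,0,0,0,0,0,0,0,0,0,0,0,0,0,0,0,0,0,0,0,0,0,0,1],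
  [0,0,0,0,0,0,0,0,0,0,0,0,0,0,0,0,0,0,0,0,0,0,0,0,0,0,0,0,0,0,0,0,0,0,0,0,0,0,0,0,0,0,0,0,0,0,0,0,0,0,0,0,0,0,0,0,0,0,0,0,0,0,0,0,0,0,0,0,0,0,0,0,0,0,0,0,0,0,0,0,0,0,0,0,0,0,3,0,0,0,0,0,0,0,0,0,0,0,0,0,0,0,0,0,0,0,0,0,0,0,0,0,0,0,0,0,0,0,0,0,0,0,0,0,0,0,0,0,0,0,0,0,0,0,0,0,0,0,0,0,0,0,0,0,0,0,0,0,0,0,0,0,0,0,0,0,0,0,1,0,1],
  [0,0,0,0,0,0,0,0,0,0,0,0,0,0,0,0,0,0,0,0,0,0,0,0,0,0,0,0,0,0,0,0,0,0,0,0,0,0,0,0,0,0,0,0,0,0,0,0,0,0,0,0,0,0,0,0,0,0,0,0,0,0,0,0,0,0,0,0,0,0,0,0,0,0,0,0,0,0,0,0,0,0,0,0,0,0,0,0,0,0,0,0,0,0,0,0,0,0,0,0,0,0,0,0,0,0,1,1,0,0,0,0,0,0,0,0,0,0,0,0,0,0,0,0,0,0,0,0,0,0,0,0,0,0,0,0,0,0,0,0,0,0,0,0,0,0,0,0,0,0,0,0,0,0,0,0,0,0,0,1,1,1],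
  [0,0,0,0,0,0,0,0,0,0,0,0,0,0,0,0,0,0,0,0,0,0,0,0,0,0,0,0,0,0,0,0,0,0,0,0,0,0,0,0,0,0,0,0,0,0,0,0,0,0,0,0,0,0,0,0,0,0,0,0,0,0,0,0,0,0,0,0,0,0,0,0,0,0,0,0,0,0,0,0,0,0,0,0,0,0,0,0,0,0,0,0,0,0,0,0,0,0,0,0,0,0,0,0,0,0,0,0,0,0,0,0,0,0,0,0,0,0,0,0,0,0,0,0,0,0,0,0,0,0,0,0,0,0,0,0,0,0,0,0,0,0,0,0,0,0,0,0,0,0,0,0,0,0,0,0,0,0,0,0,1],
  [0,0,0,0,0,0,0,0,0,0,0,0,0,0,0,0,0,0,0,0,0,0,0,0,0,0,0,0,0,0,0,0,0,0,0,0,0,0,0,0,0,0,0,0,0,0,0,0,0,0,0,0,0,0,0,0,0,0,0,0,0,0,0,0,0,0,0,0,0,0,0,0,0,0,0,0,0,0,0,0,0,0,0,0,0,0,0,0,0,0,0,0,0,0,0,0,0,0,0,0,0,0,0,0,0,0,0,0,0,0,0,0,0,0,0,0,0,0,0,0,0,0,0,0,0,0,0,0,0,0,0,0,0,0,0,0,0,0,0,0,0,0,0,0,0,0,0,0,0,0,0,0,0,0,0,0,0,0,0,0,0,0,1],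
  [0,0,0,0,0,0,0,0,0,0,0,0,0,0,3,0,0,0,0,0,0,0,0,0,0,0,0,0,0,0,0,0,0,0,0,0,0,0,0,0,0,0,0,0,0,0,0,0,0,0,0,0,0,0,0,0,0,0,0,0,0,0,0,0,0,0,0,0,0,0,0,0,0,0,0,0,0,3,0,0,0,0,0,3,0,0,0,0,0,0,0,0,0,0,0,0,0,0,0,0,0,0,0,0,0,0,0,0,0,0,0,0,0,0,0,0,0,0,0,0,0,0,0,0,0,0,0,0,0,0,0,0,0,0,0,0,0,0,0,0,0,0,0,0,0,0,0,3,0,0,3,0,0,0,0,0,0,0,0,0,0,0,0,0,0,0,0,1,0,0,0,0,0,1,0,0,0,0,0,0,0,0,0,0,0,0,0,0,0,0,0,0,0,0,0,0,0,0,0,0,0,0,0,0,0,0,0,0,0,1,0,0,3,0,0,1,0,0,0,0,0,0,0,0,3],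
  [0,0,0,0,0,0,0,0,0,0,0,0,0,0,0,0,1,0,0,0,0,0,0,0,0,0,0,0,0,0,0,0,0,0,0,0,0,0,0,0,0,0,0,0,0,0,0,0,0,0,0,0,0,0,0,0,0,0,0,0,0,0,0,0,0,0,0,0,0,0,0,0,0,0,0,0,0,0,0,0,0,0,0,0,0,0,0,0,0,0,0,0,0,0,0,0,0,0,0,0,0,0,0,0,0,0,0,0,0,0,0,0,0,0,0,0,0,1,0,0,0,0,0,0,0,0,0,0,0,0,0,0,0,0,0,0,0,0,0,0,0,0,0,0,0,0,0,0,0,0,0,0,0,0,0,0,0,0,0,0,0,0,0,0,0,1,0,0,1,0,0,0,1,0,0,0,0,0,1,0,0,0,0,0,0,0,0,0,0,0,0,0,0,0,0,3,0,0,0,0,0,0,0,0,0,0,0,0,0,0,1,0,0,0,2,0,1,0,0,0,1,0,0,0,0,0,0,0,0,0,0,0,0,0,0,0,0,1,0,3,0,0,0,3,0,0,0,0,0,0,0,0,0,0,0,0,0,0,0,0,0,0,0,0,0,0,0,0,0,0,0,0,0,1],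
  [0,0,0,0,0,0,0,0,0,0,0,0,0,0,0,0,0,0,0,0,0,0,0,0,0,0,0,0,0,0,0,0,0,0,0,0,0,0,0,0,0,0,0,0,0,0,0,0,0,0,0,0,0,0,0,0,0,0,0,0,0,0,0,0,0,0,0,0,0,0,0,0,0,0,0,0,0,0,0,0,0,0,3,0,0,0,0,0,3,0,0,0,0,0,0,0,0,0,0,0,0,0,0,0,0,0,0,0,0,0,0,0,0,0,0,0,0,0,0,0,0,0,0,0,0,0,0,0,0,0,0,0,0,0,0,0,0,0,0,0,0,0,0,0,0,0,0,0,0,0,0,0,0,0,0,0,0,0,0,0,0,0,0,0,0,0,0,0,1,0,0,0,1,0,0,0,0,0,1,0,0,0,0,0,0,0,0,0,0,0,0,0,0,0,0,0,0,0,0,0,0,0,0,0,0,0,0,0,0,0,1,0,0,0,1,0,1,0,0,0,1,0,0,0,0,0,0,0,0,0,0,0,0,0,0,0,0,0,0,0,0,0,0,0,0,0,0,0,0,0,0,0,0,0,0,0,0,0,0,0,0,0,0,0,0,0,0,0,0,0,0,0,0,1],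
  [0,0,0,0,0,0,0,0,0,0,0,0,0,0,0,0,0,0,0,0,0,0,0,1,0,0,0,0,0,0,0,0,0,0,0,0,0,0,0,0,0,0,0,0,0,0,0,0,0,0,0,0,0,0,0,0,0,0,0,0,0,0,0,0,0,0,0,0,0,0,0,0,0,0,0,0,0,0,0,0,0,0,0,0,0,3,0,0,0,0,0,0,0,0,0,0,0,0,0,0,0,0,0,0,0,0,0,0,0,0,0,0,0,0,0,0,0,0,0,0,0,0,0,0,0,0,0,0,0,0,0,0,0,0,0,0,0,0,0,0,0,0,0,0,0,0,0,0,0,0,0,0,0,0,0,0,0,0,0,0,0,0,0,0,0,0,0,0,0,0,0,1,0,0,0,1,0,0,0,0,0,0,0,0,0,0,0,0,0,0,0,0,0,0,0,0,0,0,0,0,0,0,0,0,0,0,0,0,0,0,0,0,0,1,0,0,0,1,1,0,0,1,0,0,0,0,0,0,0,0,0,0,0,0,0,0,0,0,0,0,0,0,0,0,0,0,0,0,0,0,0,0,0,0,0,0,0,0,0,0,0,0,0,0,0,0,0,0,0,0,0,0,0,0,0,0,0,0,0,0,0,0,0,0,0,0,0,0,0,0,1,1,0,1,1],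
  [0,0,0,0,0,0,0,0,0,0,0,0,0,0,0,0,0,0,0,0,0,0,0,0,0,0,0,0,0,0,0,0,0,0,0,0,0,0,0,0,0,0,0,0,0,0,0,0,0,0,0,0,0,0,0,0,0,0,0,0,0,0,0,0,0,0,0,0,0,0,0,0,0,0,0,0,0,0,3,0,0,0,0,0,0,0,0,0,0,0,0,0,0,0,0,0,0,0,0,0,0,0,0,0,0,0,0,0,0,0,0,0,0,0,0,0,0,0,0,0,0,0,0,0,0,0,0,0,0,0],
  [0,0,0,0,0,0,0,0,0,0,0,0,0,0,0,0,0,0,0,0,0,0,0,0,0,0,0,0,0,0,0,0,0,0,0,0,0,0,0,0,0,0,0,0,0,0,0,0,0,0,0,0,0,0,0,0,0,0,0,0,0,0,0,0,0,0,0,0,0,0,0,0,0,0,0,0,0,0,0,0,0,0,0,0,0,0,0,0,0,0,0,0,0,0,0,0,0,0,0,0,0,0,0,0,0,0,0,0,0,0,0,0,0,0,0,0,0,0,0,0,0,0,0,0,0,0,0,0,0,0,0,0,0,0,0,1],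
  [0,0,0,0,0,0,0,0,0,0,0,0,0,0,0,0,0,0,0,0,0,0,0,0,0,0,0,0,0,0,0,0,0,0,0,0,0,0,0,0,0,0,0,0,0,0,0,0,0,0,0,0,0,0,0,0,0,0,0,0,0,0,0,0,0,0,0,0,0,0,0,0,0,0,0,0,0,0,0,0,0,0,3,0,0,0,0,0,0,0,0,0,0,0,0,0,0,0,0,0,0,0,0,0,0,0,0,0,0,0,0,0,0,0,0,0,0,0,0,0,0,0,0,0,0,0,0,0,0,0,0,0,0,0,0,0,0,1,0,0,0,0,0,0,0,0,0,0,0,0,0,0,0,0,0,0,0,0,0,0,0,0,0,0,0,0,0,0,0,0,0,0,0,0,0,0,0,0,0,0,0,0,0,0,0,0,0,0,0,0,0,0,0,0,0,0,0,0,0,0,0,0,0,0,0,0,0,0,0,0,0,0,0,0,0,0,0,0,0,0,0,0,0,0,0,0,0,0,0,0,0,0,0,0,0,0,0,0,0,0,0,0,0,0,0,0,0,0,0,0,0,0,0,0,0,0,1],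
  [0,0,0,0,0,0,0,0,0,0,0,0,0,0,0,0,0,0,0,0,0,0,0,0,0,0,0,0,0,0,0,0,0,0,0,0,0,0,0,0,0,0,0,0,0,0,0,0,0,0,0,0,0,0,0,0,0,0,0,0,0,0,0,0,0,0,0,0,0,0,0,0,0,0,0,0,0,0,0,0,0,0,0,0,3,0,0,0,0,0,0,0,0,0,0,0,0,0,0,0,0,0,0,0,0,0,0,0,0,0,0,0,0,0,0,0,0,0,0,0,0,0,0,0,0,0,0,0,0,0,0,0,0,0,0,0,0,0],
  [0,0,0,0,0,0,0,0,0,0,0,0,0,0,0,0,0,0,0,0,0,0,0,0,0,0,0,0,0,0,0,0,0,0,0,0,0,0,0,0,0,0,0,0,0,0,0,0,0,0,0,0,0,0,0,0,0,0,0,0,0,0,0,0,0,0,0,0,0,0,0,0,0,0,0,0,0,0,0,0,0,0,0,0,0,0,0,0,0,0,0,0,0,0,0,0,0,0,0,0,0,0,0,0,0,0,0,0,0,0,0,0,0,0,0,0,0,0,0,0,0,0,0,0,0,0,0,0,0,0,0,0,0,0,0,0,0,0,0,0,0,1],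
  [0,0,0,0,0,0,0,0,0,0,0,0,0,0,0,0,0,0,0,0,0,0,0,0,0,0,0,0,0,0,0,0,0,0,0,0,0,0,0,0,0,0,0,0,0,0,0,0,0,0,0,0,0,0,0,0,0,0,0,0,0,0,0,0,0,0,0,0,0,0,0,0,0,0,0,0,0,0,0,0,0,0,0,0,0,0,3,0,3,0,0,0,0,0,0,0,0,0,0,0,0,0,0,0,0,0,0,0,0,0,0,0,0,0,0,0,0,0,0,0,0,0,0,0,0,0,0,0,0,0,0,0,0,0,0,0,0,0,0,0,0],
  [0,0,0,0,0,0,0,0,0,0,0,0,0,0,0,0,0,0,0,0,0,0,0,0,0,0,0,0,0,0,0,0,0,0,0,0,0,0,0,0,0,0,0,0,0,0,0,0,0,0,0,0,0,0,0,0,0,0,0,0,0,0,0,0,0,0,0,0,0,0,0,0,0,0,0,0,0,0,0,0,0,0,0,0,0,0,0,0,0,0,0,0,0,0,0,0,0,0,0,0,0,0,0,0,0,0,0,0,0,0,0,0,0,0,0,0,0,0,0,0,0,0,0,0,0,0,0,0,0,0,0,0,0,0,0,0,0,0,0,0,0,0,0,1,1],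
  [0,0,0,0,0,0,0,0,0,0,0,0,0,0,0,0,0,0,0,0,0,0,0,0,0,0,0,0,0,0,0,0,0,0,0,0,0,0,0,0,0,0,0,0,0,0,0,0,0,0,0,0,0,0,0,0,0,0,0,0,0,0,0,0,0,0,0,0,0,0,0,0,0,0,0,0,0,0,0,0,0,0,0,0,0,0,3,0,0,0,0,0,0,0,0,0,0,0,0,0,0,0,0,0,0,0,0,0,0,0,0,0,0,0,0,0,0,0,0,0,0,0,0,0,0,0,0,0,0,0,0,0,0,0,0,0,0,0,0,0,0,0,0,0,0,0,0,0,0,0,0,0,0,0,0,0,0,0,1,0,0,0,0,0,0,0,0,0,0,0,0,0,0,0,0,0,0,0,0,0,0,0,0,0,0,0,0,0,0,0,0,0,0,0,0,0,0,0,0,0,0,0,0,0,0,0,0,0,0,0,0,0,0,0,0,0,0,0,0,0,0,0,0,0,0,0,0,0,0,0,0,0,0,0,0,0,0,0,0,0,0,0,0,0,0,0,0,0,0,0,0,0,0,0,0,0,0,0,0,0,0,0,0,0,0,0,0,0,0,0,0,0,0,0,0,0,0,0,0,0,0,0,0,0,0,0,1],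
  [0,0,0,0,0,0,0,0,0,0,0,0,0,0,0,0,0,0,0,0,0,0,0,0,0,0,0,0,0,0,0,0,0,0,0,0,0,0,0,0,0,0,0,0,0,0,0,0,0,0,0,0,0,0,0,0,0,0,0,0,0,0,0,0,0,0,0,0,0,0,0,0,0,0,0,0,0,0,0,0,0,0,3,0,0,0,0,0,0,0,0,0,0,0,0,0,0,0,0,0,0,0,0,0,0,0,0,0,0,0,0,0,0,0,0,0,0,0,0,0,0,0,0,0,0,0,0,0,0,0,0,0,0,0,0,0,0,0,0,0,0,0,0,0,0,0,0,0,0,0,0,0,0,0,0,0,0,0,0,0,0,0,0,0,0,0,0,0,1,0,0,0,0,0,0,0,0,0,0,0,0,0,0,0,0,0,0,0,0,0,0,0,0,0,0,0,0,0,0,0,0,0,0,0,0,0,0,0,0,0,0,0,0,0,0,0,0,0,0,0,0,0,0,0,0,0,0,0,0,0,0,0,0,0,0,0,0,1],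
  [0,0,0,0,0,0,0,0,0,0,0,0,0,0,0,0,0,0,0,0,0,0,0,0,0,0,0,0,0,0,0,0,0,0,0,0,0,0,0,0,0,0,0,0,0,0,0,0,0,0,0,0,0,0,0,0,0,0,0,0,0,0,0,0,0,0,0,0,0,0,0,0,0,0,0,0,0,0,0,0,0,0,0,0,0,0,3,0,0,3,0,0,0,0,0,0,0,0,0,0,0,0,0,0,0,0,0,0,0,0,0,0,0,0,0,0,0,0,0,0,0,0,0,0,0,0,0,0,0,0,0,0,0,0,0,0,0,0,0,0,0,0,0,0,0,0,0,0,0,0,0,0,0,0,0,0,0,0,0,0,0,0,0,0,0,0,0,0,0,0,0,0],
  [0,0,0,0,0,0,0,0,0,0,0,0,0,0,0,0,0,0,0,0,0,0,0,0,0,0,0,0,0,0,0,0,0,0,0,0,0,0,0,0,0,0,0,0,0,0,0,0,0,0,0,0,0,0,0,0,0,0,0,0,0,0,0,0,0,0,0,0,0,0,0,0,0,0,0,0,0,0,0,0,0,0,0,0,3,0,0,0,0,3,0,0,0,0,0,0,0,0,0,0,0,0,0,0,0,0,0,0,0,0,0,0,0,0,0,0,0,0,0,0,0,0,0,0,0,0,0,0,0,0,0,0,0,0,0,0,0,0,0,0,0,0,0,0,0,0,0,0,0,0,0,0,0,0,0,0,0,0,0,0,0,0,0,0,0,0,0,0,0,0,0,0,0,0,0,0,0,0,0,0,0,0,0,0,0,1,0,0,0,0,0,0,0,0,0,0,0,0,0,0,0,0,0,0,0,0,0,0,0,0,0,0,0,0,0,0,0,0,0,0,0,0,0,0,0,0,0,0,0,0,0,0,0,0,0,0,0,0,0,0,0,0,0,0,0,0,0,0,0,0,0,0,0,0,0,0,0,0,1,0,0,0,0,1],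
  [0,0,0,0,0,0,0,0,0,0,0,0,0,0,0,0,0,0,0,0,0,0,0,0,0,0,0,0,0,0,0,0,0,0,0,0,0,0,0,0,0,0,0,0,0,0,0,0,0,0,0,0,0,0,0,0,0,0,0,0,0,0,0,0,0,0,0,0,0,0,0,0,0,0,0,0,0,0,0,0,0,0,0,0,3,0,0,0,3,0,0,0,0,0,0,0,0,0,0,0,0,0,0,0,0,0,0,0,0,0,0,0,0,0,0,0,0,0,0,0,0,0,0,0,0,0,0,0,0,0,0,0,0,0,0,0,0,0,0,0,0,0,0,0,0,0,0,0,0,0,0,0,0,0,0,0,0,0,0,0,0,0,0,0,0,0,0,0,0,0,0,0,0,0,0,0,0,0,0,0,0,0,0,0,0,0,0,0,0,0,0,0,0,0,0,0,0,0,0,0,0,0,0,0,0,0,0,0,0,0,3,0,0,0,0,0,0,0,0,0,0,0,0,0,0,0,0,0,0,0,0,0,0,0,0,0,0,0,0,1,0,0,0,1],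
  [0,0,0,0,0,0,0,0,0,0,0,0,0,0,0,0,0,0,0,0,0,0,0,0,0,0,0,0,0,0,0,0,0,0,0,0,0,0,0,0,0,0,0,0,0,0,0,0,0,0,0,0,0,0,0,0,0,0,0,0,0,0,0,0,0,0,0,0,0,0,0,0,0,0,0,0,0,0,0,0,0,0,0,0,0,0,0,0,0,0,0,0,0,0,0,0,0,0,0,0,0,0,0,0,0,0,0,0,0,0,0,0,0,0,0,0,0,0,0,0,0,0,0,0,0,0,0,0,0,0,0,0,0,0,0,0,0,0,0,0,0,0,0,0,0,0,0,0,0,0,0,0,0,0,0,0,0,0,0,0,0,0,0,0,0,0,0,0,0,0,0,0,0,0,0,0,0,0,0,0,0,0,0,0,0,0,0,0,0,0,0,0,0,0,0,0,0,0,0,1,0,0,0,0,0,0,0,0,0,0,0,0,0,0,0,0,0,0,0,0,0,0,3,0,0,0,0,0,0,0,0,0,0,0,0,1,0,0,0,0,0,1,0,0,0,0,0,0,0,0,0,0,0,0,0,0,0,0,0,0,3],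
  [0,0,0,0,0,0,0,0,0,0,0,0,0,0,0,0,0,0,0,0,0,0,0,0,0,0,0,0,0,0,0,0,0,0,0,0,0,0,0,0,0,0,0,0,0,0,0,0,0,0,0,0,0,0,0,0,0,0,0,0,0,0,0,0,0,0,0,0,0,0,0,0,0,0,0,0,0,0,0,0,0,0,0,0,0,0,3,0,0,0,0,0,0,0,0,0,0,0,0,0,0,0,0,0,0,0,0,0,0,0,0,0,0,0,0,0,0,0,0,0,0,0,0,0,0,0,0,0,0,0,0,0,0,0,0,0,0,0,0,0,0,0,0,0,0,0,0,0,0,0,0,0,0,0,0,0,0,0,0,0,0,0,0,0,0,0,0,0,0,0,0,0,0,0,0,0,0,0,0,0,0,0,0,0,0,0,0,0,0,0,0,0,0,0,0,0,0,0,0,0,0,0,0,0,0,0,0,0,0,0,0,0,0,0,0,0,0,0,0,0,0,0,0,0,0,0,0,0,0,0,0,0,0,0,0,1,0,0,0,0,0,1],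
  [0,0,0,0,0,0,0,0,0,0,0,0,0,0,0,0,0,0,0,0,0,0,0,0,0,0,0,0,0,0,0,0,0,0,0,0,0,0,0,0,0,0,0,0,0,0,0,0,0,0,0,0,0,0,0,0,0,0,0,0,0,0,0,0,0,0,0,0,0,0,0,0,0,0,0,0,0,0,0,0,0,0,0,0,0,0,0,0,0,0,0,0,0,0,0,0,0,0,0,0,0,0,0,0,0,0,0,0,0,0,0,0,0,0,0,0,0,0,0,0,0,0,0,0,0,0,0,0,0,0,0,0,0,0,0,0,0,0,0,0,0,0,0,0,0,0,0,0,0,0,0,0,0,0,0,0,0,0,0,0,0,0,0,0,0,0,0,0,0,0,0,0,0,0,0,0,0,0,0,0,0,0,0,0,0,0,0,0,0,0,0,0,0,0,0,0,0,0,0,0,0,0,0,0,0,0,0,0,0,0,0,0,0,0,0,0,0,0,0,0,0,0,0,0,0,0,0,0,0,0,0,0,0,0,0,0,1],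
  [0,0,0,0,0,0,0,0,0,0,0,0,0,0,0,0,0,0,0,0,0,0,0,0,0,0,0,0,0,0,0,0,0,0,0,0,0,0,0,0,0,0,0,0,0,0,0,0,0,0,0,0,0,0,0,0,0,0,0,0,0,0,0,0,0,0,0,0,0,0,0,0,0,0,0,0,0,0,0,0,0,0,0,0,0,0,0,0,0,0,0,0,0,0,0,0,0,0,0,0,0,0,0,0,0,0,0,0,0,0,0,0,0,0,0,0,0,0,0,0,0,0,0,0,0,0,0,0,0,0,0,0,0,0,0,0,0,0,0,0,0,0,0,0,0,0,0,0,0,0,0,0,0,0,0,0,0,0,0,0,0,0,0,0,0,0,0,0,0,0,0,0,0,0,0,0,0,0,0,0,0,0,0,0,0,0,0,0,0,0,0,0,0,0,0,0,0,0,0,0,0,0,0,1,0,0,0,0,0,0,0,0,0,0,0,0,0,0,0,0,0,0,0,0,0,0,0,0,0,0,0,0,0,0,0,0,0,1,0,1],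
  [0,0,0,0,0,0,0,0,0,0,0,0,0,0,0,0,0,0,0,0,0,0,0,0,0,0,0,0,0,0,0,0,0,0,0,0,0,0,0,0,0,0,0,0,0,0,0,0,0,0,0,0,0,0,0,0,0,0,0,0,0,0,0,0,0,0,0,0,0,0,0,0,0,0,0,0,0,0,0,0,0,0,0,0,0,0,0,0,0,0,0,0,0,0,0,0,0,0,0,0,0,0,0,0,0,0,0,0,0,0,0,0,0,0,0,0,0,0,0,0,0,0,0,0,0,0,0,0,0,0,0,0,0,0,0,0,0,0,0,0,0,0,0,0,0,0,0,0,0,0,0,0,0,0,0,0,0,0,0,0,0,0,0,0,0,0,0,0,0,0,0,0,0,0,0,0,0,0,0,0,0,0,0,0,0,0,0,0,0,0,0,0,0,0,0,0,0,0,0,0,0,0,0,0,0,0,0,0,0,0,0,0,0,0,0,0,0,0,0,0,0,0,0,0,0,0,0,0,0,0,0,0,0,0,0,0,0,0,1],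
  [0,0,0,0,0,0,0,0,0,0,0,0,0,0,0,0,0,0,0,0,0,0,0,0,0,0,0,0,0,0,0,0,0,0,0,0,0,0,0,0,0,0,0,0,0,0,0,0,0,0,0,0,0,0,0,0,0,0,0,0,0,0,0,0,0,0,0,0,0,0,0,0,0,0,0,0,0,0,0,0,0,0,0,0,0,0,0,0,0,0,0,0,0,0,0,0,0,0,0,0,0,0,0,0,0,0,0,0,0,0,0,0,0,0,0,0,0,0,0,0,0,0,0,0,0,0,0,0,0,0,0,0,0,0,0,0,0,0,0,0,0,0,0,0,0,0,0,0,0,0,0,0,0,0,0,0,0,0,0,0,0,0,0,0,0,0,0,0,0,0,0,0,0,0,0,0,0,0,0,0,0,0,0,0,0,0,0,0,0,0,0,0,0,0,0,0,0,0,0,0,0,0,0,0,0,1,1,0,0,0,0,0,0,0,0,0,0,0,0,0,0,0,0,0,0,0,0,0,0,0,0,0,0,0,0,0,0,0,0,0,1,1,1],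
  [0,0,0,0,0,0,0,0,0,0,0,0,0,0,0,0,0,0,0,0,0,0,0,0,0,0,0,0,0,0,0,0,0,0,0,0,0,0,0,0,0,0,0,0,0,0,0,0,0,0,0,0,0,0,0,0,0,0,0,0,0,0,0,0,0,0,0,0,0,0,0,0,0,0,0,0,0,0,0,0,0,0,0,0,0,0,0,0,0,0,0,0,0,0,0,0,0,0,0,0,0,0,0,0,0,0,0,0,0,0,0,0,0,0,0,0,0,0,0,0,0,0,0,0,0,0,0,0,0,0,0,0,0,0,0,0,0,0,0,0,0,0,0,0,0,0,0,0,0,0,0,0,0,0,0,0,0,0,0,0,0,0,0,0,0,0,0,0,0,0,0,0,0,0,0,0,0,0,0,0,0,0,0,0,0,0,0,0,0,0,0,0,0,0,0,0,0,0,0,0,0,0,0,0,0,0,0,0,0,0,0,0,0,0,0,0,0,0,0,0,0,0,0,0,0,0,0,0,0,0,0,0,0,0,0,0,0,0,0,0,0,1],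
  [0,0,0,0,0,0,0,0,0,0,0,0,0,0,0,0,0,0,0,0,0,0,0,0,0,0,0,0,0,0,0,0,0,0,0,0,0,0,0,0,0,0,0,0,0,0,0,0,0,0,0,0,0,0,0,0,0,0,0,0,0,0,0,0,0,0,0,0,0,0,0,0,0,0,0,0,0,0,0,0,0,0,0,0,0,0,0,0,0,0,0,0,0,0,0,0,0,0,0,0,0,0,0,0,0,0,0,0,0,0,0,0,0,0,0,0,0,0,0,0,0,0,0,0,0,0,0,0,0,0,0,0,0,0,0,0,0,0,0,0,0,0,0,0,0,0,0,0,0,0,0,0,0,0,0,0,0,0,0,0,0,0,0,0,0,0,0,0,0,0,0,0,0,0,0,0,0,0,0,0,0,0,0,0,0,0,0,0,0,0,0,0,0,0,0,0,0,0,0,0,0,0,0,0,0,0,0,0,0,0,0,0,0,0,0,0,0,0,0,0,0,0,0,0,0,0,0,0,0,0,0,0,0,0,0,0,0,0,0,0,0,0,1],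
  [0,0,0,0,0,0,0,0,0,0,0,0,0,0,0,0,0,0,0,0,0,0,0,0,0,0,0,0,0,0,0,0,0,0,0,0,0,0,0,0,0,0,0,0,0,0,0,0,0,0,0,0,0,0,0,0,0,0,0,0,0,0,0,0,0,0,0,0,0,0,0,0,0,0,0,0,0,0,0,0,0,0,0,0,0,0,0,0,0,0,0,0,0,0,0,0,0,0,0,0,0,0,0,0,0,0,0,0,0,0,0,0,0,0,0,0,0,0,0,0,0,0,0,0,0,0,0,0,0,0,0,0,0,0,0,0,0,0,0,0,0,0,0,0,0,0,0,0,0,0,0,0,0,0,0,0,0,0,0,0,0,0,0,0,0,0,0,0,0,0,0,0,0,0,0,0,0,0,0,0,0,0,0,0,0,0,0,0,0,0,0,0,0,0,0,0,0,0,0,0,0,0,0,0,0,0,0,0,0,0,0,0,0,0,0,0,0,0,0,0,0,0,0,0,0,0,0,0,0,0,0,0,0,0,0,0,0,0,0,0,0,0,0,0,0,0,0,0,0,0,0,0,0,0,0,1],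
  [0,0,0,0,0,0,0,0,0,0,0,0,0,0,0,0,0,0,0,0,0,0,0,0,0,0,0,0,0,0,0,0,0,0,0,0,0,0,0,0,0,0,0,0,0,0,0,0,0,0,0,0,0,0,0,0,0,0,0,0,0,0,0,0,0,0,0,0,0,0,0,0,0,0,0,0,0,0,0,0,0,0,0,0,0,0,0,0,0,0,0,0,0,0,0,0,0,0,0,0,0,0,3,0,0,0,0,0,0,0,0,0,0,0,0,0,0,0,0,0,0,0,0,0,0,0,0,0,0,0,0,0,0,0,0,0,0,0,0,0,0,0,0,0,0,0,0,0,0,0,0,0,0,0,0,0,0,0,0,0,0,0,0,0,0,0,0,0,0,0,0,0,0,0,0,0,0,0,0,0,0,0,0,0,0,0,0,0,0,0,0,0,0,0,0,0,1,0,0,0,0,1],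
  [0,0,0,0,3,0,0,0,0,0,0,0,0,0,0,0,0,0,0,0,0,0,0,0,2,0,0,3],
  [0,0,0,0,1,0,0,0,0,0,0,0,0,0,0,0,0,0,0,0,0,0,0,0,2,0,0,0,0,0,0,0,0,0,0,0,0,0,0,0,0,0,0,0,0,0,0,0,0,1],
  [0,0,0,0,0,0,0,3,0,0,0,0,0,3,0,0,0,0,0,0,0,0,0,0,0,0,0,0,2,0,3,0,0,0,0,0,3,0,0,0,0,0,0,0,0,0,0,0,0,0,0,0,0,0,0,0,0,0,0,0,0,0,0,0,0,0,0,0,0,0,0,0,0,0,0,0,0,0,0,0,0,0,0,0,0,0,0,0,0,0,0,0,0,0,0,0,0,0,0,0,0,0,0,0,0,0,0,0,0,0,0,0,0,0,0,0,0,0,0,0,0,0,0,0,0,0,0,0,0,0,0,0,0,0,0,0,0,0,0,0,0,0,0,0,0,0,0,0,0,0,0,0,0,0,0,0,0,0,0,0,0,0,0,0,0,0,0,0,0,3],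
  [0,0,0,0,0,0,0,1,0,0,0,0,0,1,0,0,0,0,0,0,0,0,0,0,0,0,0,0,2,0,0,0,0,0,0,0,0,0,0,0,0,0,0,0,0,0,0,0,0,0,0,0,0,0,0,0,0,0,0,0,0,0,0,0,0,0,0,0,0,0,0,0,0,0,0,0,0,0,0,0,0,0,0,0,0,0,0,0,0,0,0,0,0,0,0,0,0,0,0,0,0,0,0,0,0,0,0,0,0,0,0,0,0,0,0,0,0,0,0,0,0,0,0,0,0,0,0,0,0,0,1,0,0,0,0,0,1,0,0,0,0,0,0,0,0,0,0,0,0,0,0,0,0,0,0,0,0,0,0,0,0,0,0,0,0,0,0,0,0,1],
  [0,0,0,0,0,0,0,0,0,0,3,0,0,0,0,0,0,0,0,0,0,0,0,0,0,0,0,0,0,0,0,2,0,3],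
  [0,0,0,0,0,0,0,0,0,0,0,3,0,0,0,0,0,0,0,3,0,0,0,0,0,0,0,0,0,0,0,0,2,0,3,0,0,0,0,0,0,0,3,0,0,0,0,0,0,0,0,0,0,0,0,0,0,0,0,0,0,0,0,0,0,0,0,0,0,0,0,0,0,0,0,0,0,0,0,0,0,0,0,0,0,0,0,0,0,0,0,0,0,0,0,0,0,0,0,0,0,0,0,0,0,0,0,0,0,0,0,0,0,0,0,0,0,0,0,0,0,0,0,0,0,0,0,0,0,0,0,0,0,0,0,0,0,0,0,0,0,0,0,0,0,0,0,0,0,0,0,0,0,0,0,0,0,0,0,0,0,0,0,0,0,0,0,0,0,0,0,0,0,0,0,0,0,0,0,0,0,0,0,0,0,0,0,0,0,0,0,0,0,0,0,0,0,0,0,0,0,0,0,0,0,0,0,0,0,0,0,0,0,0,0,0,0,0,0,0,0,0,0,0,0,0,0,0,0,3],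
  [0,0,0,0,0,0,0,0,0,0,0,1,0,0,0,0,0,0,0,1,0,0,0,0,0,0,0,0,0,0,0,0,2,0,0,0,0,0,0,0,0,0,0,0,0,0,0,0,0,0,0,0,0,0,0,0,0,0,0,0,0,0,0,0,0,0,0,0,0,0,0,0,0,0,0,0,0,0,0,0,0,0,0,0,0,0,0,0,0,0,0,0,0,0,0,0,0,0,0,0,0,0,0,0,0,0,0,0,0,0,0,0,0,0,0,0,0,0,0,0,0,0,0,0,0,0,0,0,0,0,0,0,0,0,0,0,0,0,0,0,0,0,0,0,0,0,0,0,0,0,0,0,0,0,0,0,0,0,0,0,0,0,0,0,0,0,0,0,0,0,0,0,0,0,0,0,0,0,0,0,0,0,0,0,0,0,0,0,0,0,0,0,0,0,0,0,1,0,0,0,0,0,0,0,1,0,0,0,0,0,0,0,0,0,0,0,0,0,0,0,0,0,0,0,0,0,0,0,0,1],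
  [0,0,0,0,0,0,0,0,0,0,0,0,0,0,0,0,0,3,0,0,0,0,0,0,0,0,0,0,0,0,0,0,0,0,0,0,0,0,2,0,3],
  [0,0,0,0,0,3,0,0,3,0,0,0,0,0,0,0,0,0,0,0,0,0,0,0,0,0,0,0,0,0,0,0,0,0,0,0,0,0,0,0,0,0,0,0,0,0,0,2,0,0,3,0,0,3,0,0,0,0,0,0,0,0,0,0,0,0,0,0,0,0,0,0,0,0,0,0,0,0,0,0,0,0,0,0,0,0,0,0,0,0,0,0,0,0,0,0,0,0,0,0,0,0,0,0,0,0,0,0,0,0,0,0,0,0,0,0,0,0,0,0,0,0,0,0,0,0,0,0,0,0,0,3],
  [0,0,0,0,0,1,0,0,1,0,0,0,0,0,0,0,0,0,0,0,0,0,0,0,0,0,0,0,0,0,0,0,0,0,0,0,0,0,0,0,0,0,0,0,0,0,0,2,0,0,0,0,0,0,0,0,0,0,0,0,0,0,0,0,0,0,0,0,0,0,0,1,0,0,1,0,0,0,0,0,0,0,0,0,0,0,0,0,0,0,0,0,0,0,0,0,0,0,0,0,0,0,0,0,0,0,0,0,0,0,0,0,0,0,0,0,0,0,0,0,0,0,0,0,0,0,0,0,0,0,0,1],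
  [0,0,0,0,0,0,0,0,0,3,0,0,0,0,0,3,0,0,0,0,0,0,0,0,0,0,0,0,0,0,0,0,0,0,0,0,0,0,0,0,0,0,0,0,0,0,0,0,0,0,0,2,0,0,3,0,0,0,0,0,3,0,0,0,0,0,0,0,0,0,0,0,0,0,0,0,0,0,0,0,0,0,0,0,0,0,0,0,0,0,0,0,0,0,0,0,0,0,0,0,0,0,0,0,0,0,0,0,0,0,0,0,0,0,0,0,0,0,0,0,0,0,0,0,0,0,0,0,0,0,0,0,0,0,0,0,0,0,0,0,0,0,0,0,0,0,0,0,0,0,0,0,0,0,0,0,0,0,0,0,0,0,0,0,0,0,0,0,0,0,0,0,0,0,0,0,0,0,0,0,0,0,0,0,0,0,0,0,0,0,0,0,0,0,0,0,0,0,0,0,3],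
  [0,0,0,0,0,0,0,0,0,0,0,0,0,3,0,0,0,0,0,0,0,0,0,0,0,0,0,0,0,0,0,0,0,0,0,0,0,0,0,0,0,0,0,0,0,0,0,0,0,0,0,0,0,0,0,2,0,0,3],
  [0,0,0,0,0,0,3,0,0,0,0,0,0,0,0,0,0,0,0,0,0,0,0,0,0,0,0,0,0,0,0,0,0,0,0,0,0,0,0,0,0,0,0,0,0,0,0,0,0,0,0,0,0,0,0,0,0,0,0,0,0,0,0,0,0,0,0,0,0,2,0,0,3],
  [0,0,0,0,0,0,1,0,0,0,0,0,0,0,0,0,0,0,0,0,0,0,0,0,0,0,0,0,0,0,0,0,0,0,0,0,0,0,0,0,0,0,0,0,0,0,0,0,0,0,0,0,0,0,0,0,0,0,0,0,0,0,0,0,0,0,0,0,0,2,0,0,0,0,0,0,0,0,0,0,0,0,0,0,0,0,0,0,0,0,0,0,1],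
  [0,0,0,0,0,0,0,0,0,0,0,0,3,0,0,0,0,0,0,0,0,0,0,0,0,0,0,0,0,0,0,0,0,0,0,0,0,0,0,0,0,0,0,0,0,0,0,0,0,0,0,0,0,0,0,0,0,0,0,0,0,0,0,0,0,0,0,0,0,0,0,0,0,0,0,2,0,0,3],
  [0,0,0,0,0,0,0,0,0,0,0,0,0,0,0,0,0,0,0,0,0,0,0,0,0,0,0,0,0,0,0,0,0,0,0,0,0,0,0,0,0,0,0,0,0,0,0,0,0,0,0,0,0,0,0,0,0,0,0,0,0,0,0,0,0,0,0,0,0,0,0,0,0,0,0,0,0,0,0,0,0,2],
  [0,0,0,0,0,0,0,0,0,3,0,0,0,0,0,0,0,0,0,0,0,0,0,0,0,0,0,0,0,0,0,0,0,0,0,0,0,0,0,0,0,0,0,0,0,0,0,0,0,0,0,0,0,0,0,0,0,0,0,0,0,0,0,0,0,0,0,0,0,0,0,0,0,0,0,0,0,0,0,0,0,0,0,0,0,0,0,0,0,0,0,2,0,0,0,3],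
  [0,0,0,0,0,0,0,0,0,1,0,0,0,0,0,0,0,0,0,0,0,0,0,0,0,0,0,0,0,0,0,0,0,0,0,0,0,0,0,0,0,0,0,0,0,0,0,0,0,0,0,0,0,0,0,0,0,0,0,0,0,0,0,0,0,0,0,0,0,0,0,0,0,0,0,0,0,0,0,0,0,0,0,0,0,0,0,0,0,0,0,2,0,0,0,0,0,0,0,0,0,0,0,0,0,0,0,0,0,0,0,0,0,0,0,0,0,0,0,0,0,0,0,0,0,0,0,0,0,0,0,0,1],
  [0,0,1,0,0,0,3,0,0,0,0,0,0,0,0,0,0,0,0,0,0,0,0,0,0,0,0,0,0,0,0,0,0,0,0,0,0,0,0,0,0,0,0,0,0,0,0,0,0,0,0,0,0,0,0,0,0,0,0,0,0,0,0,0,0,0,0,0,0,0,0,0,0,0,0,0,0,0,0,0,0,0,0,0,0,0,0,0,0,0,0,0,0,0,0,0,0,0,0,0,0,0,0,0,0,0,0,0,0,0,0,0,0,0,0,0,0,0,0,0,0,0,0,0,0,0,0,0,0,0,0,0,0,0,0,0,0,0,0,0,0,0,0,0,0,0,0,0,0,0,0,0,0,0,0,0,0,0,0,0,0,0,0,0,0,0,0,0,0,0,0,0,0,0,0,0,0,0,0,0,0,0,0,0,0,0,0,0,0,0,0,0,0,0,0,0,0,0,0,0,0,0,0,0,0,0,0,0,0,0,0,0,0,0,0,0,0,0,0,0,0,0,0,0,0,0,0,0,0,0,0,0,0,0,0,0,0,0,0,0,0,0,0,0,0,0,0,0,0,0,0,0,0,0,0,0,0,0,0,0,0,0,0,0,0,0,0,0,0,0,0,0,0,0,0,0,0,0,0,0,0,0,0,0,0,0,0,0,0,0,0,0,0,0,0,0,0,0,0,0,0,0,2],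
  [0,0,0,0,0,1,0,0,0,3,0,0,0,0,0,0,0,0,0,0,0,0,0,0,0,0,0,0,0,0,0,0,0,0,0,0,0,0,0,0,0,0,0,0,0,0,0,0,0,0,0,0,0,0,0,0,0,0,0,0,0,0,0,0,0,0,0,0,0,0,0,0,0,0,0,0,0,0,0,0,0,0,0,0,0,0,0,0,0,0,0,0,0,0,0,0,0,0,0,0,0,0,0,0,0,0,0,0,0,0,0,0,0,0,0,0,0,0,0,0,0,0,0,0,0,0,0,0,0,0,0,0,0,0,0,0,0,0,0,0,0,0,0,0,0,0,0,0,0,0,0,0,0,0,0,0,0,0,0,0,0,0,0,0,0,0,0,0,0,0,0,0,0,0,0,0,0,0,0,0,0,0,0,0,0,0,0,0,0,0,0,0,0,0,0,0,0,0,0,0,0,0,0,0,0,0,0,0,0,0,0,0,0,0,0,0,0,0,0,0,0,0,0,0,0,0,0,0,0,0,0,0,0,0,0,0,0,0,0,0,0,0,0,0,0,0,0,0,0,0,0,0,0,0,0,0,0,0,0,0,0,0,0,0,0,0,0,0,0,0,0,0,0,0,0,0,0,0,0,0,0,0,0,0,0,0,0,0,0,0,0,0,0,0,0,0,0,0,0,0,0,0,0,0,2],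
  [0,0,0,0,0,0,0,1,0,0,0,3,0,0,0,0,0,0,0,0,0,0,0,0,0,0,0,0,0,0,0,0,0,0,0,0,0,0,0,0,0,0,0,0,0,0,0,0,0,0,0,0,0,0,0,0,0,0,0,0,0,0,0,0,0,0,0,0,0,0,0,0,0,0,0,0,0,0,0,0,0,0,0,0,0,0,0,0,0,0,0,0,0,0,0,0,0,0,0,0,0,0,0,0,0,0,0,0,0,0,0,0,0,0,0,0,0,0,0,0,0,0,0,0,0,0,0,0,0,0,0,0,0,0,0,0,0,0,0,0,0,0,0,0,0,0,0,0,0,0,0,0,0,0,0,0,0,0,0,0,0,0,0,0,0,0,0,0,0,0,0,0,0,0,0,0,0,0,0,0,0,0,0,0,0,0,0,0,0,0,0,0,0,0,0,0,0,0,0,0,0,0,0,0,0,0,0,0,0,0,0,0,0,0,0,0,0,0,0,0,0,0,0,0,0,0,0,0,0,0,0,0,0,0,0,0,0,0,0,0,0,0,0,0,0,0,0,0,0,0,0,0,0,0,0,0,0,0,0,0,0,0,0,0,0,0,0,0,0,0,0,0,0,0,0,0,0,0,0,0,0,0,0,0,0,0,0,0,0,0,0,0,0,0,0,0,0,0,0,0,0,0,0,0,0,0,2],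
  [0,0,0,0,0,0,0,0,1,0,0,0,0,0,0,3,0,0,0,0,0,0,0,0,0,0,0,0,0,0,0,0,0,0,0,0,0,0,0,0,0,0,0,0,0,0,0,0,0,0,0,0,0,0,0,0,0,0,0,0,0,0,0,0,0,0,0,0,0,0,0,0,0,0,0,0,0,0,0,0,0,0,0,0,0,0,0,0,0,0,0,0,0,0,0,0,0,0,0,0,0,0,0,0,0,0,0,0,0,0,0,0,0,0,0,0,0,0,0,0,0,0,0,0,0,0,0,0,0,0,0,0,0,0,0,0,0,0,0,0,0,0,0,0,0,0,0,0,0,0,0,0,0,0,0,0,0,0,0,0,0,0,0,0,0,0,0,0,0,0,0,0,0,0,0,0,0,0,0,0,0,0,0,0,0,0,0,0,0,0,0,0,0,0,0,0,0,0,0,0,0,0,0,0,0,0,0,0,0,0,0,0,0,0,0,0,0,0,0,0,0,0,0,0,0,0,0,0,0,0,0,0,0,0,0,0,0,0,0,0,0,0,0,0,0,0,0,0,0,0,0,0,0,0,0,0,0,0,0,0,0,0,0,0,0,0,0,0,0,0,0,0,0,0,0,0,0,0,0,0,0,0,0,0,0,0,0,0,0,0,0,0,0,0,0,0,0,0,0,0,0,0,0,0,0,0,0,2],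
  [0,0,0,0,0,0,0,0,0,0,0,0,0,1,0,0,0,0,0,3,0,0,0,0,0,0,0,0,0,0,0,0,0,0,0,0,0,0,0,0,0,0,0,0,0,0,0,0,0,0,0,0,0,0,0,0,0,0,0,0,0,0,0,0,0,0,0,0,0,0,0,0,0,0,0,0,0,0,0,0,0,0,0,0,0,0,0,0,0,0,0,0,0,0,0,0,0,0,0,0,0,0,0,0,0,0,0,0,0,0,0,0,0,0,0,0,0,0,0,0,0,0,0,0,0,0,0,0,0,0,0,0,0,0,0,0,0,0,0,0,0,0,0,0,0,0,0,0,0,0,0,0,0,0,0,0,0,0,0,0,0,0,0,0,0,0,0,0,0,0,0,0,0,0,0,0,0,0,0,0,0,0,0,0,0,0,0,0,0,0,0,0,0,0,0,0,0,0,0,0,0,0,0,0,0,0,0,0,0,0,0,0,0,0,0,0,0,0,0,0,0,0,0,0,0,0,0,0,0,0,0,0,0,0,0,0,0,0,0,0,0,0,0,0,0,0,0,0,0,0,0,0,0,0,0,0,0,0,0,0,0,0,0,0,0,0,0,0,0,0,0,0,0,0,0,0,0,0,0,0,0,0,0,0,0,0,0,0,0,0,0,0,0,0,0,0,0,0,0,0,0,0,0,0,0,0,0,0,0,0,0,0,2],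
  [0,0,0,0,0,0,0,0,0,0,0,0,0,0,0,0,0,0,1,0,3,0,0,0,0,0,0,0,0,0,0,0,0,0,0,0,0,0,0,0,0,0,0,0,0,0,0,0,0,0,0,0,0,0,0,0,0,0,0,0,0,0,0,0,0,0,0,0,0,0,0,0,0,0,0,0,0,0,0,0,0,0,0,0,0,0,0,0,0,0,0,0,0,0,0,0,0,0,0,0,0,0,0,0,0,0,0,0,0,0,0,0,0,0,0,0,0,0,0,0,0,0,0,0,0,0,0,0,0,0,0,0,0,0,0,0,0,0,0,0,0,0,0,0,0,0,0,0,0,0,0,0,0,0,0,0,0,0,0,0,0,0,0,0,0,0,0,0,0,0,0,0,0,0,0,0,0,0,0,0,0,0,0,0,0,0,0,0,0,0,0,0,0,0,0,0,0,0,0,0,0,0,0,0,0,0,0,0,0,0,0,0,0,0,0,0,0,0,0,0,0,0,0,0,0,0,0,0,0,0,0,0,0,0,0,0,0,0,0,0,0,0,0,0,0,0,0,0,0,0,0,0,0,0,0,0,0,0,0,0,0,0,0,0,0,0,0,0,0,0,0,0,0,0,0,0,0,0,0,0,0,0,0,0,0,0,0,0,0,0,0,0,0,0,0,0,0,0,0,0,0,0,0,0,0,0,0,0,0,0,0,0,0,0,0,0,0,2],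
  [0,0,0,0,0,0,0,0,0,0,0,0,0,0,0,0,0,0,0,0,0,0,0,0,0,1,0,0,0,3,0,0,0,0,0,0,0,0,0,0,0,0,0,0,0,0,0,0,0,0,0,0,0,0,0,0,0,0,0,0,0,0,0,0,0,0,0,0,0,0,0,0,0,0,0,0,0,0,0,0,0,0,0,0,0,0,0,0,0,0,0,0,0,0,0,0,0,0,0,0,0,0,0,0,0,0,0,0,0,0,0,0,0,0,0,0,0,0,0,0,0,0,0,0,0,0,0,0,0,0,0,0,0,0,0,0,0,0,0,0,0,0,0,0,0,0,0,0,0,0,0,0,0,0,0,0,0,0,0,0,0,0,0,0,0,0,0,0,0,0,0,0,0,0,0,0,0,0,0,0,0,0,0,0,0,0,0,0,0,0,0,0,0,0,0,0,0,0,0,0,0,0,0,0,0,0,0,0,0,0,0,0,0,0,0,0,0,0,0,0,0,0,0,0,0,0,0,0,0,0,0,0,0,0,0,0,0,0,0,0,0,0,0,0,0,0,0,0,0,0,0,0,0,0,0,0,0,0,0,0,0,0,0,0,0,0,0,0,0,0,0,0,0,0,0,0,0,0,0,0,0,0,0,0,0,0,0,0,0,0,0,0,0,0,0,0,0,0,0,0,0,0,0],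
  [0,0,0,0,0,0,0,0,0,0,0,0,0,0,0,0,0,0,0,0,0,0,0,0,0,0,0,0,1,0,0,0,3,0,0,0,0,0,0,0,0,0,0,0,0,0,0,0,0,0,0,0,0,0,0,0,0,0,0,0,0,0,0,0,0,0,0,0,0,0,0,0,0,0,0,0,0,0,0,0,0,0,0,0,0,0,0,0,0,0,0,0,0,0,0,0,0,0,0,0,0,0,0,0,0,0,0,0,0,0,0,0,0,0,0,0,0,0,0,0,0,0,0,0,0,0,0,0,0,0,0,0,0,0,0,0,0,0,0,0,0,0,0,0,0,0,0,0,0,0,0,0,0,0,0,0,0,0,0,0,0,0,0,0,0,0,0,0,0,0,0,0,0,0,0,0,0,0,0,0,0,0,0,0,0,0,0,0,0,0,0,0,0,0,0,0,0,0,0,0,0,0,0,0,0,0,0,0,0,0,0,0,0,0,0,0,0,0,0,0,0,0,0,0,0,0,0,0,0,0,0,0,0,0,0,0,0,0,0,0,0,0,0,0,0,0,0,0,0,0,0,0,0,0,0,0,0,0,0,0,0,0,0,0,0,0,0,0,0,0,0,0,0,0,0,0,0,0,0,0,0,0,0,0,0,0,0,0,0,0,0,0,0,0,0,0,0,0,0,0,0,0,0,0,0,0,1,0,0,0,0,0,1],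
  [0,0,0,0,0,0,0,0,0,0,0,0,0,0,0,0,0,0,0,0,0,0,0,0,0,0,0,0,0,0,1,0,0,0,3,0,0,0,0,0,0,0,0,0,0,0,0,0,0,0,0,0,0,0,0,0,0,0,0,0,0,0,0,0,0,0,0,0,0,0,0,0,0,0,0,0,0,0,0,0,0,0,0,0,0,0,0,0,0,0,0,0,0,0,0,0,0,0,0,0,0,0,0,0,0,0,0,0,0,0,0,0,0,0,0,0,0,0,0,0,0,0,0,0,0,0,0,0,0,0,0,0,0,0,0,0,0,0,0,0,0,0,0,0,0,0,0,0,0,0,0,0,0,0,0,0,0,0,0,0,0,0,0,0,0,0,0,0,0,0,0,0,0,0,0,0,0,0,0,0,0,0,0,0,0,0,0,0,0,0,0,0,0,0,0,0,0,0,0,0,0,0,0,0,0,0,0,0,0,0,0,0,0,0,0,0,0,0,0,0,0,0,0,0,0,0,0,0,0,0,0,0,0,0,0,0,0,0,0,0,0,0,0,0,0,0,0,0,0,0,0,0,0,0,0,0,0,0,0,0,0,0,0,0,0,0,0,0,0,0,0,0,0,0,0,0,0,0,0,0,0,0,0,0,0,0,0,0,0,0,0,0,0,0,0,0,0,0,0,0,0,0,0,0,0,0,0],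
  [0,0,0,0,0,0,0,0,0,0,0,0,0,0,0,0,0,0,0,0,0,0,0,0,0,0,0,0,0,0,0,0,0,0,0,0,0,0,0,0,0,0,0,0,0,0,0,0,0,0,0,0,0,0,0,0,0,0,0,0,0,0,0,0,0,0,0,0,0,0,0,0,0,0,0,0,0,0,0,0,0,0,0,0,0,0,0,0,0,0,0,0,0,0,0,0,0,0,0,0,0,0,0,0,0,0,0,0,0,0,0,0,0,0,0,0,0,0,0,0,0,0,0,0,0,0,0,0,0,0,0,0,0,0,0,0,0,0,0,0,0,0,0,0,0,0,0,0,0,0,0,0,0,0,0,0,0,0,0,0,0,0,0,0,0,0,0,0,0,0,0,0,0,0,0,0,0,0,0,0,0,0,0,0,0,0,0,0,0,0,0,0,0,0,0,0,0,0,0,0,0,0,0,0,0,0,0,0,0,0,0,0,0,0,0,0,0,0,0,0,0,0,0,0,0,0,0,0,0,0,0,0,0,0,0,0,0,0,0,0,0,0,0,0,0,0,0,0,0,0,0,0,0,0,0,0,0,0,0,0,0,0,0,0,0,0,0,0,0,0,0,0,0,0,0,0,0,0,0,0,0,0,0,0,0,0,0,0,0,0,0,0,0,0,0,0,0,0,0,0,0,0,0,0,0,0,0,0,0,0,0,0,0,1,0,0,0,0,0,0,1],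
  [0,0,0,0,0,0,0,0,0,0,0,0,0,0,0,0,0,0,0,0,0,0,0,0,0,0,0,0,0,0,0,0,0,0,0,0,0,0,0,0,0,0,0,0,0,0,0,1,0,0,0,3,0,0,0,0,0,0,0,0,0,0,0,0,0,0,0,0,0,0,0,0,0,0,0,0,0,0,0,0,0,0,0,0,0,0,0,0,0,0,0,0,0,0,0,0,0,0,0,0,0,0,0,0,0,0,0,0,0,0,0,0,0,0,0,0,0,0,0,0,0,0,0,0,0,0,0,0,0,0,0,0,0,0,0,0,0,0,0,0,0,0,0,0,0,0,0,0,0,0,0,0,0,0,0,0,0,0,0,0,0,0,0,0,0,0,0,0,0,0,0,0,0,0,0,0,0,0,0,0,0,0,0,0,0,0,0,0,0,0,0,0,0,0,0,0,0,0,0,0,0,0,0,0,0,0,0,0,0,0,0,0,0,0,0,0,0,0,0,0,0,0,0,0,0,0,0,0,0,0,0,0,0,0,0,0,0,0,0,0,0,0,0,0,0,0,0,0,0,0,0,0,0,0,0,0,0,0,0,0,0,0,0,0,0,0,0,0,0,0,0,0,0,0,0,0,0,0,0,0,0,0,0,0,0,0,0,0,0,0,0,0,0,0,0,0,0,0,0,0,0,0,0,0,1,0,0,1],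
  [0,0,0,0,0,0,0,0,0,0,0,0,0,0,0,0,0,0,0,0,0,0,0,0,0,0,0,0,0,0,0,0,0,0,0,0,0,0,0,0,0,0,0,0,0,0,0,0,0,0,1,0,0,0,3,0,0,0,0,0,0,0,0,0,0,0,0,0,0,0,0,0,0,0,0,0,0,0,0,0,0,0,0,0,0,0,0,0,0,0,0,0,0,0,0,0,0,0,0,0,0,0,0,0,0,0,0,0,0,0,0,0,0,0,0,0,0,0,0,0,0,0,0,0,0,0,0,0,0,0,0,0,0,0,0,0,0,0,0,0,0,0,0,0,0,0,0,0,0,0,0,0,0,0,0,0,0,0,0,0,0,0,0,0,0,0,0,0,0,0,0,0,0,0,0,0,0,0,0,0,0,0,0,0,0,0,0,0,0,0,0,0,0,0,0,0,0,0,0,0,0,0,0,0,0,0,0,0,0,0,0,0,0,0,0,0,0,0,0,0,0,0,0,0,0,0,0,0,0,0,0,0,0,0,0,0,0,0,0,0,0,0,0,0,0,0,0,0,0,0,0,0,0,0,0,0,0,0,0,0,0,0,0,0,0,0,0,0,0,0,0,0,0,0,0,0,0,0,0,0,0,0,0,0,0,0,0,0,0,0,0,0,0,0,0,0,0,0,0,0,0,0,0,0,0],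
  [0,0,0,0,0,0,0,0,0,0,0,0,0,0,0,0,0,0,0,0,0,0,0,0,0,0,0,0,0,0,0,0,0,0,0,0,0,0,0,0,0,0,0,0,0,0,0,0,0,0,0,0,1,0,0,0,3,0,0,0,0,0,0,0,0,0,0,0,0,0,0,0,0,0,0,0,0,0,0,0,0,0,0,0,0,0,0,0,0,0,0,0,0,0,0,0,0,0,0,0,0,0,0,0,0,0,0,0,0,0,0,0,0,0,0,0,0,0,0,0,0,0,0,0,0,0,0,0,0,0,0,0,0,0,0,0,0,0,0,0,0,0,0,0,0,0,0,0,0,0,0,0,0,0,0,0,0,0,0,0,0,0,0,0,0,0,0,0,0,0,0,0,0,0,0,0,0,0,0,0,0,0,0,0,0,0,0,0,0,0,0,0,0,0,0,0,0,0,0,0,0,0,0,0,0,0,0,0,0,0,0,0,0,0,0,0,0,0,0,0,0,0,0,0,0,0,0,0,0,0,0,0,0,0,0,0,0,0,0,0,0,0,0,0,0,0,0,0,0,0,0,0,0,0,0,0,0,0,0,0,0,0,0,0,0,0,0,0,0,0,0,0,0,0,0,0,0,0,0,0,0,0,0,0,0,0,0,0,0,0,0,0,0,0,0,0,0,0,0,0,0,0,0,0,0,0,0],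
  [0,0,0,0,0,0,0,0,0,0,0,0,0,0,0,0,0,0,0,0,0,0,0,0,0,0,0,0,0,0,0,0,0,0,0,0,0,0,0,0,0,0,0,0,0,0,0,0,0,0,0,0,0,0,0,0,0,0,0,0,0,0,0,0,0,0,0,0,0,0,0,1,0,0,0,0,0,0,0,0,0,0,0,0,0,0,0,0,0,0,0,0,0,0,0,0,0,0,0,0,0,0,0,0,0,0,0,0,0,0,0,0,0,0,0,0,0,0,0,0,0,0,0,0,0,0,0,0,0,0,0,0,0,0,0,0,0,0,0,0,0,0,0,0,0,0,0,0,0,3,0,0,0,0,0,0,0,0,0,0,0,0,0,0,0,0,0,0,0,0,0,0,0,0,0,0,0,0,0,0,0,0,0,0,0,0,0,0,0,0,0,0,0,0,0,0,0,0,0,0,0,0,0,0,0,0,0,0,0,0,0,0,0,0,0,0,0,0,0,0,0,0,0,0,0,0,0,0,0,0,0,0,0,0,0,0,0,0,0,0,0,0,0,0,0,0,0,0,0,0,0,0,0,0,0,0,0,0,0,0,0,0,0,0,0,0,0,0,0,0,0,0,0,0,0,0,0,0,0,0,0,0,0,0,0,0,0,0,0,0,0,0,0,0,0,0,0,0,0,0,0,0,0,0,0],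
  [0,0,0,0,0,0,0,0,0,0,0,0,0,0,0,0,0,0,0,0,0,0,0,0,0,0,0,0,0,0,0,0,0,0,0,0,0,0,0,0,0,0,0,0,0,0,0,0,0,0,0,0,0,0,0,0,0,0,0,0,0,0,0,0,0,0,0,0,0,0,0,0,0,0,0,0,0,1,0,0,0,0,0,0,0,0,0,0,0,0,0,0,0,0,0,0,0,0,0,0,0,0,0,0,0,0,0,0,0,0,0,0,0,0,0,0,0,0,0,0,0,0,0,0,0,0,0,0,0,0,0,0,0,0,0,0,0,0,0,0,0,0,0,0,0,0,0,3,0,0,0,0,0,0,0,0,0,0,0,0,0,0,0,0,0,0,0,0,0,0,0,0,0,0,0,0,0,0,0,0,0,0,0,0,0,0,0,0,0,0,0,0,0,0,0,0,0,0,0,0,0,0,0,0,0,0,0,0,0,0,0,0,0,0,0,0,0,0,0,0,0,0,0,0,0,0,0,0,0,0,0,0,0,0,0,0,0,0,0,0,0,0,0,0,0,0,0,0,0,0,0,0,0,0,0,0,0,0,0,0,0,0,0,0,0,0,0,0,0,0,0,0,0,0,0,0,0,0,0,0,0,0,0,0,0,0,0,0,0,0,0,0,0,0,0,0,0,0,0,0,0,0,0,0,0,0,0,0,0,0,0,0,0,1],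
  [0,0,0,0,0,0,0,0,0,0,0,0,0,0,0,0,0,0,0,0,0,0,0,0,0,0,0,0,0,0,0,0,0,0,0,0,0,0,0,0,0,0,0,0,0,0,0,0,0,0,0,0,0,0,0,0,0,0,0,0,0,0,0,0,0,0,0,0,0,0,0,0,0,0,0,0,0,0,0,0,0,0,1,0,0,0,0,0,0,0,0,0,0,0,0,0,0,0,0,0,0,0,0,0,0,0,0,0,0,0,0,0,0,0,0,0,0,0,0,0,0,0,0,0,0,0,0,0,0,0,0,0,0,0,0,0,0,0,0,0,0,0,0,0,0,0,0,0,0,0,0,0,0,0,0,0,3,0,0,0,0,0,0,0,0,0,0,0,0,0,0,0,0,0,0,0,0,0,0,0,0,0,0,0,0,0,0,0,0,0,0,0,0,0,0,0,0,0,0,0,0,0,0,0,0,0,0,0,0,0,0,0,0,0,0,0,0,0,0,0,0,0,0,0,0,0,0,0,0,0,0,0,0,0,0,0,0,0,0,0,0,0,0,0,0,0,0,0,0,0,0,0,0,0,0,0,0,0,0,0,0,0,0,0,0,0,0,0,0,0,0,0,0,0,0,0,0,0,0,0,0,0,0,0,0,0,0,0,0,0,0,0,0,0,0,0,0,0,0,0,0,0,0,0,0,0,0,0,0,0,0,0,0,0,0,0,0,1],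
  [0,0,0,0,0,0,0,0,0,0,0,0,0,0,0,0,0,0,0,0,0,0,0,0,0,0,0,0,0,0,0,0,0,0,0,0,0,0,0,0,0,0,0,0,0,0,0,0,0,0,0,0,0,0,0,0,0,0,0,0,0,0,0,0,0,0,0,0,0,0,0,0,0,0,0,0,0,0,0,0,0,0,0,0,0,1,0,0,0,0,0,0,0,0,0,0,0,0,0,0,0,0,0,0,0,0,0,0,0,0,0,0,0,0,0,0,0,0,0,0,0,0,0,0,0,0,0,0,0,0,0,0,0,0,0,0,0,0,0,0,0,0,0,0,0,0,0,0,0,0,0,0,0,3,0,0,0,0,0,0,0,0,0,0,0,0,0,0,0,0,0,0,0,0,0,0,0,0,0,0,0,0,0,0,0,0,0,0,0,0,0,0,0,0,0,0,0,0,0,0,0,0,0,0,0,0,0,0,0,0,0,0,0,0,0,0,0,0,0,0,0,0,0,0,0,0,0,0,0,0,0,0,0,0,0,0,0,0,0,0,0,0,0,0,0,0,0,0,0,0,0,0,0,0,0,0,0,0,0,0,0,0,0,0,0,0,0,0,0,0,0,0,0,0,0,0,0,0,0,0,0,0,0,0,0,0,0,0,0,0,0,0,0,0,0,0,0,0,0,0,0,0,0,0,0,0,0,0,0,0,0,0,0,0,0,0,0,0,0,1,1],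
  [0,1,0,0,0,0,0,0,3,0,0,0,0,0,0,0,0,0,0,0,0,0,0,0,0,0,0,0,0,0,0,0,0,0,0,0,0,0,0,0,0,0,0,0,0,0,0,0,0,0,0,0,0,0,0,0,0,0,0,0,0,0,0,0,0,0,0,0,0,0,0,0,0,0,0,0,0,0,0,0,0,0,0,0,0,0,0,0,0,0,0,0,0,0,0,0,0,0,0,0,0,0,0,0,0,0,0,0,0,0,0,0,0,0,0,0,0,0,0,0,0,0,0,0,0,0,0,0,0,0,0,0,0,0,0,0,0,0,0,0,0,0,0,0,0,0,0,0,0,0,0,0,0,0,0,0,0,0,0,0,0,0,0,0,0,0,0,0,0,0,0,0,0,0,0,0,0,0,0,0,0,0,0,0,0,0,0,0,0,0,0,0,0,0,0,0,0,0,0,0,0,0,0,0,0,0,0,0,0,0,0,0,0,0,0,0,0,0,0,0,0,0,0,0,0,0,0,0,0,0,0,0,0,0,0,0,0,0,0,0,0,0,0,0,0,0,0,0,0,0,0,0,0,0,0,0,0,0,0,0,0,0,0,0,0,0,0,0,0,0,0,0,0,0,0,0,0,0,0,0,0,0,0,0,0,0,0,0,0,0,0,0,0,0,0,0,0,0,0,0,0,0,0,0,0,0,0,0,0,0,0,0,0,0,0,0,0,0,0,0,0,0,0,0,2],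
  [0,0,0,1,0,0,3,0,0,0,0,0,0,0,0,0,0,0,0,0,0,0,0,0,0,0,0,0,0,0,0,0,0,0,0,0,0,0,0,0,0,0,0,0,0,0,0,0,0,0,0,0,0,0,0,0,0,0,0,0,0,0,0,0,0,0,0,0,0,0,0,0,0,0,0,0,0,0,0,0,0,0,0,0,0,0,0,0,0,0,0,0,0,0,0,0,0,0,0,0,0,0,0,0,0,0,0,0,0,0,0,0,0,0,0,0,0,0,0,0,0,0,0,0,0,0,0,0,0,0,0,0,0,0,0,0,0,0,0,0,0,0,0,0,0,0,0,0,0,0,0,0,0,0,0,0,0,0,0,0,0,0,0,0,0,0,0,0,0,0,0,0,0,0,0,0,0,0,0,0,0,0,0,0,0,0,0,0,0,0,0,0,0,0,0,0,0,0,0,0,0,0,0,0,0,0,0,0,0,0,0,0,0,0,0,0,0,0,0,0,0,0,0,0,0,0,0,0,0,0,0,0,0,0,0,0,0,0,0,0,0,0,0,0,0,0,0,0,0,0,0,0,0,0,0,0,0,0,0,0,0,0,0,0,0,0,0,0,0,0,0,0,0,0,0,0,0,0,0,0,0,0,0,0,0,0,0,0,0,0,0,0,0,0,0,0,0,0,0,0,0,0,0,0,0,0,0,0,0,0,0,0,0,0,0,0,0,0,0,0,0,0,0,0,0,2],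
  [0,0,0,0,1,0,0,0,0,0,3,0,0,0,0,0,0,0,0,0,0,0,0,0,0,0,0,0,0,0,0,0,0,0,0,0,0,0,0,0,0,0,0,0,0,0,0,0,0,0,0,0,0,0,0,0,0,0,0,0,0,0,0,0,0,0,0,0,0,0,0,0,0,0,0,0,0,0,0,0,0,0,0,0,0,0,0,0,0,0,0,0,0,0,0,0,0,0,0,0,0,0,0,0,0,0,0,0,0,0,0,0,0,0,0,0,0,0,0,0,0,0,0,0,0,0,0,0,0,0,0,0,0,0,0,0,0,0,0,0,0,0,0,0,0,0,0,0,0,0,0,0,0,0,0,0,0,0,0,0,0,0,0,0,0,0,0,0,0,0,0,0,0,0,0,0,0,0,0,0,0,0,0,0,0,0,0,0,0,0,0,0,0,0,0,0,0,0,0,0,0,0,0,0,0,0,0,0,0,0,0,0,0,0,0,0,0,0,0,0,0,0,0,0,0,0,0,0,0,0,0,0,0,0,0,0,0,0,0,0,0,0,0,0,0,0,0,0,0,0,0,0,0,0,0,0,0,0,0,0,0,0,0,0,0,0,0,0,0,0,0,0,0,0,0,0,0,0,0,0,0,0,0,0,0,0,0,0,0,0,0,0,0,0,0,0,0,0,0,0,0,0,0,0,0,0,0,0,0,0,0,0,0,0,0,0,0,0,0,0,0,0,0,0,0,0,2],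
  [0,0,0,0,0,0,0,0,0,1,0,0,3,0,0,0,0,0,0,0,0,0,0,0,0,0,0,0,0,0,0,0,0,0,0,0,0,0,0,0,0,0,0,0,0,0,0,0,0,0,0,0,0,0,0,0,0,0,0,0,0,0,0,0,0,0,0,0,0,0,0,0,0,0,0,0,0,0,0,0,0,0,0,0,0,0,0,0,0,0,0,0,0,0,0,0,0,0,0,0,0,0,0,0,0,0,0,0,0,0,0,0,0,0,0,0,0,0,0,0,0,0,0,0,0,0,0,0,0,0,0,0,0,0,0,0,0,0,0,0,0,0,0,0,0,0,0,0,0,0,0,0,0,0,0,0,0,0,0,0,0,0,0,0,0,0,0,0,0,0,0,0,0,0,0,0,0,0,0,0,0,0,0,0,0,0,0,0,0,0,0,0,0,0,0,0,0,0,0,0,0,0,0,0,0,0,0,0,0,0,0,0,0,0,0,0,0,0,0,0,0,0,0,0,0,0,0,0,0,0,0,0,0,0,0,0,0,0,0,0,0,0,0,0,0,0,0,0,0,0,0,0,0,0,0,0,0,0,0,0,0,0,0,0,0,0,0,0,0,0,0,0,0,0,0,0,0,0,0,0,0,0,0,0,0,0,0,0,0,0,0,0,0,0,0,0,0,0,0,0,0,0,0,0,0,0,0,0,0,0,0,0,0,0,0,0,0,0,0,0,0,0,0,0,0,0,0,0,0,0,0,2],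
  [0,0,0,0,0,0,0,0,0,0,0,0,0,0,0,0,0,0,0,0,0,0,0,0,1,0,0,0,0,0,0,3,0,0,0,0,0,0,0,0,0,0,0,0,0,0,0,0,0,0,0,0,0,0,0,0,0,0,0,0,0,0,0,0,0,0,0,0,0,0,0,0,0,0,0,0,0,0,0,0,0,0,0,0,0,0,0,0,0,0,0,0,0,0,0,0,0,0,0,0,0,0,0,0,0,0,0,0,0,0,0,0,0,0,0,0,0,0,0,0,0,0,0,0,0,0,0,0,0,0,0,0,0,0,0,0,0,0,0,0,0,0,0,0,0,0,0,0,0,0,0,0,0,0,0,0,0,0,0,0,0,0,0,0,0,0,0,0,0,0,0,0,0,0,0,0,0,0,0,0,0,0,0,0,0,0,0,0,0,0,0,0,0,0,0,0,0,0,0,0,0,0,0,0,0,0,0,0,0,0,0,0,0,0,0,0,0,0,0,0,0,0,0,0,0,0,0,0,0,0,0,0,0,0,0,0,0,0,0,0,0,0,0,0,0,0,0,0,0,0,0,0,0,0,0,0,0,0,0,0,0,0,0,0,0,0,0,0,0,0,0,0,0,0,0,0,0,0,0,0,0,0,0,0,0,0,0,0,0,0,0,0,0,0,0,0,0,0,0,0,0,0,0,0,0,0,0,0,0,0,0,0,0,0,0,0,0,0,0,0,0,0,0,0,0,0,1],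
  [0,0,0,0,0,0,0,0,0,0,0,0,0,0,0,0,0,0,0,0,0,0,0,0,0,0,1,0,0,3,0,0,0,0,0,0,0,0,0,0,0,0,0,0,0,0,0,0,0,0,0,0,0,0,0,0,0,0,0,0,0,0,0,0,0,0,0,0,0,0,0,0,0,0,0,0,0,0,0,0,0,0,0,0,0,0,0,0,0,0,0,0,0,0,0,0,0,0,0,0,0,0,0,0,0,0,0,0,0,0,0,0,0,0,0,0,0,0,0,0,0,0,0,0,0,0,0,0,0,0,0,0,0,0,0,0,0,0,0,0,0,0,0,0,0,0,0,0,0,0,0,0,0,0,0,0,0,0,0,0,0,0,0,0,0,0,0,0,0,0,0,0,0,0,0,0,0,0,0,0,0,0,0,0,0,0,0,0,0,0,0,0,0,0,0,0,0,0,0,0,0,0,0,0,0,0,0,0,0,0,0,0,0,0,0,0,0,0,0,0,0,0,0,0,0,0,0,0,0,0,0,0,0,0,0,0,0,0,0,0,0,0,0,0,0,0,0,0,0,0,0,0,0,0,0,0,0,0,0,0,0,0,0,0,0,0,0,0,0,0,0,0,0,0,0,0,0,0,0,0,0,0,0,0,0,0,0,0,0,0,0,0,0,0,0,0,0,0,0,0,0,0,0,0,0,0,0,0,0,0,0,0,0,0,0,0,0,0,0,0,0,0,0,0,0,0],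
  [0,0,0,0,0,0,0,0,0,0,0,0,0,0,0,0,0,0,0,0,0,0,0,0,0,0,0,0,0,0,0,0,0,0,0,0,0,0,0,0,0,0,0,0,0,0,0,0,1,0,0,0,0,0,0,0,0,0,0,0,0,0,0,0,0,0,0,0,0,0,0,0,0,0,0,0,0,0,0,0,0,0,0,0,0,0,0,0,0,0,0,0,0,0,0,0,0,0,0,0,0,0,0,0,0,0,0,0,0,0,0,0,0,0,0,0,0,0,0,0,0,0,0,0,0,0,0,0,0,0,0,0,0,0,0,0,0,0,0,0,0,0,0,0,0,0,0,0,1,0,0,0,0,0,0,0,0,0,0,0,0,0,0,0,0,0,0,0,0,0,0,0,0,0,0,0,0,0,0,0,0,0,0,0,0,0,0,0,0,0,0,0,0,0,0,0,0,0,0,0,0,0,0,0,0,0,0,0,0,0,0,0,0,0,0,0,0,0,0,0,0,0,0,0,0,0,0,0,0,0,0,0,0,0,0,0,0,0,0,0,0,0,0,0,0,0,0,0,0,0,0,0,0,0,0,0,0,0,0,0,0,0,0,0,0,0,0,0,0,0,0,0,0,0,0,0,0,0,0,0,0,0,0,0,0,0,0,0,0,0,0,0,0,0,0,0,0,0,0,0,0,0,0,0,0,0,0,0,0,0,0,0,0,0,0,0,0,0,0,0,0,0,0,0,0,0],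
  [0,0,0,0,0,0,0,0,0,0,0,0,1,0,0,0,0,0,0,0,0,0,0,0,0,0,0,0,0,0,0,0,0,0,0,0,0,0,0,0,0,0,0,0,0,0,0,0,0,0,0,0,0,0,0,0,0,0,0,0,0,0,0,0,0,0,0,0,0,0,0,0,0,0,0,0,0,0,0,0,0,0,0,0,0,0,0,0,0,0,0,1,0,0,0,0,0,0,0,0,0,0,0,0,0,0,0,0,0,0,0,0,0,0,0,0,0,0,0,0,0,0,0,0,0,0,0,0,0,1,0,0,0,0,0,0,0,0,0,0,0,0,0,0,0,0,0,0,0,0,0,0,0,0,0,0,0,0,0,0,0,0,0,0,0,0,0,0,0,0,0,0,0,0,0,0,0,0,0,0,0,0,0,0,0,0,0,0,0,0,0,0,0,0,0,0,0,0,0,0,0,0,0,0,0,0,0,0,0,0,0,0,0,0,0,0,0,0,0,0,0,0,0,0,0,0,0,0,0,0,0,0,0,0,0,0,0,0,0,0,0,0,0,0,0,0,0,0,0,0,0,0,0,0,0,0,0,0,0,0,0,0,0,0,0,0,0,0,0,0,0,0,0,0,0,0,0,0,0,0,0,0,0,0,0,0,0,0,0,0,0,0,0,0,0,0,0,0,0,0,0,0,0,0,0,0,0,0,0,0,0,0,0,0,0,0,0,0,0,0,0,0,0,0,0,0,0,0,0,0,0,1],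
  [1,0,0,0,3,0,0,0,0,0,0,0,0,0,0,0,0,0,0,0,0,0,0,0,0,0,0,0,0,0,0,0,0,0,0,0,0,0,0,0,0,0,0,0,0,0,0,0,0,0,0,0,0,0,0,0,0,0,0,0,0,0,0,0,0,0,0,0,0,0,0,0,0,0,0,0,0,0,0,0,0,0,0,0,0,0,0,0,0,0,0,0,0,0,0,0,0,0,0,0,0,0,0,0,0,0,0,0,0,0,0,0,0,0,0,0,0,0,0,0,0,0,0,0,0,0,0,0,0,0,0,0,0,0,0,0,0,0,0,0,0,0,0,0,0,0,0,0,0,0,0,0,0,0,0,0,0,0,0,0,0,0,0,0,0,0,0,0,0,0,0,0,0,0,0,0,0,0,0,0,0,0,0,0,0,0,0,0,0,0,0,0,0,0,0,0,0,0,0,0,0,0,0,0,0,0,0,0,0,0,0,0,0,0,0,0,0,0,0,0,0,0,0,0,0,0,0,0,0,0,0,0,0,0,0,0,0,0,0,0,0,0,0,0,0,0,0,0,0,0,0,0,0,0,0,0,0,0,0,0,0,0,0,0,0,0,0,0,0,0,0,0,0,0,0,0,0,0,0,0,0,0,0,0,0,0,0,0,0,0,0,0,0,0,0,0,0,0,0,0,0,0,0,0,0,0,0,0,0,0,0,0,0,0,0,0,0,0,0,0,0,0,0,0,0,0,0,0,0,0,0,0,0,0,0,0,0,0,0,0,0,0,0,0,0,0,2],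
  [0,0,1,0,0,3,0,0,0,0,0,0,0,0,0,0,0,0,0,0,0,0,0,0,0,0,0,0,0,0,0,0,0,0,0,0,0,0,0,0,0,0,0,0,0,0,0,0,0,0,0,0,0,0,0,0,0,0,0,0,0,0,0,0,0,0,0,0,0,0,0,0,0,0,0,0,0,0,0,0,0,0,0,0,0,0,0,0,0,0,0,0,0,0,0,0,0,0,0,0,0,0,0,0,0,0,0,0,0,0,0,0,0,0,0,0,0,0,0,0,0,0,0,0,0,0,0,0,0,0,0,0,0,0,0,0,0,0,0,0,0,0,0,0,0,0,0,0,0,0,0,0,0,0,0,0,0,0,0,0,0,0,0,0,0,0,0,0,0,0,0,0,0,0,0,0,0,0,0,0,0,0,0,0,0,0,0,0,0,0,0,0,0,0,0,0,0,0,0,0,0,0,0,0,0,0,0,0,0,0,0,0,0,0,0,0,0,0,0,0,0,0,0,0,0,0,0,0,0,0,0,0,0,0,0,0,0,0,0,0,0,0,0,0,0,0,0,0,0,0,0,0,0,0,0,0,0,0,0,0,0,0,0,0,0,0,0,0,0,0,0,0,0,0,0,0,0,0,0,0,0,0,0,0,0,0,0,0,0,0,0,0,0,0,0,0,0,0,0,0,0,0,0,0,0,0,0,0,0,0,0,0,0,0,0,0,0,0,0,0,0,0,0,0,0,0,0,0,0,0,0,0,0,0,0,0,0,0,0,0,0,0,0,0,0,0,0,2],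
  [0,0,0,0,0,0,1,0,0,3,0,0,0,0,0,0,0,0,0,0,0,0,0,0,0,0,0,0,0,0,0,0,0,0,0,0,0,0,0,0,0,0,0,0,0,0,0,0,0,0,0,0,0,0,0,0,0,0,0,0,0,0,0,0,0,0,0,0,0,0,0,0,0,0,0,0,0,0,0,0,0,0,0,0,0,0,0,0,0,0,0,0,0,0,0,0,0,0,0,0,0,0,0,0,0,0,0,0,0,0,0,0,0,0,0,0,0,0,0,0,0,0,0,0,0,0,0,0,0,0,0,0,0,0,0,0,0,0,0,0,0,0,0,0,0,0,0,0,0,0,0,0,0,0,0,0,0,0,0,0,0,0,0,0,0,0,0,0,0,0,0,0,0,0,0,0,0,0,0,0,0,0,0,0,0,0,0,0,0,0,0,0,0,0,0,0,0,0,0,0,0,0,0,0,0,0,0,0,0,0,0,0,0,0,0,0,0,0,0,0,0,0,0,0,0,0,0,0,0,0,0,0,0,0,0,0,0,0,0,0,0,0,0,0,0,0,0,0,0,0,0,0,0,0,0,0,0,0,0,0,0,0,0,0,0,0,0,0,0,0,0,0,0,0,0,0,0,0,0,0,0,0,0,0,0,0,0,0,0,0,0,0,0,0,0,0,0,0,0,0,0,0,0,0,0,0,0,0,0,0,0,0,0,0,0,0,0,0,0,0,0,0,0,0,0,0,0,0,0,0,0,0,0,0,0,0,0,0,0,0,0,0,0,0,0,0,0,0,0,0,0,2],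
  [0,0,0,0,0,0,0,0,0,1,0,0,0,0,0,0,0,0,0,0,0,0,0,0,0,0,0,0,0,0,0,0,0,0,0,0,0,0,0,0,0,0,0,0,0,0,0,0,0,0,0,0,0,0,0,0,0,0,0,0,0,0,0,0,0,0,0,0,0,1,0,0,0,0,0,0,0,0,0,0,0,0,0,0,0,0,0,0,0,0,0,1,0,0,0,0,0,0,0,0,0,0,0,0,0,0,0,0,0,0,0,0,0,0,0,0,0,0,0,0,0,0,0,0,0,0,0,0,0,0,0,0,0,0,0,0,0,0,0,0,0,0,0,0,0,0,0,0,0,0,0,0,0,0,0,0,0,0,0,0,0,0,0,0,0,0,0,0,0,0,0,0,0,0,0,0,0,0,0,0,0,0,0,0,0,0,0,0,0,0,0,0,0,0,0,0,0,0,0,0,0,0,0,0,0,0,0,0,0,0,0,0,0,0,0,0,0,0,0,0,0,0,0,0,0,0,0,0,0,0,0,0,0,0,0,0,0,0,0,0,0,0,0,0,0,0,0,0,0,0,0,0,0,0,0,0,0,0,0,0,0,0,0,0,0,0,0,0,0,0,0,0,0,0,0,0,0,0,0,0,0,0,0,0,0,0,0,0,0,0,0,0,0,0,0,0,0,0,0,0,0,0,0,0,0,0,0,0,0,0,0,0,0,0,0,0,0,0,0,0,0,0,0,0,0,0,0,0,0,0,0,0,0,0,0,0,0,0,0,0,0,0,0,0,0,0,0,0,0,0,0,1],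
  [0,0,0,0,0,0,0,0,0,0,0,0,0,0,0,0,0,0,0,0,0,0,0,0,0,0,0,0,0,0,0,0,0,0,0,0,0,0,0,0,0,0,0,0,0,0,0,0,0,0,0,0,0,0,0,0,0,0,0,0,0,0,0,0,0,0,0,0,0,0,0,0,0,0,0,0,0,0,0,0,0,1,0,0,0,0,0,0,0,0,0,0,0,0,0,0,0,0,0,0,0,0,0,0,0,0,0,0,0,0,0,0,0,0,0,0,0,0,0,0,0,0,0,0,0,0,0,0,0,0,0,0,0,0,0,0,0,0,3,0,0,0,0,0,0,0,0,0,0,0,0,0,0,0,0,0,0,0,0,0,0,0,0,0,0,0,0,0,0,0,0,0,0,0,0,0,0,0,0,0,0,0,0,0,0,0,0,0,0,0,0,0,0,0,0,0,0,0,0,0,0,0,0,0,0,0,0,0,0,0,0,0,0,0,0,0,0,0,0,0,0,0,0,0,0,0,0,0,0,0,0,0,0,0,0,0,0,0,0,0,0,0,0,0,0,0,0,0,0,0,0,0,0,0,0,0,0,0,0,0,0,0,0,0,0,0,0,0,0,0,0,0,0,0,0,0,0,0,0,0,0,0,0,0,0,0,0,0,0,0,0,0,0,0,0,0,0,0,0,0,0,0,0,0,0,0,0,0,0,0,0,0,0,0,0,0,0,0,0,0,0,0,0,0,0,0,0,0,0,0,0,0,0,0,0,0,0,0,0,0,0,0,0,0,0,0,0,0,0,0,0,0,0,0,0,0,0,0,0,0,0],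
  [0,1,0,0,3,0,0,0,0,0,0,0,0,0,0,0,0,0,0,0,0,0,0,0,0,0,0,0,0,0,0,0,0,0,0,0,0,0,0,0,0,0,0,0,0,0,0,0,0,0,0,0,0,0,0,0,0,0,0,0,0,0,0,0,0,0,0,0,0,0,0,0,0,0,0,0,0,0,0,0,0,0,0,0,0,0,0,0,0,0,0,0,0,0,0,0,0,0,0,0,0,0,0,0,0,0,0,0,0,0,0,0,0,0,0,0,0,0,0,0,0,0,0,0,0,0,0,0,0,0,0,0,0,0,0,0,0,0,0,0,0,0,0,0,0,0,0,0,0,0,0,0,0,0,0,0,0,0,0,0,0,0,0,0,0,0,0,0,0,0,0,0,0,0,0,0,0,0,0,0,0,0,0,0,0,0,0,0,0,0,0,0,0,0,0,0,0,0,0,0,0,0,0,0,0,0,0,0,0,0,0,0,0,0,0,0,0,0,0,0,0,0,0,0,0,0,0,0,0,0,0,0,0,0,0,0,0,0,0,0,0,0,0,0,0,0,0,0,0,0,0,0,0,0,0,0,0,0,0,0,0,0,0,0,0,0,0,0,0,0,0,0,0,0,0,0,0,0,0,0,0,0,0,0,0,0,0,0,0,0,0,0,0,0,0,0,0,0,0,0,0,0,0,0,0,0,0,0,0,0,0,0,0,0,0,0,0,0,0,0,0,0,0,0,0,0,0,0,0,0,0,0,0,0,0,0,0,0,0,0,0,0,0,0,0,0,0,0,0,0,0,0,0,0,0,0,0,0,0,0,0,0,0,0,0,0,0,0,0,2],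
  [0,0,0,0,0,1,0,3,0,0,0,0,0,0,0,0,0,0,0,0,0,0,0,0,0,0,0,0,0,0,0,0,0,0,0,0,0,0,0,0,0,0,0,0,0,0,0,0,0,0,0,0,0,0,0,0,0,0,0,0,0,0,0,0,0,0,0,0,0,0,0,0,0,0,0,0,0,0,0,0,0,0,0,0,0,0,0,0,0,0,0,0,0,0,0,0,0,0,0,0,0,0,0,0,0,0,0,0,0,0,0,0,0,0,0,0,0,0,0,0,0,0,0,0,0,0,0,0,0,0,0,0,0,0,0,0,0,0,0,0,0,0,0,0,0,0,0,0,0,0,0,0,0,0,0,0,0,0,0,0,0,0,0,0,0,0,0,0,0,0,0,0,0,0,0,0,0,0,0,0,0,0,0,0,0,0,0,0,0,0,0,0,0,0,0,0,0,0,0,0,0,0,0,0,0,0,0,0,0,0,0,0,0,0,0,0,0,0,0,0,0,0,0,0,0,0,0,0,0,0,0,0,0,0,0,0,0,0,0,0,0,0,0,0,0,0,0,0,0,0,0,0,0,0,0,0,0,0,0,0,0,0,0,0,0,0,0,0,0,0,0,0,0,0,0,0,0,0,0,0,0,0,0,0,0,0,0,0,0,0,0,0,0,0,0,0,0,0,0,0,0,0,0,0,0,0,0,0,0,0,0,0,0,0,0,0,0,0,0,0,0,0,0,0,0,0,0,0,0,0,0,0,0,0,0,0,0,0,0,0,0,0,0,0,0,0,0,0,0,0,0,0,0,0,0,0,0,0,0,0,0,0,0,0,0,0,0,0,0,0,0,0,0,2],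
  [0,0,0,0,0,0,0,0,1,0,3,0,0,0,0,0,0,0,0,0,0,0,0,0,0,0,0,0,0,0,0,0,0,0,0,0,0,0,0,0,0,0,0,0,0,0,0,0,0,0,0,0,0,0,0,0,0,0,0,0,0,0,0,0,0,0,0,0,0,0,0,0,0,0,0,0,0,0,0,0,0,0,0,0,0,0,0,0,0,0,0,0,0,0,0,0,0,0,0,0,0,0,0,0,0,0,0,0,0,0,0,0,0,0,0,0,0,0,0,0,0,0,0,0,0,0,0,0,0,0,0,0,0,0,0,0,0,0,0,0,0,0,0,0,0,0,0,0,0,0,0,0,0,0,0,0,0,0,0,0,0,0,0,0,0,0,0,0,0,0,0,0,0,0,0,0,0,0,0,0,0,0,0,0,0,0,0,0,0,0,0,0,0,0,0,0,0,0,0,0,0,0,0,0,0,0,0,0,0,0,0,0,0,0,0,0,0,0,0,0,0,0,0,0,0,0,0,0,0,0,0,0,0,0,0,0,0,0,0,0,0,0,0,0,0,0,0,0,0,0,0,0,0,0,0,0,0,0,0,0,0,0,0,0,0,0,0,0,0,0,0,0,0,0,0,0,0,0,0,0,0,0,0,0,0,0,0,0,0,0,0,0,0,0,0,0,0,0,0,0,0,0,0,0,0,0,0,0,0,0,0,0,0,0,0,0,0,0,0,0,0,0,0,0,0,0,0,0,0,0,0,0,0,0,0,0,0,0,0,0,0,0,0,0,0,0,0,0,0,0,0,0,0,0,0,0,0,0,0,0,0,0,0,0,0,0,0,0,0,0,0,0,0,0,0,0,2],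
  [0,0,0,0,0,0,0,1,0,0,1,0,0,0,0,0,0,0,0,0,0,0,0,0,0,0,0,0,0,0,0,0,0,0,0,0,0,0,0,0,0,0,0,0,0,0,0,1,0,0,0,0,0,0,0,0,0,0,0,0,0,0,0,0,0,0,0,0,0,0,1,0,0,0,0,0,0,0,0,0,0,0,0,0,0,0,0,0,0,0,0,0,0,0,0,0,0,0,0,0,0,0,0,0,0,0,0,0,0,0,0,0,0,0,0,0,0,0,0,0,0,0,0,0,0,0,0,0,0,0,0,0,0,0,0,0,0,0,0,0,0,0,0,0,0,0,0,0,0,0,0,0,0,0,0,0,0,0,0,0,0,0,0,0,0,0,1,0,0,0,0,0,0,0,0,0,0,0,0,0,0,0,0,0,0,0,0,0,0,0,0,0,0,0,0,0,0,0,0,0,0,0,0,0,0,0,0,0,0,0,0,0,0,0,0,0,0,0,0,0,0,0,0,0,0,0,0,0,0,0,0,0,0,0,0,0,0,0,0,0,0,0,0,0,0,0,0,0,0,0,0,0,0,0,0,0,0,0,0,0,0,0,0,0,0,0,0,0,0,0,0,0,0,0,0,0,0,0,0,0,0,0,0,0,0,0,0,0,0,0,0,0,0,0,0,0,0,0,0,0,0,0,0,0,0,0,0,0,0,0,0,0,0,0,0,0,0,0,0,0,0,0,0,0,0,0,0,0,0,0,0,0,0,0,0,0,0,0,0,0,0,0,0,0,0,0,0,0,0,0,0,0,0,0,0,0,0,0,0,0,0,0,0,0,0,0,0,0,0,0,0,0,0,1,0,0,1],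
  [0,0,0,0,0,0,0,0,0,0,0,0,0,0,0,0,0,0,0,0,0,0,0,0,0,0,0,0,0,0,0,0,0,0,0,0,0,0,0,0,0,0,0,0,0,0,0,0,0,0,0,0,0,0,0,0,0,0,0,1,0,0,0,0,0,0,0,0,0,0,0,0,0,0,0,0,0,0,0,0,0,0,0,0,0,0,0,0,0,0,0,0,0,0,0,0,0,0,0,0,0,0,0,0,0,0,0,0,0,0,0,0,0,0,0,0,0,3,0,0,0,0,0,0,0,0,0,0,0,0,0,0,0,0,0,0,0,0,0,0,0,0,0,0,0,0,0,0,0,0,0,0,0,0,0,0,0,0,0,0,0,0,0,0,0,0,0,0,0,0,0,0,0,0,0,0,0,0,0,0,0,0,0,0,0,0,0,0,0,0,0,0,0,0,0,0,0,0,0,0,0,0,0,0,0,0,0,0,0,0,0,0,0,0,0,0,0,0,0,0,0,0,0,0,0,0,0,0,0,0,0,0,0,0,0,0,0,0,0,0,0,0,0,0,0,0,0,0,0,0,0,0,0,0,0,0,0,0,0,0,0,0,0,0,0,0,0,0,0,0,0,0,0,0,0,0,0,0,0,0,0,0,0,0,0,0,0,0,0,0,0,0,0,0,0,0,0,0,0,0,0,0,0,0,0,0,0,0,0,0,0,0,0,0,0,0,0,0,0,0,0,0,0,0,0,0,0,0,0,0,0,0,0,0,0,0,0,0,0,0,0,0,0,0,0,0,0,0,0,0,0,0,0,0,0,0,0,0,0,0,0,0,0,0,0,0,0,0,0,0,0,0,0,0,0,0,0,0,0,0,0,0,0,0,1,0,0,0,0,0,0,1],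
  [0,0,0,0,0,0,0,0,0,0,0,0,0,0,0,0,0,0,0,0,0,0,0,0,0,0,0,0,0,0,0,0,0,0,0,0,0,0,0,0,0,0,0,0,0,0,0,0,0,0,0,0,0,0,0,0,0,0,0,0,0,0,1,0,0,0,0,0,0,0,0,0,0,0,0,0,0,0,0,0,0,0,0,0,0,0,0,0,0,0,0,0,0,0,0,0,0,0,0,0,0,0,0,0,0,0,0,0,0,0,0,0,0,0,0,0,0,0,0,0,3,0,0,0,0,0,0,0,0,0,0,0,0,0,0,0,0,0,0,0,0,0,0,0,0,0,0,0,0,0,0,0,0,0,0,0,0,0,0,0,0,0,0,0,0,0,0,0,0,0,0,0,0,0,0,0,0,0,0,0,0,0,0,0,0,0,0,0,0,0,0,0,0,0,0,0,0,0,0,0,0,0,0,0,0,0,0,0,0,0,0,0,0,0,0,0,0,0,0,0,0,0,0,0,0,0,0,0,0,0,0,0,0,0,0,0,0,0,0,0,0,0,0,0,0,0,0,0,0,0,0,0,0,0,0,0,0,0,0,0,0,0,0,0,0,0,0,0,0,0,0,0,0,0,0,0,0,0,0,0,0,0,0,0,0,0,0,0,0,0,0,0,0,0,0,0,0,0,0,0,0,0,0,0,0,0,0,0,0,0,0,0,0,0,0,0,0,0,0,0,0,0,0,0,0,0,0,0,0,0,0,0,0,0,0,0,0,0,0,0,0,0,0,0,0,0,0,0,0,0,0,0,0,0,0,0,0,0,0,0,0,0,0,0,0,0,0,0,0,0,0,0,0,0,0,0,0,0,0,0,0,0,0,0,0,0,0,1],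
  [0,0,0,0,0,0,0,0,0,0,0,0,0,0,0,0,0,0,0,0,0,0,0,0,0,0,0,0,0,0,0,0,0,0,0,0,0,0,0,0,0,0,0,0,0,0,0,0,0,0,0,0,0,0,0,0,0,0,0,0,0,0,0,0,0,0,0,0,0,0,0,0,0,0,0,0,0,0,0,0,0,0,0,0,0,0,0,0,0,0,0,0,0,0,0,0,0,0,0,0,0,0,0,0,0,0,0,0,0,0,0,0,0,0,0,0,0,0,0,0,0,0,0,0,0,0,0,0,0,0,0,0,0,0,0,0,0,0,0,0,0,0,0,0,0,0,0,0,0,0,0,0,0,0,0,0,0,0,0,0,0,0,0,0,0,0,0,0,0,0,0,0,0,0,0,0,0,0,0,0,0,0,0,0,0,0,0,0,0,0,0,0,0,0,0,0,0,0,0,0,0,0,0,0,0,0,0,0,0,0,0,0,0,0,0,0,0,0,0,0,0,0,0,0,0,0,0,0,0,0,0,0,0,0,0,0,0,0,0,0,0,0,0,0,0,0,0,0,0,0,0,0,0,0,0,0,0,0,0,0,0,0,0,0,0,0,0,0,0,0,0,0,0,0,0,0,0,0,0,0,0,0,0,0,0,0,0,0,0,0,0,0,0,0,0,0,0,0,0,0,0,0,0,0,0,0,0,0,0,0,0,0,0,0,0,0,0,0,0,0,0,0,0,0,0,0,0,0,0,0,0,0,0,0,0,0,0,0,0,0,0,0,0,0,0,0,0,0,0,0,0,0,0,0,0,0,0,0,0,0,0,0,0,0,0,0,0,0,0,0,0,0,0,0,0,0,0,0,0,0,0,0,0,0,1,0,0,1]]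

/-- The inputs of a part of the program. -/
def twoFourTwoInp0 : List (List ℕ) := [
  [1,2,4,24,16,32,64,128,256,512,1024,2048,4096,8192,16384,32768,65536,131072,262144,524288,1048576,2097152,4194304,8388608,16777216,33554432,67108864,134217728,268435488,536870912,1073741888,2147483648,4294967296,8589934720,17179869184,34359738624,68719477248,137438953472,274877906944,549755813888,1099511629824,2199023255552,4398046515200,8796093030400,17592186077184,35184372088832,70368744701952,140737489403904,281474980904960,562949986975744,1125900041060352,2251799813685269],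
  [1,262146,4,8,16,32,64,128,256,512,1024,2176,4096,8192,16384,32768,65536,131072,262144,528640,1057280,2114560,4227072,8454144,16908288,33554432,67108864,134217728,268435456,536870912,1073741824,2147483648,4294967296,8589934592,17179869184,34359738368,68719476736,137439215617,277025390592,554050781184,1108101562368,2199023255552,4398046511104,8796093022208,17592186044416,37400575213568,74801150427136,149602300854272,299067162755072,562949953421312,1125899906842624,2251799813685248],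
  [16777217,2,16777220,8,16,32,64,128,448,512,1024,2048,6144,8192,16384,40960,81920,131072,393216,524288,1048576,2097152,4194304,8388608,16777216,38797312,77594624,134217728,268435456,536870912,1073741824,2164260866,4294967296,8589934592,22011707392,44023414784,68719476736,137438953472,412316860416,549755813888,1099511627776,2748779069440,5497558138880,8796093022208,26388279066624,35184372088832,70368744177664,140737488355328,281474976710656,985162418487296,1125899906842624,2251799813685248],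
  [1,2,4,67108872,16,32,96,128,256,768,1024,2048,4096,12288,16384,32768,65536,196608,262144,524288,1572864,2097152,4194304,8388608,25165824,33554432,67108864,167772160,268435456,603979780,1342177280,2147483648,6442450944,8589934592,17179869184,34359738368,103079215104,137438953472,274877906944,824633720832,1099511627776,2199023255552,4398046511104,13194139533312,17592186044416,35184372088832,70368744177664,211106232532992,281474976710656,562949953421312,1688849860263936,2251799813685248],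
  [1,2,134217732,8,16,48,64,128,256,512,1536,2048,4096,8192,24576,32768,98304,131072,262144,524288,1048576,3145728,4194304,12582912,16777216,33554432,100663296,134217728,402653192,536870912,1610612736,2147483648,4294967296,12884901888,17179869184,51539607552,68719476736,137438953472,274877906944,549755813888,1649267441664,2199023255552,6597069766656,8796093022208,17592186044416,35184372088832,105553116266496,140737488355328,281474976710656,562949953421312,1125899906842624,3377699720527872],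
  [1,2,268435460,8,48,32,64,128,256,1536,1024,2048,4096,24576,16384,98304,65536,131072,262144,524288,3145728,2097152,12582912,8388608,16777216,100663296,67108864,402653192,268435456,1610612736,1073741824,2147483648,12884901888,8589934592,51539607552,34359738368,68719476736,137438953472,274877906944,1649267441664,1099511627776,6597069766656,4398046511104,8796093022208,17592186044416,105553116266496,70368744177664,140737488355328,281474976710656,562949953421312,3377699720527872,2251799813685248],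
  [1,2,4,536870920,16,96,64,128,768,512,1024,2048,12288,8192,16384,32768,196608,131072,262144,1572864,1048576,2097152,4194304,25165824,16777216,167772160,603979780,134217728,1342177280,536870912,1073741824,6442450944,4294967296,8589934592,17179869184,103079215104,68719476736,137438953472,824633720832,549755813888,1099511627776,2199023255552,13194139533312,8796093022208,17592186044416,35184372088832,211106232532992,140737488355328,281474976710656,1688849860263936,1125899906842624,2251799813685248],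
  [2147483649,2,2147483652,8,16,32,448,128,256,512,1024,6144,4096,40960,81920,32768,65536,393216,262144,524288,38797312,77594624,4194304,8388608,2164260866,33554432,67108864,134217728,268435456,22011707392,44023414784,2147483648,4294967296,8589934592,17179869184,34359738368,68719476736,412316860416,274877906944,2748779069440,5497558138880,2199023255552,4398046511104,26388279066624,17592186044416,35184372088832,70368744177664,985162418487296,281474976710656,562949953421312,1125899906842624,2251799813685248],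
  [1,137438953474,4,8,16,32,64,2176,528640,1057280,2114560,2048,4096,8192,16384,4227072,8454144,16908288,137439215617,524288,1048576,2097152,4194304,8388608,16777216,33554432,67108864,134217728,268435456,536870912,1073741824,277025390592,554050781184,1108101562368,37400575213568,74801150427136,149602300854272,137438953472,274877906944,549755813888,1099511627776,2199023255552,4398046511104,8796093022208,299067162755072,35184372088832,70368744177664,140737488355328,281474976710656,562949953421312,1125899906842624,2251799813685248]]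

/-- The places of the inputs. -/
def twoFourTwoRef0 : List ℕ := [0, 14, 20, 22, 23, 24, 25, 27, 33]

/-- A part of the program. -/
def twoFourTwoPart0 : List CfsgLib.Rigid.Op := [
  ⟨false, 0, 0, [1,2,4,8,16,32,64,128,256,512,1024,2048,4096,8192,16384,32768,65536,131072,262144,524288,1048576,2097152,4194304,8388608,16777216,33554432,67108864,134217728,268435456,536870912,1073741824,2147483648,4294967296,8589934592,17179869184,34359738368,68719476736,137438953472,274877906944,549755813888,1099511627776,2199023255552,4398046511104,8796093022208,17592186044416,35184372088832,70368744177664,140737488355328,281474976710656,562949953421312,1125899906842624,2251799813685248]⟩,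
  ⟨false, 1, 8, [1,137438953475,4,8,16,32,64,2048,524288,1048576,2097152,2176,4096,8192,16384,4194304,8388608,16777216,137438953472,528640,1057280,2114560,4227072,8454144,16908288,33554432,67108864,134217728,268435456,536870912,1073741824,274877906944,549755813888,1099511627776,35184372088832,70368744177664,140737488355328,137439215617,277025390592,554050781184,1108101562368,2199023255552,4398046511104,8796093022208,281474976710656,37400575213568,74801150427136,149602300854272,299067162755072,562949953421312,1125899906842624,2251799813685248]⟩,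
  ⟨false, 8, 10, [1,3,4,8,16,32,64,2048,524288,1048576,2097152,128,4096,8192,16384,4194304,8388608,16777216,137438953472,256,512,1024,32768,65536,131072,33554432,67108864,134217728,268435456,536870912,1073741824,274877906944,549755813888,1099511627776,35184372088832,70368744177664,140737488355328,262144,2147483648,4294967296,8589934592,2199023255552,4398046511104,8796093022208,281474976710656,17179869184,34359738368,68719476736,17592186044416,562949953421312,1125899906842624,2251799813685248]⟩,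
  ⟨false, 2, 7, [2147483651,2,2147483654,8,16,32,256,128,448,512,1024,4096,6144,32768,65536,40960,81920,262144,393216,524288,33554432,67108864,4194304,8388608,2147483648,38797312,77594624,134217728,268435456,17179869184,34359738368,2164260866,4294967296,8589934592,22011707392,44023414784,68719476736,274877906944,412316860416,2199023255552,4398046511104,2748779069440,5497558138880,17592186044416,26388279066624,35184372088832,70368744177664,562949953421312,281474976710656,985162418487296,1125899906842624,2251799813685248]⟩,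
  ⟨false, 7, 12, [3,2,6,8,16,32,256,128,64,512,1024,4096,2048,32768,65536,8192,16384,262144,131072,524288,33554432,67108864,4194304,8388608,2147483648,1048576,2097152,134217728,268435456,17179869184,34359738368,16777216,4294967296,8589934592,536870912,1073741824,68719476736,274877906944,137438953472,2199023255552,4398046511104,549755813888,1099511627776,17592186044416,8796093022208,35184372088832,70368744177664,562949953421312,281474976710656,140737488355328,1125899906842624,2251799813685248]⟩,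
  ⟨false, 3, 6, [1,2,4,536870924,16,64,96,128,512,768,1024,2048,8192,12288,16384,32768,131072,196608,262144,1048576,1572864,2097152,4194304,16777216,25165824,134217728,536870912,167772160,1073741824,603979780,1342177280,4294967296,6442450944,8589934592,17179869184,68719476736,103079215104,137438953472,549755813888,824633720832,1099511627776,2199023255552,8796093022208,13194139533312,17592186044416,35184372088832,140737488355328,211106232532992,281474976710656,1125899906842624,1688849860263936,2251799813685248]⟩,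
  ⟨false, 6, 14, [1,2,4,12,16,64,32,128,512,256,1024,2048,8192,4096,16384,32768,131072,65536,262144,1048576,524288,2097152,4194304,16777216,8388608,134217728,536870912,33554432,1073741824,67108864,268435456,4294967296,2147483648,8589934592,17179869184,68719476736,34359738368,137438953472,549755813888,274877906944,1099511627776,2199023255552,8796093022208,4398046511104,17592186044416,35184372088832,140737488355328,70368744177664,281474976710656,1125899906842624,562949953421312,2251799813685248]⟩,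
  ⟨false, 4, 5, [1,2,268435468,8,32,48,64,128,256,1024,1536,2048,4096,16384,24576,65536,98304,131072,262144,524288,2097152,3145728,8388608,12582912,16777216,67108864,100663296,268435456,402653192,1073741824,1610612736,2147483648,8589934592,12884901888,34359738368,51539607552,68719476736,137438953472,274877906944,1099511627776,1649267441664,4398046511104,6597069766656,8796093022208,17592186044416,70368744177664,105553116266496,140737488355328,281474976710656,562949953421312,2251799813685248,3377699720527872]⟩,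
  ⟨false, 5, 16, [1,2,12,8,32,16,64,128,256,1024,512,2048,4096,16384,8192,65536,32768,131072,262144,524288,2097152,1048576,8388608,4194304,16777216,67108864,33554432,268435456,134217728,1073741824,536870912,2147483648,8589934592,4294967296,34359738368,17179869184,68719476736,137438953472,274877906944,1099511627776,549755813888,4398046511104,2199023255552,8796093022208,17592186044416,70368744177664,35184372088832,140737488355328,281474976710656,562949953421312,2251799813685248,1125899906842624]⟩]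

/-- The generators. -/
def twoFourTwoGens : List (List ℕ) := [
  [1,2,268435460,8,48,32,64,128,256,1536,1024,2048,4096,24576,16384,98304,65536,131072,262144,524288,3145728,2097152,12582912,8388608,16777216,100663296,67108864,402653192,268435456,1610612736,1073741824,2147483648,12884901888,8589934592,51539607552,34359738368,68719476736,137438953472,274877906944,1649267441664,1099511627776,6597069766656,4398046511104,8796093022208,17592186044416,105553116266496,70368744177664,140737488355328,281474976710656,562949953421312,3377699720527872,2251799813685248],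
  [1,2,4,536870920,16,96,64,128,768,512,1024,2048,12288,8192,16384,32768,196608,131072,262144,1572864,1048576,2097152,4194304,25165824,16777216,167772160,603979780,134217728,1342177280,536870912,1073741824,6442450944,4294967296,8589934592,17179869184,103079215104,68719476736,137438953472,824633720832,549755813888,1099511627776,2199023255552,13194139533312,8796093022208,17592186044416,35184372088832,211106232532992,140737488355328,281474976710656,1688849860263936,1125899906842624,2251799813685248],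
  [2147483649,2,2147483652,8,16,32,448,128,256,512,1024,6144,4096,40960,81920,32768,65536,393216,262144,524288,38797312,77594624,4194304,8388608,2164260866,33554432,67108864,134217728,268435456,22011707392,44023414784,2147483648,4294967296,8589934592,17179869184,34359738368,68719476736,412316860416,274877906944,2748779069440,5497558138880,2199023255552,4398046511104,26388279066624,17592186044416,35184372088832,70368744177664,985162418487296,281474976710656,562949953421312,1125899906842624,2251799813685248],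
  [1,137438953474,4,8,16,32,64,2176,528640,1057280,2114560,2048,4096,8192,16384,4227072,8454144,16908288,137439215617,524288,1048576,2097152,4194304,8388608,16777216,33554432,67108864,134217728,268435456,536870912,1073741824,277025390592,554050781184,1108101562368,37400575213568,74801150427136,149602300854272,137438953472,274877906944,549755813888,1099511627776,2199023255552,4398046511104,8796093022208,299067162755072,35184372088832,70368744177664,140737488355328,281474976710656,562949953421312,1125899906842624,2251799813685248],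
  [1,2,1073741828,1073741832,80,32,64,128,1280,512,1024,2048,20480,8192,16384,163840,65536,131072,262144,2621440,1048576,2097152,20971520,8388608,16777216,1107296268,335544320,671088640,268435456,536870912,1073741824,10737418240,4294967296,8589934592,85899345920,34359738368,68719476736,137438953472,1374389534720,549755813888,1099511627776,10995116277760,4398046511104,8796093022208,17592186044416,175921860444160,70368744177664,140737488355328,281474976710656,2814749767106560,1125899906842624,2251799813685248],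
  [4294967297,2,4294967300,4294967304,16,672,64,128,256,512,1024,10240,36864,8192,147456,32768,327680,131072,262144,138936320,1048576,555745280,4194304,4303355906,16777216,33554432,19394461696,134217728,77577846784,536870912,1073741824,2147483648,4294967296,8589934592,17179869184,34359738368,68719476736,687194767360,2473901162496,549755813888,9895604649984,2199023255552,21990232555520,8796093022208,17592186044416,35184372088832,1477743627730944,140737488355328,281474976710656,562949953421312,1125899906842624,2251799813685248],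
  [274877906945,274877906946,274877906948,8,16,32,526400,4224,256,33587712,67175424,2048,4096,4202496,8404992,32768,65536,274878038019,2147745792,524288,1048576,2097152,4194304,8388608,137455730688,33554432,67108864,134217728,268435456,35734664773632,71469329547264,2147483648,2203318222848,4406636445696,17179869184,34359738368,580610858942464,137438953472,274877906944,549755813888,1099511627776,2199023255552,4398046511104,290271069732864,17592186044416,35184372088832,70368744177664,140737488355328,281474976710656,562949953421312,1125899906842624,2251799813685248],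
  [8589934593,2,4,8589934600,1168,32,64,128,256,512,1024,18432,69632,139264,16384,294912,65536,131072,262144,277348352,1091567616,2097152,8594128898,8388608,16777216,36540776448,67108864,73148661760,268435456,536870912,1073741824,2147483648,4294967296,8589934592,17179869184,34359738368,68719476736,1236950581248,4672924418048,9345848836096,1099511627776,19791209299968,4398046511104,8796093022208,17592186044416,2568459162484736,70368744177664,140737488355328,281474976710656,562949953421312,1125899906842624,2251799813685248],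
  [1,2,4,17179869192,16,288,576,128,256,512,1024,34816,4096,8192,278528,32768,65536,131072,262144,34078720,135266304,17181966342,4194304,2155872256,4311744512,33554432,67108864,134217728,34628173824,536870912,69793218560,2147483648,4294967296,8589934592,17179869184,34359738368,68719476736,2336462209024,274877906944,549755813888,18691697672192,2199023255552,4398046511104,8796093022208,17592186044416,35184372088832,633318697598976,1266637395197952,281474976710656,562949953421312,1125899906842624,2251799813685248],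
  [549755813889,549755813890,549755813892,549755813896,16,1050656,64,8320,134250752,512,537003008,2048,4198400,8192,16793600,32768,549755879427,131072,4295229440,524288,1048576,2097152,4194304,137447342080,16777216,33554432,35459317104640,134217728,141837268418560,536870912,1073741824,2201170739200,4294967296,8804682956800,17179869184,1143526452625408,68719476736,137438953472,274877906944,549755813888,1099511627776,2199023255552,285873023221760,8796093022208,17592186044416,35184372088832,70368744177664,140737488355328,281474976710656,562949953421312,1125899906842624,2251799813685248],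
  [1,2,34359738372,34359738376,272,32,1088,128,256,512,1024,67584,4096,270336,16384,32768,65536,131072,262144,67633152,34360786958,270532608,2151677952,8388608,8606711808,33554432,67108864,17314086912,268435456,69256347648,1073741824,2147483648,4294967296,8589934592,17179869184,34359738368,68719476736,4535485464576,274877906944,18141941858304,1099511627776,2199023255552,4398046511104,8796093022208,17592186044416,598134325510144,70368744177664,2392537302040576,281474976710656,562949953421312,1125899906842624,2251799813685248],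
  [1099511627777,1099511627778,4,1099511627784,2099216,32,64,16512,268501248,1073873408,1024,2048,8392704,16785408,16384,1099511660547,65536,131072,8590196736,524288,1048576,2097152,137443147776,8388608,16777216,70643655639040,67108864,141287378386944,268435456,536870912,1073741824,4400193994752,8800387989504,8589934592,2269409179598848,34359738368,68719476736,137438953472,274877906944,549755813888,1099511627776,283673999966208,4398046511104,8796093022208,17592186044416,35184372088832,70368744177664,140737488355328,281474976710656,562949953421312,1125899906842624,2251799813685248],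
  [1,2199023255554,4,2199023255560,16,33558560,134225984,32896,256,512,17180132352,4196352,4096,8192,2199023271937,32768,2147549184,4295098368,262144,524288,1048576,35321813139456,4194304,274886295552,549772591104,33554432,67108864,134217728,567348268367872,536870912,1134697073606656,2147483648,4294967296,17600775979008,17179869184,34359738368,68719476736,137438953472,274877906944,549755813888,282574488338432,2199023255552,4398046511104,8796093022208,17592186044416,35184372088832,70368744177664,140737488355328,281474976710656,562949953421312,1125899906842624,2251799813685248],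
  [1,2,68719476740,8,528,1056,64,128,256,512,1024,133120,266240,8192,16384,32768,65536,131072,262144,68720001034,537919488,1075838976,4299161600,8598323200,16777216,17213423616,34426847232,134217728,268435456,536870912,1073741824,2147483648,4294967296,8589934592,17179869184,34359738368,68719476736,8933531975680,17867063951360,549755813888,1099511627776,2199023255552,4398046511104,8796093022208,17592186044416,1161084278931456,2322168557862912,140737488355328,281474976710656,562949953421312,1125899906842624,2251799813685248],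
  [1,4398046511106,4398046511108,4398046511112,67112976,32,268451904,65664,256,34360001024,1024,8390656,4096,4398046519297,16384,2147516416,65536,8590065664,262144,524288,70506184179712,2097152,274882101248,8388608,1099528404992,33554432,67108864,565149110894592,268435456,2260596443578368,1073741824,2147483648,17596481011712,8589934592,17179869184,34359738368,68719476736,137438953472,274877906944,282024732524544,1099511627776,2199023255552,4398046511104,8796093022208,17592186044416,35184372088832,70368744177664,140737488355328,281474976710656,562949953421312,1125899906842624,2251799813685248],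
  [1,2,4,35184372088840,16,524320,1048640,4194432,33554688,134218240,35184372089863,2048,4096,8192,137438969856,32768,274877972480,549755944960,2199023517696,524288,1048576,2097152,4194304,8388608,16777216,33554432,67108864,134217728,70369012613120,536870912,140738562097152,2147483648,4294967296,281483566645248,17179869184,562984313159680,1125968626319360,137438953472,274877906944,549755813888,1099511627776,2199023255552,4398046511104,8796093022208,17592186044416,35184372088832,70368744177664,140737488355328,281474976710656,562949953421312,1125899906842624,2251799813685248],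
  [1,8796093022210,8796093022212,8,536879120,1073758240,64,131200,68719739136,512,1024,16779264,8796093026305,8192,16384,4295000064,8590000128,131072,262144,140874927833088,1048576,2097152,549760008192,1099520016384,16777216,1128098963652608,2256197927305216,134217728,268435456,536870912,1073741824,17594333528064,4294967296,8589934592,17179869184,34359738368,68719476736,137438953472,281749854617600,549755813888,1099511627776,2199023255552,4398046511104,8796093022208,17592186044416,35184372088832,70368744177664,140737488355328,281474976710656,562949953421312,1125899906842624,2251799813685248],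
  [1,2,70368744177668,70368744177672,524304,32,2097216,8388736,67109120,70368744178191,268436480,2048,4096,137438961664,16384,274877939712,65536,1099511758848,4398046773248,524288,1048576,2097152,4194304,8388608,16777216,33554432,67108864,35184506306560,268435456,140738025226240,1073741824,2147483648,281479271677952,8589934592,562967133290496,34359738368,2251868533161984,137438953472,274877906944,549755813888,1099511627776,2199023255552,4398046511104,8796093022208,17592186044416,35184372088832,70368744177664,140737488355328,281474976710656,562949953421312,1125899906842624,2251799813685248],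
  [17592186044417,17592186044418,4,8,17179901968,34359803936,68719607872,262272,256,512,1024,17592186046467,2147487744,4294975488,8589950976,32768,65536,131072,262144,563224831852544,1126449663705088,2252899327410176,2199027449856,4398054899712,8796109799424,33554432,67108864,134217728,268435456,536870912,1073741824,2147483648,4294967296,8589934592,17179869184,34359738368,68719476736,281612415664128,274877906944,549755813888,1099511627776,2199023255552,4398046511104,8796093022208,17592186044416,35184372088832,70368744177664,140737488355328,281474976710656,562949953421312,1125899906842624,2251799813685248],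
  [1,2,140737488355332,8,1048592,2097184,64,16777344,140737488355595,536871424,1073742848,2048,137438957568,8192,16384,549755846656,1099511693312,131072,8796093284352,524288,1048576,2097152,4194304,8388608,16777216,35184405643264,70368811286528,134217728,268435456,536870912,1073741824,281477124194304,4294967296,8589934592,1125917086711808,2251834173423616,68719476736,137438953472,274877906944,549755813888,1099511627776,2199023255552,4398046511104,8796093022208,17592186044416,35184372088832,70368744177664,140737488355328,281474976710656,562949953421312,1125899906842624,2251799813685248],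
  [281474976710657,2,4,8,35184376283152,70368752566304,140737505132608,281474976710786,562952100905216,1125904201810432,2251808403620864,137438955520,274877911040,549755822080,1099511644160,2199023288320,4398046576640,8796093153280,17592186306560,524288,1048576,2097152,4194304,8388608,16777216,33554432,67108864,134217728,268435456,536870912,1073741824,2147483648,4294967296,8589934592,17179869184,34359738368,68719476736,137438953472,274877906944,549755813888,1099511627776,2199023255552,4398046511104,8796093022208,17592186044416,35184372088832,70368744177664,140737488355328,281474976710656,562949953421312,1125899906842624,2251799813685248],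
  [1,2,562949953421316,8,33554448,67108896,562949953421385,2147483776,256,17179869696,34359739392,274877908992,4096,2199023263744,4398046527488,32768,65536,17592186175488,262144,524288,35184373137408,70368746274816,4194304,8388608,281474993487872,33554432,67108864,134217728,268435456,1125900443713536,2251800887427072,2147483648,4294967296,8589934592,17179869184,34359738368,68719476736,137438953472,274877906944,549755813888,1099511627776,2199023255552,4398046511104,8796093022208,17592186044416,35184372088832,70368744177664,140737488355328,281474976710656,562949953421312,1125899906842624,2251799813685248],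
  [1,2,1125899906842628,1125899906842632,134217744,1125899906842669,536870976,4294967424,17179869440,512,68719477760,549755815936,2199023259648,8192,8796093038592,32768,17592186109952,131072,262144,35184372613120,1048576,140737490452480,4194304,281474985099264,16777216,33554432,562950020530176,134217728,2251800082120704,536870912,1073741824,2147483648,4294967296,8589934592,17179869184,34359738368,68719476736,137438953472,274877906944,549755813888,1099511627776,2199023255552,4398046511104,8796093022208,17592186044416,35184372088832,70368744177664,140737488355328,281474976710656,562949953421312,1125899906842624,2251799813685248],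
  [1,2,4,2251799813685256,2251799813685269,268435488,1073741888,8589934720,34359738624,68719477248,1024,1099511629824,4398046515200,8796093030400,16384,17592186077184,65536,131072,262144,70368744701952,140737489403904,2097152,281474980904960,8388608,16777216,562949986975744,67108864,1125900041060352,268435456,536870912,1073741824,2147483648,4294967296,8589934592,17179869184,34359738368,68719476736,137438953472,274877906944,549755813888,1099511627776,2199023255552,4398046511104,8796093022208,17592186044416,35184372088832,70368744177664,140737488355328,281474976710656,562949953421312,1125899906842624,2251799813685248]]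

/-- The conjugating elements. -/
def twoFourTwoHs : List (List ℕ) := [
  [1,3,4,8,16,32,64,2048,524288,1048576,2097152,128,4096,8192,16384,4194304,8388608,16777216,137438953472,256,512,1024,32768,65536,131072,33554432,67108864,134217728,268435456,536870912,1073741824,274877906944,549755813888,1099511627776,35184372088832,70368744177664,140737488355328,262144,2147483648,4294967296,8589934592,2199023255552,4398046511104,8796093022208,281474976710656,17179869184,34359738368,68719476736,17592186044416,562949953421312,1125899906842624,2251799813685248],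
  [3,2,6,8,16,32,256,128,64,512,1024,4096,2048,32768,65536,8192,16384,262144,131072,524288,33554432,67108864,4194304,8388608,2147483648,1048576,2097152,134217728,268435456,17179869184,34359738368,16777216,4294967296,8589934592,536870912,1073741824,68719476736,274877906944,137438953472,2199023255552,4398046511104,549755813888,1099511627776,17592186044416,8796093022208,35184372088832,70368744177664,562949953421312,281474976710656,140737488355328,1125899906842624,2251799813685248],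
  [1,2,4,12,16,64,32,128,512,256,1024,2048,8192,4096,16384,32768,131072,65536,262144,1048576,524288,2097152,4194304,16777216,8388608,134217728,536870912,33554432,1073741824,67108864,268435456,4294967296,2147483648,8589934592,17179869184,68719476736,34359738368,137438953472,549755813888,274877906944,1099511627776,2199023255552,8796093022208,4398046511104,17592186044416,35184372088832,140737488355328,70368744177664,281474976710656,1125899906842624,562949953421312,2251799813685248],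
  [1,2,12,8,32,16,64,128,256,1024,512,2048,4096,16384,8192,65536,32768,131072,262144,524288,2097152,1048576,8388608,4194304,16777216,67108864,33554432,268435456,134217728,1073741824,536870912,2147483648,8589934592,4294967296,34359738368,17179869184,68719476736,137438953472,274877906944,1099511627776,549755813888,4398046511104,2199023255552,8796093022208,17592186044416,70368744177664,35184372088832,140737488355328,281474976710656,562949953421312,2251799813685248,1125899906842624]]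

/-- The places of the generators. -/
def twoFourTwoGi : List ℕ := [24, 25, 27, 33, 26, 28, 34, 29, 30, 35, 31, 36, 37, 32, 38, 41, 39, 42, 40, 43, 44, 45, 46, 47]

/-- The places of the conjugating elements. -/
def twoFourTwoHi : List ℕ := [50, 52, 54, 56]

/-- The layers. -/
def twoFourTwoLayers : List Schur.Tails.RigidCert.Layer := [
  ⟨[[0], [1], [5], [8], [9], [12], [13], [16], [18], [22]], 1125899915231232, [2, 16777216, 2147483648, 8589934592, 137438953472, 274877906944, 1099511627776, 4398046511104, 281474976710656, 2251799813685248], 1024⟩,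
  ⟨[[4], [10, 7], [10], [17, 11], [14], [17], [19], [21, 20], [21], [23]], 4194320, [1, 64, 128, 256, 2048, 4096, 524288, 1048576, 4194304, 33554432], 1024⟩,
  ⟨[[2], [3], [6], [15]], 8589950976, [65536, 8388608, 137438953472, 1099511627776], 16⟩]

end CfsgLib.FourTwoF
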