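import Cfsg.Agent.Lib.FourTwoF.BoundBase
import Cfsg.Agent.Lib.FourTwoF.BoundTwoData
import Cfsg.Agent.Lib.Tails.EqsSplit
import Cfsg.Agent.Lib.Tails.RigidSplit

/-!
# The checks of the certificate at 2
-/

set_option autoImplicit false
set_option maxRecDepth 100000
set_option maxHeartbeats 0

namespace CfsgLib.FourTwoF

open CfsgLib.Schur.Tails CfsgLib.Schur.Tails.EqsSplit CfsgLib.Schur.Tails.RigidCert

theorem two_rest : restB twoFourTwoCert twoFourTwoEqs = true := by decide +kernel

theorem two_eqs_0 : eqsPartB twoFourTwoCert twoFourTwoEqs 0 25 = true := by decide +kernel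

theorem two_eqs_1 : eqsPartB twoFourTwoCert twoFourTwoEqs 25 25 = true := by decide +kernel

theorem two_eqs_2 : eqsPartB twoFourTwoCert twoFourTwoEqs 50 25 = true := by decide +kernel

theorem two_eqs_3 : eqsPartB twoFourTwoCert twoFourTwoEqs 75 25 = true := by decide +kernel

theorem two_eqs_4 : eqsPartB twoFourTwoCert twoFourTwoEqs 100 25 = true := by decide +kernel

theorem two_eqs_5 : eqsPartB twoFourTwoCert twoFourTwoEqs 125 25 = true := by decide +kernel

theorem two_eqs_6 : eqsPartB twoFourTwoCert twoFourTwoEqs 150 25 = true := by decide +kernel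

theorem two_eqs_7 : eqsPartB twoFourTwoCert twoFourTwoEqs 175 25 = true := by decide +kernel

theorem two_eqs_8 : eqsPartB twoFourTwoCert twoFourTwoEqs 200 25 = true := by decide +kernel

theorem two_eqs_9 : eqsPartB twoFourTwoCert twoFourTwoEqs 225 25 = true := by decide +kernel

theorem two_eqs_10 : eqsPartB twoFourTwoCert twoFourTwoEqs 250 25 = true := by decide +kernel

theorem two_eqs_11 : eqsPartB twoFourTwoCert twoFourTwoEqs 275 25 = true := by decide +kernel

theorem two_combos_0 : combosPartB twoFourTwoCert twoFourTwoEqs 0 25 = true := by decide +kernel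

theorem two_combos_1 : combosPartB twoFourTwoCert twoFourTwoEqs 25 25 = true := by decide +kernel

theorem two_combos_2 : combosPartB twoFourTwoCert twoFourTwoEqs 50 25 = true := by decide +kernel

theorem two_combos_3 : combosPartB twoFourTwoCert twoFourTwoEqs 75 25 = true := by decide +kernel

theorem two_combos_4 : combosPartB twoFourTwoCert twoFourTwoEqs 100 25 = true := by decide +kernel

theorem two_combos_5 : combosPartB twoFourTwoCert twoFourTwoEqs 125 25 = true := by decide +kernel

theorem two_combos_6 : combosPartB twoFourTwoCert twoFourTwoEqs 150 25 = true := by decide +kernel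

theorem two_combos_7 : combosPartB twoFourTwoCert twoFourTwoEqs 175 25 = true := by decide +kernel

theorem two_combos_8 : combosPartB twoFourTwoCert twoFourTwoEqs 200 25 = true := by decide +kernel

theorem two_combos_9 : combosPartB twoFourTwoCert twoFourTwoEqs 225 25 = true := by decide +kernel

theorem two_combos_10 : combosPartB twoFourTwoCert twoFourTwoEqs 250 25 = true := by decide +kernel

theorem two_combos_11 : combosPartB twoFourTwoCert twoFourTwoEqs 275 25 = true := by decide +kernel

theorem two_lens : twoFourTwoEqs.length = 300 ∧ twoFourTwoCert.rels.length = 300 := by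
  constructor <;> decide +kernel

theorem two_cert : twoFourTwoCert.checkB = true := by
  refine checkB_of_parts two_rest
    (P := [(0, 25), (25, 25), (50, 25), (75, 25), (100, 25), (125, 25), (150, 25), (175, 25), (200, 25), (225, 25), (250, 25), (275, 25)])
    (Q := [(0, 25), (25, 25), (50, 25), (75, 25), (100, 25), (125, 25), (150, 25), (175, 25), (200, 25), (225, 25), (250, 25), (275, 25)]) ?_ ?_ ?_ ?_
  · simp only [List.forall_mem_cons, List.not_mem_nil, IsEmpty.forall_iff, implies_true, and_true]
    exact ⟨two_eqs_0, two_eqs_1, two_eqs_2, two_eqs_3, two_eqs_4, two_eqs_5, two_eqs_6, two_eqs_7, two_eqs_8, two_eqs_9, two_eqs_10, two_eqs_11⟩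
  · intro k hk
    rw [two_lens.1] at hk
    refine ⟨(25 * (k / 25), 25), ?_, by simp only; omega, by simp only; omega⟩
    obtain ⟨j, hj, e⟩ : ∃ j < 12, k / 25 = j := ⟨_, by omega, rfl⟩
    rw [e]
    interval_cases j <;> simp
  · simp only [List.forall_mem_cons, List.not_mem_nil, IsEmpty.forall_iff, implies_true, and_true]
    exact ⟨two_combos_0, two_combos_1, two_combos_2, two_combos_3, two_combos_4, two_combos_5, two_combos_6, two_combos_7, two_combos_8, two_combos_9, two_combos_10, two_combos_11⟩
  · intro k hk
    rw [two_lens.2] at hk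
    refine ⟨(25 * (k / 25), min 25 (300 - 25 * (k / 25))), ?_, by simp only; omega, by simp only; omega⟩
    obtain ⟨j, hj, e⟩ : ∃ j < 12, k / 25 = j := ⟨_, by omega, rfl⟩
    rw [e]
    interval_cases j <;> simp

/-- The codes known after 0 parts. -/
noncomputable def twoKnown0 : List (List ℕ) := baseC

/-- The codes known after 1 parts. -/
noncomputable def twoKnown1 : List (List ℕ) := twoKnown0 ++ twoFourTwoPart0.map CfsgLib.Rigid.Op.M

theorem two_refs0 : refsB oneC twoKnown0 twoFourTwoRef0 twoFourTwoInp0 = true := by decide +kernel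

theorem two_part0 : CfsgLib.Rigid.slpOk oneC twoFourTwoPart0 twoFourTwoInp0 = true := by decide +kernel

theorem two_gens : refsB oneC twoKnown1 twoFourTwoGi twoFourTwoGens = true := by decide +kernel

theorem two_hs : refsB oneC twoKnown1 twoFourTwoHi twoFourTwoHs = true := by decide +kernel

theorem two_coded {G : Type} [Group G] (c : CfsgLib.Rigid.Cod G) (h1 : c.C 1 = oneC)
    (h0 : AllCoded c baseC) : AllCoded c twoFourTwoGens ∧ AllCoded c twoFourTwoHs := by
  have h1' : AllCoded c twoKnown1 := allCoded_part c h1 h0 two_refs0 two_part0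
  exact ⟨allCoded_refs c h1' two_gens, allCoded_refs c h1' two_hs⟩

theorem two_rels : relsB oneC twoFourTwoGens twoFourTwoHs twoFourTwoCert = true := by decide +kernel

theorem two_layers : layersB twoFourTwoCert.p oneC twoFourTwoGens [] twoFourTwoLayers = true ∧
    twoFourTwoCert.p ^ twoFourTwoCert.n ≤ layersM twoFourTwoLayers := by
  constructor <;> decide +kernel

theorem two_sizes : twoFourTwoCert.p = 2 ∧ twoFourTwoCert.q = 4 ∧ twoFourTwoCert.n = 24 := by
  refine ⟨?_, ?_, ?_⟩ <;> decide +kernel

end CfsgLib.FourTwoF
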