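import Cfsg.Agent.Lib.FourTwoF.CoverDefs

/-!
Kernel checks: the reflections move the matrices.
-/

set_option autoImplicit false
set_option maxRecDepth 100000
set_option maxHeartbeats 0

namespace CfsgLib.FourTwoF

theorem move2 : moveB 2 0 48 = true := by decide +kernel
theorem move3 : moveB 3 0 48 = true := by decide +kernel

end CfsgLib.FourTwoF
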