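import Cfsg.Agent.Lib.FourTwoF.CoverComm
import Cfsg.Agent.Lib.FourTwoF.CoverMove
import Cfsg.Agent.Lib.FourTwoF.CoverMoveB
import Cfsg.Agent.Lib.Tails.Combine
import Mathlib.GroupTheory.PresentedGroup
import Mathlib.Algebra.CharP.Two

/-!
# A double cover of the group of type F four over two elements
-/

set_option autoImplicit false
set_option maxRecDepth 100000

namespace CfsgLib.FourTwoF

open CfsgLib.FiRep Cfsg.Lie
open scoped commutatorElement

attribute [local irreducible] mats refT path evalP idP

/-- Matrices of size 52 over the field with thirteen elements. -/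
abbrev M52 : Type := Matrix (Fin 52) (Fin 52) (ZMod 13)

/-- The matrix of a generator. -/
def mt (k : ℕ) : M52 := genMat 52 (mats.getD k [])

theorem okG {k : ℕ} (hk : k < 49) : okGen 52 (mats.getD k []) = true :=
  List.all_eq_true.1 mats_ok k (List.mem_range.2 hk)

theorem wEq_spec {a b : List ℕ} (ha : ∀ g ∈ a, g < 49) (hb : ∀ g ∈ b, g < 49)
    (h : wEq a b = true) : (a.map mt).prod = (b.map mt).prod := by
  have hid := eq_of_beqL id_ok
  obtain ⟨a1, a2, a3, a4⟩ := eval_spec mats hid a fun g hg => okG (ha g hg)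
  obtain ⟨b1, b2, b3, b4⟩ := eval_spec mats hid b fun g hg => okG (hb g hg)
  have he := eq_of_beqL h
  rw [a1, b1] at he
  show (a.map fun g => genMat 52 (mats.getD g [])).prod = (b.map fun g => genMat 52 (mats.getD g [])).prod
  rw [← a4, ← b4]
  refine congrArg _ (List.ext_getElem (a3.trans b3.symm) fun i h1 h2 => ?_)
  have hi := List.getElem_of_eq he (i := i) (by simpa using h1)
  rw [List.getElem_map, List.getElem_map] at hi
  obtain ⟨l1, c1⟩ := a2 _ (List.getElem_mem h1)
  obtain ⟨l2, c2⟩ := b2 _ (List.getElem_mem h2)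
  exact pk_inj (l1.trans l2.symm) c1 c2 hi

theorem mt_sq {k : ℕ} (hk : k < 49) : mt k * mt k = 1 := by
  have h := wEq_spec (a := [k, k]) (b := []) (by simp [hk]) (by simp)
    (List.all_eq_true.1 sq_ok k (List.mem_range.2 hk))
  simpa using h

theorem mt_minus : mt 48 = -1 := by
  ext i j
  rw [mt, minus_ok, genMat, Matrix.of_apply, Matrix.neg_apply]
  rw [List.getD_eq_getElem _ _ (by simp), List.getElem_map, List.getElem_range]
  simp only [coef, Matrix.one_apply]
  rcases lt_trichotomy j.val i.val with h | h | h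
  · rw [if_pos h, if_neg (Fin.ne_of_val_ne (by omega)), neg_zero]
  · rw [if_neg (by omega), if_pos h, if_pos (Fin.ext h.symm)]
    decide
  · rw [if_neg (by omega), if_neg (by omega), if_neg (Fin.ne_of_val_ne (by omega)), neg_zero]

/-- The unit of a generator. -/
def gl (k : ℕ) : M52ˣ := if h : k < 49 then ⟨mt k, mt k, mt_sq h, mt_sq h⟩ else 1

theorem gl_val {k : ℕ} (hk : k < 49) : (gl k : M52) = mt k := by rw [gl, dif_pos hk]

theorem gl_inv {k : ℕ} (hk : k < 49) : (gl k)⁻¹ = gl k := by
  rw [gl, dif_pos hk]; rfl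

theorem gl_minus : gl 48 = -1 := Units.ext (by rw [gl_val (by norm_num), mt_minus, Units.val_neg, Units.val_one])

theorem prod_gl : ∀ a : List ℕ, (∀ g ∈ a, g < 49) → (((a.map gl).prod : M52ˣ) : M52) = (a.map mt).prod := by
  intro a
  induction a with
  | nil => intro _; simp
  | cons g a ih =>
    intro h
    rw [List.map_cons, List.prod_cons, Units.val_mul, gl_val (h g (List.mem_cons_self ..)),
      ih fun x hx => h x (List.mem_cons_of_mem _ hx), List.map_cons, List.prod_cons]

/-- The signs. -/
def signs : Subgroup M52ˣ := Subgroup.zpowers (-1)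

theorem signs_le_center : signs ≤ Subgroup.center M52ˣ := by
  rw [signs, Subgroup.zpowers_le, Subgroup.mem_center_iff]
  intro g
  exact Units.ext (by simp)

instance signs_normal : signs.Normal :=
  ⟨fun n hn g => by rw [Subgroup.mem_center_iff.1 (signs_le_center hn) g, mul_inv_cancel_right]; exact hn⟩

/-- The ambient group of the images. -/
abbrev Q52 : Type := M52ˣ ⧸ signs

/-- The image of a generator. -/
def q (k : ℕ) : Q52 := QuotientGroup.mk (gl k)

/-- The image of a word. -/
def qw (a : List ℕ) : Q52 := (a.map q).prod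

theorem qw_eq (a : List ℕ) : qw a = QuotientGroup.mk (a.map gl).prod := by
  induction a with
  | nil => rfl
  | cons g a ih => rw [qw, List.map_cons, List.prod_cons, List.map_cons, List.prod_cons, QuotientGroup.mk_mul, ← ih]; rfl

theorem q_minus : q 48 = 1 := by
  rw [q, gl_minus, QuotientGroup.eq_one_iff]
  exact Subgroup.mem_zpowers _

theorem wPm_spec {a b : List ℕ} (ha : ∀ g ∈ a, g < 49) (hb : ∀ g ∈ b, g < 49)
    (h : wPm a b = true) : qw a = qw b := by
  simp only [wPm, Bool.or_eq_true] at h
  have key : ∀ c : List ℕ, (∀ g ∈ c, g < 49) → wEq a c = true → qw a = qw c := fun c hc e => by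
    rw [qw_eq, qw_eq]
    exact congrArg _ (Units.ext (by rw [prod_gl a ha, prod_gl c hc]; exact wEq_spec ha hc e))
  rcases h with h | h
  · exact key b hb h
  · refine (key (48 :: b) ?_ h).trans ?_
    · simpa using hb
    · rw [qw, List.map_cons, List.prod_cons, q_minus, one_mul, qw]

theorem q_sq {k : ℕ} (hk : k < 49) : q k * q k = 1 := by
  rw [q, ← QuotientGroup.mk_mul]
  nth_rw 1 [← gl_inv hk]
  rw [inv_mul_cancel, QuotientGroup.mk_one]

theorem q_inv {k : ℕ} (hk : k < 49) : (q k)⁻¹ = q k := inv_eq_of_mul_eq_one_right (q_sq hk)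

theorem simple_neg_lt : (∀ i < 4, chevF4.simple i < 48) ∧ ∀ r < 48, chevF4.neg r < 48 := by
  decide +kernel

/-- The image of a reflection. -/
def nQ (i : ℕ) : Q52 := qw (nW i)

theorem nW_lt {i : ℕ} (hi : i < 4) : ∀ g ∈ nW i, g < 49 := by
  obtain ⟨h1, h2⟩ := simple_neg_lt
  have := h1 i hi
  have := h2 _ (h1 i hi)
  simp only [nW, List.mem_cons, List.not_mem_nil, or_false]
  rintro g (rfl | rfl | rfl) <;> omega

theorem tables {i r : ℕ} (hi : i < 4) (hr : r < 48) :
    sR i r < 48 ∧ sR i (sR i r) = r ∧ sR i (chevF4.neg r) = chevF4.neg (sR i r) ∧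
      ∀ s < 48, s ≠ r → s ≠ chevF4.neg r → (oddT r s).map (sR i) = oddT (sR i r) (sR i s) := by
  have h := List.all_eq_true.1 (List.all_eq_true.1 tables_ok i (List.mem_range.2 hi)) r
    (List.mem_range.2 hr)
  simp only [Bool.and_eq_true, Nat.blt_eq, Nat.beq_eq, List.all_eq_true, List.mem_range,
    Bool.or_eq_true] at h
  obtain ⟨⟨⟨h1, h2⟩, h3⟩, h4⟩ := h
  refine ⟨h1, h2, h3, fun s hs a b => ?_⟩
  rcases h4 s hs with (h' | h') | h'
  · exact absurd h' a
  · exact absurd h' b
  · exact eq_of_beqL h'

theorem q_move {i r : ℕ} (hi : i < 4) (hr : r < 48) : MulAut.conj (nQ i) (q r) = q (sR i r) := by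
  have hm : moveB i 0 48 = true := by
    interval_cases i
    exacts [move0, move1, move2, move3]
  have h := wPm_spec (a := nW i ++ [r]) (b := sR i r :: nW i)
    (fun g hg => by
      rcases List.mem_append.1 hg with hg | hg
      · exact nW_lt hi g hg
      · rw [List.mem_singleton] at hg; omega)
    (fun g hg => by
      rcases List.mem_cons.1 hg with rfl | hg
      · exact (tables hi hr).1.trans (by norm_num)
      · exact nW_lt hi g hg)
    (List.all_eq_true.1 hm r (List.mem_range'_1.2 ⟨Nat.zero_le _, by omega⟩))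
  simp only [qw, List.map_append, List.prod_append, List.map_cons, List.prod_cons, List.map_nil,
    List.prod_nil, mul_one] at h
  rw [MulAut.conj_apply]
  exact mul_inv_eq_iff_eq_mul.2 h

theorem qw_move {i : ℕ} (hi : i < 4) : ∀ a : List ℕ, (∀ g ∈ a, g < 48) →
    MulAut.conj (nQ i) (qw a) = qw (a.map (sR i)) := by
  intro a
  induction a with
  | nil => intro _; simp [qw]
  | cons g a ih =>
    intro h
    simp only [qw, List.map_cons, List.prod_cons, map_mul] at ih ⊢
    rw [q_move hi (h g (List.mem_cons_self ..)), ih fun x hx => h x (List.mem_cons_of_mem _ hx)]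

theorem odd_lt {r s : ℕ} (hr : r < 48) (hs : s < 48) : ∀ u ∈ oddT r s, u < 48 := fun u hu => by
  simpa [Nat.blt_eq] using List.all_eq_true.1 (List.all_eq_true.1 (List.all_eq_true.1 oddT_lt r
    (List.mem_range.2 hr)) s (List.mem_range.2 hs)) u hu

/-- The relations of one root. -/
def RelAt (r : ℕ) : Prop :=
  r < 48 ∧ q r * q (chevF4.neg r) * q r * (q r * q (chevF4.neg r) * q r) = 1 ∧
    ∀ s < 48, s ≠ r → s ≠ chevF4.neg r → q s * q r * q s * q r = qw (oddT r s)

theorem rel_rep {r : ℕ} (hr : r < 48) (hc : commB r = true) (hh : hB r = true) : RelAt r := by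
  have hn := simple_neg_lt.2 r hr
  refine ⟨hr, ?_, fun s hs a b => ?_⟩
  · have h := wPm_spec (a := [r, chevF4.neg r, r, r, chevF4.neg r, r]) (b := [])
      (by simp; omega) (by simp) hh
    simpa [qw, mul_assoc] using h
  · simp only [commB, List.all_eq_true, List.mem_range, Bool.or_eq_true, Nat.beq_eq] at hc
    rcases hc s hs with (h | h) | h
    · exact absurd h a
    · exact absurd h b
    · have h' := wPm_spec (a := [s, r, s, r]) (b := oddT r s) (by simp; omega)
        (fun g hg => (odd_lt hr hs g hg).trans (by norm_num)) h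
      simpa [qw, mul_assoc] using h'

theorem rel_step {i r : ℕ} (hi : i < 4) (h : RelAt r) : RelAt (sR i r) := by
  obtain ⟨hr, hh, hc⟩ := h
  obtain ⟨h1, h2, h3, h4⟩ := tables hi hr
  have hn := simple_neg_lt.2 r hr
  refine ⟨h1, ?_, fun s hs a b => ?_⟩
  · have := congrArg (MulAut.conj (nQ i)) hh
    simpa only [map_mul, map_one, q_move hi hr, q_move hi hn, h3] using this
  · obtain ⟨s1, s2, -, -⟩ := tables hi hs
    have a' : sR i s ≠ r := fun e => a (by rw [← e, s2])
    have b' : sR i s ≠ chevF4.neg r := fun e => b (by rw [← h3, ← e, s2])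
    have := congrArg (MulAut.conj (nQ i)) (hc (sR i s) s1 a' b')
    rw [qw_move hi _ (odd_lt hr s1), h4 _ s1 a' b', s2] at this
    simpa only [map_mul, q_move hi hr, q_move hi s1, s2] using this

theorem rel_path : ∀ (l : List (ℕ × ℕ × ℕ)) (known : List ℕ), pathB l known = true →
    (∀ k ∈ known, RelAt k) → ∀ r < 48, RelAt r := by
  intro l
  induction l with
  | nil =>
    intro known h hk r hr
    simp only [pathB, List.all_eq_true, List.mem_range, List.any_eq_true, Nat.beq_eq] at h
    obtain ⟨k, hk', rfl⟩ := h r hr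
    exact hk k hk'
  | cons x l ih =>
    obtain ⟨r0, i, r'⟩ := x
    intro known h hk
    simp only [pathB, Bool.and_eq_true, List.any_eq_true, Nat.beq_eq, Nat.blt_eq] at h
    obtain ⟨⟨⟨hi, k, hk', rfl⟩, he⟩, hrest⟩ := h
    refine ih _ hrest fun y hy => ?_
    rcases List.mem_append.1 hy with hy | hy
    · exact hk y hy
    · rw [List.mem_singleton] at hy
      rw [hy, ← he]
      exact rel_step hi (hk k hk')

theorem rel_all {r : ℕ} (hr : r < 48) : RelAt r := rel_path path [33, 25] path_ok (fun k hk => by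
  simp only [List.mem_cons, List.not_mem_nil, or_false] at hk
  rcases hk with rfl | rfl
  exacts [rel_rep (by norm_num) comm_short h_short, rel_rep (by norm_num) comm_long h_long]) r hr

theorem terms_pos : ∀ r < 48, ∀ s < 48, ∀ c ∈ chevF4.commTerms r s,
    c.2.2.1 ≠ 0 ∧ c.2.2.2 ≠ 0 := by decide +kernel

theorem terms_lt : ∀ r < 48, ∀ s < 48, ∀ c ∈ chevF4.commTerms r s, c.1 < 48 := by decide +kernel

section Hom

variable {F : Type*} [Field F] [DecidableEq F]

/-- The image of a root element. -/
def img2 (p : Fin chevF4.nroots × F) : Q52 := if p.2 = 0 then 1 else q p.1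

theorem lift_stX {r : ℕ} (hr : r < 48) (t : F) :
    FreeGroup.lift img2 (chevF4.stX r t) = if t = 0 then 1 else q r := by
  rw [ChevalleyDatum.stX, dif_pos (show r < chevF4.nroots from hr), FreeGroup.lift_apply_of, img2]

variable (hF : ∀ t : F, t = 0 ∨ t = 1) (h2 : (2 : F) = 0)
include h2

theorem lift_terms : ∀ l : List (ℕ × ℤ × ℕ × ℕ), (∀ c ∈ l, c.1 < 48) →
    FreeGroup.lift img2 (chevF4.stWord (l.map fun c => (c.1, (c.2.1 : F) * (-1) ^ c.2.2.1 * 1 ^ c.2.2.2)))
      = qw ((l.filter fun c => Nat.beq (c.2.1.natAbs % 2) 1).map fun c => c.1) := by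
  intro l
  induction l with
  | nil => intro _; simp [ChevalleyDatum.stWord, qw]
  | cons c l ih =>
    intro h
    have hneg : (-1 : F) = 1 := by linear_combination -h2
    have hv : (c.2.1 : F) = ((c.2.1.natAbs % 2 : ℕ) : F) := by
      have hmod : ∀ n : ℕ, ((n % 2 : ℕ) : F) = (n : F) := fun n => by
        conv_rhs => rw [← Nat.div_add_mod n 2, Nat.cast_add, Nat.cast_mul]
        rw [show ((2 : ℕ) : F) = 0 from by exact_mod_cast h2, zero_mul, zero_add]
      rw [hmod]
      rcases Int.natAbs_eq c.2.1 with e | e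
      · conv_lhs => rw [e, Int.cast_natCast]
      · conv_lhs => rw [e, Int.cast_neg, Int.cast_natCast]
        linear_combination -(c.2.1.natAbs : F) * h2
    simp only [List.map_cons, ChevalleyDatum.stWord, List.prod_cons, map_mul] at ih ⊢
    rw [lift_stX (h c (List.mem_cons_self ..)), hneg, one_pow, one_pow, mul_one, mul_one, hv]
    rw [hneg] at ih
    simp only [one_pow, mul_one] at ih
    simp only [one_pow, mul_one]
    rw [ih fun x hx => h x (List.mem_cons_of_mem _ hx)]
    rcases Nat.mod_two_eq_zero_or_one c.2.1.natAbs with e | e <;>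
      simp [e, qw, List.filter_cons]

include hF in
theorem img2_rels : ∀ g ∈ chevF4.steinbergRels F, FreeGroup.lift img2 g = 1 := by
  have h11 : (1 : F) + 1 = 0 := by rw [← h2]; norm_num
  have hneg : (-1 : F) = 1 := neg_eq_of_add_eq_zero_left h11
  rintro g ((⟨r, t, u, hr, rfl⟩ | ⟨r, s, t, u, hr, hs, hsr, hsn, rfl⟩) | ⟨r, t, u, hr, ht, hu, rfl⟩)
  · have hr' : r < 48 := hr
    simp only [map_mul, map_inv, lift_stX hr']
    rcases hF t with rfl | rfl <;> rcases hF u with rfl | rfl <;>
      simp [h11, q_sq (show r < 49 by omega)]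
  · have hr' : r < 48 := hr
    have hs' : s < 48 := hs
    obtain ⟨-, -, hc⟩ := rel_all hr'
    simp only [map_mul, map_inv, lift_stX hr', lift_stX hs']
    have hz : ∀ (t u : F), t = 0 ∨ u = 0 →
        FreeGroup.lift img2 (chevF4.stWord (chevF4.commWord F r s t u)) = 1 := by
      intro t u htu
      rw [ChevalleyDatum.stWord, ChevalleyDatum.commWord, map_list_prod, List.map_map, List.map_map]
      refine List.prod_eq_one fun x hx => ?_
      obtain ⟨c, hc', rfl⟩ := List.mem_map.1 hx
      have hpos : ∀ c ∈ chevF4.commTerms r s, c.2.2.1 ≠ 0 ∧ c.2.2.2 ≠ 0 := terms_pos r hr' s hs'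
      simp only [Function.comp_apply]
      rw [lift_stX (terms_lt r hr' s hs' c hc'), if_pos]
      rcases htu with rfl | rfl
      · rw [neg_zero, zero_pow (hpos c hc').1, mul_zero, zero_mul]
      · rw [zero_pow (hpos c hc').2, mul_zero]
    rcases hF t with rfl | rfl
    · by_cases hu : u = 0 <;> simp [hz 0 0 (Or.inl rfl), hz 0 u (Or.inl rfl), hu]
    rcases hF u with rfl | rfl
    · simp [hz 1 0 (Or.inr rfl)]
    simp only [one_ne_zero, if_false, q_inv (show r < 49 by omega), q_inv (show s < 49 by omega)]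
    rw [mul_inv_eq_one, hc s hs' hsr hsn]
    exact (lift_terms h2 _ (terms_lt r hr' s hs')).symm
  · obtain rfl : t = 1 := (hF t).resolve_left ht
    obtain rfl : u = 1 := (hF u).resolve_left hu
    have hr' : r < 48 := hr
    obtain ⟨-, hh, -⟩ := rel_all hr'
    have hn := simple_neg_lt.2 r hr'
    simp only [mul_one, mul_inv_eq_one, ← map_inv, map_mul, mul_inv_cancel_right]
    simp only [ChevalleyDatum.stH, ChevalleyDatum.stWord, ChevalleyDatum.hWord, ChevalleyDatum.nWord,
      List.map_append, List.map_cons, List.map_nil, List.prod_append, List.prod_cons, List.prod_nil,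
      map_mul, map_one, mul_one, inv_one, neg_neg, inv_neg, hneg, lift_stX hr', lift_stX hn,
      one_ne_zero, if_false, ← mul_assoc]
    rw [← hh]
    group

end Hom

end CfsgLib.FourTwoF
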