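import Cfsg.Agent.Lib.FourTwoF.CoverDefs
import Cfsg.Agent.Lib.FiRep.Sem

/-!
Kernel checks: the relations at the representatives, and the data.
-/

set_option autoImplicit false
set_option maxRecDepth 100000
set_option maxHeartbeats 0

namespace CfsgLib.FourTwoF

open CfsgLib.FiRep Cfsg.Lie

theorem mats_ok : ((List.range 49).all fun g => okGen 52 (mats.getD g [])) = true := by decide +kernel
theorem id_ok : beqL (idP 52) ((idL 52).map pk) = true := by decide +kernel
theorem sq_ok : ((List.range 49).all fun g => wEq [g, g] []) = true := by decide +kernel
theorem comm_short : commB 33 = true := by decide +kernel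
theorem comm_long : commB 25 = true := by decide +kernel
theorem h_short : hB 33 = true := by decide +kernel
theorem h_long : hB 25 = true := by decide +kernel
theorem minus_ok : mats.getD 48 [] = (List.range 52).map fun i => [(i, 12)] := by decide +kernel
theorem wit_ok : wEq [14, 7, 14, 7, 32, 1, 32, 1] [48, 29, 0, 29, 0] = true := by decide +kernel

/-- The tables are coherent. -/
def tablesB : Bool :=
  ((List.range 4).all fun i => (List.range 48).all fun r =>
    Nat.blt (sR i r) 48 && Nat.beq (sR i (sR i r)) r && Nat.beq (sR i (chevF4.neg r)) (chevF4.neg (sR i r)) &&
      ((List.range 48).all fun s => Nat.beq s r || Nat.beq s (chevF4.neg r) ||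
        beqL ((oddT r s).map (sR i)) (oddT (sR i r) (sR i s))))

theorem tables_ok : tablesB = true := by decide +kernel

/-- Every root is reached from the representatives. -/
def pathB : List (ℕ × ℕ × ℕ) → List ℕ → Bool
  | [], known => (List.range 48).all fun r => known.any fun k => Nat.beq k r
  | (r, i, r') :: rest, known =>
    Nat.blt i 4 && (known.any fun k => Nat.beq k r') && Nat.beq (sR i r') r && pathB rest (known ++ [r])

theorem path_ok : pathB path [33, 25] = true := by decide +kernel
theorem oddT_lt : ((List.range 48).all fun r => (List.range 48).all fun s =>
    (oddT r s).all fun u => Nat.blt u 48) = true := by decide +kernel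

end CfsgLib.FourTwoF
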