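import Mathlib.Data.Nat.Bitwise

/-!
Generated data: the root elements of a double cover of the Chevalley group of type F four over two elements
as matrices of size 52 over the field with thirteen elements; the last matrix is minus one.
-/

set_option autoImplicit false
set_option maxRecDepth 100000

namespace CfsgLib.FourTwoF

/-- A matrix. -/
def m0 : List (List (ℕ × ℕ)) := [
  [(0, 1)],
  [(1, 1)],
  [(25, 1)],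
  [(18, 1)],
  [(31, 1)],
  [(27, 1)],
  [(6, 1)],
  [(20, 1)],
  [(33, 1)],
  [(9, 1)],
  [(29, 1)],
  [(22, 1)],
  [(35, 1)],
  [(13, 1)],
  [(1, 1), (2, 12), (1, 1), (1, 12), (0, 1), (2, 12), (0, 1), (2, 12), (0, 12), (1, 12), (1, 12), (1, 12), (1, 12), (1, 12), (1, 12)],
  [(1, 1), (0, 12), (0, 1), (0, 12), (0, 12), (0, 1), (0, 1), (0, 12), (0, 1), (0, 12), (0, 1), (0, 12), (0, 1), (0, 12), (0, 1), (0, 12), (0, 12), (0, 12), (0, 12), (0, 12), (0, 12), (0, 12), (0, 12)],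
  [(1, 1), (0, 12), (2, 12), (0, 1), (2, 1), (0, 12), (2, 1), (0, 12), (2, 12), (1, 12), (1, 12), (1, 12), (7, 12), (1, 12), (1, 12)],
  [(17, 1)],
  [(3, 1)],
  [(19, 1)],
  [(7, 1)],
  [(21, 1)],
  [(11, 1)],
  [(23, 1)],
  [(24, 1)],
  [(2, 1)],
  [(26, 1)],
  [(5, 1)],
  [(28, 1)],
  [(10, 1)],
  [(30, 1)],
  [(4, 1)],
  [(32, 1)],
  [(8, 1)],
  [(34, 1)],
  [(12, 1)],
  [(36, 1)],
  [(45, 1)],
  [(41, 1)],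
  [(49, 1)],
  [(40, 1)],
  [(38, 1)],
  [(50, 1)],
  [(47, 1)],
  [(44, 1)],
  [(37, 1)],
  [(51, 1)],
  [(43, 1)],
  [(48, 1)],
  [(39, 1)],
  [(42, 1)],
  [(46, 1)]]

/-- A matrix. -/
def m1 : List (List (ℕ × ℕ)) := [
  [(0, 1)],
  [(1, 1)],
  [(37, 1)],
  [(3, 1)],
  [(39, 1)],
  [(42, 1)],
  [(19, 1)],
  [(20, 1)],
  [(43, 1)],
  [(9, 1)],
  [(1, 7), (0, 6), (0, 7), (0, 7), (0, 12), (3, 7), (0, 6), (0, 7), (0, 7), (1, 12), (2, 6), (0, 6), (2, 6), (0, 6), (1, 7), (0, 7), (2, 7), (0, 7), (0, 6), (0, 6), (2, 6), (0, 6), (1, 12)],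
  [(11, 1)],
  [(1, 7), (0, 7), (0, 7), (0, 6), (3, 12), (0, 7), (0, 7), (0, 7), (0, 6), (3, 12), (0, 6), (0, 6), (2, 6), (0, 6), (1, 6), (0, 6), (2, 6), (0, 6), (0, 7), (0, 7), (2, 7), (0, 7), (3, 12)],
  [(23, 1)],
  [(1, 7), (0, 6), (0, 7), (0, 6), (4, 7), (0, 6), (0, 7), (0, 6), (4, 6), (0, 6), (2, 6), (0, 6), (1, 7), (0, 6), (2, 7), (0, 6), (0, 6), (0, 7), (2, 6), (0, 7), (6, 12)],
  [(1, 1), (0, 12), (0, 1), (0, 12), (0, 12), (0, 1), (0, 1), (0, 12), (0, 1), (0, 12), (0, 1), (0, 12), (0, 1), (0, 12), (0, 1), (0, 12), (0, 12), (0, 12), (0, 12), (0, 12), (0, 12), (0, 12), (0, 12)],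
  [(1, 7), (0, 6), (0, 7), (0, 6), (4, 7), (0, 6), (0, 7), (0, 6), (4, 6), (0, 6), (2, 6), (0, 6), (1, 6), (0, 7), (2, 6), (0, 7), (0, 7), (0, 6), (2, 7), (0, 6), (7, 12)],
  [(17, 1)],
  [(18, 1)],
  [(6, 1)],
  [(7, 1)],
  [(21, 1)],
  [(22, 1)],
  [(13, 1)],
  [(24, 1)],
  [(45, 1)],
  [(32, 1)],
  [(50, 1)],
  [(28, 1)],
  [(1, 6), (0, 7), (0, 6), (0, 7), (1, 12), (1, 1), (0, 6), (0, 7), (0, 6), (0, 7), (0, 12), (2, 1), (0, 7), (0, 7), (0, 1), (1, 7), (0, 7), (0, 1), (0, 7), (0, 7), (2, 7), (0, 7), (0, 6), (0, 7), (2, 6), (0, 7), (9, 12)],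
  [(30, 1)],
  [(49, 1)],
  [(26, 1)],
  [(47, 1)],
  [(34, 1)],
  [(1, 6), (0, 7), (0, 6), (0, 7), (0, 1), (0, 12), (2, 6), (0, 7), (0, 6), (0, 7), (0, 12), (0, 1), (2, 7), (0, 7), (0, 1), (1, 7), (0, 7), (0, 1), (0, 6), (0, 7), (2, 6), (0, 7), (0, 7), (0, 7), (2, 7), (0, 7), (13, 12)],
  [(36, 1)],
  [(2, 1)],
  [(38, 1)],
  [(4, 1)],
  [(40, 1)],
  [(41, 1)],
  [(5, 1)],
  [(8, 1)],
  [(44, 1)],
  [(25, 1)],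
  [(51, 1)],
  [(33, 1)],
  [(48, 1)],
  [(31, 1)],
  [(27, 1)],
  [(46, 1)]]

/-- A matrix. -/
def m2 : List (List (ℕ × ℕ)) := [
  [(0, 1)],
  [(1, 1)],
  [(1, 10), (0, 9), (0, 10), (0, 10), (0, 10), (0, 10), (0, 10), (0, 10), (1, 12), (6, 3), (0, 3), (0, 3), (0, 3), (3, 10), (0, 10), (0, 10), (0, 10), (2, 3), (0, 3), (0, 3), (0, 3), (2, 10), (0, 10), (0, 10), (0, 10), (0, 3), (0, 3), (0, 3), (0, 3), (0, 10), (0, 10), (0, 10), (0, 10), (0, 3), (0, 3), (0, 3), (0, 3)],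
  [(3, 1)],
  [(1, 10), (0, 10), (0, 10), (0, 9), (0, 10), (0, 10), (0, 10), (0, 10), (3, 12), (4, 3), (0, 3), (0, 3), (0, 3), (3, 3), (0, 3), (0, 3), (0, 3), (2, 10), (0, 10), (0, 10), (0, 10), (2, 10), (0, 10), (0, 10), (0, 10), (0, 3), (0, 3), (0, 3), (0, 3), (0, 3), (0, 3), (0, 3), (0, 3), (0, 10), (0, 10), (0, 10), (0, 10)],
  [(1, 10), (0, 10), (0, 10), (0, 10), (0, 9), (0, 10), (0, 10), (0, 10), (5, 12), (2, 3), (0, 3), (0, 3), (0, 3), (3, 10), (0, 10), (0, 10), (0, 10), (2, 3), (0, 3), (0, 3), (0, 3), (2, 3), (0, 3), (0, 3), (0, 3), (0, 10), (0, 10), (0, 10), (0, 10), (0, 3), (0, 3), (0, 3), (0, 3), (0, 10), (0, 10), (0, 10), (0, 10)],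
  [(6, 1)],
  [(7, 1)],
  [(1, 10), (0, 10), (0, 10), (0, 10), (0, 10), (0, 10), (0, 10), (0, 9), (7, 12), (0, 3), (0, 3), (0, 3), (0, 3), (3, 3), (0, 3), (0, 3), (0, 3), (2, 10), (0, 10), (0, 10), (0, 10), (2, 3), (0, 3), (0, 3), (0, 3), (0, 10), (0, 10), (0, 10), (0, 10), (0, 10), (0, 10), (0, 10), (0, 10), (0, 3), (0, 3), (0, 3), (0, 3)],
  [(21, 1)],
  [(1, 10), (0, 3), (0, 10), (0, 3), (0, 3), (0, 10), (0, 10), (0, 3), (8, 3), (0, 3), (0, 3), (0, 3), (3, 10), (0, 3), (0, 10), (0, 3), (2, 3), (0, 10), (0, 3), (0, 10), (2, 10), (0, 3), (0, 10), (0, 3), (0, 3), (0, 3), (0, 10), (0, 10), (0, 10), (0, 3), (0, 10), (0, 3), (0, 3), (0, 10), (0, 10), (0, 3)],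
  [(22, 1)],
  [(1, 10), (0, 3), (0, 10), (0, 3), (0, 3), (0, 10), (0, 10), (0, 3), (8, 3), (0, 3), (0, 3), (0, 3), (3, 3), (0, 10), (0, 3), (0, 10), (2, 10), (0, 3), (0, 10), (0, 3), (2, 10), (0, 3), (0, 10), (0, 3), (0, 3), (0, 3), (0, 10), (0, 10), (0, 3), (0, 10), (0, 3), (0, 10), (0, 10), (0, 3), (0, 3), (0, 10)],
  [(23, 1)],
  [(1, 10), (0, 3), (0, 10), (0, 3), (0, 3), (0, 10), (0, 10), (0, 3), (8, 3), (0, 3), (0, 3), (0, 3), (3, 10), (0, 3), (0, 10), (0, 3), (2, 3), (0, 10), (0, 3), (0, 10), (2, 3), (0, 10), (0, 3), (0, 10), (0, 10), (0, 10), (0, 3), (0, 3), (0, 3), (0, 10), (0, 3), (0, 10), (0, 10), (0, 3), (0, 3), (0, 10)],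
  [(1, 1), (0, 12), (0, 1), (0, 12), (0, 12), (0, 1), (0, 1), (0, 12), (0, 1), (0, 12), (0, 1), (0, 12), (0, 1), (0, 12), (0, 1), (0, 12), (0, 12), (0, 12), (0, 12), (0, 12), (0, 12), (0, 12), (0, 12)],
  [(1, 10), (0, 3), (0, 10), (0, 3), (0, 3), (0, 10), (0, 10), (0, 3), (8, 3), (0, 3), (0, 3), (0, 3), (3, 3), (0, 10), (0, 3), (0, 10), (2, 10), (0, 3), (0, 10), (0, 3), (2, 3), (0, 10), (0, 3), (0, 10), (0, 10), (0, 10), (0, 3), (0, 3), (0, 10), (0, 3), (0, 10), (0, 3), (0, 3), (0, 10), (0, 10), (0, 3)],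
  [(17, 1)],
  [(18, 1)],
  [(19, 1)],
  [(20, 1)],
  [(9, 1)],
  [(11, 1)],
  [(13, 1)],
  [(24, 1)],
  [(1, 10), (0, 10), (0, 3), (0, 3), (0, 10), (0, 10), (0, 3), (0, 3), (8, 3), (0, 10), (0, 3), (0, 10), (3, 10), (0, 9), (0, 10), (0, 10), (1, 12), (0, 3), (0, 10), (0, 3), (0, 10), (2, 10), (0, 10), (0, 3), (0, 3), (0, 3), (0, 10), (0, 3), (0, 10), (0, 10), (0, 10), (0, 3), (0, 3), (0, 3), (0, 10), (0, 3), (0, 10)],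
  [(26, 1)],
  [(1, 9), (0, 10), (0, 3), (0, 4), (0, 10), (0, 9), (0, 3), (0, 4), (0, 12), (2, 1), (0, 12), (2, 1), (0, 4), (0, 10), (0, 4), (0, 10), (0, 1), (1, 1), (0, 10), (0, 11), (0, 10), (0, 10), (1, 1), (0, 3), (0, 10), (0, 3), (0, 10), (2, 3), (0, 3), (0, 10), (0, 10), (0, 10), (0, 3), (0, 10), (0, 3), (0, 3), (0, 3), (0, 10), (0, 10), (0, 10), (0, 3), (0, 10), (0, 3)],
  [(34, 1)],
  [(1, 10), (0, 3), (0, 3), (0, 10), (0, 3), (0, 10), (0, 3), (0, 10), (8, 3), (0, 10), (0, 3), (0, 10), (3, 10), (0, 3), (0, 10), (0, 3), (2, 3), (0, 3), (0, 3), (0, 3), (2, 10), (0, 3), (0, 3), (0, 10), (0, 3), (0, 10), (0, 10), (0, 3), (0, 10), (0, 3), (0, 3), (0, 10), (0, 3), (0, 3), (0, 10), (0, 10)],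
  [(30, 1)],
  [(1, 10), (0, 3), (0, 3), (0, 10), (0, 3), (0, 10), (0, 3), (0, 10), (8, 3), (0, 10), (0, 3), (0, 10), (3, 3), (0, 10), (0, 3), (0, 10), (2, 10), (0, 9), (0, 10), (0, 10), (1, 12), (0, 10), (0, 3), (0, 3), (0, 10), (0, 3), (0, 10), (0, 10), (0, 3), (0, 3), (0, 10), (0, 10), (0, 3), (0, 10), (0, 10), (0, 3), (0, 3)],
  [(32, 1)],
  [(1, 9), (0, 4), (0, 3), (0, 10), (0, 4), (0, 9), (0, 3), (0, 10), (0, 12), (0, 1), (2, 12), (0, 1), (2, 4), (0, 10), (0, 4), (0, 10), (0, 1), (1, 1), (0, 3), (0, 10), (0, 3), (0, 10), (2, 10), (0, 11), (0, 10), (0, 10), (1, 1), (0, 3), (0, 10), (0, 10), (0, 3), (0, 10), (0, 3), (0, 3), (0, 10), (0, 10), (0, 3), (0, 3), (0, 10), (0, 3), (0, 3), (0, 10), (0, 10)],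
  [(28, 1)],
  [(1, 10), (0, 10), (0, 3), (0, 3), (0, 10), (0, 10), (0, 3), (0, 3), (8, 3), (0, 10), (0, 3), (0, 10), (3, 3), (0, 3), (0, 3), (0, 3), (2, 10), (0, 3), (0, 10), (0, 3), (2, 10), (0, 10), (0, 3), (0, 3), (0, 3), (0, 10), (0, 3), (0, 10), (0, 3), (0, 3), (0, 10), (0, 10), (0, 10), (0, 3), (0, 10), (0, 3)],
  [(36, 1)],
  [(1, 3), (0, 4), (0, 3), (0, 3), (0, 4), (0, 3), (0, 3), (0, 3), (0, 6), (0, 7), (0, 6), (0, 6), (1, 1), (2, 10), (0, 10), (0, 10), (0, 10), (0, 7), (0, 7), (1, 3), (0, 3), (0, 3), (0, 3), (0, 6), (0, 6), (0, 10), (0, 10), (0, 10), (0, 10), (0, 7), (0, 7), (0, 10), (0, 10), (0, 10), (0, 10), (0, 3), (0, 3), (0, 10), (0, 10), (0, 10), (0, 10), (0, 3), (0, 3), (0, 3), (0, 3), (0, 10), (0, 10)],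
  [(38, 1)],
  [(1, 3), (0, 3), (0, 3), (0, 4), (0, 3), (0, 3), (0, 3), (0, 4), (0, 6), (0, 6), (0, 6), (0, 7), (3, 1), (0, 10), (0, 10), (0, 10), (0, 10), (0, 7), (0, 7), (1, 10), (0, 10), (0, 10), (0, 10), (0, 7), (0, 7), (0, 3), (0, 3), (0, 3), (0, 3), (0, 6), (0, 6), (0, 10), (0, 10), (0, 10), (0, 10), (0, 3), (0, 3), (0, 10), (0, 10), (0, 3), (0, 3), (0, 10), (0, 10), (0, 10), (0, 10), (0, 3), (0, 3)],
  [(40, 1)],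
  [(41, 1)],
  [(1, 3), (0, 10), (0, 3), (0, 10), (0, 10), (0, 3), (0, 3), (0, 10), (0, 6), (0, 7), (0, 6), (0, 7), (4, 10), (0, 10), (0, 10), (0, 10), (0, 7), (0, 7), (1, 3), (0, 10), (0, 3), (0, 10), (0, 6), (0, 7), (0, 10), (0, 3), (0, 10), (0, 3), (0, 7), (0, 6), (0, 3), (0, 10), (0, 3), (0, 10), (0, 10), (0, 10), (0, 10), (0, 10), (0, 3), (0, 10), (0, 10), (0, 3), (0, 10), (0, 3), (0, 10), (0, 3)],
  [(1, 3), (0, 10), (0, 3), (0, 10), (0, 10), (0, 3), (0, 3), (0, 10), (0, 6), (0, 7), (0, 6), (0, 7), (4, 10), (0, 10), (0, 10), (0, 10), (0, 7), (0, 7), (1, 10), (0, 3), (0, 10), (0, 3), (0, 7), (0, 6), (0, 3), (0, 10), (0, 3), (0, 10), (0, 6), (0, 7), (0, 3), (0, 10), (0, 3), (0, 10), (0, 10), (0, 10), (0, 10), (0, 10), (0, 10), (0, 3), (0, 3), (0, 10), (0, 3), (0, 10), (0, 3), (0, 10)],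
  [(44, 1)],
  [(1, 4), (0, 3), (0, 10), (0, 9), (0, 3), (0, 4), (0, 10), (0, 9), (0, 7), (0, 6), (0, 7), (0, 6), (0, 1), (2, 12), (0, 9), (0, 3), (0, 9), (0, 3), (0, 6), (0, 6), (0, 12), (0, 3), (0, 3), (0, 3), (0, 3), (0, 6), (0, 6), (0, 10), (0, 3), (0, 10), (0, 3), (0, 7), (0, 6), (0, 10), (0, 10), (0, 3), (0, 3), (0, 3), (0, 10), (0, 10), (0, 3), (0, 10), (0, 10), (0, 10), (0, 10), (0, 3), (0, 10), (0, 10), (0, 3)],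
  [(46, 1)],
  [(1, 3), (0, 3), (0, 10), (0, 10), (0, 3), (0, 3), (0, 10), (0, 10), (0, 6), (0, 6), (0, 7), (0, 7), (4, 10), (0, 3), (0, 10), (0, 3), (0, 7), (0, 6), (1, 10), (0, 10), (0, 10), (0, 10), (0, 7), (0, 7), (0, 3), (0, 10), (0, 3), (0, 10), (0, 6), (0, 7), (0, 3), (0, 3), (0, 10), (0, 10), (0, 10), (0, 3), (0, 3), (0, 10), (0, 10), (0, 10), (0, 10), (0, 10), (0, 3), (0, 10), (0, 10), (0, 3)],
  [(48, 1)],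
  [(1, 4), (0, 9), (0, 10), (0, 3), (0, 9), (0, 4), (0, 10), (0, 3), (0, 7), (0, 6), (0, 7), (0, 6), (0, 1), (0, 12), (2, 9), (0, 3), (0, 9), (0, 3), (0, 6), (0, 6), (0, 12), (0, 10), (0, 3), (0, 10), (0, 3), (0, 7), (0, 6), (0, 3), (0, 3), (0, 3), (0, 3), (0, 6), (0, 6), (0, 10), (0, 3), (0, 3), (0, 10), (0, 3), (0, 10), (0, 3), (0, 10), (0, 3), (0, 10), (0, 3), (0, 10), (0, 10), (0, 10), (0, 10), (0, 10)],
  [(1, 3), (0, 10), (0, 10), (0, 3), (0, 10), (0, 3), (0, 10), (0, 3), (0, 6), (0, 7), (0, 7), (0, 6), (4, 10), (0, 3), (0, 10), (0, 3), (0, 7), (0, 6), (1, 3), (0, 10), (0, 3), (0, 10), (0, 6), (0, 7), (0, 10), (0, 10), (0, 10), (0, 10), (0, 7), (0, 7), (0, 3), (0, 10), (0, 10), (0, 3), (0, 10), (0, 3), (0, 10), (0, 3), (0, 3), (0, 10), (0, 3), (0, 10), (0, 10), (0, 10), (0, 10), (0, 10)],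
  [(51, 1)]]

/-- A matrix. -/
def m3 : List (List (ℕ × ℕ)) := [
  [(0, 1)],
  [(17, 1)],
  [(2, 12)],
  [(18, 1)],
  [(4, 12)],
  [(5, 12)],
  [(19, 1)],
  [(20, 1)],
  [(8, 12)],
  [(21, 1)],
  [(10, 12)],
  [(22, 1)],
  [(12, 12)],
  [(23, 1)],
  [(14, 12)],
  [(1, 1), (0, 12), (0, 1), (0, 12), (0, 12), (0, 1), (0, 1), (0, 12), (0, 1), (0, 12), (0, 1), (0, 12), (0, 1), (0, 12), (0, 1), (0, 12), (0, 12), (0, 12), (0, 12), (0, 12), (0, 12), (0, 12), (0, 12)],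
  [(16, 12)],
  [(1, 1)],
  [(3, 1)],
  [(6, 1)],
  [(7, 1)],
  [(9, 1)],
  [(11, 1)],
  [(13, 1)],
  [(30, 1)],
  [(25, 12)],
  [(32, 1)],
  [(27, 12)],
  [(34, 1)],
  [(29, 12)],
  [(24, 1)],
  [(31, 12)],
  [(26, 1)],
  [(33, 12)],
  [(28, 1)],
  [(35, 12)],
  [(40, 1)],
  [(37, 12)],
  [(41, 1)],
  [(39, 12)],
  [(36, 1)],
  [(38, 1)],
  [(42, 12)],
  [(43, 12)],
  [(48, 1)],
  [(45, 12)],
  [(51, 1)],
  [(47, 12)],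
  [(44, 1)],
  [(49, 12)],
  [(50, 12)],
  [(46, 1)]]

/-- A matrix. -/
def m4 : List (List (ℕ × ℕ)) := [
  [(0, 1)],
  [(1, 1)],
  [(10, 1)],
  [(3, 1)],
  [(12, 1)],
  [(14, 1)],
  [(6, 1)],
  [(7, 1)],
  [(16, 1)],
  [(9, 1)],
  [(2, 1)],
  [(11, 1)],
  [(4, 1)],
  [(13, 1)],
  [(5, 1)],
  [(15, 1)],
  [(8, 1)],
  [(17, 1)],
  [(18, 1)],
  [(19, 1)],
  [(20, 1)],
  [(21, 1)],
  [(22, 1)],
  [(23, 1)],
  [(24, 1)],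
  [(29, 1)],
  [(26, 1)],
  [(1, 1), (2, 12), (1, 1), (1, 12), (0, 1), (2, 12), (0, 1), (2, 12), (0, 12), (1, 12), (1, 12), (1, 12), (1, 12), (1, 12), (1, 12)],
  [(28, 1)],
  [(25, 1)],
  [(30, 1)],
  [(35, 1)],
  [(32, 1)],
  [(1, 1), (0, 12), (2, 12), (0, 1), (2, 1), (0, 12), (2, 1), (0, 12), (2, 12), (1, 12), (1, 12), (1, 12), (7, 12), (1, 12), (1, 12)],
  [(34, 1)],
  [(31, 1)],
  [(36, 1)],
  [(1, 7), (0, 6), (0, 7), (0, 7), (0, 12), (3, 7), (0, 6), (0, 7), (0, 7), (1, 12), (2, 6), (0, 6), (2, 6), (0, 6), (1, 7), (0, 7), (2, 7), (0, 7), (0, 6), (0, 6), (2, 6), (0, 6), (1, 12)],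
  [(38, 1)],
  [(1, 7), (0, 7), (0, 7), (0, 6), (3, 12), (0, 7), (0, 7), (0, 7), (0, 6), (3, 12), (0, 6), (0, 6), (2, 6), (0, 6), (1, 6), (0, 6), (2, 6), (0, 6), (0, 7), (0, 7), (2, 7), (0, 7), (3, 12)],
  [(40, 1)],
  [(41, 1)],
  [(1, 7), (0, 6), (0, 7), (0, 6), (4, 7), (0, 6), (0, 7), (0, 6), (4, 6), (0, 6), (2, 6), (0, 6), (1, 7), (0, 6), (2, 7), (0, 6), (0, 6), (0, 7), (2, 6), (0, 7), (6, 12)],
  [(1, 7), (0, 6), (0, 7), (0, 6), (4, 7), (0, 6), (0, 7), (0, 6), (4, 6), (0, 6), (2, 6), (0, 6), (1, 6), (0, 7), (2, 6), (0, 7), (0, 7), (0, 6), (2, 7), (0, 6), (7, 12)],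
  [(44, 1)],
  [(1, 6), (0, 7), (0, 6), (0, 7), (1, 12), (1, 1), (0, 6), (0, 7), (0, 6), (0, 7), (0, 12), (2, 1), (0, 7), (0, 7), (0, 1), (1, 7), (0, 7), (0, 1), (0, 7), (0, 7), (2, 7), (0, 7), (0, 6), (0, 7), (2, 6), (0, 7), (9, 12)],
  [(46, 1)],
  [(1, 7), (0, 7), (0, 6), (0, 6), (4, 7), (0, 7), (0, 6), (0, 6), (4, 6), (0, 7), (2, 6), (0, 7), (1, 6), (0, 6), (2, 6), (0, 6), (0, 7), (0, 6), (2, 7), (0, 6), (11, 12)],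
  [(48, 1)],
  [(1, 6), (0, 7), (0, 6), (0, 7), (0, 1), (0, 12), (2, 6), (0, 7), (0, 6), (0, 7), (0, 12), (0, 1), (2, 7), (0, 7), (0, 1), (1, 7), (0, 7), (0, 1), (0, 6), (0, 7), (2, 6), (0, 7), (0, 7), (0, 7), (2, 7), (0, 7), (13, 12)],
  [(1, 7), (0, 6), (0, 6), (0, 7), (4, 7), (0, 6), (0, 6), (0, 7), (4, 6), (0, 7), (2, 6), (0, 7), (1, 7), (0, 6), (2, 7), (0, 6), (0, 6), (0, 6), (2, 6), (0, 6), (14, 12)],
  [(51, 1)]]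

/-- A matrix. -/
def m5 : List (List (ℕ × ℕ)) := [
  [(0, 1)],
  [(1, 1)],
  [(5, 1)],
  [(3, 1)],
  [(8, 1)],
  [(2, 1)],
  [(6, 1)],
  [(7, 1)],
  [(4, 1)],
  [(9, 1)],
  [(14, 1)],
  [(11, 1)],
  [(16, 1)],
  [(13, 1)],
  [(10, 1)],
  [(15, 1)],
  [(12, 1)],
  [(17, 1)],
  [(18, 1)],
  [(19, 1)],
  [(20, 1)],
  [(21, 1)],
  [(22, 1)],
  [(23, 1)],
  [(24, 1)],
  [(27, 1)],
  [(26, 1)],
  [(25, 1)],
  [(28, 1)],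
  [(1, 1), (2, 12), (1, 1), (1, 12), (0, 1), (2, 12), (0, 1), (2, 12), (0, 12), (1, 12), (1, 12), (1, 12), (1, 12), (1, 12), (1, 12)],
  [(30, 1)],
  [(33, 1)],
  [(32, 1)],
  [(31, 1)],
  [(34, 1)],
  [(1, 1), (0, 12), (2, 12), (0, 1), (2, 1), (0, 12), (2, 1), (0, 12), (2, 12), (1, 12), (1, 12), (1, 12), (7, 12), (1, 12), (1, 12)],
  [(40, 1)],
  [(42, 1)],
  [(41, 1)],
  [(43, 1)],
  [(36, 1)],
  [(38, 1)],
  [(37, 1)],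
  [(39, 1)],
  [(48, 1)],
  [(50, 1)],
  [(51, 1)],
  [(49, 1)],
  [(44, 1)],
  [(47, 1)],
  [(45, 1)],
  [(46, 1)]]

/-- A matrix. -/
def m6 : List (List (ℕ × ℕ)) := [
  [(0, 1)],
  [(1, 1)],
  [(4, 1)],
  [(3, 1)],
  [(2, 1)],
  [(8, 1)],
  [(6, 1)],
  [(7, 1)],
  [(5, 1)],
  [(9, 1)],
  [(12, 1)],
  [(11, 1)],
  [(10, 1)],
  [(13, 1)],
  [(16, 1)],
  [(15, 1)],
  [(14, 1)],
  [(17, 1)],
  [(18, 1)],
  [(19, 1)],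
  [(20, 1)],
  [(21, 1)],
  [(22, 1)],
  [(23, 1)],
  [(30, 1)],
  [(31, 1)],
  [(32, 1)],
  [(33, 1)],
  [(34, 1)],
  [(35, 1)],
  [(24, 1)],
  [(25, 1)],
  [(26, 1)],
  [(27, 1)],
  [(28, 1)],
  [(29, 1)],
  [(36, 1)],
  [(39, 1)],
  [(38, 1)],
  [(37, 1)],
  [(40, 1)],
  [(41, 1)],
  [(43, 1)],
  [(42, 1)],
  [(48, 1)],
  [(49, 1)],
  [(51, 1)],
  [(50, 1)],
  [(44, 1)],
  [(45, 1)],
  [(47, 1)],
  [(46, 1)]]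

/-- A matrix. -/
def m7 : List (List (ℕ × ℕ)) := [
  [(0, 9), (0, 6), (0, 6), (0, 1), (0, 6), (0, 6), (0, 6), (0, 1), (0, 6), (0, 1), (0, 6), (0, 1), (0, 6), (0, 6), (0, 6), (0, 1), (0, 6), (0, 5), (1, 5), (3, 5), (4, 8), (5, 8), (1, 5), (3, 5), (3, 5), (3, 5)],
  [(0, 10), (0, 2), (0, 1), (0, 11), (0, 1), (0, 1), (0, 1), (0, 11), (0, 1), (0, 11), (0, 1), (0, 11), (0, 1), (0, 1), (0, 1), (0, 11), (0, 1), (0, 3), (1, 3), (3, 3), (4, 10), (5, 10), (1, 3), (3, 3), (3, 3), (3, 3)],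
  [(1, 10), (0, 9), (1, 3), (0, 10), (0, 10), (1, 3), (1, 3), (1, 3), (0, 10), (0, 10), (1, 3), (0, 3), (1, 3), (3, 3), (4, 3), (0, 6), (4, 10), (1, 10), (0, 7), (2, 3), (3, 10), (0, 7), (2, 3)],
  [(1, 10), (0, 3), (0, 6), (0, 3), (0, 3), (0, 10), (0, 7), (0, 3), (1, 3), (1, 3), (0, 10), (0, 3), (0, 7), (0, 3), (0, 3), (1, 3), (1, 6), (0, 6), (0, 3), (4, 10), (5, 10), (1, 10), (1, 7), (1, 10), (0, 7), (2, 3), (3, 3)],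
  [(1, 10), (0, 3), (1, 9), (0, 3), (0, 10), (1, 10), (1, 3), (1, 3), (0, 10), (0, 3), (1, 10), (0, 3), (1, 3), (3, 3), (4, 10), (5, 3), (0, 6), (0, 10), (2, 7), (0, 3), (3, 3), (3, 10), (0, 7)],
  [(1, 3), (0, 10), (1, 10), (0, 9), (0, 3), (1, 10), (0, 6), (0, 10), (1, 10), (0, 3), (0, 3), (1, 10), (0, 10), (1, 10), (1, 7), (1, 10), (1, 7), (1, 7), (0, 3), (0, 7), (4, 10), (1, 3), (3, 10), (1, 7), (1, 3), (3, 10), (1, 7)],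
  [(1, 10), (0, 3), (0, 7), (0, 3), (0, 3), (0, 9), (0, 7), (0, 3), (1, 3), (0, 7), (0, 3), (0, 3), (0, 3), (0, 7), (0, 3), (0, 3), (1, 3), (1, 6), (1, 9), (0, 7), (1, 7), (1, 10), (1, 7), (1, 7), (1, 10), (1, 3), (3, 3), (3, 3), (3, 3)],
  [(1, 3), (0, 10), (1, 10), (0, 10), (0, 3), (0, 12), (0, 10), (0, 6), (0, 10), (1, 10), (0, 3), (0, 10), (0, 6), (0, 10), (0, 10), (0, 7), (0, 10), (0, 7), (1, 7), (0, 10), (4, 10), (5, 10), (1, 3), (3, 3), (3, 10), (1, 7), (1, 10), (2, 7)],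
  [(1, 3), (0, 10), (1, 10), (0, 10), (0, 3), (1, 9), (0, 6), (0, 10), (1, 10), (0, 3), (0, 10), (1, 3), (0, 10), (1, 10), (1, 7), (1, 10), (4, 10), (2, 7), (1, 7), (0, 3), (0, 7), (0, 3), (3, 10), (2, 7), (0, 10), (2, 7), (0, 3)],
  [(1, 10), (0, 3), (0, 7), (0, 3), (0, 3), (0, 3), (0, 7), (0, 3), (0, 6), (0, 3), (0, 7), (0, 3), (0, 3), (0, 3), (0, 7), (0, 3), (0, 3), (1, 9), (3, 9), (0, 7), (3, 4), (1, 7), (3, 4), (1, 3), (3, 3), (3, 3), (3, 3)],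
  [(1, 10), (0, 3), (1, 10), (0, 3), (0, 3), (1, 10), (1, 9), (1, 10), (0, 3), (0, 3), (1, 10), (0, 3), (1, 10), (3, 10), (0, 7), (3, 10), (0, 7), (0, 6), (3, 3), (1, 10), (0, 6), (2, 3), (3, 10), (0, 6), (2, 3)],
  [(1, 10), (0, 10), (0, 6), (0, 10), (0, 10), (0, 3), (0, 6), (0, 10), (1, 10), (0, 12), (0, 10), (0, 3), (0, 10), (0, 6), (0, 10), (0, 4), (1, 10), (1, 7), (0, 7), (0, 10), (0, 6), (3, 3), (1, 6), (3, 3), (1, 10), (1, 6), (1, 10), (0, 6), (2, 3), (3, 3)],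
  [(1, 10), (0, 10), (1, 3), (0, 10), (0, 3), (1, 3), (1, 10), (1, 9), (0, 3), (0, 10), (1, 3), (0, 3), (1, 10), (3, 10), (0, 6), (3, 3), (1, 7), (3, 10), (0, 7), (0, 10), (2, 6), (0, 3), (3, 3), (3, 10), (0, 6)],
  [(1, 10), (0, 10), (0, 6), (0, 10), (0, 10), (0, 3), (0, 6), (0, 10), (1, 10), (0, 6), (0, 10), (0, 9), (0, 10), (0, 6), (0, 10), (0, 4), (1, 10), (1, 7), (1, 4), (2, 6), (1, 3), (3, 6), (1, 3), (1, 3), (3, 3), (3, 3), (3, 3)],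
  [(1, 4), (0, 3), (1, 3), (0, 3), (0, 10), (1, 3), (0, 7), (0, 3), (1, 3), (0, 10), (0, 9), (1, 3), (0, 9), (1, 3), (1, 6), (1, 3), (0, 7), (0, 6), (1, 6), (0, 10), (0, 6), (0, 6), (3, 3), (1, 3), (3, 10), (1, 6), (1, 3), (3, 10), (1, 6)],
  [(1, 4), (0, 3), (1, 3), (0, 3), (0, 10), (1, 3), (0, 7), (0, 3), (1, 3), (0, 10), (0, 3), (0, 6), (0, 3), (0, 10), (0, 6), (0, 3), (0, 6), (1, 6), (0, 3), (0, 6), (3, 3), (1, 6), (3, 3), (1, 3), (3, 3), (3, 10), (1, 6), (1, 10), (2, 6)],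
  [(1, 4), (0, 3), (1, 3), (0, 3), (0, 10), (1, 3), (0, 7), (0, 3), (1, 3), (0, 10), (0, 3), (1, 9), (0, 9), (1, 3), (1, 6), (1, 3), (0, 6), (3, 3), (1, 7), (0, 6), (1, 6), (0, 10), (0, 6), (0, 3), (3, 10), (2, 6), (0, 10), (2, 6), (0, 3)],
  [(0, 10), (0, 1), (0, 1), (0, 11), (0, 1), (0, 1), (0, 1), (0, 11), (0, 1), (0, 11), (0, 1), (0, 11), (0, 1), (0, 1), (0, 1), (0, 11), (0, 1), (0, 4), (1, 3), (3, 3), (4, 10), (5, 10), (1, 3), (3, 3), (3, 3), (3, 3)],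
  [(1, 10), (0, 3), (0, 7), (0, 3), (0, 3), (0, 10), (0, 7), (0, 3), (1, 3), (1, 3), (0, 10), (0, 3), (0, 7), (0, 3), (0, 3), (0, 12), (0, 3), (1, 6), (0, 6), (0, 3), (4, 10), (5, 10), (1, 10), (1, 7), (1, 10), (0, 7), (2, 3), (3, 3)],
  [(1, 10), (0, 3), (0, 7), (0, 3), (0, 3), (0, 10), (0, 7), (0, 3), (1, 3), (0, 7), (0, 3), (0, 3), (0, 3), (0, 7), (0, 3), (0, 3), (1, 2), (1, 6), (1, 9), (0, 7), (1, 7), (1, 10), (1, 7), (1, 7), (1, 10), (1, 3), (3, 3), (3, 3), (3, 3)],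
  [(1, 3), (0, 10), (1, 10), (0, 10), (0, 3), (1, 10), (0, 6), (0, 10), (1, 10), (0, 3), (0, 10), (0, 6), (0, 10), (0, 10), (0, 7), (0, 10), (0, 6), (1, 7), (0, 10), (4, 10), (5, 10), (1, 3), (3, 3), (3, 10), (1, 7), (1, 10), (2, 7)],
  [(1, 10), (0, 3), (0, 7), (0, 3), (0, 3), (0, 3), (0, 7), (0, 3), (0, 7), (0, 3), (0, 7), (0, 3), (0, 3), (0, 3), (0, 7), (0, 3), (0, 3), (1, 9), (1, 12), (1, 9), (0, 7), (3, 4), (1, 7), (3, 4), (1, 3), (3, 3), (3, 3), (3, 3)],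
  [(1, 10), (0, 10), (0, 6), (0, 10), (0, 10), (0, 3), (0, 6), (0, 10), (1, 10), (1, 10), (0, 3), (0, 10), (0, 6), (0, 10), (0, 4), (1, 10), (1, 7), (0, 6), (0, 10), (0, 6), (3, 3), (1, 6), (3, 3), (1, 10), (1, 6), (1, 10), (0, 6), (2, 3), (3, 3)],
  [(1, 10), (0, 10), (0, 6), (0, 10), (0, 10), (0, 3), (0, 6), (0, 10), (1, 10), (0, 6), (0, 10), (0, 10), (0, 10), (0, 6), (0, 10), (0, 4), (1, 10), (1, 7), (1, 3), (2, 6), (1, 3), (3, 6), (1, 3), (1, 3), (3, 3), (3, 3), (3, 3)],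
  [(0, 10), (0, 1), (0, 1), (0, 11), (0, 1), (0, 1), (0, 1), (0, 11), (0, 1), (0, 11), (0, 1), (0, 11), (0, 1), (0, 1), (0, 1), (0, 11), (0, 1), (0, 3), (1, 3), (3, 3), (0, 1), (3, 10), (5, 10), (1, 3), (3, 3), (3, 3), (3, 3)],
  [(1, 10), (0, 10), (1, 3), (0, 10), (0, 10), (1, 3), (1, 3), (1, 3), (0, 10), (0, 10), (1, 3), (0, 3), (1, 3), (3, 3), (1, 12), (2, 3), (0, 6), (4, 10), (1, 10), (0, 7), (2, 3), (3, 10), (0, 7), (2, 3)],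
  [(1, 10), (0, 3), (0, 7), (0, 3), (0, 3), (0, 10), (0, 7), (0, 3), (1, 3), (0, 7), (0, 3), (0, 3), (0, 3), (0, 7), (0, 3), (0, 3), (1, 3), (1, 6), (1, 9), (0, 7), (1, 6), (1, 10), (1, 7), (1, 7), (1, 10), (1, 3), (3, 3), (3, 3), (3, 3)],
  [(1, 3), (0, 10), (1, 10), (0, 10), (0, 3), (1, 10), (0, 6), (0, 10), (1, 10), (0, 3), (0, 3), (1, 10), (0, 10), (1, 10), (1, 7), (1, 10), (1, 7), (1, 6), (0, 3), (0, 7), (4, 10), (1, 3), (3, 10), (1, 7), (1, 3), (3, 10), (1, 7)],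
  [(1, 10), (0, 3), (0, 7), (0, 3), (0, 3), (0, 3), (0, 7), (0, 3), (0, 7), (0, 3), (0, 7), (0, 3), (0, 3), (0, 3), (0, 7), (0, 3), (0, 3), (1, 9), (3, 9), (0, 7), (3, 3), (1, 7), (3, 4), (1, 3), (3, 3), (3, 3), (3, 3)],
  [(1, 10), (0, 3), (1, 10), (0, 3), (0, 3), (1, 10), (1, 10), (1, 10), (0, 3), (0, 3), (1, 10), (0, 3), (1, 10), (3, 10), (0, 7), (3, 10), (0, 6), (0, 6), (3, 3), (1, 10), (0, 6), (2, 3), (3, 10), (0, 6), (2, 3)],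
  [(0, 10), (0, 1), (0, 1), (0, 11), (0, 1), (0, 1), (0, 1), (0, 11), (0, 1), (0, 11), (0, 1), (0, 11), (0, 1), (0, 1), (0, 1), (0, 11), (0, 1), (0, 3), (1, 3), (3, 3), (4, 10), (1, 1), (3, 10), (1, 3), (3, 3), (3, 3), (3, 3)],
  [(1, 10), (0, 3), (1, 10), (0, 3), (0, 10), (1, 10), (1, 3), (1, 3), (0, 10), (0, 3), (1, 10), (0, 3), (1, 3), (3, 3), (4, 10), (2, 12), (2, 3), (0, 6), (0, 10), (2, 7), (0, 3), (3, 3), (3, 10), (0, 7)],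
  [(1, 10), (0, 3), (0, 7), (0, 3), (0, 3), (0, 10), (0, 7), (0, 3), (1, 3), (0, 7), (0, 3), (0, 3), (0, 3), (0, 7), (0, 3), (0, 3), (1, 3), (1, 6), (1, 9), (0, 7), (1, 7), (1, 10), (1, 7), (1, 6), (1, 10), (1, 3), (3, 3), (3, 3), (3, 3)],
  [(1, 3), (0, 10), (1, 10), (0, 10), (0, 3), (1, 10), (0, 6), (0, 10), (1, 10), (0, 3), (0, 10), (1, 3), (0, 10), (1, 10), (1, 7), (1, 10), (4, 10), (2, 7), (1, 6), (0, 3), (0, 7), (0, 3), (3, 10), (2, 7), (0, 10), (2, 7), (0, 3)],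
  [(1, 10), (0, 3), (0, 7), (0, 3), (0, 3), (0, 3), (0, 7), (0, 3), (0, 7), (0, 3), (0, 7), (0, 3), (0, 3), (0, 3), (0, 7), (0, 3), (0, 3), (1, 9), (3, 9), (0, 7), (3, 4), (1, 7), (3, 3), (1, 3), (3, 3), (3, 3), (3, 3)],
  [(1, 10), (0, 10), (1, 3), (0, 10), (0, 3), (1, 3), (1, 10), (1, 10), (0, 3), (0, 10), (1, 3), (0, 3), (1, 10), (3, 10), (0, 6), (3, 3), (1, 7), (3, 10), (0, 6), (0, 10), (2, 6), (0, 3), (3, 3), (3, 10), (0, 6)],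
  [(0, 10), (0, 1), (0, 1), (0, 11), (0, 1), (0, 1), (0, 1), (0, 11), (0, 1), (0, 11), (0, 1), (0, 11), (0, 1), (0, 1), (0, 1), (0, 11), (0, 1), (0, 3), (1, 3), (3, 3), (4, 10), (5, 10), (1, 4), (3, 3), (3, 3), (3, 3)],
  [(1, 10), (0, 10), (1, 3), (0, 10), (0, 10), (1, 3), (1, 3), (1, 3), (0, 10), (0, 10), (1, 3), (0, 3), (1, 3), (3, 3), (4, 3), (0, 6), (4, 10), (1, 10), (0, 6), (2, 3), (3, 10), (0, 7), (2, 3)],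
  [(1, 10), (0, 3), (0, 7), (0, 3), (0, 3), (0, 10), (0, 7), (0, 3), (1, 3), (1, 3), (0, 10), (0, 3), (0, 7), (0, 3), (0, 3), (1, 3), (1, 6), (0, 6), (0, 3), (4, 10), (5, 10), (1, 10), (1, 6), (1, 10), (0, 7), (2, 3), (3, 3)],
  [(1, 10), (0, 3), (1, 10), (0, 3), (0, 10), (1, 10), (1, 3), (1, 3), (0, 10), (0, 3), (1, 10), (0, 3), (1, 3), (3, 3), (4, 10), (5, 3), (0, 6), (0, 10), (2, 6), (0, 3), (3, 3), (3, 10), (0, 7)],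
  [(0, 10), (0, 1), (0, 1), (0, 11), (0, 1), (0, 1), (0, 1), (0, 11), (0, 1), (0, 11), (0, 1), (0, 11), (0, 1), (0, 1), (0, 1), (0, 11), (0, 1), (0, 3), (1, 3), (3, 3), (4, 10), (5, 10), (1, 3), (3, 4), (3, 3), (3, 3)],
  [(1, 10), (0, 3), (0, 7), (0, 3), (0, 3), (0, 10), (0, 7), (0, 3), (1, 3), (1, 3), (0, 10), (0, 3), (0, 7), (0, 3), (0, 3), (1, 3), (1, 6), (0, 6), (0, 3), (4, 10), (5, 10), (1, 10), (1, 7), (1, 10), (0, 6), (2, 3), (3, 3)],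
  [(1, 3), (0, 10), (1, 10), (0, 10), (0, 3), (1, 10), (0, 6), (0, 10), (1, 10), (0, 3), (0, 3), (1, 10), (0, 10), (1, 10), (1, 7), (1, 10), (1, 7), (1, 7), (0, 3), (0, 7), (4, 10), (1, 3), (3, 10), (1, 6), (1, 3), (3, 10), (1, 7)],
  [(1, 3), (0, 10), (1, 10), (0, 10), (0, 3), (1, 10), (0, 6), (0, 10), (1, 10), (0, 3), (0, 10), (1, 3), (0, 10), (1, 10), (1, 7), (1, 10), (4, 10), (2, 7), (1, 7), (0, 3), (0, 7), (0, 3), (3, 10), (2, 6), (0, 10), (2, 7), (0, 3)],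
  [(0, 10), (0, 1), (0, 1), (0, 11), (0, 1), (0, 1), (0, 1), (0, 11), (0, 1), (0, 11), (0, 1), (0, 11), (0, 1), (0, 1), (0, 1), (0, 11), (0, 1), (0, 3), (1, 3), (3, 3), (4, 10), (5, 10), (1, 3), (3, 3), (3, 4), (3, 3)],
  [(1, 10), (0, 10), (1, 3), (0, 10), (0, 10), (1, 3), (1, 3), (1, 3), (0, 10), (0, 10), (1, 3), (0, 3), (1, 3), (3, 3), (4, 3), (0, 6), (4, 10), (1, 10), (0, 7), (2, 3), (3, 10), (0, 6), (2, 3)],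
  [(1, 3), (0, 10), (1, 10), (0, 10), (0, 3), (1, 10), (0, 6), (0, 10), (1, 10), (0, 3), (0, 10), (0, 6), (0, 10), (0, 10), (0, 7), (0, 10), (0, 7), (1, 7), (0, 10), (4, 10), (5, 10), (1, 3), (3, 3), (3, 10), (1, 6), (1, 10), (2, 7)],
  [(1, 3), (0, 10), (1, 10), (0, 10), (0, 3), (1, 10), (0, 6), (0, 10), (1, 10), (0, 3), (0, 10), (1, 3), (0, 10), (1, 10), (1, 7), (1, 10), (4, 10), (2, 7), (1, 7), (0, 3), (0, 7), (0, 3), (3, 10), (2, 7), (0, 10), (2, 6), (0, 3)],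
  [(0, 10), (0, 1), (0, 1), (0, 11), (0, 1), (0, 1), (0, 1), (0, 11), (0, 1), (0, 11), (0, 1), (0, 11), (0, 1), (0, 1), (0, 1), (0, 11), (0, 1), (0, 3), (1, 3), (3, 3), (4, 10), (5, 10), (1, 3), (3, 3), (3, 3), (3, 4)],
  [(1, 10), (0, 3), (1, 10), (0, 3), (0, 10), (1, 10), (1, 3), (1, 3), (0, 10), (0, 3), (1, 10), (0, 3), (1, 3), (3, 3), (4, 10), (5, 3), (0, 6), (0, 10), (2, 7), (0, 3), (3, 3), (3, 10), (0, 6)],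
  [(1, 3), (0, 10), (1, 10), (0, 10), (0, 3), (1, 10), (0, 6), (0, 10), (1, 10), (0, 3), (0, 3), (1, 10), (0, 10), (1, 10), (1, 7), (1, 10), (1, 7), (1, 7), (0, 3), (0, 7), (4, 10), (1, 3), (3, 10), (1, 7), (1, 3), (3, 10), (1, 6)],
  [(1, 3), (0, 10), (1, 10), (0, 10), (0, 3), (1, 10), (0, 6), (0, 10), (1, 10), (0, 3), (0, 10), (0, 6), (0, 10), (0, 10), (0, 7), (0, 10), (0, 7), (1, 7), (0, 10), (4, 10), (5, 10), (1, 3), (3, 3), (3, 10), (1, 7), (1, 10), (2, 6)]]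

/-- A matrix. -/
def m8 : List (List (ℕ × ℕ)) := [
  [(0, 9), (0, 1), (0, 6), (0, 1), (0, 6), (0, 6), (0, 6), (0, 1), (0, 6), (0, 1), (0, 6), (0, 1), (0, 6), (0, 6), (0, 6), (0, 1), (0, 6), (2, 5), (3, 5), (0, 8), (3, 8), (1, 8), (3, 8)],
  [(0, 3), (0, 3), (0, 12), (0, 2), (0, 12), (0, 12), (0, 12), (0, 2), (0, 12), (0, 2), (0, 12), (0, 2), (0, 12), (0, 12), (0, 12), (0, 2), (0, 12), (2, 10), (3, 10), (0, 3), (3, 3), (1, 3), (3, 3)],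
  [(2, 9), (1, 10), (0, 3), (0, 3), (1, 10), (1, 10), (1, 10), (0, 3), (0, 3), (1, 10), (2, 10), (3, 10), (0, 10), (0, 7), (2, 10), (0, 7), (0, 3), (3, 3)],
  [(2, 10), (0, 12), (0, 10), (0, 10), (0, 3), (0, 6), (0, 10), (1, 10), (1, 10), (0, 3), (0, 10), (0, 6), (0, 10), (0, 7), (0, 7), (0, 10), (1, 7), (0, 7), (0, 10), (0, 3), (3, 3), (1, 3), (3, 3)],
  [(2, 10), (1, 9), (0, 10), (0, 3), (1, 3), (1, 10), (1, 10), (0, 3), (0, 10), (1, 3), (2, 10), (3, 10), (0, 3), (3, 3), (1, 10), (0, 7), (2, 10), (0, 7)],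
  [(1, 7), (0, 3), (1, 3), (0, 9), (0, 10), (1, 3), (0, 7), (0, 3), (1, 3), (0, 10), (0, 10), (1, 3), (0, 6), (1, 3), (1, 6), (1, 3), (0, 10), (0, 6), (2, 10), (0, 6), (0, 3), (3, 3)],
  [(2, 10), (0, 6), (0, 10), (0, 10), (0, 9), (0, 6), (0, 10), (1, 10), (0, 6), (0, 10), (0, 10), (0, 10), (0, 6), (0, 10), (0, 7), (1, 4), (1, 7), (1, 4), (0, 3), (3, 3), (1, 3), (3, 3)],
  [(1, 7), (0, 3), (1, 3), (0, 3), (0, 10), (0, 6), (0, 3), (0, 7), (0, 3), (1, 3), (0, 10), (0, 3), (0, 7), (0, 3), (1, 6), (0, 3), (2, 6), (0, 3), (0, 3), (3, 3), (1, 3), (3, 3)],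
  [(1, 7), (0, 3), (1, 3), (0, 3), (0, 10), (1, 9), (0, 7), (0, 3), (1, 3), (0, 10), (0, 3), (1, 10), (0, 6), (1, 3), (1, 6), (1, 3), (0, 3), (3, 3), (1, 10), (0, 6), (2, 10), (0, 6)],
  [(0, 3), (0, 2), (0, 12), (0, 2), (0, 12), (0, 12), (0, 12), (0, 2), (0, 12), (0, 3), (0, 12), (0, 2), (0, 12), (0, 12), (0, 12), (0, 2), (0, 12), (2, 10), (3, 10), (0, 3), (3, 3), (1, 3), (3, 3)],
  [(2, 10), (1, 10), (0, 3), (0, 3), (1, 10), (1, 9), (1, 10), (0, 3), (0, 3), (1, 10), (2, 10), (3, 10), (0, 10), (0, 7), (2, 10), (0, 7), (0, 3), (3, 3)],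
  [(2, 10), (1, 10), (0, 10), (0, 3), (0, 6), (0, 10), (1, 10), (0, 12), (0, 10), (0, 3), (0, 10), (0, 6), (0, 10), (0, 7), (0, 7), (0, 10), (1, 7), (0, 7), (0, 10), (0, 3), (3, 3), (1, 3), (3, 3)],
  [(2, 10), (1, 10), (0, 10), (0, 3), (1, 3), (1, 10), (1, 9), (0, 3), (0, 10), (1, 3), (2, 10), (3, 10), (0, 3), (3, 3), (1, 10), (0, 7), (2, 10), (0, 7)],
  [(2, 10), (0, 6), (0, 10), (0, 10), (0, 10), (0, 6), (0, 10), (1, 10), (0, 6), (0, 10), (0, 9), (0, 10), (0, 6), (0, 10), (0, 7), (1, 4), (1, 7), (1, 4), (0, 3), (3, 3), (1, 3), (3, 3)],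
  [(1, 7), (0, 3), (1, 3), (0, 10), (0, 10), (1, 3), (0, 7), (0, 3), (1, 3), (0, 10), (0, 9), (1, 3), (0, 6), (1, 3), (1, 6), (1, 3), (0, 10), (0, 6), (2, 10), (0, 6), (0, 3), (3, 3)],
  [(1, 7), (0, 3), (1, 3), (0, 3), (0, 10), (0, 7), (0, 3), (0, 7), (0, 3), (1, 3), (0, 10), (0, 3), (0, 6), (0, 3), (1, 6), (0, 3), (2, 6), (0, 3), (0, 3), (3, 3), (1, 3), (3, 3)],
  [(1, 7), (0, 3), (1, 3), (0, 3), (0, 10), (1, 10), (0, 7), (0, 3), (1, 3), (0, 10), (0, 3), (1, 9), (0, 6), (1, 3), (1, 6), (1, 3), (0, 3), (3, 3), (1, 10), (0, 6), (2, 10), (0, 6)],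
  [(0, 3), (0, 2), (0, 12), (0, 2), (0, 12), (0, 12), (0, 12), (0, 2), (0, 12), (0, 2), (0, 12), (0, 2), (0, 12), (0, 12), (0, 12), (0, 2), (0, 12), (0, 1), (1, 10), (3, 10), (0, 3), (3, 3), (1, 3), (3, 3)],
  [(2, 10), (1, 10), (0, 10), (0, 3), (0, 6), (0, 10), (1, 10), (1, 10), (0, 3), (0, 10), (0, 6), (0, 10), (0, 7), (0, 6), (0, 10), (1, 7), (0, 7), (0, 10), (0, 3), (3, 3), (1, 3), (3, 3)],
  [(2, 10), (0, 6), (0, 10), (0, 10), (0, 10), (0, 6), (0, 10), (1, 10), (0, 6), (0, 10), (0, 10), (0, 10), (0, 6), (0, 10), (0, 7), (1, 3), (1, 7), (1, 4), (0, 3), (3, 3), (1, 3), (3, 3)],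
  [(1, 7), (0, 3), (1, 3), (0, 3), (0, 10), (0, 7), (0, 3), (0, 7), (0, 3), (1, 3), (0, 10), (0, 3), (0, 7), (0, 3), (1, 6), (0, 3), (0, 12), (1, 6), (0, 3), (0, 3), (3, 3), (1, 3), (3, 3)],
  [(0, 3), (0, 2), (0, 12), (0, 2), (0, 12), (0, 12), (0, 12), (0, 2), (0, 12), (0, 2), (0, 12), (0, 2), (0, 12), (0, 12), (0, 12), (0, 2), (0, 12), (2, 10), (1, 1), (1, 10), (0, 3), (3, 3), (1, 3), (3, 3)],
  [(2, 10), (1, 10), (0, 10), (0, 3), (0, 6), (0, 10), (1, 10), (1, 10), (0, 3), (0, 10), (0, 6), (0, 10), (0, 7), (0, 7), (0, 10), (1, 7), (0, 6), (0, 10), (0, 3), (3, 3), (1, 3), (3, 3)],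
  [(2, 10), (0, 6), (0, 10), (0, 10), (0, 10), (0, 6), (0, 10), (1, 10), (0, 6), (0, 10), (0, 10), (0, 10), (0, 6), (0, 10), (0, 7), (1, 4), (1, 7), (1, 3), (0, 3), (3, 3), (1, 3), (3, 3)],
  [(0, 3), (0, 2), (0, 12), (0, 2), (0, 12), (0, 12), (0, 12), (0, 2), (0, 12), (0, 2), (0, 12), (0, 2), (0, 12), (0, 12), (0, 12), (0, 2), (0, 12), (2, 10), (3, 10), (0, 4), (3, 3), (1, 3), (3, 3)],
  [(2, 10), (1, 10), (0, 3), (0, 3), (1, 10), (1, 10), (1, 10), (0, 3), (0, 3), (1, 10), (2, 10), (3, 10), (0, 10), (0, 6), (2, 10), (0, 7), (0, 3), (3, 3)],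
  [(2, 10), (0, 6), (0, 10), (0, 10), (0, 10), (0, 6), (0, 10), (1, 10), (0, 6), (0, 10), (0, 10), (0, 10), (0, 6), (0, 10), (0, 7), (1, 4), (1, 7), (1, 4), (0, 3), (1, 12), (1, 3), (1, 3), (3, 3)],
  [(1, 7), (0, 3), (1, 3), (0, 10), (0, 10), (1, 3), (0, 7), (0, 3), (1, 3), (0, 10), (0, 10), (1, 3), (0, 6), (1, 3), (1, 6), (1, 3), (0, 10), (0, 6), (1, 12), (0, 10), (0, 6), (0, 3), (3, 3)],
  [(0, 3), (0, 2), (0, 12), (0, 2), (0, 12), (0, 12), (0, 12), (0, 2), (0, 12), (0, 2), (0, 12), (0, 2), (0, 12), (0, 12), (0, 12), (0, 2), (0, 12), (2, 10), (3, 10), (0, 3), (3, 4), (1, 3), (3, 3)],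
  [(2, 10), (1, 10), (0, 3), (0, 3), (1, 10), (1, 10), (1, 10), (0, 3), (0, 3), (1, 10), (2, 10), (3, 10), (0, 10), (0, 7), (2, 10), (0, 6), (0, 3), (3, 3)],
  [(0, 3), (0, 2), (0, 12), (0, 2), (0, 12), (0, 12), (0, 12), (0, 2), (0, 12), (0, 2), (0, 12), (0, 2), (0, 12), (0, 12), (0, 12), (0, 2), (0, 12), (2, 10), (3, 10), (0, 3), (3, 3), (1, 4), (3, 3)],
  [(2, 10), (1, 10), (0, 10), (0, 3), (1, 3), (1, 10), (1, 10), (0, 3), (0, 10), (1, 3), (2, 10), (3, 10), (0, 3), (3, 3), (1, 10), (0, 6), (2, 10), (0, 7)],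
  [(2, 10), (0, 6), (0, 10), (0, 10), (0, 10), (0, 6), (0, 10), (1, 10), (0, 6), (0, 10), (0, 10), (0, 10), (0, 6), (0, 10), (0, 7), (1, 4), (1, 7), (1, 4), (0, 3), (3, 3), (1, 3), (1, 12), (1, 3)],
  [(1, 7), (0, 3), (1, 3), (0, 3), (0, 10), (1, 10), (0, 7), (0, 3), (1, 3), (0, 10), (0, 3), (1, 10), (0, 6), (1, 3), (1, 6), (1, 3), (0, 3), (3, 3), (1, 10), (0, 6), (1, 12), (0, 10), (0, 6)],
  [(0, 3), (0, 2), (0, 12), (0, 2), (0, 12), (0, 12), (0, 12), (0, 2), (0, 12), (0, 2), (0, 12), (0, 2), (0, 12), (0, 12), (0, 12), (0, 2), (0, 12), (2, 10), (3, 10), (0, 3), (3, 3), (1, 3), (3, 4)],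
  [(2, 10), (1, 10), (0, 10), (0, 3), (1, 3), (1, 10), (1, 10), (0, 3), (0, 10), (1, 3), (2, 10), (3, 10), (0, 3), (3, 3), (1, 10), (0, 7), (2, 10), (0, 6)],
  [(0, 3), (0, 2), (0, 12), (0, 2), (0, 12), (0, 12), (0, 12), (0, 2), (0, 12), (0, 2), (0, 12), (0, 2), (0, 12), (0, 12), (0, 12), (0, 2), (0, 12), (2, 10), (3, 10), (0, 3), (3, 3), (1, 3), (3, 3), (1, 1)],
  [(2, 10), (1, 10), (0, 3), (0, 3), (1, 10), (1, 10), (1, 10), (0, 3), (0, 3), (1, 10), (2, 10), (3, 10), (0, 10), (0, 7), (2, 10), (0, 7), (0, 3), (3, 3), (2, 12)],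
  [(2, 10), (1, 10), (0, 10), (0, 3), (0, 6), (0, 10), (1, 10), (1, 10), (0, 3), (0, 10), (0, 6), (0, 10), (0, 7), (0, 7), (0, 10), (1, 7), (0, 7), (0, 10), (0, 3), (3, 3), (1, 3), (3, 3), (3, 12)],
  [(2, 10), (1, 10), (0, 10), (0, 3), (1, 3), (1, 10), (1, 10), (0, 3), (0, 10), (1, 3), (2, 10), (3, 10), (0, 3), (3, 3), (1, 10), (0, 7), (2, 10), (0, 7), (3, 12)],
  [(0, 3), (0, 2), (0, 12), (0, 2), (0, 12), (0, 12), (0, 12), (0, 2), (0, 12), (0, 2), (0, 12), (0, 2), (0, 12), (0, 12), (0, 12), (0, 2), (0, 12), (2, 10), (3, 10), (0, 3), (3, 3), (1, 3), (3, 3), (5, 1)],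
  [(2, 10), (1, 10), (0, 10), (0, 3), (0, 6), (0, 10), (1, 10), (1, 10), (0, 3), (0, 10), (0, 6), (0, 10), (0, 7), (0, 7), (0, 10), (1, 7), (0, 7), (0, 10), (0, 3), (3, 3), (1, 3), (3, 3), (6, 12)],
  [(1, 7), (0, 3), (1, 3), (0, 10), (0, 10), (1, 3), (0, 7), (0, 3), (1, 3), (0, 10), (0, 10), (1, 3), (0, 6), (1, 3), (1, 6), (1, 3), (0, 10), (0, 6), (2, 10), (0, 6), (0, 3), (3, 3), (7, 12)],
  [(1, 7), (0, 3), (1, 3), (0, 3), (0, 10), (1, 10), (0, 7), (0, 3), (1, 3), (0, 10), (0, 3), (1, 10), (0, 6), (1, 3), (1, 6), (1, 3), (0, 3), (3, 3), (1, 10), (0, 6), (2, 10), (0, 6), (7, 12)],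
  [(0, 3), (0, 2), (0, 12), (0, 2), (0, 12), (0, 12), (0, 12), (0, 2), (0, 12), (0, 2), (0, 12), (0, 2), (0, 12), (0, 12), (0, 12), (0, 2), (0, 12), (2, 10), (3, 10), (0, 3), (3, 3), (1, 3), (3, 3), (9, 1)],
  [(2, 10), (1, 10), (0, 3), (0, 3), (1, 10), (1, 10), (1, 10), (0, 3), (0, 3), (1, 10), (2, 10), (3, 10), (0, 10), (0, 7), (2, 10), (0, 7), (0, 3), (3, 3), (10, 12)],
  [(1, 7), (0, 3), (1, 3), (0, 3), (0, 10), (0, 7), (0, 3), (0, 7), (0, 3), (1, 3), (0, 10), (0, 3), (0, 7), (0, 3), (1, 6), (0, 3), (2, 6), (0, 3), (0, 3), (3, 3), (1, 3), (3, 3), (11, 12)],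
  [(1, 7), (0, 3), (1, 3), (0, 3), (0, 10), (1, 10), (0, 7), (0, 3), (1, 3), (0, 10), (0, 3), (1, 10), (0, 6), (1, 3), (1, 6), (1, 3), (0, 3), (3, 3), (1, 10), (0, 6), (2, 10), (0, 6), (11, 12)],
  [(0, 3), (0, 2), (0, 12), (0, 2), (0, 12), (0, 12), (0, 12), (0, 2), (0, 12), (0, 2), (0, 12), (0, 2), (0, 12), (0, 12), (0, 12), (0, 2), (0, 12), (2, 10), (3, 10), (0, 3), (3, 3), (1, 3), (3, 3), (13, 1)],
  [(2, 10), (1, 10), (0, 10), (0, 3), (1, 3), (1, 10), (1, 10), (0, 3), (0, 10), (1, 3), (2, 10), (3, 10), (0, 3), (3, 3), (1, 10), (0, 7), (2, 10), (0, 7), (13, 12)],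
  [(1, 7), (0, 3), (1, 3), (0, 10), (0, 10), (1, 3), (0, 7), (0, 3), (1, 3), (0, 10), (0, 10), (1, 3), (0, 6), (1, 3), (1, 6), (1, 3), (0, 10), (0, 6), (2, 10), (0, 6), (0, 3), (3, 3), (15, 12)],
  [(1, 7), (0, 3), (1, 3), (0, 3), (0, 10), (0, 7), (0, 3), (0, 7), (0, 3), (1, 3), (0, 10), (0, 3), (0, 7), (0, 3), (1, 6), (0, 3), (2, 6), (0, 3), (0, 3), (3, 3), (1, 3), (3, 3), (16, 12)]]

/-- A matrix. -/
def m9 : List (List (ℕ × ℕ)) := [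
  [(0, 9), (0, 1), (0, 6), (0, 1), (0, 6), (0, 6), (0, 1), (0, 1), (0, 6), (0, 6), (0, 6), (0, 1), (0, 6), (0, 6), (0, 6), (0, 1), (0, 6), (4, 5), (1, 5), (0, 8), (1, 8), (3, 8), (1, 8)],
  [(0, 3), (0, 3), (0, 12), (0, 2), (0, 12), (0, 12), (0, 2), (0, 2), (0, 12), (0, 12), (0, 12), (0, 2), (0, 12), (0, 12), (0, 12), (0, 2), (0, 12), (4, 10), (1, 10), (0, 3), (1, 3), (3, 3), (1, 3)],
  [(2, 9), (1, 10), (0, 10), (2, 10), (0, 3), (0, 3), (1, 10), (0, 3), (0, 3), (1, 10), (4, 10), (1, 10), (0, 10), (0, 7), (0, 10), (0, 7), (2, 3), (1, 3)],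
  [(2, 10), (0, 12), (0, 10), (0, 10), (2, 10), (0, 3), (0, 10), (0, 6), (0, 10), (0, 3), (0, 10), (0, 6), (0, 10), (0, 7), (0, 7), (0, 7), (0, 7), (0, 10), (1, 10), (0, 3), (1, 3), (3, 3), (1, 3)],
  [(2, 10), (1, 9), (0, 10), (2, 10), (0, 3), (0, 10), (1, 3), (0, 3), (0, 10), (1, 3), (4, 10), (1, 10), (0, 3), (1, 3), (3, 10), (0, 7), (0, 10), (0, 7)],
  [(2, 10), (1, 10), (0, 9), (2, 10), (0, 3), (0, 3), (1, 10), (0, 3), (0, 3), (1, 10), (4, 10), (1, 10), (0, 10), (0, 7), (0, 10), (0, 7), (2, 3), (1, 3)],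
  [(0, 3), (0, 2), (0, 12), (0, 2), (0, 12), (0, 12), (0, 3), (0, 2), (0, 12), (0, 12), (0, 12), (0, 2), (0, 12), (0, 12), (0, 12), (0, 2), (0, 12), (4, 10), (1, 10), (0, 3), (1, 3), (3, 3), (1, 3)],
  [(2, 10), (1, 10), (0, 10), (1, 12), (0, 10), (0, 3), (0, 10), (0, 6), (0, 10), (0, 3), (0, 10), (0, 6), (0, 10), (0, 7), (0, 7), (0, 7), (0, 7), (0, 10), (1, 10), (0, 3), (1, 3), (3, 3), (1, 3)],
  [(2, 10), (1, 10), (0, 10), (2, 9), (0, 3), (0, 10), (1, 3), (0, 3), (0, 10), (1, 3), (4, 10), (1, 10), (0, 3), (1, 3), (3, 10), (0, 7), (0, 10), (0, 7)],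
  [(2, 10), (0, 6), (0, 10), (0, 10), (1, 6), (0, 10), (0, 9), (0, 10), (0, 6), (0, 10), (0, 10), (0, 10), (0, 6), (0, 10), (0, 7), (1, 7), (1, 4), (1, 4), (0, 3), (1, 3), (3, 3), (1, 3)],
  [(1, 7), (0, 3), (1, 3), (0, 3), (0, 7), (1, 3), (0, 10), (0, 9), (1, 3), (0, 10), (0, 10), (1, 3), (0, 6), (1, 6), (1, 3), (1, 3), (0, 10), (0, 6), (0, 10), (0, 6), (2, 3), (1, 3)],
  [(1, 7), (0, 3), (1, 3), (0, 3), (0, 7), (1, 3), (0, 10), (0, 3), (0, 6), (0, 3), (0, 10), (0, 3), (0, 7), (0, 3), (1, 6), (1, 6), (0, 3), (1, 3), (0, 3), (1, 3), (3, 3), (1, 3)],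
  [(1, 7), (0, 3), (1, 3), (0, 3), (0, 7), (1, 3), (0, 10), (0, 3), (1, 9), (0, 10), (0, 3), (1, 10), (0, 6), (1, 6), (1, 3), (1, 3), (0, 3), (1, 3), (3, 10), (0, 6), (0, 10), (0, 6)],
  [(2, 10), (0, 6), (0, 10), (0, 10), (1, 6), (0, 10), (0, 10), (0, 10), (0, 6), (0, 10), (0, 9), (0, 10), (0, 6), (0, 10), (0, 7), (1, 7), (1, 4), (1, 4), (0, 3), (1, 3), (3, 3), (1, 3)],
  [(1, 7), (0, 3), (1, 3), (0, 3), (0, 7), (1, 3), (0, 10), (0, 10), (1, 3), (0, 10), (0, 9), (1, 3), (0, 6), (1, 6), (1, 3), (1, 3), (0, 10), (0, 6), (0, 10), (0, 6), (2, 3), (1, 3)],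
  [(1, 7), (0, 3), (1, 3), (0, 3), (0, 7), (1, 3), (0, 10), (0, 3), (0, 7), (0, 3), (0, 10), (0, 3), (0, 6), (0, 3), (1, 6), (1, 6), (0, 3), (1, 3), (0, 3), (1, 3), (3, 3), (1, 3)],
  [(1, 7), (0, 3), (1, 3), (0, 3), (0, 7), (1, 3), (0, 10), (0, 3), (1, 10), (0, 10), (0, 3), (1, 9), (0, 6), (1, 6), (1, 3), (1, 3), (0, 3), (1, 3), (3, 10), (0, 6), (0, 10), (0, 6)],
  [(0, 3), (0, 2), (0, 12), (0, 2), (0, 12), (0, 12), (0, 2), (0, 2), (0, 12), (0, 12), (0, 12), (0, 2), (0, 12), (0, 12), (0, 12), (0, 2), (0, 12), (0, 1), (3, 10), (1, 10), (0, 3), (1, 3), (3, 3), (1, 3)],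
  [(2, 10), (1, 10), (0, 10), (2, 10), (0, 3), (0, 10), (0, 6), (0, 10), (0, 3), (0, 10), (0, 6), (0, 10), (0, 7), (0, 6), (0, 7), (0, 7), (0, 10), (1, 10), (0, 3), (1, 3), (3, 3), (1, 3)],
  [(0, 3), (0, 2), (0, 12), (0, 2), (0, 12), (0, 12), (0, 2), (0, 2), (0, 12), (0, 12), (0, 12), (0, 2), (0, 12), (0, 12), (0, 12), (0, 2), (0, 12), (2, 1), (1, 10), (1, 10), (0, 3), (1, 3), (3, 3), (1, 3)],
  [(2, 10), (1, 10), (0, 10), (2, 10), (0, 3), (0, 10), (0, 6), (0, 10), (0, 3), (0, 10), (0, 6), (0, 10), (0, 7), (0, 7), (0, 7), (0, 6), (0, 10), (1, 10), (0, 3), (1, 3), (3, 3), (1, 3)],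
  [(2, 10), (0, 6), (0, 10), (0, 10), (1, 6), (0, 10), (0, 10), (0, 10), (0, 6), (0, 10), (0, 10), (0, 10), (0, 6), (0, 10), (0, 7), (1, 7), (1, 3), (1, 4), (0, 3), (1, 3), (3, 3), (1, 3)],
  [(1, 7), (0, 3), (1, 3), (0, 3), (0, 7), (1, 3), (0, 10), (0, 3), (0, 7), (0, 3), (0, 10), (0, 3), (0, 7), (0, 3), (1, 6), (1, 6), (0, 3), (0, 12), (0, 3), (0, 3), (1, 3), (3, 3), (1, 3)],
  [(2, 10), (0, 6), (0, 10), (0, 10), (1, 6), (0, 10), (0, 10), (0, 10), (0, 6), (0, 10), (0, 10), (0, 10), (0, 6), (0, 10), (0, 7), (1, 7), (1, 4), (1, 3), (0, 3), (1, 3), (3, 3), (1, 3)],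
  [(0, 3), (0, 2), (0, 12), (0, 2), (0, 12), (0, 12), (0, 2), (0, 2), (0, 12), (0, 12), (0, 12), (0, 2), (0, 12), (0, 12), (0, 12), (0, 2), (0, 12), (4, 10), (1, 10), (0, 4), (1, 3), (3, 3), (1, 3)],
  [(2, 10), (1, 10), (0, 10), (2, 10), (0, 3), (0, 3), (1, 10), (0, 3), (0, 3), (1, 10), (4, 10), (1, 10), (0, 10), (0, 6), (0, 10), (0, 7), (2, 3), (1, 3)],
  [(0, 3), (0, 2), (0, 12), (0, 2), (0, 12), (0, 12), (0, 2), (0, 2), (0, 12), (0, 12), (0, 12), (0, 2), (0, 12), (0, 12), (0, 12), (0, 2), (0, 12), (4, 10), (1, 10), (0, 3), (1, 4), (3, 3), (1, 3)],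
  [(2, 10), (1, 10), (0, 10), (2, 10), (0, 3), (0, 3), (1, 10), (0, 3), (0, 3), (1, 10), (4, 10), (1, 10), (0, 10), (0, 7), (0, 10), (0, 6), (2, 3), (1, 3)],
  [(2, 10), (0, 6), (0, 10), (0, 10), (1, 6), (0, 10), (0, 10), (0, 10), (0, 6), (0, 10), (0, 10), (0, 10), (0, 6), (0, 10), (0, 7), (1, 7), (1, 4), (1, 4), (0, 3), (1, 3), (1, 12), (1, 3), (1, 3)],
  [(1, 7), (0, 3), (1, 3), (0, 3), (0, 7), (1, 3), (0, 10), (0, 10), (1, 3), (0, 10), (0, 10), (1, 3), (0, 6), (1, 6), (1, 3), (1, 3), (0, 10), (0, 6), (0, 10), (0, 6), (1, 12), (0, 3), (1, 3)],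
  [(0, 3), (0, 2), (0, 12), (0, 2), (0, 12), (0, 12), (0, 2), (0, 2), (0, 12), (0, 12), (0, 12), (0, 2), (0, 12), (0, 12), (0, 12), (0, 2), (0, 12), (4, 10), (1, 10), (0, 3), (1, 3), (3, 4), (1, 3)],
  [(2, 10), (1, 10), (0, 10), (2, 10), (0, 3), (0, 10), (1, 3), (0, 3), (0, 10), (1, 3), (4, 10), (1, 10), (0, 3), (1, 3), (3, 10), (0, 6), (0, 10), (0, 7)],
  [(0, 3), (0, 2), (0, 12), (0, 2), (0, 12), (0, 12), (0, 2), (0, 2), (0, 12), (0, 12), (0, 12), (0, 2), (0, 12), (0, 12), (0, 12), (0, 2), (0, 12), (4, 10), (1, 10), (0, 3), (1, 3), (3, 3), (1, 4)],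
  [(2, 10), (1, 10), (0, 10), (2, 10), (0, 3), (0, 10), (1, 3), (0, 3), (0, 10), (1, 3), (4, 10), (1, 10), (0, 3), (1, 3), (3, 10), (0, 7), (0, 10), (0, 6)],
  [(2, 10), (0, 6), (0, 10), (0, 10), (1, 6), (0, 10), (0, 10), (0, 10), (0, 6), (0, 10), (0, 10), (0, 10), (0, 6), (0, 10), (0, 7), (1, 7), (1, 4), (1, 4), (0, 3), (1, 3), (3, 3), (1, 3), (1, 12)],
  [(1, 7), (0, 3), (1, 3), (0, 3), (0, 7), (1, 3), (0, 10), (0, 3), (1, 10), (0, 10), (0, 3), (1, 10), (0, 6), (1, 6), (1, 3), (1, 3), (0, 3), (1, 3), (3, 10), (0, 6), (0, 10), (0, 6), (1, 12)],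
  [(2, 10), (0, 6), (0, 10), (0, 10), (1, 6), (0, 10), (0, 3), (0, 10), (0, 6), (0, 10), (0, 10), (0, 10), (0, 6), (0, 10), (0, 7), (1, 7), (1, 10), (1, 4), (0, 3), (1, 3), (1, 6), (1, 3), (1, 3), (1, 6), (1, 6), (3, 7), (3, 7), (3, 7)],
  [(2, 10), (1, 3), (0, 10), (2, 3), (0, 3), (0, 10), (1, 3), (0, 10), (0, 10), (1, 3), (4, 10), (1, 3), (0, 3), (1, 3), (1, 6), (1, 10), (1, 10), (1, 7), (2, 6), (4, 7), (2, 7), (4, 7)],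
  [(2, 3), (0, 7), (0, 3), (0, 3), (1, 7), (0, 3), (0, 3), (0, 3), (0, 7), (0, 3), (0, 10), (0, 3), (0, 7), (0, 3), (0, 6), (1, 6), (1, 9), (1, 3), (0, 10), (1, 10), (1, 7), (1, 10), (1, 10), (1, 7), (3, 6), (2, 7), (4, 7), (4, 7)],
  [(2, 3), (1, 10), (0, 3), (2, 10), (0, 3), (0, 3), (1, 10), (0, 10), (0, 3), (1, 10), (4, 10), (1, 3), (0, 10), (1, 10), (1, 7), (1, 3), (1, 3), (1, 6), (4, 6), (3, 7), (3, 7), (1, 7)],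
  [(2, 10), (0, 6), (0, 10), (0, 10), (1, 6), (0, 10), (0, 3), (0, 10), (0, 6), (0, 10), (0, 10), (0, 10), (0, 6), (0, 10), (0, 7), (1, 7), (1, 10), (1, 4), (0, 3), (1, 3), (1, 6), (1, 3), (1, 3), (1, 6), (1, 7), (3, 6), (3, 7), (3, 7)],
  [(2, 3), (0, 7), (0, 3), (0, 3), (1, 7), (0, 3), (0, 3), (0, 3), (0, 7), (0, 3), (0, 10), (0, 3), (0, 7), (0, 3), (0, 6), (1, 6), (1, 9), (1, 3), (0, 10), (1, 10), (1, 7), (1, 10), (1, 10), (1, 7), (3, 7), (2, 6), (4, 7), (4, 7)],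
  [(2, 10), (1, 3), (0, 10), (2, 3), (0, 3), (0, 10), (1, 3), (0, 10), (0, 10), (1, 3), (4, 10), (1, 3), (0, 3), (1, 3), (1, 6), (1, 10), (1, 10), (1, 7), (2, 7), (4, 6), (2, 7), (4, 7)],
  [(2, 3), (1, 10), (0, 3), (2, 10), (0, 3), (0, 3), (1, 10), (0, 10), (0, 3), (1, 10), (4, 10), (1, 3), (0, 10), (1, 10), (1, 7), (1, 3), (1, 3), (1, 6), (4, 7), (3, 6), (3, 7), (1, 7)],
  [(2, 10), (0, 6), (0, 10), (0, 10), (1, 6), (0, 10), (0, 3), (0, 10), (0, 6), (0, 10), (0, 10), (0, 10), (0, 6), (0, 10), (0, 7), (1, 7), (1, 10), (1, 4), (0, 3), (1, 3), (1, 6), (1, 3), (1, 3), (1, 6), (1, 7), (3, 7), (3, 6), (3, 7)],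
  [(2, 10), (1, 3), (0, 10), (2, 3), (0, 3), (0, 10), (1, 3), (0, 10), (0, 10), (1, 3), (4, 10), (1, 3), (0, 3), (1, 3), (1, 6), (1, 10), (1, 10), (1, 7), (2, 7), (4, 7), (2, 6), (4, 7)],
  [(2, 3), (0, 7), (0, 3), (0, 3), (1, 7), (0, 3), (0, 3), (0, 3), (0, 7), (0, 3), (0, 10), (0, 3), (0, 7), (0, 3), (0, 6), (1, 6), (1, 9), (1, 3), (0, 10), (1, 10), (1, 7), (1, 10), (1, 10), (1, 7), (3, 7), (2, 7), (4, 6), (4, 7)],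
  [(2, 3), (1, 10), (0, 3), (2, 10), (0, 3), (0, 3), (1, 10), (0, 10), (0, 3), (1, 10), (4, 10), (1, 3), (0, 10), (1, 10), (1, 7), (1, 3), (1, 3), (1, 6), (4, 7), (3, 7), (3, 6), (1, 7)],
  [(2, 10), (0, 6), (0, 10), (0, 10), (1, 6), (0, 10), (0, 3), (0, 10), (0, 6), (0, 10), (0, 10), (0, 10), (0, 6), (0, 10), (0, 7), (1, 7), (1, 10), (1, 4), (0, 3), (1, 3), (1, 6), (1, 3), (1, 3), (1, 6), (1, 7), (3, 7), (3, 7), (3, 6)],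
  [(2, 3), (1, 10), (0, 3), (2, 10), (0, 3), (0, 3), (1, 10), (0, 10), (0, 3), (1, 10), (4, 10), (1, 3), (0, 10), (1, 10), (1, 7), (1, 3), (1, 3), (1, 6), (4, 7), (3, 7), (3, 7), (1, 6)],
  [(2, 10), (1, 3), (0, 10), (2, 3), (0, 3), (0, 10), (1, 3), (0, 10), (0, 10), (1, 3), (4, 10), (1, 3), (0, 3), (1, 3), (1, 6), (1, 10), (1, 10), (1, 7), (2, 7), (4, 7), (2, 7), (4, 6)],
  [(2, 3), (0, 7), (0, 3), (0, 3), (1, 7), (0, 3), (0, 3), (0, 3), (0, 7), (0, 3), (0, 10), (0, 3), (0, 7), (0, 3), (0, 6), (1, 6), (1, 9), (1, 3), (0, 10), (1, 10), (1, 7), (1, 10), (1, 10), (1, 7), (3, 7), (2, 7), (4, 7), (4, 6)]]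

/-- A matrix. -/
def m10 : List (List (ℕ × ℕ)) := [
  [(0, 9), (0, 1), (0, 6), (0, 1), (0, 6), (0, 6), (0, 1), (0, 1), (0, 6), (0, 6), (0, 6), (0, 6), (0, 6), (0, 1), (0, 6), (0, 1), (0, 6), (4, 5), (0, 5), (13, 8), (1, 8), (1, 8), (0, 8)],
  [(0, 3), (0, 3), (0, 12), (0, 2), (0, 12), (0, 12), (0, 2), (0, 2), (0, 12), (0, 12), (0, 12), (0, 12), (0, 12), (0, 2), (0, 12), (0, 2), (0, 12), (4, 10), (0, 10), (13, 3), (1, 3), (1, 3), (0, 3)],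
  [(2, 9), (1, 10), (0, 10), (2, 10), (0, 3), (0, 3), (0, 3), (0, 3), (1, 10), (1, 10), (4, 10), (0, 10), (13, 10), (0, 7), (0, 10), (0, 7), (0, 3), (0, 3)],
  [(0, 3), (0, 2), (0, 12), (0, 3), (0, 12), (0, 12), (0, 2), (0, 2), (0, 12), (0, 12), (0, 12), (0, 12), (0, 12), (0, 2), (0, 12), (0, 2), (0, 12), (4, 10), (0, 10), (13, 3), (1, 3), (1, 3), (0, 3)],
  [(2, 10), (1, 9), (0, 10), (2, 10), (0, 3), (0, 3), (0, 3), (0, 3), (1, 10), (1, 10), (4, 10), (0, 10), (13, 10), (0, 7), (0, 10), (0, 7), (0, 3), (0, 3)],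
  [(2, 10), (1, 10), (0, 9), (2, 10), (0, 3), (0, 10), (0, 3), (0, 10), (1, 3), (1, 3), (4, 10), (0, 10), (13, 3), (1, 3), (1, 10), (0, 10), (0, 7), (0, 7)],
  [(2, 10), (1, 10), (0, 10), (0, 12), (1, 10), (0, 3), (0, 10), (0, 3), (0, 10), (0, 6), (0, 10), (0, 6), (0, 10), (0, 7), (0, 7), (0, 7), (0, 7), (0, 10), (0, 10), (13, 3), (1, 3), (1, 3), (0, 3)],
  [(2, 10), (1, 10), (0, 10), (1, 12), (0, 10), (0, 3), (0, 10), (0, 3), (0, 10), (0, 6), (0, 10), (0, 6), (0, 10), (0, 7), (0, 7), (0, 7), (0, 7), (0, 10), (0, 10), (13, 3), (1, 3), (1, 3), (0, 3)],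
  [(2, 10), (1, 10), (0, 10), (2, 9), (0, 3), (0, 10), (0, 3), (0, 10), (1, 3), (1, 3), (4, 10), (0, 10), (13, 3), (1, 3), (1, 10), (0, 10), (0, 7), (0, 7)],
  [(2, 10), (1, 10), (0, 10), (0, 6), (0, 6), (0, 10), (0, 9), (0, 10), (0, 10), (0, 10), (0, 6), (0, 10), (0, 6), (0, 10), (0, 7), (0, 7), (2, 4), (0, 4), (13, 3), (1, 3), (1, 3), (0, 3)],
  [(1, 7), (0, 3), (0, 7), (0, 3), (0, 3), (2, 3), (0, 10), (0, 9), (0, 10), (0, 10), (1, 3), (1, 3), (0, 6), (0, 6), (2, 3), (0, 3), (13, 10), (0, 6), (0, 10), (0, 6), (0, 3), (0, 3)],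
  [(2, 10), (1, 10), (0, 10), (0, 6), (0, 6), (0, 10), (0, 10), (0, 10), (0, 9), (0, 10), (0, 6), (0, 10), (0, 6), (0, 10), (0, 7), (0, 7), (2, 4), (0, 4), (13, 3), (1, 3), (1, 3), (0, 3)],
  [(1, 7), (0, 3), (0, 7), (0, 3), (0, 3), (2, 3), (0, 10), (0, 10), (0, 10), (0, 9), (1, 3), (1, 3), (0, 6), (0, 6), (2, 3), (0, 3), (13, 10), (0, 6), (0, 10), (0, 6), (0, 3), (0, 3)],
  [(1, 7), (0, 3), (0, 7), (0, 3), (0, 3), (2, 3), (0, 10), (0, 3), (0, 10), (0, 3), (0, 6), (0, 3), (0, 7), (0, 3), (2, 6), (0, 6), (0, 3), (0, 3), (13, 3), (1, 3), (1, 3), (0, 3)],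
  [(1, 7), (0, 3), (0, 7), (0, 3), (0, 3), (2, 3), (0, 10), (0, 3), (0, 10), (0, 3), (1, 9), (1, 10), (0, 6), (0, 6), (2, 3), (0, 3), (13, 3), (1, 3), (1, 10), (0, 10), (0, 6), (0, 6)],
  [(1, 7), (0, 3), (0, 7), (0, 3), (0, 3), (2, 3), (0, 10), (0, 3), (0, 10), (0, 3), (0, 7), (0, 3), (0, 6), (0, 3), (2, 6), (0, 6), (0, 3), (0, 3), (13, 3), (1, 3), (1, 3), (0, 3)],
  [(1, 7), (0, 3), (0, 7), (0, 3), (0, 3), (2, 3), (0, 10), (0, 3), (0, 10), (0, 3), (1, 10), (1, 9), (0, 6), (0, 6), (2, 3), (0, 3), (13, 3), (1, 3), (1, 10), (0, 10), (0, 6), (0, 6)],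
  [(0, 3), (0, 2), (0, 12), (0, 2), (0, 12), (0, 12), (0, 2), (0, 2), (0, 12), (0, 12), (0, 12), (0, 12), (0, 12), (0, 2), (0, 12), (0, 2), (0, 12), (0, 1), (3, 10), (0, 10), (13, 3), (1, 3), (1, 3), (0, 3)],
  [(0, 3), (0, 2), (0, 12), (0, 2), (0, 12), (0, 12), (0, 2), (0, 2), (0, 12), (0, 12), (0, 12), (0, 12), (0, 12), (0, 2), (0, 12), (0, 2), (0, 12), (1, 1), (2, 10), (0, 10), (13, 3), (1, 3), (1, 3), (0, 3)],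
  [(2, 10), (1, 10), (0, 10), (2, 10), (0, 3), (0, 10), (0, 3), (0, 10), (0, 6), (0, 10), (0, 6), (0, 10), (0, 7), (0, 7), (0, 6), (0, 7), (0, 10), (0, 10), (13, 3), (1, 3), (1, 3), (0, 3)],
  [(2, 10), (1, 10), (0, 10), (2, 10), (0, 3), (0, 10), (0, 3), (0, 10), (0, 6), (0, 10), (0, 6), (0, 10), (0, 7), (0, 7), (0, 7), (0, 6), (0, 10), (0, 10), (13, 3), (1, 3), (1, 3), (0, 3)],
  [(2, 10), (1, 10), (0, 10), (0, 6), (0, 6), (0, 10), (0, 10), (0, 10), (0, 10), (0, 10), (0, 6), (0, 10), (0, 6), (0, 10), (0, 7), (0, 7), (2, 3), (0, 4), (13, 3), (1, 3), (1, 3), (0, 3)],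
  [(2, 10), (1, 10), (0, 10), (0, 6), (0, 6), (0, 10), (0, 10), (0, 10), (0, 10), (0, 10), (0, 6), (0, 10), (0, 6), (0, 10), (0, 7), (0, 7), (2, 4), (0, 3), (13, 3), (1, 3), (1, 3), (0, 3)],
  [(1, 7), (0, 3), (0, 7), (0, 3), (0, 3), (2, 3), (0, 10), (0, 3), (0, 10), (0, 3), (0, 7), (0, 3), (0, 7), (0, 3), (2, 6), (0, 6), (0, 3), (0, 3), (0, 12), (12, 3), (1, 3), (1, 3), (0, 3)],
  [(2, 10), (0, 6), (0, 10), (0, 10), (1, 6), (0, 10), (0, 3), (0, 10), (0, 3), (0, 10), (1, 10), (0, 6), (0, 10), (0, 7), (1, 7), (1, 10), (0, 10), (0, 7), (0, 12), (3, 6), (5, 6), (1, 10), (1, 3), (1, 10), (0, 3), (2, 7), (3, 7)],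
  [(1, 7), (0, 3), (1, 3), (0, 3), (0, 7), (1, 3), (0, 10), (0, 3), (0, 10), (0, 3), (0, 7), (0, 3), (1, 3), (0, 6), (1, 6), (1, 3), (0, 3), (0, 6), (1, 12), (3, 6), (5, 6), (0, 10), (1, 3), (1, 3), (0, 10), (3, 7), (3, 7)],
  [(2, 3), (0, 7), (0, 3), (0, 3), (1, 7), (0, 3), (0, 3), (0, 3), (0, 4), (0, 3), (1, 3), (0, 7), (0, 3), (0, 6), (1, 6), (1, 9), (0, 10), (0, 6), (0, 7), (1, 6), (1, 7), (1, 7), (1, 7), (1, 7), (1, 3), (1, 10), (1, 3), (0, 10), (4, 7), (4, 7)],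
  [(1, 6), (0, 10), (1, 10), (0, 10), (0, 6), (1, 10), (0, 9), (0, 10), (0, 10), (0, 10), (0, 6), (0, 10), (1, 10), (0, 7), (1, 7), (1, 4), (0, 3), (0, 7), (1, 7), (1, 6), (1, 7), (1, 7), (1, 7), (1, 7), (0, 3), (1, 10), (1, 10), (0, 3), (5, 7), (2, 7)],
  [(1, 7), (0, 3), (1, 3), (0, 3), (1, 7), (0, 3), (0, 10), (0, 3), (0, 10), (0, 3), (1, 3), (0, 7), (0, 3), (1, 6), (0, 6), (1, 3), (0, 3), (0, 6), (4, 6), (5, 7), (1, 10), (1, 3), (1, 10), (0, 3), (2, 6), (3, 6)],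
  [(2, 10), (0, 6), (0, 10), (0, 10), (0, 6), (1, 10), (0, 3), (0, 10), (0, 3), (0, 10), (0, 6), (0, 10), (1, 10), (1, 7), (0, 7), (1, 10), (0, 10), (0, 7), (5, 6), (5, 7), (0, 10), (1, 3), (1, 3), (0, 10), (3, 6), (3, 6)],
  [(2, 10), (0, 6), (0, 10), (0, 10), (1, 6), (0, 10), (0, 3), (0, 10), (0, 3), (0, 10), (1, 10), (0, 6), (0, 10), (0, 7), (1, 7), (1, 10), (0, 10), (0, 7), (4, 6), (1, 12), (3, 6), (1, 10), (1, 3), (1, 10), (0, 3), (2, 7), (3, 7)],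
  [(1, 7), (0, 3), (1, 3), (0, 3), (0, 7), (1, 3), (0, 10), (0, 3), (0, 10), (0, 3), (0, 7), (0, 3), (1, 3), (0, 6), (1, 6), (1, 3), (0, 3), (0, 6), (5, 6), (1, 12), (3, 6), (0, 10), (1, 3), (1, 3), (0, 10), (3, 7), (3, 7)],
  [(2, 3), (0, 7), (0, 3), (0, 3), (1, 7), (0, 3), (0, 3), (0, 3), (0, 4), (0, 3), (1, 3), (0, 7), (0, 3), (0, 6), (1, 6), (1, 9), (0, 10), (0, 6), (0, 7), (1, 7), (1, 7), (1, 7), (1, 6), (1, 7), (1, 3), (1, 10), (1, 3), (0, 10), (4, 7), (4, 7)],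
  [(1, 6), (0, 10), (1, 10), (0, 10), (0, 6), (1, 10), (0, 9), (0, 10), (0, 10), (0, 10), (0, 6), (0, 10), (1, 10), (0, 7), (1, 7), (1, 4), (0, 3), (0, 7), (1, 7), (1, 7), (1, 7), (1, 7), (1, 6), (1, 7), (0, 3), (1, 10), (1, 10), (0, 3), (5, 7), (2, 7)],
  [(1, 7), (0, 3), (1, 3), (0, 3), (1, 7), (0, 3), (0, 10), (0, 3), (0, 10), (0, 3), (1, 3), (0, 7), (0, 3), (1, 6), (0, 6), (1, 3), (0, 3), (0, 6), (4, 7), (5, 6), (1, 10), (1, 3), (1, 10), (0, 3), (2, 6), (3, 6)],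
  [(2, 10), (0, 6), (0, 10), (0, 10), (0, 6), (1, 10), (0, 3), (0, 10), (0, 3), (0, 10), (0, 6), (0, 10), (1, 10), (1, 7), (0, 7), (1, 10), (0, 10), (0, 7), (5, 7), (5, 6), (0, 10), (1, 3), (1, 3), (0, 10), (3, 6), (3, 6)],
  [(0, 3), (0, 2), (0, 12), (0, 2), (0, 12), (0, 12), (0, 2), (0, 2), (0, 12), (0, 12), (0, 12), (0, 12), (0, 12), (0, 2), (0, 12), (0, 2), (0, 12), (4, 10), (0, 10), (13, 4), (1, 3), (1, 3), (0, 3)],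
  [(2, 10), (1, 10), (0, 10), (2, 10), (0, 3), (0, 3), (0, 3), (0, 3), (1, 10), (1, 10), (4, 10), (0, 10), (13, 10), (0, 6), (0, 10), (0, 7), (0, 3), (0, 3)],
  [(0, 3), (0, 2), (0, 12), (0, 2), (0, 12), (0, 12), (0, 2), (0, 2), (0, 12), (0, 12), (0, 12), (0, 12), (0, 12), (0, 2), (0, 12), (0, 2), (0, 12), (4, 10), (0, 10), (13, 3), (1, 4), (1, 3), (0, 3)],
  [(2, 10), (1, 10), (0, 10), (2, 10), (0, 3), (0, 3), (0, 3), (0, 3), (1, 10), (1, 10), (4, 10), (0, 10), (13, 10), (0, 7), (0, 10), (0, 6), (0, 3), (0, 3)],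
  [(0, 3), (0, 2), (0, 12), (0, 2), (0, 12), (0, 12), (0, 2), (0, 2), (0, 12), (0, 12), (0, 12), (0, 12), (0, 12), (0, 2), (0, 12), (0, 2), (0, 12), (4, 10), (0, 10), (13, 3), (1, 3), (1, 4), (0, 3)],
  [(0, 3), (0, 2), (0, 12), (0, 2), (0, 12), (0, 12), (0, 2), (0, 2), (0, 12), (0, 12), (0, 12), (0, 12), (0, 12), (0, 2), (0, 12), (0, 2), (0, 12), (4, 10), (0, 10), (13, 3), (1, 3), (1, 3), (0, 4)],
  [(2, 10), (1, 10), (0, 10), (2, 10), (0, 3), (0, 10), (0, 3), (0, 10), (1, 3), (1, 3), (4, 10), (0, 10), (13, 3), (1, 3), (1, 10), (0, 10), (0, 6), (0, 7)],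
  [(2, 10), (1, 10), (0, 10), (2, 10), (0, 3), (0, 10), (0, 3), (0, 10), (1, 3), (1, 3), (4, 10), (0, 10), (13, 3), (1, 3), (1, 10), (0, 10), (0, 7), (0, 6)],
  [(2, 10), (0, 6), (0, 10), (0, 10), (1, 6), (0, 10), (0, 3), (0, 10), (0, 3), (0, 10), (1, 10), (0, 6), (0, 10), (0, 7), (1, 7), (1, 10), (0, 10), (0, 7), (4, 6), (5, 6), (1, 10), (1, 3), (1, 10), (0, 3), (2, 6), (3, 7)],
  [(1, 7), (0, 3), (1, 3), (0, 3), (0, 7), (1, 3), (0, 10), (0, 3), (0, 10), (0, 3), (0, 7), (0, 3), (1, 3), (0, 6), (1, 6), (1, 3), (0, 3), (0, 6), (5, 6), (5, 6), (0, 10), (1, 3), (1, 3), (0, 10), (3, 6), (3, 7)],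
  [(2, 3), (0, 7), (0, 3), (0, 3), (1, 7), (0, 3), (0, 3), (0, 3), (0, 4), (0, 3), (1, 3), (0, 7), (0, 3), (0, 6), (1, 6), (1, 9), (0, 10), (0, 6), (0, 7), (1, 7), (1, 7), (1, 7), (1, 7), (1, 7), (1, 3), (1, 10), (1, 3), (0, 10), (4, 6), (4, 7)],
  [(1, 6), (0, 10), (1, 10), (0, 10), (0, 6), (1, 10), (0, 9), (0, 10), (0, 10), (0, 10), (0, 6), (0, 10), (1, 10), (0, 7), (1, 7), (1, 4), (0, 3), (0, 7), (1, 7), (1, 7), (1, 7), (1, 7), (1, 7), (1, 7), (0, 3), (1, 10), (1, 10), (0, 3), (5, 6), (2, 7)],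
  [(2, 10), (0, 6), (0, 10), (0, 10), (1, 6), (0, 10), (0, 3), (0, 10), (0, 3), (0, 10), (1, 10), (0, 6), (0, 10), (0, 7), (1, 7), (1, 10), (0, 10), (0, 7), (4, 6), (5, 6), (1, 10), (1, 3), (1, 10), (0, 3), (2, 7), (3, 6)],
  [(1, 7), (0, 3), (1, 3), (0, 3), (0, 7), (1, 3), (0, 10), (0, 3), (0, 10), (0, 3), (0, 7), (0, 3), (1, 3), (0, 6), (1, 6), (1, 3), (0, 3), (0, 6), (5, 6), (5, 6), (0, 10), (1, 3), (1, 3), (0, 10), (3, 7), (3, 6)],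
  [(1, 6), (0, 10), (1, 10), (0, 10), (0, 6), (1, 10), (0, 9), (0, 10), (0, 10), (0, 10), (0, 6), (0, 10), (1, 10), (0, 7), (1, 7), (1, 4), (0, 3), (0, 7), (1, 7), (1, 7), (1, 7), (1, 7), (1, 7), (1, 7), (0, 3), (1, 10), (1, 10), (0, 3), (5, 7), (2, 6)],
  [(2, 3), (0, 7), (0, 3), (0, 3), (1, 7), (0, 3), (0, 3), (0, 3), (0, 4), (0, 3), (1, 3), (0, 7), (0, 3), (0, 6), (1, 6), (1, 9), (0, 10), (0, 6), (0, 7), (1, 7), (1, 7), (1, 7), (1, 7), (1, 7), (1, 3), (1, 10), (1, 3), (0, 10), (4, 7), (4, 6)]]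

/-- A matrix. -/
def m11 : List (List (ℕ × ℕ)) := [
  [(0, 9), (0, 6), (0, 6), (0, 1), (0, 6), (0, 6), (0, 6), (0, 1), (0, 6), (0, 6), (0, 6), (0, 1), (0, 6), (0, 6), (0, 6), (0, 1), (0, 6), (0, 5), (1, 5), (1, 5), (1, 5)],
  [(0, 10), (0, 2), (0, 1), (0, 11), (0, 1), (0, 1), (0, 1), (0, 11), (0, 1), (0, 1), (0, 1), (0, 11), (0, 1), (0, 1), (0, 1), (0, 11), (0, 1), (0, 3), (1, 3), (1, 3), (1, 3)],
  [(1, 10), (0, 9), (1, 3), (0, 10), (0, 10), (1, 3), (0, 10), (0, 10), (1, 3), (0, 10), (0, 10), (1, 3), (0, 3), (1, 3), (1, 3), (1, 3)],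
  [(1, 10), (0, 3), (0, 6), (0, 3), (0, 3), (0, 10), (0, 7), (0, 3), (0, 10), (0, 3), (0, 7), (0, 3), (0, 10), (0, 3), (0, 7), (0, 3), (0, 3), (1, 3), (1, 3), (1, 3)],
  [(1, 10), (0, 3), (1, 9), (0, 3), (0, 10), (1, 10), (0, 10), (0, 3), (1, 10), (0, 10), (0, 3), (1, 10), (0, 3), (1, 3), (1, 3), (1, 3)],
  [(1, 10), (0, 10), (1, 3), (0, 9), (0, 10), (1, 3), (0, 10), (0, 10), (1, 3), (0, 10), (0, 10), (1, 3), (0, 3), (1, 3), (1, 3), (1, 3)],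
  [(0, 10), (0, 1), (0, 1), (0, 11), (0, 1), (0, 1), (0, 2), (0, 11), (0, 1), (0, 1), (0, 1), (0, 11), (0, 1), (0, 1), (0, 1), (0, 11), (0, 1), (0, 3), (1, 3), (1, 3), (1, 3)],
  [(1, 10), (0, 3), (0, 7), (0, 3), (0, 3), (0, 10), (0, 6), (0, 3), (0, 10), (0, 3), (0, 7), (0, 3), (0, 10), (0, 3), (0, 7), (0, 3), (0, 3), (1, 3), (1, 3), (1, 3)],
  [(1, 10), (0, 3), (1, 10), (0, 3), (0, 10), (1, 9), (0, 10), (0, 3), (1, 10), (0, 10), (0, 3), (1, 10), (0, 3), (1, 3), (1, 3), (1, 3)],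
  [(0, 10), (0, 1), (0, 1), (0, 11), (0, 1), (0, 1), (0, 1), (0, 11), (0, 1), (0, 2), (0, 1), (0, 11), (0, 1), (0, 1), (0, 1), (0, 11), (0, 1), (0, 3), (1, 3), (1, 3), (1, 3)],
  [(1, 10), (0, 10), (1, 3), (0, 10), (0, 10), (1, 3), (0, 10), (0, 9), (1, 3), (0, 10), (0, 10), (1, 3), (0, 3), (1, 3), (1, 3), (1, 3)],
  [(1, 10), (0, 3), (0, 7), (0, 3), (0, 3), (0, 10), (0, 7), (0, 3), (0, 10), (0, 3), (0, 6), (0, 3), (0, 10), (0, 3), (0, 7), (0, 3), (0, 3), (1, 3), (1, 3), (1, 3)],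
  [(1, 10), (0, 3), (1, 10), (0, 3), (0, 10), (1, 10), (0, 10), (0, 3), (1, 9), (0, 10), (0, 3), (1, 10), (0, 3), (1, 3), (1, 3), (1, 3)],
  [(0, 10), (0, 1), (0, 1), (0, 11), (0, 1), (0, 1), (0, 1), (0, 11), (0, 1), (0, 1), (0, 1), (0, 11), (0, 1), (0, 2), (0, 1), (0, 11), (0, 1), (0, 3), (1, 3), (1, 3), (1, 3)],
  [(1, 10), (0, 10), (1, 3), (0, 10), (0, 10), (1, 3), (0, 10), (0, 10), (1, 3), (0, 10), (0, 9), (1, 3), (0, 3), (1, 3), (1, 3), (1, 3)],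
  [(1, 10), (0, 3), (0, 7), (0, 3), (0, 3), (0, 10), (0, 7), (0, 3), (0, 10), (0, 3), (0, 7), (0, 3), (0, 10), (0, 3), (0, 6), (0, 3), (0, 3), (1, 3), (1, 3), (1, 3)],
  [(1, 10), (0, 3), (1, 10), (0, 3), (0, 10), (1, 10), (0, 10), (0, 3), (1, 10), (0, 10), (0, 3), (1, 9), (0, 3), (1, 3), (1, 3), (1, 3)],
  [(0, 10), (0, 1), (0, 1), (0, 11), (0, 1), (0, 1), (0, 1), (0, 11), (0, 1), (0, 1), (0, 1), (0, 11), (0, 1), (0, 1), (0, 1), (0, 11), (0, 1), (0, 4), (1, 3), (1, 3), (1, 3)],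
  [(1, 10), (0, 3), (0, 7), (0, 3), (0, 3), (0, 10), (0, 7), (0, 3), (0, 10), (0, 3), (0, 7), (0, 3), (0, 10), (0, 3), (0, 7), (0, 3), (0, 3), (0, 12), (0, 3), (1, 3), (1, 3)],
  [(0, 10), (0, 1), (0, 1), (0, 11), (0, 1), (0, 1), (0, 1), (0, 11), (0, 1), (0, 1), (0, 1), (0, 11), (0, 1), (0, 1), (0, 1), (0, 11), (0, 1), (0, 3), (1, 4), (1, 3), (1, 3)],
  [(1, 10), (0, 3), (0, 7), (0, 3), (0, 3), (0, 10), (0, 7), (0, 3), (0, 10), (0, 3), (0, 7), (0, 3), (0, 10), (0, 3), (0, 7), (0, 3), (0, 3), (1, 3), (0, 12), (0, 3), (1, 3)],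
  [(0, 10), (0, 1), (0, 1), (0, 11), (0, 1), (0, 1), (0, 1), (0, 11), (0, 1), (0, 1), (0, 1), (0, 11), (0, 1), (0, 1), (0, 1), (0, 11), (0, 1), (0, 3), (1, 3), (1, 4), (1, 3)],
  [(1, 10), (0, 3), (0, 7), (0, 3), (0, 3), (0, 10), (0, 7), (0, 3), (0, 10), (0, 3), (0, 7), (0, 3), (0, 10), (0, 3), (0, 7), (0, 3), (0, 3), (1, 3), (1, 3), (0, 12), (0, 3)],
  [(0, 10), (0, 1), (0, 1), (0, 11), (0, 1), (0, 1), (0, 1), (0, 11), (0, 1), (0, 1), (0, 1), (0, 11), (0, 1), (0, 1), (0, 1), (0, 11), (0, 1), (0, 3), (1, 3), (1, 3), (1, 4)],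
  [(0, 10), (0, 1), (0, 1), (0, 11), (0, 1), (0, 1), (0, 1), (0, 11), (0, 1), (0, 1), (0, 1), (0, 11), (0, 1), (0, 1), (0, 1), (0, 11), (0, 1), (0, 3), (1, 3), (1, 3), (1, 3), (0, 1)],
  [(1, 10), (0, 10), (1, 3), (0, 10), (0, 10), (1, 3), (0, 10), (0, 10), (1, 3), (0, 10), (0, 10), (1, 3), (0, 3), (1, 3), (1, 3), (1, 3), (1, 12)],
  [(0, 10), (0, 1), (0, 1), (0, 11), (0, 1), (0, 1), (0, 1), (0, 11), (0, 1), (0, 1), (0, 1), (0, 11), (0, 1), (0, 1), (0, 1), (0, 11), (0, 1), (0, 3), (1, 3), (1, 3), (1, 3), (2, 1)],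
  [(1, 10), (0, 10), (1, 3), (0, 10), (0, 10), (1, 3), (0, 10), (0, 10), (1, 3), (0, 10), (0, 10), (1, 3), (0, 3), (1, 3), (1, 3), (1, 3), (3, 12)],
  [(0, 10), (0, 1), (0, 1), (0, 11), (0, 1), (0, 1), (0, 1), (0, 11), (0, 1), (0, 1), (0, 1), (0, 11), (0, 1), (0, 1), (0, 1), (0, 11), (0, 1), (0, 3), (1, 3), (1, 3), (1, 3), (4, 1)],
  [(1, 10), (0, 10), (1, 3), (0, 10), (0, 10), (1, 3), (0, 10), (0, 10), (1, 3), (0, 10), (0, 10), (1, 3), (0, 3), (1, 3), (1, 3), (1, 3), (5, 12)],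
  [(0, 10), (0, 1), (0, 1), (0, 11), (0, 1), (0, 1), (0, 1), (0, 11), (0, 1), (0, 1), (0, 1), (0, 11), (0, 1), (0, 1), (0, 1), (0, 11), (0, 1), (0, 3), (1, 3), (1, 3), (1, 3), (6, 1)],
  [(1, 10), (0, 3), (1, 10), (0, 3), (0, 10), (1, 10), (0, 10), (0, 3), (1, 10), (0, 10), (0, 3), (1, 10), (0, 3), (1, 3), (1, 3), (1, 3), (7, 12)],
  [(0, 10), (0, 1), (0, 1), (0, 11), (0, 1), (0, 1), (0, 1), (0, 11), (0, 1), (0, 1), (0, 1), (0, 11), (0, 1), (0, 1), (0, 1), (0, 11), (0, 1), (0, 3), (1, 3), (1, 3), (1, 3), (8, 1)],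
  [(1, 10), (0, 3), (1, 10), (0, 3), (0, 10), (1, 10), (0, 10), (0, 3), (1, 10), (0, 10), (0, 3), (1, 10), (0, 3), (1, 3), (1, 3), (1, 3), (9, 12)],
  [(0, 10), (0, 1), (0, 1), (0, 11), (0, 1), (0, 1), (0, 1), (0, 11), (0, 1), (0, 1), (0, 1), (0, 11), (0, 1), (0, 1), (0, 1), (0, 11), (0, 1), (0, 3), (1, 3), (1, 3), (1, 3), (10, 1)],
  [(1, 10), (0, 3), (1, 10), (0, 3), (0, 10), (1, 10), (0, 10), (0, 3), (1, 10), (0, 10), (0, 3), (1, 10), (0, 3), (1, 3), (1, 3), (1, 3), (11, 12)],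
  [(1, 10), (0, 3), (0, 7), (0, 3), (0, 3), (0, 3), (0, 7), (0, 3), (0, 10), (0, 3), (0, 7), (0, 3), (0, 3), (0, 3), (0, 7), (0, 3), (0, 3), (1, 9), (1, 3), (1, 9), (0, 7), (3, 7), (1, 7), (3, 7), (1, 12)],
  [(1, 10), (0, 3), (1, 10), (0, 3), (0, 3), (1, 10), (0, 10), (0, 3), (1, 10), (0, 3), (0, 3), (1, 10), (0, 3), (1, 10), (1, 3), (1, 10), (0, 7), (3, 7), (1, 6), (3, 6), (2, 12)],
  [(1, 10), (0, 10), (0, 6), (0, 10), (0, 10), (0, 3), (0, 6), (0, 10), (0, 10), (0, 10), (0, 6), (0, 10), (0, 3), (0, 10), (0, 6), (0, 10), (0, 4), (1, 10), (1, 4), (1, 10), (0, 6), (3, 6), (1, 6), (3, 6), (3, 12)],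
  [(1, 10), (0, 10), (1, 3), (0, 10), (0, 3), (1, 3), (0, 10), (0, 10), (1, 3), (0, 3), (0, 10), (1, 3), (0, 3), (1, 10), (1, 3), (1, 10), (0, 6), (3, 6), (1, 7), (3, 7), (4, 12)],
  [(1, 10), (0, 3), (0, 7), (0, 3), (0, 3), (0, 3), (0, 7), (0, 3), (0, 10), (0, 3), (0, 7), (0, 3), (0, 3), (0, 3), (0, 7), (0, 3), (0, 3), (1, 9), (1, 3), (1, 9), (0, 7), (3, 7), (1, 7), (3, 7), (5, 12)],
  [(1, 10), (0, 10), (0, 6), (0, 10), (0, 10), (0, 3), (0, 6), (0, 10), (0, 10), (0, 10), (0, 6), (0, 10), (0, 3), (0, 10), (0, 6), (0, 10), (0, 4), (1, 10), (1, 4), (1, 10), (0, 6), (3, 6), (1, 6), (3, 6), (6, 12)],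
  [(1, 10), (0, 3), (1, 10), (0, 3), (0, 3), (1, 10), (0, 10), (0, 3), (1, 10), (0, 3), (0, 3), (1, 10), (0, 3), (1, 10), (1, 3), (1, 10), (0, 7), (3, 7), (1, 6), (3, 6), (7, 12)],
  [(1, 10), (0, 10), (1, 3), (0, 10), (0, 3), (1, 3), (0, 10), (0, 10), (1, 3), (0, 3), (0, 10), (1, 3), (0, 3), (1, 10), (1, 3), (1, 10), (0, 6), (3, 6), (1, 7), (3, 7), (8, 12)],
  [(1, 10), (0, 3), (0, 7), (0, 3), (0, 3), (0, 3), (0, 7), (0, 3), (0, 10), (0, 3), (0, 7), (0, 3), (0, 3), (0, 3), (0, 7), (0, 3), (0, 3), (1, 9), (1, 3), (1, 9), (0, 7), (3, 7), (1, 7), (3, 7), (9, 12)],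
  [(1, 10), (0, 3), (1, 10), (0, 3), (0, 3), (1, 10), (0, 10), (0, 3), (1, 10), (0, 3), (0, 3), (1, 10), (0, 3), (1, 10), (1, 3), (1, 10), (0, 7), (3, 7), (1, 6), (3, 6), (10, 12)],
  [(1, 10), (0, 10), (0, 6), (0, 10), (0, 10), (0, 3), (0, 6), (0, 10), (0, 10), (0, 10), (0, 6), (0, 10), (0, 3), (0, 10), (0, 6), (0, 10), (0, 4), (1, 10), (1, 4), (1, 10), (0, 6), (3, 6), (1, 6), (3, 6), (11, 12)],
  [(1, 10), (0, 10), (1, 3), (0, 10), (0, 3), (1, 3), (0, 10), (0, 10), (1, 3), (0, 3), (0, 10), (1, 3), (0, 3), (1, 10), (1, 3), (1, 10), (0, 6), (3, 6), (1, 7), (3, 7), (12, 12)],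
  [(1, 10), (0, 3), (0, 7), (0, 3), (0, 3), (0, 3), (0, 7), (0, 3), (0, 10), (0, 3), (0, 7), (0, 3), (0, 3), (0, 3), (0, 7), (0, 3), (0, 3), (1, 9), (1, 3), (1, 9), (0, 7), (3, 7), (1, 7), (3, 7), (13, 12)],
  [(1, 10), (0, 10), (1, 3), (0, 10), (0, 3), (1, 3), (0, 10), (0, 10), (1, 3), (0, 3), (0, 10), (1, 3), (0, 3), (1, 10), (1, 3), (1, 10), (0, 6), (3, 6), (1, 7), (3, 7), (14, 12)],
  [(1, 10), (0, 3), (1, 10), (0, 3), (0, 3), (1, 10), (0, 10), (0, 3), (1, 10), (0, 3), (0, 3), (1, 10), (0, 3), (1, 10), (1, 3), (1, 10), (0, 7), (3, 7), (1, 6), (3, 6), (15, 12)],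
  [(1, 10), (0, 10), (0, 6), (0, 10), (0, 10), (0, 3), (0, 6), (0, 10), (0, 10), (0, 10), (0, 6), (0, 10), (0, 3), (0, 10), (0, 6), (0, 10), (0, 4), (1, 10), (1, 4), (1, 10), (0, 6), (3, 6), (1, 6), (3, 6), (16, 12)]]

/-- A matrix. -/
def m12 : List (List (ℕ × ℕ)) := [
  [(0, 9), (0, 6), (0, 6), (0, 6), (0, 6), (0, 6), (0, 1), (0, 1), (0, 6), (0, 6), (0, 6), (0, 6), (0, 6), (0, 1), (0, 6), (0, 1), (0, 6), (0, 5), (0, 5), (2, 5), (0, 5)],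
  [(0, 10), (0, 2), (0, 1), (0, 1), (0, 1), (0, 1), (0, 11), (0, 11), (0, 1), (0, 1), (0, 1), (0, 1), (0, 1), (0, 11), (0, 1), (0, 11), (0, 1), (0, 3), (0, 3), (2, 3), (0, 3)],
  [(1, 10), (0, 9), (0, 10), (0, 10), (0, 3), (2, 3), (0, 10), (0, 10), (0, 10), (0, 10), (1, 3), (1, 3), (0, 3), (0, 3), (2, 3), (0, 3)],
  [(0, 10), (0, 1), (0, 1), (0, 2), (0, 1), (0, 1), (0, 11), (0, 11), (0, 1), (0, 1), (0, 1), (0, 1), (0, 1), (0, 11), (0, 1), (0, 11), (0, 1), (0, 3), (0, 3), (2, 3), (0, 3)],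
  [(1, 10), (0, 10), (0, 10), (0, 9), (0, 3), (2, 3), (0, 10), (0, 10), (0, 10), (0, 10), (1, 3), (1, 3), (0, 3), (0, 3), (2, 3), (0, 3)],
  [(1, 10), (0, 3), (0, 10), (0, 3), (0, 9), (2, 10), (0, 10), (0, 3), (0, 10), (0, 3), (1, 10), (1, 10), (0, 3), (0, 3), (2, 3), (0, 3)],
  [(1, 10), (0, 3), (0, 10), (0, 3), (0, 3), (0, 6), (0, 7), (0, 3), (0, 10), (0, 3), (0, 10), (0, 3), (0, 7), (0, 3), (0, 7), (0, 3), (0, 3), (0, 3), (2, 3), (0, 3)],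
  [(1, 10), (0, 3), (0, 10), (0, 3), (0, 3), (0, 7), (0, 6), (0, 3), (0, 10), (0, 3), (0, 10), (0, 3), (0, 7), (0, 3), (0, 7), (0, 3), (0, 3), (0, 3), (2, 3), (0, 3)],
  [(1, 10), (0, 3), (0, 10), (0, 3), (0, 10), (2, 9), (0, 10), (0, 3), (0, 10), (0, 3), (1, 10), (1, 10), (0, 3), (0, 3), (2, 3), (0, 3)],
  [(0, 10), (0, 1), (0, 1), (0, 1), (0, 1), (0, 1), (0, 11), (0, 11), (0, 1), (0, 2), (0, 1), (0, 1), (0, 1), (0, 11), (0, 1), (0, 11), (0, 1), (0, 3), (0, 3), (2, 3), (0, 3)],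
  [(1, 10), (0, 10), (0, 10), (0, 10), (0, 3), (2, 3), (0, 10), (0, 9), (0, 10), (0, 10), (1, 3), (1, 3), (0, 3), (0, 3), (2, 3), (0, 3)],
  [(0, 10), (0, 1), (0, 1), (0, 1), (0, 1), (0, 1), (0, 11), (0, 11), (0, 1), (0, 1), (0, 1), (0, 2), (0, 1), (0, 11), (0, 1), (0, 11), (0, 1), (0, 3), (0, 3), (2, 3), (0, 3)],
  [(1, 10), (0, 10), (0, 10), (0, 10), (0, 3), (2, 3), (0, 10), (0, 10), (0, 10), (0, 9), (1, 3), (1, 3), (0, 3), (0, 3), (2, 3), (0, 3)],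
  [(1, 10), (0, 3), (0, 10), (0, 3), (0, 3), (0, 7), (0, 7), (0, 3), (0, 10), (0, 3), (0, 10), (0, 3), (0, 6), (0, 3), (0, 7), (0, 3), (0, 3), (0, 3), (2, 3), (0, 3)],
  [(1, 10), (0, 3), (0, 10), (0, 3), (0, 10), (2, 10), (0, 10), (0, 3), (0, 10), (0, 3), (1, 9), (1, 10), (0, 3), (0, 3), (2, 3), (0, 3)],
  [(1, 10), (0, 3), (0, 10), (0, 3), (0, 3), (0, 7), (0, 7), (0, 3), (0, 10), (0, 3), (0, 10), (0, 3), (0, 7), (0, 3), (0, 6), (0, 3), (0, 3), (0, 3), (2, 3), (0, 3)],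
  [(1, 10), (0, 3), (0, 10), (0, 3), (0, 10), (2, 10), (0, 10), (0, 3), (0, 10), (0, 3), (1, 10), (1, 9), (0, 3), (0, 3), (2, 3), (0, 3)],
  [(0, 10), (0, 1), (0, 1), (0, 1), (0, 1), (0, 1), (0, 11), (0, 11), (0, 1), (0, 1), (0, 1), (0, 1), (0, 1), (0, 11), (0, 1), (0, 11), (0, 1), (0, 4), (0, 3), (2, 3), (0, 3)],
  [(0, 10), (0, 1), (0, 1), (0, 1), (0, 1), (0, 1), (0, 11), (0, 11), (0, 1), (0, 1), (0, 1), (0, 1), (0, 1), (0, 11), (0, 1), (0, 11), (0, 1), (0, 3), (0, 4), (2, 3), (0, 3)],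
  [(1, 10), (0, 3), (0, 10), (0, 3), (0, 3), (0, 7), (0, 7), (0, 3), (0, 10), (0, 3), (0, 10), (0, 3), (0, 7), (0, 3), (0, 7), (0, 3), (0, 3), (0, 3), (0, 12), (1, 3), (0, 3)],
  [(1, 10), (0, 3), (0, 10), (0, 3), (0, 3), (0, 7), (0, 7), (0, 3), (0, 10), (0, 3), (0, 10), (0, 3), (0, 7), (0, 3), (0, 7), (0, 3), (0, 3), (0, 3), (1, 12), (0, 3), (0, 3)],
  [(0, 10), (0, 1), (0, 1), (0, 1), (0, 1), (0, 1), (0, 11), (0, 11), (0, 1), (0, 1), (0, 1), (0, 1), (0, 1), (0, 11), (0, 1), (0, 11), (0, 1), (0, 3), (0, 3), (2, 4), (0, 3)],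
  [(0, 10), (0, 1), (0, 1), (0, 1), (0, 1), (0, 1), (0, 11), (0, 11), (0, 1), (0, 1), (0, 1), (0, 1), (0, 1), (0, 11), (0, 1), (0, 11), (0, 1), (0, 3), (0, 3), (2, 3), (0, 4)],
  [(1, 10), (0, 3), (0, 10), (0, 3), (0, 3), (0, 7), (0, 7), (0, 3), (0, 10), (0, 3), (0, 10), (0, 3), (0, 7), (0, 3), (0, 7), (0, 3), (0, 3), (0, 3), (2, 3), (0, 3), (0, 12)],
  [(1, 10), (0, 3), (0, 10), (0, 3), (0, 3), (1, 7), (0, 3), (0, 10), (0, 3), (0, 10), (0, 3), (1, 3), (0, 7), (0, 3), (0, 3), (0, 3), (0, 6), (1, 3), (0, 3), (0, 6), (0, 6), (3, 7), (1, 7), (3, 7)],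
  [(1, 3), (0, 10), (0, 3), (0, 10), (0, 10), (0, 6), (1, 10), (0, 3), (0, 10), (0, 3), (0, 10), (0, 6), (0, 10), (1, 10), (0, 10), (0, 10), (0, 7), (1, 10), (0, 10), (0, 7), (1, 6), (3, 7), (1, 7), (3, 7)],
  [(1, 10), (0, 10), (0, 9), (0, 10), (0, 10), (1, 6), (0, 10), (0, 10), (0, 10), (0, 9), (0, 10), (1, 10), (0, 6), (0, 10), (0, 4), (0, 3), (0, 7), (1, 4), (0, 3), (0, 7), (0, 6), (1, 12), (1, 6), (1, 6), (3, 6)],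
  [(1, 4), (0, 3), (0, 3), (0, 3), (0, 3), (0, 7), (1, 3), (0, 4), (0, 3), (0, 3), (0, 3), (0, 7), (0, 3), (1, 3), (0, 9), (0, 10), (0, 6), (1, 9), (0, 10), (0, 6), (1, 6), (1, 12), (1, 6), (1, 6), (3, 6)],
  [(1, 10), (0, 3), (0, 10), (0, 3), (0, 3), (1, 7), (0, 3), (0, 10), (0, 3), (0, 10), (0, 3), (1, 3), (0, 7), (0, 3), (0, 3), (0, 3), (0, 6), (1, 3), (0, 3), (0, 6), (0, 7), (3, 6), (1, 7), (3, 7)],
  [(1, 3), (0, 10), (0, 3), (0, 10), (0, 10), (0, 6), (1, 10), (0, 3), (0, 10), (0, 3), (0, 10), (0, 6), (0, 10), (1, 10), (0, 10), (0, 10), (0, 7), (1, 10), (0, 10), (0, 7), (1, 7), (3, 6), (1, 7), (3, 7)],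
  [(1, 10), (0, 3), (0, 10), (0, 3), (0, 3), (1, 7), (0, 3), (0, 10), (0, 3), (0, 10), (0, 3), (1, 3), (0, 7), (0, 3), (0, 3), (0, 3), (0, 6), (1, 3), (0, 3), (0, 6), (0, 7), (3, 7), (1, 6), (3, 7)],
  [(1, 3), (0, 10), (0, 3), (0, 10), (0, 10), (0, 6), (1, 10), (0, 3), (0, 10), (0, 3), (0, 10), (0, 6), (0, 10), (1, 10), (0, 10), (0, 10), (0, 7), (1, 10), (0, 10), (0, 7), (1, 7), (3, 7), (1, 6), (3, 7)],
  [(1, 10), (0, 10), (0, 9), (0, 10), (0, 10), (1, 6), (0, 10), (0, 10), (0, 10), (0, 9), (0, 10), (1, 10), (0, 6), (0, 10), (0, 4), (0, 3), (0, 7), (1, 4), (0, 3), (0, 7), (0, 6), (3, 6), (1, 6), (1, 12), (1, 6)],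
  [(1, 4), (0, 3), (0, 3), (0, 3), (0, 3), (0, 7), (1, 3), (0, 4), (0, 3), (0, 3), (0, 3), (0, 7), (0, 3), (1, 3), (0, 9), (0, 10), (0, 6), (1, 9), (0, 10), (0, 6), (1, 6), (3, 6), (1, 6), (1, 12), (1, 6)],
  [(1, 10), (0, 3), (0, 10), (0, 3), (0, 3), (1, 7), (0, 3), (0, 10), (0, 3), (0, 10), (0, 3), (1, 3), (0, 7), (0, 3), (0, 3), (0, 3), (0, 6), (1, 3), (0, 3), (0, 6), (0, 7), (3, 7), (1, 7), (3, 6)],
  [(1, 3), (0, 10), (0, 3), (0, 10), (0, 10), (0, 6), (1, 10), (0, 3), (0, 10), (0, 3), (0, 10), (0, 6), (0, 10), (1, 10), (0, 10), (0, 10), (0, 7), (1, 10), (0, 10), (0, 7), (1, 7), (3, 7), (1, 7), (3, 6)],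
  [(0, 10), (0, 1), (0, 1), (0, 1), (0, 1), (0, 1), (0, 11), (0, 11), (0, 1), (0, 1), (0, 1), (0, 1), (0, 1), (0, 11), (0, 1), (0, 11), (0, 1), (0, 3), (0, 3), (2, 3), (0, 3), (13, 1)],
  [(1, 10), (0, 10), (0, 10), (0, 10), (0, 3), (2, 3), (0, 10), (0, 10), (0, 10), (0, 10), (1, 3), (1, 3), (0, 3), (0, 3), (2, 3), (0, 3), (14, 12)],
  [(0, 10), (0, 1), (0, 1), (0, 1), (0, 1), (0, 1), (0, 11), (0, 11), (0, 1), (0, 1), (0, 1), (0, 1), (0, 1), (0, 11), (0, 1), (0, 11), (0, 1), (0, 3), (0, 3), (2, 3), (0, 3), (15, 1)],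
  [(1, 10), (0, 10), (0, 10), (0, 10), (0, 3), (2, 3), (0, 10), (0, 10), (0, 10), (0, 10), (1, 3), (1, 3), (0, 3), (0, 3), (2, 3), (0, 3), (16, 12)],
  [(0, 10), (0, 1), (0, 1), (0, 1), (0, 1), (0, 1), (0, 11), (0, 11), (0, 1), (0, 1), (0, 1), (0, 1), (0, 1), (0, 11), (0, 1), (0, 11), (0, 1), (0, 3), (0, 3), (2, 3), (0, 3), (17, 1)],
  [(0, 10), (0, 1), (0, 1), (0, 1), (0, 1), (0, 1), (0, 11), (0, 11), (0, 1), (0, 1), (0, 1), (0, 1), (0, 1), (0, 11), (0, 1), (0, 11), (0, 1), (0, 3), (0, 3), (2, 3), (0, 3), (18, 1)],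
  [(1, 10), (0, 3), (0, 10), (0, 3), (0, 10), (2, 10), (0, 10), (0, 3), (0, 10), (0, 3), (1, 10), (1, 10), (0, 3), (0, 3), (2, 3), (0, 3), (19, 12)],
  [(1, 10), (0, 3), (0, 10), (0, 3), (0, 10), (2, 10), (0, 10), (0, 3), (0, 10), (0, 3), (1, 10), (1, 10), (0, 3), (0, 3), (2, 3), (0, 3), (20, 12)],
  [(1, 10), (0, 3), (0, 10), (0, 3), (0, 3), (1, 7), (0, 3), (0, 10), (0, 3), (0, 10), (0, 3), (1, 3), (0, 7), (0, 3), (0, 3), (0, 3), (0, 6), (1, 3), (0, 3), (0, 6), (0, 7), (3, 7), (1, 7), (3, 7), (9, 12)],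
  [(1, 3), (0, 10), (0, 3), (0, 10), (0, 10), (0, 6), (1, 10), (0, 3), (0, 10), (0, 3), (0, 10), (0, 6), (0, 10), (1, 10), (0, 10), (0, 10), (0, 7), (1, 10), (0, 10), (0, 7), (1, 7), (3, 7), (1, 7), (3, 7), (9, 12)],
  [(1, 10), (0, 10), (0, 9), (0, 10), (0, 10), (1, 6), (0, 10), (0, 10), (0, 10), (0, 9), (0, 10), (1, 10), (0, 6), (0, 10), (0, 4), (0, 3), (0, 7), (1, 4), (0, 3), (0, 7), (0, 6), (3, 6), (1, 6), (3, 6), (11, 12)],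
  [(1, 4), (0, 3), (0, 3), (0, 3), (0, 3), (0, 7), (1, 3), (0, 4), (0, 3), (0, 3), (0, 3), (0, 7), (0, 3), (1, 3), (0, 9), (0, 10), (0, 6), (1, 9), (0, 10), (0, 6), (1, 6), (3, 6), (1, 6), (3, 6), (11, 12)],
  [(1, 10), (0, 3), (0, 10), (0, 3), (0, 3), (1, 7), (0, 3), (0, 10), (0, 3), (0, 10), (0, 3), (1, 3), (0, 7), (0, 3), (0, 3), (0, 3), (0, 6), (1, 3), (0, 3), (0, 6), (0, 7), (3, 7), (1, 7), (3, 7), (13, 12)],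
  [(1, 3), (0, 10), (0, 3), (0, 10), (0, 10), (0, 6), (1, 10), (0, 3), (0, 10), (0, 3), (0, 10), (0, 6), (0, 10), (1, 10), (0, 10), (0, 10), (0, 7), (1, 10), (0, 10), (0, 7), (1, 7), (3, 7), (1, 7), (3, 7), (13, 12)],
  [(1, 4), (0, 3), (0, 3), (0, 3), (0, 3), (0, 7), (1, 3), (0, 4), (0, 3), (0, 3), (0, 3), (0, 7), (0, 3), (1, 3), (0, 9), (0, 10), (0, 6), (1, 9), (0, 10), (0, 6), (1, 6), (3, 6), (1, 6), (3, 6), (14, 12)],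
  [(1, 10), (0, 10), (0, 9), (0, 10), (0, 10), (1, 6), (0, 10), (0, 10), (0, 10), (0, 9), (0, 10), (1, 10), (0, 6), (0, 10), (0, 4), (0, 3), (0, 7), (1, 4), (0, 3), (0, 7), (0, 6), (3, 6), (1, 6), (3, 6), (16, 12)]]

/-- A matrix. -/
def m13 : List (List (ℕ × ℕ)) := [
  [(0, 9), (0, 6), (0, 6), (0, 6), (0, 6), (0, 6), (0, 6), (0, 6), (0, 6), (0, 1), (0, 6), (0, 1), (0, 6), (0, 1), (0, 6), (0, 1), (0, 6), (0, 5), (0, 5), (0, 5), (0, 5)],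
  [(0, 10), (0, 2), (0, 1), (0, 1), (0, 1), (0, 1), (0, 1), (0, 1), (0, 1), (0, 11), (0, 1), (0, 11), (0, 1), (0, 11), (0, 1), (0, 11), (0, 1), (0, 3), (0, 3), (0, 3), (0, 3)],
  [(1, 10), (0, 9), (0, 10), (0, 10), (0, 10), (0, 10), (0, 10), (0, 10), (1, 3), (1, 3), (1, 3), (1, 3), (0, 3), (0, 3), (0, 3), (0, 3)],
  [(0, 10), (0, 1), (0, 1), (0, 2), (0, 1), (0, 1), (0, 1), (0, 1), (0, 1), (0, 11), (0, 1), (0, 11), (0, 1), (0, 11), (0, 1), (0, 11), (0, 1), (0, 3), (0, 3), (0, 3), (0, 3)],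
  [(1, 10), (0, 10), (0, 10), (0, 9), (0, 10), (0, 10), (0, 10), (0, 10), (1, 3), (1, 3), (1, 3), (1, 3), (0, 3), (0, 3), (0, 3), (0, 3)],
  [(1, 10), (0, 10), (0, 10), (0, 10), (0, 9), (0, 10), (0, 10), (0, 10), (1, 3), (1, 3), (1, 3), (1, 3), (0, 3), (0, 3), (0, 3), (0, 3)],
  [(0, 10), (0, 1), (0, 1), (0, 1), (0, 1), (0, 1), (0, 2), (0, 1), (0, 1), (0, 11), (0, 1), (0, 11), (0, 1), (0, 11), (0, 1), (0, 11), (0, 1), (0, 3), (0, 3), (0, 3), (0, 3)],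
  [(0, 10), (0, 1), (0, 1), (0, 1), (0, 1), (0, 1), (0, 1), (0, 2), (0, 1), (0, 11), (0, 1), (0, 11), (0, 1), (0, 11), (0, 1), (0, 11), (0, 1), (0, 3), (0, 3), (0, 3), (0, 3)],
  [(1, 10), (0, 10), (0, 10), (0, 10), (0, 10), (0, 10), (0, 10), (0, 9), (1, 3), (1, 3), (1, 3), (1, 3), (0, 3), (0, 3), (0, 3), (0, 3)],
  [(1, 10), (0, 3), (0, 10), (0, 3), (0, 3), (0, 10), (0, 10), (0, 3), (0, 6), (0, 3), (0, 7), (0, 3), (0, 7), (0, 3), (0, 7), (0, 3), (0, 3), (0, 3), (0, 3), (0, 3)],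
  [(1, 10), (0, 3), (0, 10), (0, 3), (0, 3), (0, 10), (0, 10), (0, 3), (1, 9), (1, 10), (1, 10), (1, 10), (0, 3), (0, 3), (0, 3), (0, 3)],
  [(1, 10), (0, 3), (0, 10), (0, 3), (0, 3), (0, 10), (0, 10), (0, 3), (0, 7), (0, 3), (0, 6), (0, 3), (0, 7), (0, 3), (0, 7), (0, 3), (0, 3), (0, 3), (0, 3), (0, 3)],
  [(1, 10), (0, 3), (0, 10), (0, 3), (0, 3), (0, 10), (0, 10), (0, 3), (1, 10), (1, 9), (1, 10), (1, 10), (0, 3), (0, 3), (0, 3), (0, 3)],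
  [(1, 10), (0, 3), (0, 10), (0, 3), (0, 3), (0, 10), (0, 10), (0, 3), (0, 7), (0, 3), (0, 7), (0, 3), (0, 6), (0, 3), (0, 7), (0, 3), (0, 3), (0, 3), (0, 3), (0, 3)],
  [(1, 10), (0, 3), (0, 10), (0, 3), (0, 3), (0, 10), (0, 10), (0, 3), (1, 10), (1, 10), (1, 9), (1, 10), (0, 3), (0, 3), (0, 3), (0, 3)],
  [(1, 10), (0, 3), (0, 10), (0, 3), (0, 3), (0, 10), (0, 10), (0, 3), (0, 7), (0, 3), (0, 7), (0, 3), (0, 7), (0, 3), (0, 6), (0, 3), (0, 3), (0, 3), (0, 3), (0, 3)],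
  [(1, 10), (0, 3), (0, 10), (0, 3), (0, 3), (0, 10), (0, 10), (0, 3), (1, 10), (1, 10), (1, 10), (1, 9), (0, 3), (0, 3), (0, 3), (0, 3)],
  [(0, 10), (0, 1), (0, 1), (0, 1), (0, 1), (0, 1), (0, 1), (0, 1), (0, 1), (0, 11), (0, 1), (0, 11), (0, 1), (0, 11), (0, 1), (0, 11), (0, 1), (0, 4), (0, 3), (0, 3), (0, 3)],
  [(0, 10), (0, 1), (0, 1), (0, 1), (0, 1), (0, 1), (0, 1), (0, 1), (0, 1), (0, 11), (0, 1), (0, 11), (0, 1), (0, 11), (0, 1), (0, 11), (0, 1), (0, 3), (0, 4), (0, 3), (0, 3)],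
  [(0, 10), (0, 1), (0, 1), (0, 1), (0, 1), (0, 1), (0, 1), (0, 1), (0, 1), (0, 11), (0, 1), (0, 11), (0, 1), (0, 11), (0, 1), (0, 11), (0, 1), (0, 3), (0, 3), (0, 4), (0, 3)],
  [(0, 10), (0, 1), (0, 1), (0, 1), (0, 1), (0, 1), (0, 1), (0, 1), (0, 1), (0, 11), (0, 1), (0, 11), (0, 1), (0, 11), (0, 1), (0, 11), (0, 1), (0, 3), (0, 3), (0, 3), (0, 4)],
  [(1, 10), (0, 3), (0, 10), (0, 3), (0, 3), (0, 10), (0, 10), (0, 3), (0, 7), (0, 3), (0, 7), (0, 3), (0, 7), (0, 3), (0, 7), (0, 3), (0, 3), (0, 3), (0, 3), (0, 3), (0, 12)],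
  [(1, 10), (0, 3), (0, 10), (0, 3), (0, 3), (0, 10), (0, 10), (0, 3), (0, 7), (0, 3), (0, 7), (0, 3), (0, 7), (0, 3), (0, 7), (0, 3), (0, 3), (0, 3), (0, 3), (0, 3), (1, 12)],
  [(1, 10), (0, 3), (0, 10), (0, 3), (0, 3), (0, 10), (0, 10), (0, 3), (0, 7), (0, 3), (0, 7), (0, 3), (0, 7), (0, 3), (0, 7), (0, 3), (0, 3), (0, 3), (0, 3), (0, 3), (2, 12)],
  [(1, 10), (0, 3), (0, 10), (0, 3), (0, 3), (0, 10), (0, 10), (0, 3), (1, 3), (0, 7), (0, 3), (1, 3), (0, 7), (0, 3), (0, 3), (0, 3), (0, 3), (0, 3), (0, 6), (1, 6), (0, 6), (1, 7), (3, 7), (1, 7)],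
  [(1, 3), (0, 10), (0, 3), (0, 10), (0, 10), (0, 3), (0, 3), (0, 10), (0, 6), (0, 10), (1, 10), (0, 6), (0, 10), (1, 10), (0, 10), (0, 10), (0, 10), (0, 10), (0, 7), (1, 7), (1, 6), (1, 7), (3, 7), (1, 7)],
  [(1, 10), (0, 3), (0, 10), (0, 3), (0, 3), (0, 10), (0, 10), (0, 3), (1, 3), (0, 7), (0, 3), (1, 3), (0, 7), (0, 3), (0, 3), (0, 3), (0, 3), (0, 3), (0, 6), (1, 6), (0, 7), (1, 6), (3, 7), (1, 7)],
  [(1, 3), (0, 10), (0, 3), (0, 10), (0, 10), (0, 3), (0, 3), (0, 10), (0, 6), (0, 10), (1, 10), (0, 6), (0, 10), (1, 10), (0, 10), (0, 10), (0, 10), (0, 10), (0, 7), (1, 7), (1, 7), (1, 6), (3, 7), (1, 7)],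
  [(1, 10), (0, 10), (0, 9), (0, 10), (0, 10), (0, 10), (0, 9), (0, 10), (1, 10), (0, 6), (0, 10), (1, 10), (0, 6), (0, 10), (0, 4), (0, 3), (0, 4), (0, 3), (0, 7), (1, 7), (0, 6), (1, 6), (1, 12), (1, 6), (1, 6)],
  [(1, 4), (0, 3), (0, 3), (0, 3), (0, 3), (0, 4), (0, 3), (0, 3), (0, 7), (0, 3), (1, 3), (0, 7), (0, 3), (1, 3), (0, 9), (0, 10), (0, 9), (0, 10), (0, 6), (1, 6), (1, 6), (1, 6), (1, 12), (1, 6), (1, 6)],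
  [(1, 10), (0, 3), (0, 10), (0, 3), (0, 3), (0, 10), (0, 10), (0, 3), (1, 3), (0, 7), (0, 3), (1, 3), (0, 7), (0, 3), (0, 3), (0, 3), (0, 3), (0, 3), (0, 6), (1, 6), (0, 7), (1, 7), (3, 6), (1, 7)],
  [(1, 3), (0, 10), (0, 3), (0, 10), (0, 10), (0, 3), (0, 3), (0, 10), (0, 6), (0, 10), (1, 10), (0, 6), (0, 10), (1, 10), (0, 10), (0, 10), (0, 10), (0, 10), (0, 7), (1, 7), (1, 7), (1, 7), (3, 6), (1, 7)],
  [(1, 10), (0, 3), (0, 10), (0, 3), (0, 3), (0, 10), (0, 10), (0, 3), (1, 3), (0, 7), (0, 3), (1, 3), (0, 7), (0, 3), (0, 3), (0, 3), (0, 3), (0, 3), (0, 6), (1, 6), (0, 7), (1, 7), (3, 7), (1, 6)],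
  [(1, 3), (0, 10), (0, 3), (0, 10), (0, 10), (0, 3), (0, 3), (0, 10), (0, 6), (0, 10), (1, 10), (0, 6), (0, 10), (1, 10), (0, 10), (0, 10), (0, 10), (0, 10), (0, 7), (1, 7), (1, 7), (1, 7), (3, 7), (1, 6)],
  [(1, 10), (0, 10), (0, 9), (0, 10), (0, 10), (0, 10), (0, 9), (0, 10), (1, 10), (0, 6), (0, 10), (1, 10), (0, 6), (0, 10), (0, 4), (0, 3), (0, 4), (0, 3), (0, 7), (1, 7), (0, 6), (1, 6), (3, 6), (1, 6), (1, 12)],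
  [(1, 4), (0, 3), (0, 3), (0, 3), (0, 3), (0, 4), (0, 3), (0, 3), (0, 7), (0, 3), (1, 3), (0, 7), (0, 3), (1, 3), (0, 9), (0, 10), (0, 9), (0, 10), (0, 6), (1, 6), (1, 6), (1, 6), (3, 6), (1, 6), (1, 12)],
  [(1, 10), (0, 3), (0, 10), (0, 3), (0, 3), (0, 10), (0, 10), (0, 3), (1, 3), (1, 3), (0, 7), (0, 3), (0, 7), (0, 3), (0, 3), (0, 3), (0, 3), (0, 3), (0, 6), (0, 6), (13, 6), (1, 7), (1, 7), (0, 7)],
  [(1, 3), (0, 10), (0, 3), (0, 10), (0, 10), (0, 3), (0, 3), (0, 10), (0, 6), (0, 10), (0, 6), (0, 10), (1, 10), (1, 10), (0, 10), (0, 10), (0, 10), (0, 10), (0, 7), (0, 7), (14, 6), (1, 7), (2, 7), (0, 7)],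
  [(1, 10), (0, 3), (0, 10), (0, 3), (0, 3), (0, 10), (0, 10), (0, 3), (1, 3), (1, 3), (0, 7), (0, 3), (0, 7), (0, 3), (0, 3), (0, 3), (0, 3), (0, 3), (0, 6), (0, 6), (13, 7), (1, 6), (1, 7), (0, 7)],
  [(1, 3), (0, 10), (0, 3), (0, 10), (0, 10), (0, 3), (0, 3), (0, 10), (0, 6), (0, 10), (0, 6), (0, 10), (1, 10), (1, 10), (0, 10), (0, 10), (0, 10), (0, 10), (0, 7), (0, 7), (14, 7), (1, 6), (2, 7), (0, 7)],
  [(1, 10), (0, 3), (0, 10), (0, 3), (0, 3), (0, 10), (0, 10), (0, 3), (1, 3), (1, 3), (0, 7), (0, 3), (0, 7), (0, 3), (0, 3), (0, 3), (0, 3), (0, 3), (0, 6), (0, 6), (13, 7), (1, 7), (1, 6), (0, 7)],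
  [(1, 10), (0, 3), (0, 10), (0, 3), (0, 3), (0, 10), (0, 10), (0, 3), (1, 3), (1, 3), (0, 7), (0, 3), (0, 7), (0, 3), (0, 3), (0, 3), (0, 3), (0, 3), (0, 6), (0, 6), (13, 7), (1, 7), (1, 7), (0, 6)],
  [(1, 3), (0, 10), (0, 3), (0, 10), (0, 10), (0, 3), (0, 3), (0, 10), (0, 6), (0, 10), (0, 6), (0, 10), (1, 10), (1, 10), (0, 10), (0, 10), (0, 10), (0, 10), (0, 7), (0, 7), (14, 7), (1, 7), (2, 6), (0, 7)],
  [(1, 3), (0, 10), (0, 3), (0, 10), (0, 10), (0, 3), (0, 3), (0, 10), (0, 6), (0, 10), (0, 6), (0, 10), (1, 10), (1, 10), (0, 10), (0, 10), (0, 10), (0, 10), (0, 7), (0, 7), (14, 7), (1, 7), (2, 7), (0, 6)],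
  [(1, 3), (0, 10), (0, 3), (0, 10), (0, 10), (0, 3), (0, 3), (0, 10), (0, 6), (0, 10), (1, 10), (1, 10), (0, 6), (0, 10), (0, 10), (0, 10), (0, 10), (0, 10), (1, 7), (0, 7), (20, 6), (1, 7), (1, 7), (2, 7)],
  [(1, 10), (0, 3), (0, 10), (0, 3), (0, 3), (0, 10), (0, 10), (0, 3), (1, 3), (0, 7), (0, 3), (0, 7), (0, 3), (1, 3), (0, 3), (0, 3), (0, 3), (0, 3), (1, 6), (0, 6), (21, 6), (1, 7), (1, 7), (0, 7)],
  [(1, 3), (0, 10), (0, 3), (0, 10), (0, 10), (0, 3), (0, 3), (0, 10), (0, 6), (0, 10), (1, 10), (1, 10), (0, 6), (0, 10), (0, 10), (0, 10), (0, 10), (0, 10), (1, 7), (0, 7), (20, 7), (1, 6), (1, 7), (2, 7)],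
  [(1, 10), (0, 3), (0, 10), (0, 3), (0, 3), (0, 10), (0, 10), (0, 3), (1, 3), (0, 7), (0, 3), (0, 7), (0, 3), (1, 3), (0, 3), (0, 3), (0, 3), (0, 3), (1, 6), (0, 6), (21, 7), (1, 6), (1, 7), (0, 7)],
  [(1, 3), (0, 10), (0, 3), (0, 10), (0, 10), (0, 3), (0, 3), (0, 10), (0, 6), (0, 10), (1, 10), (1, 10), (0, 6), (0, 10), (0, 10), (0, 10), (0, 10), (0, 10), (1, 7), (0, 7), (20, 7), (1, 7), (1, 6), (2, 7)],
  [(1, 10), (0, 3), (0, 10), (0, 3), (0, 3), (0, 10), (0, 10), (0, 3), (1, 3), (0, 7), (0, 3), (0, 7), (0, 3), (1, 3), (0, 3), (0, 3), (0, 3), (0, 3), (1, 6), (0, 6), (21, 7), (1, 7), (1, 6), (0, 7)],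
  [(1, 10), (0, 3), (0, 10), (0, 3), (0, 3), (0, 10), (0, 10), (0, 3), (1, 3), (0, 7), (0, 3), (0, 7), (0, 3), (1, 3), (0, 3), (0, 3), (0, 3), (0, 3), (1, 6), (0, 6), (21, 7), (1, 7), (1, 7), (0, 6)],
  [(1, 3), (0, 10), (0, 3), (0, 10), (0, 10), (0, 3), (0, 3), (0, 10), (0, 6), (0, 10), (1, 10), (1, 10), (0, 6), (0, 10), (0, 10), (0, 10), (0, 10), (0, 10), (1, 7), (0, 7), (20, 7), (1, 7), (1, 7), (2, 6)]]

/-- A matrix. -/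
def m14 : List (List (ℕ × ℕ)) := [
  [(0, 9), (0, 1), (0, 6), (0, 1), (0, 6), (0, 6), (0, 1), (0, 1), (0, 6), (0, 1), (0, 6), (0, 1), (0, 6), (0, 1), (0, 6), (0, 1), (0, 6)],
  [(0, 3), (0, 3), (0, 12), (0, 2), (0, 12), (0, 12), (0, 2), (0, 2), (0, 12), (0, 2), (0, 12), (0, 2), (0, 12), (0, 2), (0, 12), (0, 2), (0, 12)],
  [(2, 9), (1, 10), (0, 10), (2, 10), (1, 10), (1, 10), (1, 10), (1, 10)],
  [(0, 3), (0, 2), (0, 12), (0, 3), (0, 12), (0, 12), (0, 2), (0, 2), (0, 12), (0, 2), (0, 12), (0, 2), (0, 12), (0, 2), (0, 12), (0, 2), (0, 12)],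
  [(2, 10), (1, 9), (0, 10), (2, 10), (1, 10), (1, 10), (1, 10), (1, 10)],
  [(2, 10), (1, 10), (0, 9), (2, 10), (1, 10), (1, 10), (1, 10), (1, 10)],
  [(0, 3), (0, 2), (0, 12), (0, 2), (0, 12), (0, 12), (0, 3), (0, 2), (0, 12), (0, 2), (0, 12), (0, 2), (0, 12), (0, 2), (0, 12), (0, 2), (0, 12)],
  [(0, 3), (0, 2), (0, 12), (0, 2), (0, 12), (0, 12), (0, 2), (0, 3), (0, 12), (0, 2), (0, 12), (0, 2), (0, 12), (0, 2), (0, 12), (0, 2), (0, 12)],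
  [(2, 10), (1, 10), (0, 10), (2, 9), (1, 10), (1, 10), (1, 10), (1, 10)],
  [(0, 3), (0, 2), (0, 12), (0, 2), (0, 12), (0, 12), (0, 2), (0, 2), (0, 12), (0, 3), (0, 12), (0, 2), (0, 12), (0, 2), (0, 12), (0, 2), (0, 12)],
  [(2, 10), (1, 10), (0, 10), (2, 10), (1, 9), (1, 10), (1, 10), (1, 10)],
  [(0, 3), (0, 2), (0, 12), (0, 2), (0, 12), (0, 12), (0, 2), (0, 2), (0, 12), (0, 2), (0, 12), (0, 3), (0, 12), (0, 2), (0, 12), (0, 2), (0, 12)],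
  [(2, 10), (1, 10), (0, 10), (2, 10), (1, 10), (1, 9), (1, 10), (1, 10)],
  [(0, 3), (0, 2), (0, 12), (0, 2), (0, 12), (0, 12), (0, 2), (0, 2), (0, 12), (0, 2), (0, 12), (0, 2), (0, 12), (0, 3), (0, 12), (0, 2), (0, 12)],
  [(2, 10), (1, 10), (0, 10), (2, 10), (1, 10), (1, 10), (1, 9), (1, 10)],
  [(0, 3), (0, 2), (0, 12), (0, 2), (0, 12), (0, 12), (0, 2), (0, 2), (0, 12), (0, 2), (0, 12), (0, 2), (0, 12), (0, 2), (0, 12), (0, 3), (0, 12)],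
  [(2, 10), (1, 10), (0, 10), (2, 10), (1, 10), (1, 10), (1, 10), (1, 9)],
  [(0, 3), (0, 2), (0, 12), (0, 2), (0, 12), (0, 12), (0, 2), (0, 2), (0, 12), (0, 2), (0, 12), (0, 2), (0, 12), (0, 2), (0, 12), (0, 2), (0, 12), (0, 1)],
  [(0, 3), (0, 2), (0, 12), (0, 2), (0, 12), (0, 12), (0, 2), (0, 2), (0, 12), (0, 2), (0, 12), (0, 2), (0, 12), (0, 2), (0, 12), (0, 2), (0, 12), (1, 1)],
  [(0, 3), (0, 2), (0, 12), (0, 2), (0, 12), (0, 12), (0, 2), (0, 2), (0, 12), (0, 2), (0, 12), (0, 2), (0, 12), (0, 2), (0, 12), (0, 2), (0, 12), (2, 1)],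
  [(0, 3), (0, 2), (0, 12), (0, 2), (0, 12), (0, 12), (0, 2), (0, 2), (0, 12), (0, 2), (0, 12), (0, 2), (0, 12), (0, 2), (0, 12), (0, 2), (0, 12), (3, 1)],
  [(0, 3), (0, 2), (0, 12), (0, 2), (0, 12), (0, 12), (0, 2), (0, 2), (0, 12), (0, 2), (0, 12), (0, 2), (0, 12), (0, 2), (0, 12), (0, 2), (0, 12), (4, 1)],
  [(0, 3), (0, 2), (0, 12), (0, 2), (0, 12), (0, 12), (0, 2), (0, 2), (0, 12), (0, 2), (0, 12), (0, 2), (0, 12), (0, 2), (0, 12), (0, 2), (0, 12), (5, 1)],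
  [(0, 3), (0, 2), (0, 12), (0, 2), (0, 12), (0, 12), (0, 2), (0, 2), (0, 12), (0, 2), (0, 12), (0, 2), (0, 12), (0, 2), (0, 12), (0, 2), (0, 12), (6, 1)],
  [(2, 10), (0, 6), (0, 10), (0, 10), (1, 6), (0, 10), (1, 10), (0, 6), (0, 10), (1, 10), (0, 6), (0, 10), (0, 7), (1, 7), (1, 7), (1, 7), (0, 12)],
  [(1, 7), (0, 3), (1, 3), (0, 3), (0, 7), (1, 3), (0, 7), (0, 3), (1, 3), (0, 7), (0, 3), (1, 3), (0, 6), (1, 6), (1, 6), (1, 6), (1, 12)],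
  [(2, 10), (0, 6), (0, 10), (0, 10), (1, 6), (0, 10), (1, 10), (0, 6), (0, 10), (1, 10), (0, 6), (0, 10), (0, 7), (1, 7), (1, 7), (1, 7), (2, 12)],
  [(1, 7), (0, 3), (1, 3), (0, 3), (0, 7), (1, 3), (0, 7), (0, 3), (1, 3), (0, 7), (0, 3), (1, 3), (0, 6), (1, 6), (1, 6), (1, 6), (3, 12)],
  [(2, 10), (0, 6), (0, 10), (0, 10), (1, 6), (0, 10), (1, 10), (0, 6), (0, 10), (1, 10), (0, 6), (0, 10), (0, 7), (1, 7), (1, 7), (1, 7), (4, 12)],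
  [(1, 7), (0, 3), (1, 3), (0, 3), (0, 7), (1, 3), (0, 7), (0, 3), (1, 3), (0, 7), (0, 3), (1, 3), (0, 6), (1, 6), (1, 6), (1, 6), (5, 12)],
  [(2, 10), (0, 6), (0, 10), (0, 10), (1, 6), (0, 10), (1, 10), (0, 6), (0, 10), (1, 10), (0, 6), (0, 10), (0, 7), (1, 7), (1, 7), (1, 7), (6, 12)],
  [(1, 7), (0, 3), (1, 3), (0, 3), (0, 7), (1, 3), (0, 7), (0, 3), (1, 3), (0, 7), (0, 3), (1, 3), (0, 6), (1, 6), (1, 6), (1, 6), (7, 12)],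
  [(2, 10), (0, 6), (0, 10), (0, 10), (1, 6), (0, 10), (1, 10), (0, 6), (0, 10), (1, 10), (0, 6), (0, 10), (0, 7), (1, 7), (1, 7), (1, 7), (8, 12)],
  [(1, 7), (0, 3), (1, 3), (0, 3), (0, 7), (1, 3), (0, 7), (0, 3), (1, 3), (0, 7), (0, 3), (1, 3), (0, 6), (1, 6), (1, 6), (1, 6), (9, 12)],
  [(2, 10), (0, 6), (0, 10), (0, 10), (1, 6), (0, 10), (1, 10), (0, 6), (0, 10), (1, 10), (0, 6), (0, 10), (0, 7), (1, 7), (1, 7), (1, 7), (10, 12)],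
  [(1, 7), (0, 3), (1, 3), (0, 3), (0, 7), (1, 3), (0, 7), (0, 3), (1, 3), (0, 7), (0, 3), (1, 3), (0, 6), (1, 6), (1, 6), (1, 6), (11, 12)],
  [(2, 10), (1, 10), (0, 10), (0, 6), (0, 6), (0, 10), (1, 10), (1, 10), (0, 6), (0, 10), (0, 6), (0, 10), (0, 7), (0, 7), (2, 7), (0, 7), (13, 12)],
  [(1, 7), (0, 3), (0, 7), (0, 3), (0, 3), (2, 3), (0, 7), (0, 3), (0, 7), (0, 3), (1, 3), (1, 3), (0, 6), (0, 6), (2, 6), (0, 6), (14, 12)],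
  [(2, 10), (1, 10), (0, 10), (0, 6), (0, 6), (0, 10), (1, 10), (1, 10), (0, 6), (0, 10), (0, 6), (0, 10), (0, 7), (0, 7), (2, 7), (0, 7), (15, 12)],
  [(1, 7), (0, 3), (0, 7), (0, 3), (0, 3), (2, 3), (0, 7), (0, 3), (0, 7), (0, 3), (1, 3), (1, 3), (0, 6), (0, 6), (2, 6), (0, 6), (16, 12)],
  [(2, 10), (1, 10), (0, 10), (0, 6), (0, 6), (0, 10), (1, 10), (1, 10), (0, 6), (0, 10), (0, 6), (0, 10), (0, 7), (0, 7), (2, 7), (0, 7), (17, 12)],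
  [(2, 10), (1, 10), (0, 10), (0, 6), (0, 6), (0, 10), (1, 10), (1, 10), (0, 6), (0, 10), (0, 6), (0, 10), (0, 7), (0, 7), (2, 7), (0, 7), (18, 12)],
  [(1, 7), (0, 3), (0, 7), (0, 3), (0, 3), (2, 3), (0, 7), (0, 3), (0, 7), (0, 3), (1, 3), (1, 3), (0, 6), (0, 6), (2, 6), (0, 6), (19, 12)],
  [(1, 7), (0, 3), (0, 7), (0, 3), (0, 3), (2, 3), (0, 7), (0, 3), (0, 7), (0, 3), (1, 3), (1, 3), (0, 6), (0, 6), (2, 6), (0, 6), (20, 12)],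
  [(1, 7), (0, 3), (1, 3), (0, 3), (1, 7), (0, 3), (0, 7), (0, 3), (1, 3), (1, 3), (0, 7), (0, 3), (1, 6), (0, 6), (2, 6), (0, 6), (20, 12)],
  [(2, 10), (0, 6), (0, 10), (0, 10), (0, 6), (1, 10), (1, 10), (0, 6), (0, 10), (0, 6), (0, 10), (1, 10), (1, 7), (0, 7), (2, 7), (0, 7), (21, 12)],
  [(1, 7), (0, 3), (1, 3), (0, 3), (1, 7), (0, 3), (0, 7), (0, 3), (1, 3), (1, 3), (0, 7), (0, 3), (1, 6), (0, 6), (2, 6), (0, 6), (22, 12)],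
  [(2, 10), (0, 6), (0, 10), (0, 10), (0, 6), (1, 10), (1, 10), (0, 6), (0, 10), (0, 6), (0, 10), (1, 10), (1, 7), (0, 7), (2, 7), (0, 7), (23, 12)],
  [(1, 7), (0, 3), (1, 3), (0, 3), (1, 7), (0, 3), (0, 7), (0, 3), (1, 3), (1, 3), (0, 7), (0, 3), (1, 6), (0, 6), (2, 6), (0, 6), (24, 12)],
  [(2, 10), (0, 6), (0, 10), (0, 10), (0, 6), (1, 10), (1, 10), (0, 6), (0, 10), (0, 6), (0, 10), (1, 10), (1, 7), (0, 7), (2, 7), (0, 7), (25, 12)],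
  [(2, 10), (0, 6), (0, 10), (0, 10), (0, 6), (1, 10), (1, 10), (0, 6), (0, 10), (0, 6), (0, 10), (1, 10), (1, 7), (0, 7), (2, 7), (0, 7), (26, 12)],
  [(1, 7), (0, 3), (1, 3), (0, 3), (1, 7), (0, 3), (0, 7), (0, 3), (1, 3), (1, 3), (0, 7), (0, 3), (1, 6), (0, 6), (2, 6), (0, 6), (27, 12)]]

/-- A matrix. -/
def m15 : List (List (ℕ × ℕ)) := [
  [(0, 1)],
  [(1, 1)],
  [(2, 1)],
  [(38, 1)],
  [(39, 1)],
  [(27, 1)],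
  [(26, 1)],
  [(46, 1)],
  [(47, 1)],
  [(9, 1)],
  [(10, 1)],
  [(1, 7), (0, 7), (0, 6), (0, 7), (2, 12), (1, 7), (0, 7), (0, 6), (0, 7), (2, 12), (1, 7), (0, 7), (2, 7), (0, 7), (1, 6), (0, 6), (2, 6), (0, 6), (0, 6), (0, 6), (2, 6), (0, 6), (2, 12)],
  [(1, 7), (0, 7), (0, 7), (0, 6), (3, 12), (0, 7), (0, 7), (0, 7), (0, 6), (3, 12), (0, 6), (0, 6), (2, 6), (0, 6), (1, 6), (0, 6), (2, 6), (0, 6), (0, 7), (0, 7), (2, 7), (0, 7), (3, 12)],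
  [(2, 1), (0, 12), (1, 1), (1, 12), (2, 1), (0, 12), (2, 1), (0, 12), (1, 1), (1, 1), (1, 1), (1, 1), (0, 12), (1, 12), (1, 12)],
  [(1, 1), (2, 12), (1, 1), (1, 12), (0, 1), (2, 12), (0, 1), (2, 12), (0, 12), (1, 12), (1, 12), (1, 12), (1, 12), (1, 12), (1, 12)],
  [(1, 7), (0, 7), (0, 6), (0, 6), (4, 7), (0, 7), (0, 6), (0, 6), (4, 7), (0, 6), (2, 7), (0, 6), (1, 6), (0, 6), (2, 6), (0, 6), (0, 6), (0, 7), (2, 6), (0, 7), (10, 12)],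
  [(1, 7), (0, 7), (0, 6), (0, 6), (4, 7), (0, 7), (0, 6), (0, 6), (4, 6), (0, 7), (2, 6), (0, 7), (1, 6), (0, 6), (2, 6), (0, 6), (0, 7), (0, 6), (2, 7), (0, 6), (11, 12)],
  [(17, 1)],
  [(41, 1)],
  [(32, 1)],
  [(51, 1)],
  [(21, 1)],
  [(1, 6), (0, 7), (0, 6), (0, 7), (0, 1), (0, 12), (0, 12), (0, 1), (0, 6), (0, 7), (0, 6), (0, 7), (0, 12), (0, 1), (0, 12), (0, 1), (0, 8), (0, 7), (0, 1), (1, 8), (0, 7), (0, 1), (0, 6), (0, 7), (2, 6), (0, 7), (0, 6), (0, 7), (2, 6), (0, 7), (5, 12)],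
  [(3, 12), (0, 1), (2, 12), (0, 1), (2, 12), (0, 1), (2, 12), (0, 1), (0, 1), (1, 1), (1, 1), (1, 1), (6, 12), (1, 12), (1, 12)],
  [(24, 1)],
  [(25, 1)],
  [(6, 1)],
  [(5, 1)],
  [(28, 1)],
  [(29, 1)],
  [(30, 1)],
  [(49, 1)],
  [(19, 1)],
  [(43, 1)],
  [(34, 1)],
  [(1, 6), (0, 7), (0, 6), (0, 7), (0, 1), (0, 12), (2, 6), (0, 7), (0, 6), (0, 7), (0, 12), (0, 1), (2, 7), (0, 7), (0, 1), (1, 7), (0, 7), (0, 1), (0, 6), (0, 7), (2, 6), (0, 7), (0, 7), (0, 7), (2, 7), (0, 7), (13, 12)],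
  [(36, 1)],
  [(37, 1)],
  [(3, 1)],
  [(4, 1)],
  [(40, 1)],
  [(18, 1)],
  [(50, 1)],
  [(33, 1)],
  [(44, 1)],
  [(45, 1)],
  [(7, 1)],
  [(8, 1)],
  [(48, 1)],
  [(31, 1)],
  [(42, 1)],
  [(20, 1)]]

/-- A matrix. -/
def m16 : List (List (ℕ × ℕ)) := [
  [(0, 1)],
  [(1, 1)],
  [(2, 1)],
  [(1, 10), (0, 10), (0, 9), (0, 10), (0, 10), (0, 10), (0, 10), (0, 10), (2, 12), (5, 10), (0, 10), (0, 10), (0, 10), (3, 3), (0, 3), (0, 3), (0, 3), (2, 3), (0, 3), (0, 3), (0, 3), (2, 10), (0, 10), (0, 10), (0, 10), (0, 10), (0, 10), (0, 10), (0, 10), (0, 3), (0, 3), (0, 3), (0, 3), (0, 3), (0, 3), (0, 3), (0, 3)],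
  [(1, 10), (0, 10), (0, 10), (0, 9), (0, 10), (0, 10), (0, 10), (0, 10), (3, 12), (4, 3), (0, 3), (0, 3), (0, 3), (3, 3), (0, 3), (0, 3), (0, 3), (2, 10), (0, 10), (0, 10), (0, 10), (2, 10), (0, 10), (0, 10), (0, 10), (0, 3), (0, 3), (0, 3), (0, 3), (0, 3), (0, 3), (0, 3), (0, 3), (0, 10), (0, 10), (0, 10), (0, 10)],
  [(5, 1)],
  [(6, 1)],
  [(1, 10), (0, 10), (0, 10), (0, 10), (0, 10), (0, 10), (0, 9), (0, 10), (6, 12), (1, 10), (0, 10), (0, 10), (0, 10), (3, 3), (0, 3), (0, 3), (0, 3), (2, 3), (0, 3), (0, 3), (0, 3), (2, 3), (0, 3), (0, 3), (0, 3), (0, 3), (0, 3), (0, 3), (0, 3), (0, 10), (0, 10), (0, 10), (0, 10), (0, 10), (0, 10), (0, 10), (0, 10)],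
  [(1, 10), (0, 10), (0, 10), (0, 10), (0, 10), (0, 10), (0, 10), (0, 9), (7, 12), (0, 3), (0, 3), (0, 3), (0, 3), (3, 3), (0, 3), (0, 3), (0, 3), (2, 10), (0, 10), (0, 10), (0, 10), (2, 3), (0, 3), (0, 3), (0, 3), (0, 10), (0, 10), (0, 10), (0, 10), (0, 10), (0, 10), (0, 10), (0, 10), (0, 3), (0, 3), (0, 3), (0, 3)],
  [(28, 1)],
  [(29, 1)],
  [(1, 10), (0, 10), (0, 3), (0, 3), (0, 10), (0, 10), (0, 3), (0, 3), (8, 10), (0, 3), (0, 10), (0, 3), (3, 3), (0, 3), (0, 3), (0, 3), (2, 3), (0, 10), (0, 3), (0, 10), (2, 10), (0, 10), (0, 3), (0, 3), (0, 10), (0, 3), (0, 10), (0, 3), (0, 3), (0, 3), (0, 10), (0, 10), (0, 3), (0, 10), (0, 3), (0, 10)],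
  [(1, 10), (0, 10), (0, 3), (0, 3), (0, 10), (0, 10), (0, 3), (0, 3), (8, 3), (0, 10), (0, 3), (0, 10), (3, 3), (0, 3), (0, 3), (0, 3), (2, 10), (0, 3), (0, 10), (0, 3), (2, 10), (0, 10), (0, 3), (0, 3), (0, 3), (0, 10), (0, 3), (0, 10), (0, 3), (0, 3), (0, 10), (0, 10), (0, 10), (0, 3), (0, 10), (0, 3)],
  [(2, 1), (0, 12), (1, 1), (1, 12), (2, 1), (0, 12), (2, 1), (0, 12), (1, 1), (1, 1), (1, 1), (1, 1), (0, 12), (1, 12), (1, 12)],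
  [(1, 1), (2, 12), (1, 1), (1, 12), (0, 1), (2, 12), (0, 1), (2, 12), (0, 12), (1, 12), (1, 12), (1, 12), (1, 12), (1, 12), (1, 12)],
  [(1, 10), (0, 10), (0, 3), (0, 3), (0, 10), (0, 10), (0, 3), (0, 3), (8, 10), (0, 3), (0, 10), (0, 3), (3, 3), (0, 3), (0, 3), (0, 3), (2, 3), (0, 10), (0, 3), (0, 10), (2, 3), (0, 3), (0, 10), (0, 10), (0, 3), (0, 10), (0, 3), (0, 10), (0, 10), (0, 10), (0, 3), (0, 3), (0, 10), (0, 3), (0, 10), (0, 3)],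
  [(1, 10), (0, 10), (0, 3), (0, 3), (0, 10), (0, 10), (0, 3), (0, 3), (8, 3), (0, 10), (0, 3), (0, 10), (3, 3), (0, 3), (0, 3), (0, 3), (2, 10), (0, 3), (0, 10), (0, 3), (2, 3), (0, 3), (0, 10), (0, 10), (0, 10), (0, 3), (0, 10), (0, 3), (0, 10), (0, 10), (0, 3), (0, 3), (0, 3), (0, 10), (0, 3), (0, 10)],
  [(17, 1)],
  [(1, 10), (0, 3), (0, 10), (0, 3), (0, 3), (0, 10), (0, 10), (0, 3), (8, 10), (0, 9), (0, 10), (0, 10), (1, 12), (1, 3), (0, 10), (0, 3), (0, 10), (2, 3), (0, 10), (0, 3), (0, 10), (2, 10), (0, 3), (0, 10), (0, 3), (0, 10), (0, 10), (0, 3), (0, 3), (0, 3), (0, 10), (0, 3), (0, 10), (0, 3), (0, 10), (0, 10), (0, 3)],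
  [(19, 1)],
  [(1, 9), (0, 4), (0, 9), (0, 4), (0, 4), (0, 9), (0, 9), (0, 4), (0, 12), (0, 1), (0, 12), (0, 1), (0, 12), (0, 1), (0, 12), (0, 1), (0, 11), (0, 11), (0, 11), (0, 10), (0, 1), (0, 1), (0, 1), (0, 3), (0, 10), (0, 3), (0, 10), (2, 3), (0, 10), (0, 3), (0, 10), (2, 3), (0, 10), (0, 3), (0, 10), (0, 3), (0, 3), (0, 10), (0, 10), (0, 10), (0, 3), (0, 10), (0, 3), (0, 10), (0, 3), (0, 3), (0, 10)],
  [(34, 1)],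
  [(1, 10), (0, 3), (0, 3), (0, 10), (0, 3), (0, 10), (0, 3), (0, 10), (8, 10), (0, 3), (0, 10), (0, 3), (3, 3), (0, 10), (0, 3), (0, 10), (2, 3), (0, 3), (0, 3), (0, 3), (2, 10), (0, 3), (0, 3), (0, 10), (0, 10), (0, 3), (0, 3), (0, 10), (0, 3), (0, 10), (0, 10), (0, 3), (0, 3), (0, 3), (0, 10), (0, 10)],
  [(3, 12), (0, 1), (2, 12), (0, 1), (2, 12), (0, 1), (2, 12), (0, 1), (0, 1), (1, 1), (1, 1), (1, 1), (6, 12), (1, 12), (1, 12)],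
  [(24, 1)],
  [(25, 1)],
  [(26, 1)],
  [(27, 1)],
  [(9, 1)],
  [(10, 1)],
  [(30, 1)],
  [(1, 10), (0, 3), (0, 3), (0, 10), (0, 3), (0, 10), (0, 3), (0, 10), (8, 3), (0, 10), (0, 3), (0, 10), (3, 3), (0, 10), (0, 3), (0, 10), (2, 10), (0, 9), (0, 10), (0, 10), (1, 12), (0, 10), (0, 3), (0, 3), (0, 10), (0, 3), (0, 10), (0, 10), (0, 3), (0, 3), (0, 10), (0, 10), (0, 3), (0, 10), (0, 10), (0, 3), (0, 3)],
  [(32, 1)],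
  [(1, 9), (0, 4), (0, 3), (0, 10), (0, 4), (0, 9), (0, 3), (0, 10), (0, 12), (0, 1), (2, 12), (0, 1), (2, 4), (0, 10), (0, 4), (0, 10), (0, 1), (1, 1), (0, 3), (0, 10), (0, 3), (0, 10), (2, 10), (0, 11), (0, 10), (0, 10), (1, 1), (0, 3), (0, 10), (0, 10), (0, 3), (0, 10), (0, 3), (0, 3), (0, 10), (0, 10), (0, 3), (0, 3), (0, 10), (0, 3), (0, 3), (0, 10), (0, 10)],
  [(21, 1)],
  [(1, 10), (0, 3), (0, 10), (0, 3), (0, 3), (0, 10), (0, 10), (0, 3), (8, 3), (0, 3), (0, 3), (0, 3), (3, 3), (0, 10), (0, 3), (0, 10), (2, 10), (0, 3), (0, 10), (0, 3), (2, 10), (0, 3), (0, 10), (0, 3), (0, 3), (0, 3), (0, 10), (0, 10), (0, 3), (0, 10), (0, 3), (0, 10), (0, 10), (0, 3), (0, 3), (0, 10)],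
  [(36, 1)],
  [(37, 1)],
  [(1, 3), (0, 3), (0, 4), (0, 3), (0, 3), (0, 3), (0, 4), (0, 3), (0, 6), (0, 6), (0, 7), (0, 6), (2, 1), (1, 3), (0, 3), (0, 3), (0, 3), (0, 6), (0, 6), (1, 10), (0, 10), (0, 10), (0, 10), (0, 7), (0, 7), (0, 10), (0, 10), (0, 10), (0, 10), (0, 7), (0, 7), (0, 10), (0, 10), (0, 10), (0, 10), (0, 10), (0, 10), (0, 3), (0, 3), (0, 3), (0, 3), (0, 10), (0, 10), (0, 3), (0, 3), (0, 10), (0, 10)],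
  [(1, 3), (0, 3), (0, 3), (0, 4), (0, 3), (0, 3), (0, 3), (0, 4), (0, 6), (0, 6), (0, 6), (0, 7), (3, 1), (0, 10), (0, 10), (0, 10), (0, 10), (0, 7), (0, 7), (1, 10), (0, 10), (0, 10), (0, 10), (0, 7), (0, 7), (0, 3), (0, 3), (0, 3), (0, 3), (0, 6), (0, 6), (0, 10), (0, 10), (0, 10), (0, 10), (0, 3), (0, 3), (0, 10), (0, 10), (0, 3), (0, 3), (0, 10), (0, 10), (0, 10), (0, 10), (0, 3), (0, 3)],
  [(40, 1)],
  [(1, 4), (0, 9), (0, 4), (0, 9), (0, 9), (0, 4), (0, 4), (0, 9), (0, 7), (0, 6), (0, 7), (0, 6), (0, 1), (0, 12), (0, 1), (0, 12), (0, 2), (0, 3), (0, 2), (0, 3), (0, 5), (0, 6), (0, 12), (0, 10), (0, 3), (0, 10), (0, 3), (0, 7), (0, 6), (0, 10), (0, 3), (0, 10), (0, 3), (0, 7), (0, 6), (0, 10), (0, 3), (0, 10), (0, 3), (0, 10), (0, 10), (0, 10), (0, 10), (0, 3), (0, 10), (0, 10), (0, 3), (0, 3), (0, 10), (0, 3),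 (0, 10)],
  [(42, 1)],
  [(1, 3), (0, 10), (0, 3), (0, 10), (0, 10), (0, 3), (0, 3), (0, 10), (0, 6), (0, 7), (0, 6), (0, 7), (4, 10), (0, 10), (0, 10), (0, 10), (0, 7), (0, 7), (1, 10), (0, 3), (0, 10), (0, 3), (0, 7), (0, 6), (0, 3), (0, 10), (0, 3), (0, 10), (0, 6), (0, 7), (0, 3), (0, 10), (0, 3), (0, 10), (0, 10), (0, 10), (0, 10), (0, 10), (0, 10), (0, 3), (0, 3), (0, 10), (0, 3), (0, 10), (0, 3), (0, 10)],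
  [(44, 1)],
  [(45, 1)],
  [(1, 3), (0, 3), (0, 10), (0, 10), (0, 3), (0, 3), (0, 10), (0, 10), (0, 6), (0, 6), (0, 7), (0, 7), (4, 3), (0, 10), (0, 3), (0, 10), (0, 6), (0, 7), (1, 10), (0, 10), (0, 10), (0, 10), (0, 7), (0, 7), (0, 10), (0, 3), (0, 10), (0, 3), (0, 7), (0, 6), (0, 3), (0, 3), (0, 10), (0, 10), (0, 3), (0, 10), (0, 10), (0, 3), (0, 10), (0, 10), (0, 10), (0, 10), (0, 10), (0, 3), (0, 3), (0, 10)],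
  [(1, 3), (0, 3), (0, 10), (0, 10), (0, 3), (0, 3), (0, 10), (0, 10), (0, 6), (0, 6), (0, 7), (0, 7), (4, 10), (0, 3), (0, 10), (0, 3), (0, 7), (0, 6), (1, 10), (0, 10), (0, 10), (0, 10), (0, 7), (0, 7), (0, 3), (0, 10), (0, 3), (0, 10), (0, 6), (0, 7), (0, 3), (0, 3), (0, 10), (0, 10), (0, 10), (0, 3), (0, 3), (0, 10), (0, 10), (0, 10), (0, 10), (0, 10), (0, 3), (0, 10), (0, 10), (0, 3)],
  [(48, 1)],
  [(1, 4), (0, 9), (0, 10), (0, 3), (0, 9), (0, 4), (0, 10), (0, 3), (0, 7), (0, 6), (0, 7), (0, 6), (0, 1), (0, 12), (2, 9), (0, 3), (0, 9), (0, 3), (0, 6), (0, 6), (0, 12), (0, 10), (0, 3), (0, 10), (0, 3), (0, 7), (0, 6), (0, 3), (0, 3), (0, 3), (0, 3), (0, 6), (0, 6), (0, 10), (0, 3), (0, 3), (0, 10), (0, 3), (0, 10), (0, 3), (0, 10), (0, 3), (0, 10), (0, 3), (0, 10), (0, 10), (0, 10), (0, 10), (0, 10)],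
  [(50, 1)],
  [(1, 3), (0, 10), (0, 10), (0, 3), (0, 10), (0, 3), (0, 10), (0, 3), (0, 6), (0, 7), (0, 7), (0, 6), (4, 3), (0, 10), (0, 3), (0, 10), (0, 6), (0, 7), (1, 10), (0, 3), (0, 10), (0, 3), (0, 7), (0, 6), (0, 10), (0, 10), (0, 10), (0, 10), (0, 7), (0, 7), (0, 3), (0, 10), (0, 10), (0, 3), (0, 3), (0, 10), (0, 3), (0, 10), (0, 10), (0, 3), (0, 10), (0, 3), (0, 10), (0, 10), (0, 10), (0, 10)]]

/-- A matrix. -/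
def m17 : List (List (ℕ × ℕ)) := [
  [(0, 1)],
  [(1, 1)],
  [(2, 1)],
  [(3, 1)],
  [(4, 1)],
  [(1, 10), (0, 10), (0, 10), (0, 10), (0, 9), (0, 10), (0, 10), (0, 10), (5, 12), (2, 3), (0, 3), (0, 3), (0, 3), (3, 10), (0, 10), (0, 10), (0, 10), (2, 3), (0, 3), (0, 3), (0, 3), (2, 3), (0, 3), (0, 3), (0, 3), (0, 10), (0, 10), (0, 10), (0, 10), (0, 3), (0, 3), (0, 3), (0, 3), (0, 10), (0, 10), (0, 10), (0, 10)],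
  [(1, 10), (0, 10), (0, 10), (0, 10), (0, 10), (0, 9), (0, 10), (0, 10), (4, 12), (3, 10), (0, 10), (0, 10), (0, 10), (3, 10), (0, 10), (0, 10), (0, 10), (2, 10), (0, 10), (0, 10), (0, 10), (2, 3), (0, 3), (0, 3), (0, 3), (0, 3), (0, 3), (0, 3), (0, 3), (0, 3), (0, 3), (0, 3), (0, 3), (0, 3), (0, 3), (0, 3), (0, 3)],
  [(1, 10), (0, 10), (0, 10), (0, 10), (0, 10), (0, 10), (0, 9), (0, 10), (6, 12), (1, 10), (0, 10), (0, 10), (0, 10), (3, 3), (0, 3), (0, 3), (0, 3), (2, 3), (0, 3), (0, 3), (0, 3), (2, 3), (0, 3), (0, 3), (0, 3), (0, 3), (0, 3), (0, 3), (0, 3), (0, 10), (0, 10), (0, 10), (0, 10), (0, 10), (0, 10), (0, 10), (0, 10)],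
  [(1, 10), (0, 10), (0, 10), (0, 10), (0, 10), (0, 10), (0, 10), (0, 9), (7, 12), (0, 3), (0, 3), (0, 3), (0, 3), (3, 3), (0, 3), (0, 3), (0, 3), (2, 10), (0, 10), (0, 10), (0, 10), (2, 3), (0, 3), (0, 3), (0, 3), (0, 10), (0, 10), (0, 10), (0, 10), (0, 10), (0, 10), (0, 10), (0, 10), (0, 3), (0, 3), (0, 3), (0, 3)],
  [(1, 6), (0, 7), (0, 7), (0, 7), (1, 12), (2, 6), (0, 7), (0, 7), (0, 7), (0, 12), (3, 7), (0, 7), (2, 7), (0, 7), (1, 7), (0, 7), (2, 7), (0, 7), (0, 7), (0, 7), (2, 7), (0, 7), (0, 12)],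
  [(1, 7), (0, 6), (0, 7), (0, 7), (0, 12), (3, 7), (0, 6), (0, 7), (0, 7), (1, 12), (2, 6), (0, 6), (2, 6), (0, 6), (1, 7), (0, 7), (2, 7), (0, 7), (0, 6), (0, 6), (2, 6), (0, 6), (1, 12)],
  [(1, 7), (0, 7), (0, 6), (0, 7), (2, 12), (1, 7), (0, 7), (0, 6), (0, 7), (2, 12), (1, 7), (0, 7), (2, 7), (0, 7), (1, 6), (0, 6), (2, 6), (0, 6), (0, 6), (0, 6), (2, 6), (0, 6), (2, 12)],
  [(1, 7), (0, 7), (0, 7), (0, 6), (3, 12), (0, 7), (0, 7), (0, 7), (0, 6), (3, 12), (0, 6), (0, 6), (2, 6), (0, 6), (1, 6), (0, 6), (2, 6), (0, 6), (0, 7), (0, 7), (2, 7), (0, 7), (3, 12)],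
  [(1, 10), (0, 10), (0, 10), (0, 10), (0, 3), (0, 3), (0, 3), (0, 3), (8, 10), (0, 10), (0, 3), (0, 3), (3, 10), (0, 10), (0, 3), (0, 3), (2, 10), (0, 10), (0, 3), (0, 3), (2, 3), (0, 3), (0, 3), (0, 3), (0, 3), (0, 3), (0, 10), (0, 10), (0, 3), (0, 3), (0, 10), (0, 10), (0, 3), (0, 3), (0, 10), (0, 10)],
  [(1, 10), (0, 10), (0, 10), (0, 10), (0, 3), (0, 3), (0, 3), (0, 3), (8, 3), (0, 3), (0, 10), (0, 10), (3, 10), (0, 10), (0, 3), (0, 3), (2, 3), (0, 3), (0, 10), (0, 10), (2, 3), (0, 3), (0, 3), (0, 3), (0, 10), (0, 10), (0, 3), (0, 3), (0, 3), (0, 3), (0, 10), (0, 10), (0, 10), (0, 10), (0, 3), (0, 3)],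
  [(1, 10), (0, 10), (0, 10), (0, 10), (0, 3), (0, 3), (0, 3), (0, 3), (8, 10), (0, 10), (0, 3), (0, 3), (3, 3), (0, 3), (0, 10), (0, 10), (2, 3), (0, 3), (0, 10), (0, 10), (2, 3), (0, 3), (0, 3), (0, 3), (0, 3), (0, 3), (0, 10), (0, 10), (0, 10), (0, 10), (0, 3), (0, 3), (0, 10), (0, 10), (0, 3), (0, 3)],
  [(1, 10), (0, 10), (0, 10), (0, 10), (0, 3), (0, 3), (0, 3), (0, 3), (8, 3), (0, 3), (0, 10), (0, 10), (3, 3), (0, 3), (0, 10), (0, 10), (2, 10), (0, 10), (0, 3), (0, 3), (2, 3), (0, 3), (0, 3), (0, 3), (0, 10), (0, 10), (0, 3), (0, 3), (0, 10), (0, 10), (0, 3), (0, 3), (0, 3), (0, 3), (0, 10), (0, 10)],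
  [(17, 1)],
  [(18, 1)],
  [(1, 10), (0, 3), (0, 10), (0, 3), (0, 3), (0, 10), (0, 10), (0, 3), (8, 10), (0, 10), (0, 9), (0, 10), (2, 12), (0, 10), (0, 3), (0, 10), (0, 3), (2, 10), (0, 3), (0, 10), (0, 3), (2, 3), (0, 10), (0, 3), (0, 10), (0, 3), (0, 3), (0, 10), (0, 10), (0, 3), (0, 10), (0, 3), (0, 10), (0, 3), (0, 10), (0, 10), (0, 3)],
  [(1, 9), (0, 4), (0, 9), (0, 4), (0, 4), (0, 9), (0, 9), (0, 4), (0, 12), (0, 1), (0, 12), (0, 1), (0, 12), (0, 1), (0, 12), (0, 1), (0, 11), (0, 11), (0, 11), (0, 10), (0, 1), (0, 1), (0, 1), (0, 3), (0, 10), (0, 3), (0, 10), (2, 3), (0, 10), (0, 3), (0, 10), (2, 3), (0, 10), (0, 3), (0, 10), (0, 3), (0, 3), (0, 10), (0, 10), (0, 10), (0, 3), (0, 10), (0, 3), (0, 10), (0, 3), (0, 3), (0, 10)],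
  [(1, 7), (0, 6), (0, 7), (0, 6), (4, 7), (0, 6), (0, 7), (0, 6), (4, 6), (0, 7), (0, 12), (1, 6), (0, 7), (0, 12), (0, 7), (0, 6), (2, 7), (0, 6), (0, 7), (0, 6), (2, 7), (0, 6), (4, 12)],
  [(1, 6), (0, 7), (0, 6), (0, 7), (0, 1), (0, 12), (0, 12), (0, 1), (0, 6), (0, 7), (0, 6), (0, 7), (0, 12), (0, 1), (0, 12), (0, 1), (0, 8), (0, 7), (0, 1), (1, 8), (0, 7), (0, 1), (0, 6), (0, 7), (2, 6), (0, 7), (0, 6), (0, 7), (2, 6), (0, 7), (5, 12)],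
  [(1, 10), (0, 3), (0, 10), (0, 3), (0, 10), (0, 3), (0, 3), (0, 10), (8, 10), (0, 10), (0, 3), (0, 3), (3, 10), (0, 3), (0, 3), (0, 10), (2, 10), (0, 3), (0, 3), (0, 10), (2, 3), (0, 10), (0, 3), (0, 10), (0, 3), (0, 3), (0, 3), (0, 3), (0, 3), (0, 10), (0, 10), (0, 3), (0, 3), (0, 10), (0, 3), (0, 10)],
  [(24, 1)],
  [(25, 1)],
  [(1, 10), (0, 9), (0, 4), (0, 3), (0, 9), (0, 10), (0, 4), (0, 3), (1, 12), (0, 1), (2, 12), (0, 1), (1, 9), (0, 3), (0, 9), (0, 3), (0, 12), (1, 12), (0, 11), (0, 10), (0, 10), (0, 10), (0, 1), (1, 10), (0, 3), (0, 10), (0, 3), (2, 3), (0, 3), (0, 10), (0, 10), (0, 3), (0, 10), (0, 3), (0, 10), (0, 3), (0, 3), (0, 10), (0, 10), (0, 3), (0, 10), (0, 3), (0, 10)],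
  [(1, 9), (0, 10), (0, 3), (0, 4), (0, 10), (0, 9), (0, 3), (0, 4), (0, 12), (2, 1), (0, 12), (2, 1), (0, 4), (0, 10), (0, 4), (0, 10), (0, 1), (1, 1), (0, 10), (0, 11), (0, 10), (0, 10), (1, 1), (0, 3), (0, 10), (0, 3), (0, 10), (2, 3), (0, 3), (0, 10), (0, 10), (0, 10), (0, 3), (0, 10), (0, 3), (0, 3), (0, 3), (0, 10), (0, 10), (0, 10), (0, 3), (0, 10), (0, 3)],
  [(1, 7), (0, 6), (0, 7), (0, 6), (0, 12), (1, 1), (1, 7), (0, 6), (0, 7), (0, 6), (1, 12), (0, 1), (1, 6), (0, 6), (0, 12), (1, 6), (0, 6), (0, 12), (0, 7), (0, 7), (2, 7), (0, 7), (0, 7), (0, 6), (2, 7), (0, 6), (8, 12)],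
  [(1, 6), (0, 7), (0, 6), (0, 7), (1, 12), (1, 1), (0, 6), (0, 7), (0, 6), (0, 7), (0, 12), (2, 1), (0, 7), (0, 7), (0, 1), (1, 7), (0, 7), (0, 1), (0, 7), (0, 7), (2, 7), (0, 7), (0, 6), (0, 7), (2, 6), (0, 7), (9, 12)],
  [(30, 1)],
  [(31, 1)],
  [(1, 10), (0, 3), (0, 4), (0, 9), (0, 3), (0, 10), (0, 4), (0, 9), (2, 1), (0, 12), (2, 1), (0, 12), (0, 9), (0, 3), (0, 9), (0, 3), (0, 12), (1, 12), (0, 10), (0, 3), (0, 10), (0, 3), (2, 11), (0, 10), (0, 10), (0, 10), (0, 1), (1, 3), (0, 10), (0, 10), (0, 3), (0, 3), (0, 10), (0, 10), (0, 3), (0, 3), (0, 10), (0, 10), (0, 3), (0, 3), (0, 3), (0, 10), (0, 10)],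
  [(1, 9), (0, 4), (0, 3), (0, 10), (0, 4), (0, 9), (0, 3), (0, 10), (0, 12), (0, 1), (2, 12), (0, 1), (2, 4), (0, 10), (0, 4), (0, 10), (0, 1), (1, 1), (0, 3), (0, 10), (0, 3), (0, 10), (2, 10), (0, 11), (0, 10), (0, 10), (1, 1), (0, 3), (0, 10), (0, 10), (0, 3), (0, 10), (0, 3), (0, 3), (0, 10), (0, 10), (0, 3), (0, 3), (0, 10), (0, 3), (0, 3), (0, 10), (0, 10)],
  [(1, 7), (0, 6), (0, 7), (0, 6), (2, 1), (0, 12), (0, 7), (0, 6), (0, 7), (0, 6), (2, 1), (0, 12), (0, 6), (0, 6), (0, 12), (1, 6), (0, 6), (0, 12), (0, 7), (0, 6), (2, 7), (0, 6), (0, 7), (0, 7), (2, 7), (0, 7), (12, 12)],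
  [(1, 6), (0, 7), (0, 6), (0, 7), (0, 1), (0, 12), (2, 6), (0, 7), (0, 6), (0, 7), (0, 12), (0, 1), (2, 7), (0, 7), (0, 1), (1, 7), (0, 7), (0, 1), (0, 6), (0, 7), (2, 6), (0, 7), (0, 7), (0, 7), (2, 7), (0, 7), (13, 12)],
  [(36, 1)],
  [(37, 1)],
  [(38, 1)],
  [(39, 1)],
  [(40, 1)],
  [(41, 1)],
  [(1, 3), (0, 10), (0, 3), (0, 10), (0, 10), (0, 3), (0, 3), (0, 10), (0, 6), (0, 7), (0, 6), (0, 7), (4, 10), (0, 10), (0, 10), (0, 10), (0, 7), (0, 7), (1, 3), (0, 10), (0, 3), (0, 10), (0, 6), (0, 7), (0, 10), (0, 3), (0, 10), (0, 3), (0, 7), (0, 6), (0, 3), (0, 10), (0, 3), (0, 10), (0, 10), (0, 10), (0, 10), (0, 10), (0, 3), (0, 10), (0, 10), (0, 3), (0, 10), (0, 3), (0, 10), (0, 3)],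
  [(1, 3), (0, 10), (0, 3), (0, 10), (0, 10), (0, 3), (0, 3), (0, 10), (0, 6), (0, 7), (0, 6), (0, 7), (4, 10), (0, 10), (0, 10), (0, 10), (0, 7), (0, 7), (1, 10), (0, 3), (0, 10), (0, 3), (0, 7), (0, 6), (0, 3), (0, 10), (0, 3), (0, 10), (0, 6), (0, 7), (0, 3), (0, 10), (0, 3), (0, 10), (0, 10), (0, 10), (0, 10), (0, 10), (0, 10), (0, 3), (0, 3), (0, 10), (0, 3), (0, 10), (0, 3), (0, 10)],
  [(44, 1)],
  [(45, 1)],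
  [(1, 3), (0, 3), (0, 10), (0, 10), (0, 3), (0, 3), (0, 10), (0, 10), (0, 6), (0, 6), (0, 7), (0, 7), (4, 3), (0, 10), (0, 3), (0, 10), (0, 6), (0, 7), (1, 10), (0, 10), (0, 10), (0, 10), (0, 7), (0, 7), (0, 10), (0, 3), (0, 10), (0, 3), (0, 7), (0, 6), (0, 3), (0, 3), (0, 10), (0, 10), (0, 3), (0, 10), (0, 10), (0, 3), (0, 10), (0, 10), (0, 10), (0, 10), (0, 10), (0, 3), (0, 3), (0, 10)],
  [(1, 3), (0, 3), (0, 10), (0, 10), (0, 3), (0, 3), (0, 10), (0, 10), (0, 6), (0, 6), (0, 7), (0, 7), (4, 10), (0, 3), (0, 10), (0, 3), (0, 7), (0, 6), (1, 10), (0, 10), (0, 10), (0, 10), (0, 7), (0, 7), (0, 3), (0, 10), (0, 3), (0, 10), (0, 6), (0, 7), (0, 3), (0, 3), (0, 10), (0, 10), (0, 10), (0, 3), (0, 3), (0, 10), (0, 10), (0, 10), (0, 10), (0, 10), (0, 3), (0, 10), (0, 10), (0, 3)],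
  [(48, 1)],
  [(49, 1)],
  [(1, 3), (0, 10), (0, 10), (0, 3), (0, 10), (0, 3), (0, 10), (0, 3), (0, 6), (0, 7), (0, 7), (0, 6), (4, 10), (0, 3), (0, 10), (0, 3), (0, 7), (0, 6), (1, 3), (0, 10), (0, 3), (0, 10), (0, 6), (0, 7), (0, 10), (0, 10), (0, 10), (0, 10), (0, 7), (0, 7), (0, 3), (0, 10), (0, 10), (0, 3), (0, 10), (0, 3), (0, 10), (0, 3), (0, 3), (0, 10), (0, 3), (0, 10), (0, 10), (0, 10), (0, 10), (0, 10)],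
  [(1, 3), (0, 10), (0, 10), (0, 3), (0, 10), (0, 3), (0, 10), (0, 3), (0, 6), (0, 7), (0, 7), (0, 6), (4, 3), (0, 10), (0, 3), (0, 10), (0, 6), (0, 7), (1, 10), (0, 3), (0, 10), (0, 3), (0, 7), (0, 6), (0, 10), (0, 10), (0, 10), (0, 10), (0, 7), (0, 7), (0, 3), (0, 10), (0, 10), (0, 3), (0, 3), (0, 10), (0, 3), (0, 10), (0, 10), (0, 3), (0, 10), (0, 3), (0, 10), (0, 10), (0, 10), (0, 10)]]

/-- A matrix. -/
def m18 : List (List (ℕ × ℕ)) := [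
  [(0, 1)],
  [(24, 1)],
  [(25, 1)],
  [(3, 12)],
  [(4, 12)],
  [(27, 1)],
  [(26, 1)],
  [(7, 12)],
  [(8, 12)],
  [(28, 1)],
  [(29, 1)],
  [(11, 12)],
  [(12, 12)],
  [(2, 1), (0, 12), (1, 1), (1, 12), (2, 1), (0, 12), (2, 1), (0, 12), (1, 1), (1, 1), (1, 1), (1, 1), (0, 12), (1, 12), (1, 12)],
  [(1, 1), (2, 12), (1, 1), (1, 12), (0, 1), (2, 12), (0, 1), (2, 12), (0, 12), (1, 12), (1, 12), (1, 12), (1, 12), (1, 12), (1, 12)],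
  [(15, 12)],
  [(16, 12)],
  [(30, 1)],
  [(18, 12)],
  [(32, 1)],
  [(20, 12)],
  [(34, 1)],
  [(22, 12)],
  [(3, 12), (0, 1), (2, 12), (0, 1), (2, 12), (0, 1), (2, 12), (0, 1), (0, 1), (1, 1), (1, 1), (1, 1), (6, 12), (1, 12), (1, 12)],
  [(1, 1)],
  [(2, 1)],
  [(6, 1)],
  [(5, 1)],
  [(9, 1)],
  [(10, 1)],
  [(17, 1)],
  [(31, 12)],
  [(19, 1)],
  [(33, 12)],
  [(21, 1)],
  [(35, 12)],
  [(44, 1)],
  [(45, 1)],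
  [(38, 12)],
  [(39, 12)],
  [(48, 1)],
  [(41, 12)],
  [(50, 1)],
  [(43, 12)],
  [(36, 1)],
  [(37, 1)],
  [(46, 12)],
  [(47, 12)],
  [(40, 1)],
  [(49, 12)],
  [(42, 1)],
  [(51, 12)]]

/-- A matrix. -/
def m19 : List (List (ℕ × ℕ)) := [
  [(0, 1)],
  [(36, 1)],
  [(37, 1)],
  [(38, 1)],
  [(39, 1)],
  [(5, 12)],
  [(6, 12)],
  [(7, 12)],
  [(8, 12)],
  [(1, 6), (0, 7), (0, 7), (0, 7), (1, 12), (2, 6), (0, 7), (0, 7), (0, 7), (0, 12), (3, 7), (0, 7), (2, 7), (0, 7), (1, 7), (0, 7), (2, 7), (0, 7), (0, 7), (0, 7), (2, 7), (0, 7), (0, 12)],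
  [(1, 7), (0, 6), (0, 7), (0, 7), (0, 12), (3, 7), (0, 6), (0, 7), (0, 7), (1, 12), (2, 6), (0, 6), (2, 6), (0, 6), (1, 7), (0, 7), (2, 7), (0, 7), (0, 6), (0, 6), (2, 6), (0, 6), (1, 12)],
  [(1, 7), (0, 7), (0, 6), (0, 7), (2, 12), (1, 7), (0, 7), (0, 6), (0, 7), (2, 12), (1, 7), (0, 7), (2, 7), (0, 7), (1, 6), (0, 6), (2, 6), (0, 6), (0, 6), (0, 6), (2, 6), (0, 6), (2, 12)],
  [(1, 7), (0, 7), (0, 7), (0, 6), (3, 12), (0, 7), (0, 7), (0, 7), (0, 6), (3, 12), (0, 6), (0, 6), (2, 6), (0, 6), (1, 6), (0, 6), (2, 6), (0, 6), (0, 7), (0, 7), (2, 7), (0, 7), (3, 12)],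
  [(13, 12)],
  [(14, 12)],
  [(15, 12)],
  [(16, 12)],
  [(40, 1)],
  [(41, 1)],
  [(19, 12)],
  [(20, 12)],
  [(1, 7), (0, 6), (0, 7), (0, 6), (4, 7), (0, 6), (0, 7), (0, 6), (4, 6), (0, 7), (0, 12), (1, 6), (0, 7), (0, 12), (0, 7), (0, 6), (2, 7), (0, 6), (0, 7), (0, 6), (2, 7), (0, 6), (4, 12)],
  [(1, 6), (0, 7), (0, 6), (0, 7), (0, 1), (0, 12), (0, 12), (0, 1), (0, 6), (0, 7), (0, 6), (0, 7), (0, 12), (0, 1), (0, 12), (0, 1), (0, 8), (0, 7), (0, 1), (1, 8), (0, 7), (0, 1), (0, 6), (0, 7), (2, 6), (0, 7), (0, 6), (0, 7), (2, 6), (0, 7), (5, 12)],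
  [(23, 12)],
  [(44, 1)],
  [(45, 1)],
  [(26, 12)],
  [(27, 12)],
  [(1, 7), (0, 6), (0, 7), (0, 6), (0, 12), (1, 1), (1, 7), (0, 6), (0, 7), (0, 6), (1, 12), (0, 1), (1, 6), (0, 6), (0, 12), (1, 6), (0, 6), (0, 12), (0, 7), (0, 7), (2, 7), (0, 7), (0, 7), (0, 6), (2, 7), (0, 6), (8, 12)],
  [(1, 6), (0, 7), (0, 6), (0, 7), (1, 12), (1, 1), (0, 6), (0, 7), (0, 6), (0, 7), (0, 12), (2, 1), (0, 7), (0, 7), (0, 1), (1, 7), (0, 7), (0, 1), (0, 7), (0, 7), (2, 7), (0, 7), (0, 6), (0, 7), (2, 6), (0, 7), (9, 12)],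
  [(48, 1)],
  [(49, 1)],
  [(32, 12)],
  [(33, 12)],
  [(1, 7), (0, 6), (0, 7), (0, 6), (2, 1), (0, 12), (0, 7), (0, 6), (0, 7), (0, 6), (2, 1), (0, 12), (0, 6), (0, 6), (0, 12), (1, 6), (0, 6), (0, 12), (0, 7), (0, 6), (2, 7), (0, 6), (0, 7), (0, 7), (2, 7), (0, 7), (12, 12)],
  [(1, 6), (0, 7), (0, 6), (0, 7), (0, 1), (0, 12), (2, 6), (0, 7), (0, 6), (0, 7), (0, 12), (0, 1), (2, 7), (0, 7), (0, 1), (1, 7), (0, 7), (0, 1), (0, 6), (0, 7), (2, 6), (0, 7), (0, 7), (0, 7), (2, 7), (0, 7), (13, 12)],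
  [(1, 1)],
  [(2, 1)],
  [(3, 1)],
  [(4, 1)],
  [(17, 1)],
  [(18, 1)],
  [(42, 12)],
  [(43, 12)],
  [(24, 1)],
  [(25, 1)],
  [(46, 12)],
  [(47, 12)],
  [(30, 1)],
  [(31, 1)],
  [(50, 12)],
  [(51, 12)]]

/-- A matrix. -/
def m20 : List (List (ℕ × ℕ)) := [
  [(0, 1)],
  [(1, 9), (0, 10), (0, 10), (0, 10), (0, 10), (0, 10), (0, 10), (0, 10), (0, 12), (7, 10), (0, 10), (0, 10), (0, 10), (3, 10), (0, 10), (0, 10), (0, 10), (2, 10), (0, 10), (0, 10), (0, 10), (2, 10), (0, 10), (0, 10), (0, 10), (0, 10), (0, 10), (0, 10), (0, 10), (0, 10), (0, 10), (0, 10), (0, 10), (0, 10), (0, 10), (0, 10), (0, 10)],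
  [(1, 10), (0, 9), (0, 10), (0, 10), (0, 10), (0, 10), (0, 10), (0, 10), (1, 12), (6, 3), (0, 3), (0, 3), (0, 3), (3, 10), (0, 10), (0, 10), (0, 10), (2, 3), (0, 3), (0, 3), (0, 3), (2, 10), (0, 10), (0, 10), (0, 10), (0, 3), (0, 3), (0, 3), (0, 3), (0, 10), (0, 10), (0, 10), (0, 10), (0, 3), (0, 3), (0, 3), (0, 3)],
  [(1, 10), (0, 10), (0, 9), (0, 10), (0, 10), (0, 10), (0, 10), (0, 10), (2, 12), (5, 10), (0, 10), (0, 10), (0, 10), (3, 3), (0, 3), (0, 3), (0, 3), (2, 3), (0, 3), (0, 3), (0, 3), (2, 10), (0, 10), (0, 10), (0, 10), (0, 10), (0, 10), (0, 10), (0, 10), (0, 3), (0, 3), (0, 3), (0, 3), (0, 3), (0, 3), (0, 3), (0, 3)],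
  [(1, 10), (0, 10), (0, 10), (0, 9), (0, 10), (0, 10), (0, 10), (0, 10), (3, 12), (4, 3), (0, 3), (0, 3), (0, 3), (3, 3), (0, 3), (0, 3), (0, 3), (2, 10), (0, 10), (0, 10), (0, 10), (2, 10), (0, 10), (0, 10), (0, 10), (0, 3), (0, 3), (0, 3), (0, 3), (0, 3), (0, 3), (0, 3), (0, 3), (0, 10), (0, 10), (0, 10), (0, 10)],
  [(1, 10), (0, 10), (0, 10), (0, 10), (0, 9), (0, 10), (0, 10), (0, 10), (5, 12), (2, 3), (0, 3), (0, 3), (0, 3), (3, 10), (0, 10), (0, 10), (0, 10), (2, 3), (0, 3), (0, 3), (0, 3), (2, 3), (0, 3), (0, 3), (0, 3), (0, 10), (0, 10), (0, 10), (0, 10), (0, 3), (0, 3), (0, 3), (0, 3), (0, 10), (0, 10), (0, 10), (0, 10)],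
  [(1, 10), (0, 10), (0, 10), (0, 10), (0, 10), (0, 9), (0, 10), (0, 10), (4, 12), (3, 10), (0, 10), (0, 10), (0, 10), (3, 10), (0, 10), (0, 10), (0, 10), (2, 10), (0, 10), (0, 10), (0, 10), (2, 3), (0, 3), (0, 3), (0, 3), (0, 3), (0, 3), (0, 3), (0, 3), (0, 3), (0, 3), (0, 3), (0, 3), (0, 3), (0, 3), (0, 3), (0, 3)],
  [(1, 10), (0, 10), (0, 10), (0, 10), (0, 10), (0, 10), (0, 9), (0, 10), (6, 12), (1, 10), (0, 10), (0, 10), (0, 10), (3, 3), (0, 3), (0, 3), (0, 3), (2, 3), (0, 3), (0, 3), (0, 3), (2, 3), (0, 3), (0, 3), (0, 3), (0, 3), (0, 3), (0, 3), (0, 3), (0, 10), (0, 10), (0, 10), (0, 10), (0, 10), (0, 10), (0, 10), (0, 10)],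
  [(1, 10), (0, 10), (0, 10), (0, 10), (0, 10), (0, 10), (0, 10), (0, 9), (7, 12), (0, 3), (0, 3), (0, 3), (0, 3), (3, 3), (0, 3), (0, 3), (0, 3), (2, 10), (0, 10), (0, 10), (0, 10), (2, 3), (0, 3), (0, 3), (0, 3), (0, 10), (0, 10), (0, 10), (0, 10), (0, 10), (0, 10), (0, 10), (0, 10), (0, 3), (0, 3), (0, 3), (0, 3)],
  [(9, 12)],
  [(10, 12)],
  [(11, 12)],
  [(12, 12)],
  [(13, 12)],
  [(14, 12)],
  [(15, 12)],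
  [(16, 12)],
  [(1, 10), (0, 3), (0, 10), (0, 3), (0, 3), (0, 10), (0, 10), (0, 3), (8, 9), (0, 10), (0, 10), (0, 10), (0, 12), (2, 10), (0, 3), (0, 10), (0, 3), (2, 10), (0, 3), (0, 10), (0, 3), (2, 10), (0, 3), (0, 10), (0, 3), (0, 10), (0, 10), (0, 3), (0, 3), (0, 10), (0, 3), (0, 10), (0, 3), (0, 10), (0, 3), (0, 3), (0, 10)],
  [(1, 10), (0, 3), (0, 10), (0, 3), (0, 3), (0, 10), (0, 10), (0, 3), (8, 10), (0, 9), (0, 10), (0, 10), (1, 12), (1, 3), (0, 10), (0, 3), (0, 10), (2, 3), (0, 10), (0, 3), (0, 10), (2, 10), (0, 3), (0, 10), (0, 3), (0, 10), (0, 10), (0, 3), (0, 3), (0, 3), (0, 10), (0, 3), (0, 10), (0, 3), (0, 10), (0, 10), (0, 3)],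
  [(1, 10), (0, 3), (0, 10), (0, 3), (0, 3), (0, 10), (0, 10), (0, 3), (8, 10), (0, 10), (0, 9), (0, 10), (2, 12), (0, 10), (0, 3), (0, 10), (0, 3), (2, 10), (0, 3), (0, 10), (0, 3), (2, 3), (0, 10), (0, 3), (0, 10), (0, 3), (0, 3), (0, 10), (0, 10), (0, 3), (0, 10), (0, 3), (0, 10), (0, 3), (0, 10), (0, 10), (0, 3)],
  [(1, 9), (0, 4), (0, 9), (0, 4), (0, 4), (0, 9), (0, 9), (0, 4), (0, 12), (0, 1), (0, 12), (0, 1), (0, 12), (0, 1), (0, 12), (0, 1), (0, 11), (0, 11), (0, 11), (0, 10), (0, 1), (0, 1), (0, 1), (0, 3), (0, 10), (0, 3), (0, 10), (2, 3), (0, 10), (0, 3), (0, 10), (2, 3), (0, 10), (0, 3), (0, 10), (0, 3), (0, 3), (0, 10), (0, 10), (0, 10), (0, 3), (0, 10), (0, 3), (0, 10), (0, 3), (0, 3), (0, 10)],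
  [(21, 12)],
  [(22, 12)],
  [(23, 12)],
  [(1, 10), (0, 10), (0, 3), (0, 3), (0, 10), (0, 10), (0, 3), (0, 3), (8, 10), (0, 3), (0, 10), (0, 3), (3, 9), (0, 10), (0, 10), (0, 10), (0, 12), (1, 10), (0, 3), (0, 10), (0, 3), (2, 10), (0, 10), (0, 3), (0, 3), (0, 10), (0, 3), (0, 10), (0, 3), (0, 10), (0, 10), (0, 3), (0, 3), (0, 10), (0, 3), (0, 10), (0, 3)],
  [(1, 10), (0, 10), (0, 3), (0, 3), (0, 10), (0, 10), (0, 3), (0, 3), (8, 3), (0, 10), (0, 3), (0, 10), (3, 10), (0, 9), (0, 10), (0, 10), (1, 12), (0, 3), (0, 10), (0, 3), (0, 10), (2, 10), (0, 10), (0, 3), (0, 3), (0, 3), (0, 10), (0, 3), (0, 10), (0, 10), (0, 10), (0, 3), (0, 3), (0, 3), (0, 10), (0, 3), (0, 10)],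
  [(1, 10), (0, 9), (0, 4), (0, 3), (0, 9), (0, 10), (0, 4), (0, 3), (1, 12), (0, 1), (2, 12), (0, 1), (1, 9), (0, 3), (0, 9), (0, 3), (0, 12), (1, 12), (0, 11), (0, 10), (0, 10), (0, 10), (0, 1), (1, 10), (0, 3), (0, 10), (0, 3), (2, 3), (0, 3), (0, 10), (0, 10), (0, 3), (0, 10), (0, 3), (0, 10), (0, 3), (0, 3), (0, 10), (0, 10), (0, 3), (0, 10), (0, 3), (0, 10)],
  [(1, 9), (0, 10), (0, 3), (0, 4), (0, 10), (0, 9), (0, 3), (0, 4), (0, 12), (2, 1), (0, 12), (2, 1), (0, 4), (0, 10), (0, 4), (0, 10), (0, 1), (1, 1), (0, 10), (0, 11), (0, 10), (0, 10), (1, 1), (0, 3), (0, 10), (0, 3), (0, 10), (2, 3), (0, 3), (0, 10), (0, 10), (0, 10), (0, 3), (0, 10), (0, 3), (0, 3), (0, 3), (0, 10), (0, 10), (0, 10), (0, 3), (0, 10), (0, 3)],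
  [(28, 12)],
  [(29, 12)],
  [(1, 10), (0, 3), (0, 3), (0, 10), (0, 3), (0, 10), (0, 3), (0, 10), (8, 10), (0, 3), (0, 10), (0, 3), (3, 10), (0, 3), (0, 10), (0, 3), (2, 9), (0, 10), (0, 10), (0, 10), (0, 12), (1, 10), (0, 3), (0, 3), (0, 10), (0, 10), (0, 3), (0, 3), (0, 10), (0, 10), (0, 3), (0, 3), (0, 10), (0, 10), (0, 10), (0, 3), (0, 3)],
  [(1, 10), (0, 3), (0, 3), (0, 10), (0, 3), (0, 10), (0, 3), (0, 10), (8, 3), (0, 10), (0, 3), (0, 10), (3, 3), (0, 10), (0, 3), (0, 10), (2, 10), (0, 9), (0, 10), (0, 10), (1, 12), (0, 10), (0, 3), (0, 3), (0, 10), (0, 3), (0, 10), (0, 10), (0, 3), (0, 3), (0, 10), (0, 10), (0, 3), (0, 10), (0, 10), (0, 3), (0, 3)],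
  [(1, 10), (0, 3), (0, 4), (0, 9), (0, 3), (0, 10), (0, 4), (0, 9), (2, 1), (0, 12), (2, 1), (0, 12), (0, 9), (0, 3), (0, 9), (0, 3), (0, 12), (1, 12), (0, 10), (0, 3), (0, 10), (0, 3), (2, 11), (0, 10), (0, 10), (0, 10), (0, 1), (1, 3), (0, 10), (0, 10), (0, 3), (0, 3), (0, 10), (0, 10), (0, 3), (0, 3), (0, 10), (0, 10), (0, 3), (0, 3), (0, 3), (0, 10), (0, 10)],
  [(1, 9), (0, 4), (0, 3), (0, 10), (0, 4), (0, 9), (0, 3), (0, 10), (0, 12), (0, 1), (2, 12), (0, 1), (2, 4), (0, 10), (0, 4), (0, 10), (0, 1), (1, 1), (0, 3), (0, 10), (0, 3), (0, 10), (2, 10), (0, 11), (0, 10), (0, 10), (1, 1), (0, 3), (0, 10), (0, 10), (0, 3), (0, 10), (0, 3), (0, 3), (0, 10), (0, 10), (0, 3), (0, 3), (0, 10), (0, 3), (0, 3), (0, 10), (0, 10)],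
  [(34, 12)],
  [(35, 12)],
  [(1, 4), (0, 3), (0, 3), (0, 3), (0, 3), (0, 4), (0, 3), (0, 3), (0, 7), (0, 6), (0, 6), (0, 6), (0, 1), (3, 3), (0, 3), (0, 3), (0, 3), (0, 6), (0, 6), (1, 3), (0, 3), (0, 3), (0, 3), (0, 6), (0, 6), (0, 3), (0, 3), (0, 3), (0, 3), (0, 6), (0, 6), (0, 10), (0, 10), (0, 10), (0, 10), (0, 10), (0, 10), (0, 3), (0, 3), (0, 10), (0, 10), (0, 3), (0, 3), (0, 10), (0, 10), (0, 3), (0, 3)],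
  [(1, 3), (0, 4), (0, 3), (0, 3), (0, 4), (0, 3), (0, 3), (0, 3), (0, 6), (0, 7), (0, 6), (0, 6), (1, 1), (2, 10), (0, 10), (0, 10), (0, 10), (0, 7), (0, 7), (1, 3), (0, 3), (0, 3), (0, 3), (0, 6), (0, 6), (0, 10), (0, 10), (0, 10), (0, 10), (0, 7), (0, 7), (0, 10), (0, 10), (0, 10), (0, 10), (0, 3), (0, 3), (0, 10), (0, 10), (0, 10), (0, 10), (0, 3), (0, 3), (0, 3), (0, 3), (0, 10), (0, 10)],
  [(1, 3), (0, 3), (0, 4), (0, 3), (0, 3), (0, 3), (0, 4), (0, 3), (0, 6), (0, 6), (0, 7), (0, 6), (2, 1), (1, 3), (0, 3), (0, 3), (0, 3), (0, 6), (0, 6), (1, 10), (0, 10), (0, 10), (0, 10), (0, 7), (0, 7), (0, 10), (0, 10), (0, 10), (0, 10), (0, 7), (0, 7), (0, 10), (0, 10), (0, 10), (0, 10), (0, 10), (0, 10), (0, 3), (0, 3), (0, 3), (0, 3), (0, 10), (0, 10), (0, 3), (0, 3), (0, 10), (0, 10)],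
  [(1, 3), (0, 3), (0, 3), (0, 4), (0, 3), (0, 3), (0, 3), (0, 4), (0, 6), (0, 6), (0, 6), (0, 7), (3, 1), (0, 10), (0, 10), (0, 10), (0, 10), (0, 7), (0, 7), (1, 10), (0, 10), (0, 10), (0, 10), (0, 7), (0, 7), (0, 3), (0, 3), (0, 3), (0, 3), (0, 6), (0, 6), (0, 10), (0, 10), (0, 10), (0, 10), (0, 3), (0, 3), (0, 10), (0, 10), (0, 3), (0, 3), (0, 10), (0, 10), (0, 10), (0, 10), (0, 3), (0, 3)],
  [(1, 3), (0, 10), (0, 3), (0, 10), (0, 10), (0, 3), (0, 3), (0, 10), (0, 6), (0, 7), (0, 6), (0, 7), (4, 4), (0, 3), (0, 4), (0, 3), (0, 7), (0, 6), (0, 1), (0, 3), (0, 10), (0, 3), (0, 10), (0, 6), (0, 7), (0, 3), (0, 10), (0, 3), (0, 10), (0, 6), (0, 7), (0, 10), (0, 3), (0, 10), (0, 3), (0, 10), (0, 10), (0, 10), (0, 10), (0, 10), (0, 3), (0, 3), (0, 10), (0, 10), (0, 3), (0, 10), (0, 3)],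
  [(1, 4), (0, 9), (0, 4), (0, 9), (0, 9), (0, 4), (0, 4), (0, 9), (0, 7), (0, 6), (0, 7), (0, 6), (0, 1), (0, 12), (0, 1), (0, 12), (0, 2), (0, 3), (0, 2), (0, 3), (0, 5), (0, 6), (0, 12), (0, 10), (0, 3), (0, 10), (0, 3), (0, 7), (0, 6), (0, 10), (0, 3), (0, 10), (0, 3), (0, 7), (0, 6), (0, 10), (0, 3), (0, 10), (0, 3), (0, 10), (0, 10), (0, 10), (0, 10), (0, 3), (0, 10), (0, 10), (0, 3), (0, 3), (0, 10), (0, 3), (0, 10)],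
  [(1, 3), (0, 10), (0, 3), (0, 10), (0, 10), (0, 3), (0, 3), (0, 10), (0, 6), (0, 7), (0, 6), (0, 7), (4, 10), (0, 10), (0, 10), (0, 10), (0, 7), (0, 7), (1, 3), (0, 10), (0, 3), (0, 10), (0, 6), (0, 7), (0, 10), (0, 3), (0, 10), (0, 3), (0, 7), (0, 6), (0, 3), (0, 10), (0, 3), (0, 10), (0, 10), (0, 10), (0, 10), (0, 10), (0, 3), (0, 10), (0, 10), (0, 3), (0, 10), (0, 3), (0, 10), (0, 3)],
  [(1, 3), (0, 10), (0, 3), (0, 10), (0, 10), (0, 3), (0, 3), (0, 10), (0, 6), (0, 7), (0, 6), (0, 7), (4, 10), (0, 10), (0, 10), (0, 10), (0, 7), (0, 7), (1, 10), (0, 3), (0, 10), (0, 3), (0, 7), (0, 6), (0, 3), (0, 10), (0, 3), (0, 10), (0, 6), (0, 7), (0, 3), (0, 10), (0, 3), (0, 10), (0, 10), (0, 10), (0, 10), (0, 10), (0, 10), (0, 3), (0, 3), (0, 10), (0, 3), (0, 10), (0, 3), (0, 10)],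
  [(1, 3), (0, 4), (0, 9), (0, 10), (0, 4), (0, 3), (0, 9), (0, 10), (0, 6), (0, 7), (0, 6), (0, 7), (1, 1), (0, 12), (1, 4), (0, 10), (0, 4), (0, 10), (0, 7), (0, 7), (0, 1), (0, 3), (0, 3), (0, 3), (0, 3), (0, 6), (0, 6), (0, 3), (0, 10), (0, 3), (0, 10), (0, 6), (0, 7), (0, 10), (0, 10), (0, 3), (0, 3), (0, 10), (0, 3), (0, 3), (0, 10), (0, 10), (0, 10), (0, 10), (0, 10), (0, 10), (0, 3), (0, 3), (0, 10)],
  [(1, 4), (0, 3), (0, 10), (0, 9), (0, 3), (0, 4), (0, 10), (0, 9), (0, 7), (0, 6), (0, 7), (0, 6), (0, 1), (2, 12), (0, 9), (0, 3), (0, 9), (0, 3), (0, 6), (0, 6), (0, 12), (0, 3), (0, 3), (0, 3), (0, 3), (0, 6), (0, 6), (0, 10), (0, 3), (0, 10), (0, 3), (0, 7), (0, 6), (0, 10), (0, 10), (0, 3), (0, 3), (0, 3), (0, 10), (0, 10), (0, 3), (0, 10), (0, 10), (0, 10), (0, 10), (0, 3), (0, 10), (0, 10), (0, 3)],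
  [(1, 3), (0, 3), (0, 10), (0, 10), (0, 3), (0, 3), (0, 10), (0, 10), (0, 6), (0, 6), (0, 7), (0, 7), (4, 3), (0, 10), (0, 3), (0, 10), (0, 6), (0, 7), (1, 10), (0, 10), (0, 10), (0, 10), (0, 7), (0, 7), (0, 10), (0, 3), (0, 10), (0, 3), (0, 7), (0, 6), (0, 3), (0, 3), (0, 10), (0, 10), (0, 3), (0, 10), (0, 10), (0, 3), (0, 10), (0, 10), (0, 10), (0, 10), (0, 10), (0, 3), (0, 3), (0, 10)],
  [(1, 3), (0, 3), (0, 10), (0, 10), (0, 3), (0, 3), (0, 10), (0, 10), (0, 6), (0, 6), (0, 7), (0, 7), (4, 10), (0, 3), (0, 10), (0, 3), (0, 7), (0, 6), (1, 10), (0, 10), (0, 10), (0, 10), (0, 7), (0, 7), (0, 3), (0, 10), (0, 3), (0, 10), (0, 6), (0, 7), (0, 3), (0, 3), (0, 10), (0, 10), (0, 10), (0, 3), (0, 3), (0, 10), (0, 10), (0, 10), (0, 10), (0, 10), (0, 3), (0, 10), (0, 10), (0, 3)],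
  [(1, 3), (0, 10), (0, 9), (0, 4), (0, 10), (0, 3), (0, 9), (0, 4), (0, 6), (0, 7), (0, 6), (0, 7), (2, 12), (0, 1), (0, 4), (0, 10), (0, 4), (0, 10), (0, 7), (0, 7), (0, 1), (0, 3), (0, 10), (0, 3), (0, 10), (0, 6), (0, 7), (0, 3), (0, 3), (0, 3), (0, 3), (0, 6), (0, 6), (0, 10), (0, 3), (0, 3), (0, 10), (0, 10), (0, 3), (0, 10), (0, 3), (0, 10), (0, 3), (0, 10), (0, 3), (0, 10), (0, 10), (0, 10), (0, 10)],
  [(1, 4), (0, 9), (0, 10), (0, 3), (0, 9), (0, 4), (0, 10), (0, 3), (0, 7), (0, 6), (0, 7), (0, 6), (0, 1), (0, 12), (2, 9), (0, 3), (0, 9), (0, 3), (0, 6), (0, 6), (0, 12), (0, 10), (0, 3), (0, 10), (0, 3), (0, 7), (0, 6), (0, 3), (0, 3), (0, 3), (0, 3), (0, 6), (0, 6), (0, 10), (0, 3), (0, 3), (0, 10), (0, 3), (0, 10), (0, 3), (0, 10), (0, 3), (0, 10), (0, 3), (0, 10), (0, 10), (0, 10), (0, 10), (0, 10)],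
  [(1, 3), (0, 10), (0, 10), (0, 3), (0, 10), (0, 3), (0, 10), (0, 3), (0, 6), (0, 7), (0, 7), (0, 6), (4, 10), (0, 3), (0, 10), (0, 3), (0, 7), (0, 6), (1, 3), (0, 10), (0, 3), (0, 10), (0, 6), (0, 7), (0, 10), (0, 10), (0, 10), (0, 10), (0, 7), (0, 7), (0, 3), (0, 10), (0, 10), (0, 3), (0, 10), (0, 3), (0, 10), (0, 3), (0, 3), (0, 10), (0, 3), (0, 10), (0, 10), (0, 10), (0, 10), (0, 10)],
  [(1, 3), (0, 10), (0, 10), (0, 3), (0, 10), (0, 3), (0, 10), (0, 3), (0, 6), (0, 7), (0, 7), (0, 6), (4, 3), (0, 10), (0, 3), (0, 10), (0, 6), (0, 7), (1, 10), (0, 3), (0, 10), (0, 3), (0, 7), (0, 6), (0, 10), (0, 10), (0, 10), (0, 10), (0, 7), (0, 7), (0, 3), (0, 10), (0, 10), (0, 3), (0, 3), (0, 10), (0, 3), (0, 10), (0, 10), (0, 3), (0, 10), (0, 3), (0, 10), (0, 10), (0, 10), (0, 10)]]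

/-- A matrix. -/
def m21 : List (List (ℕ × ℕ)) := [
  [(0, 1)],
  [(1, 1)],
  [(2, 1)],
  [(11, 1)],
  [(12, 1)],
  [(5, 1)],
  [(6, 1)],
  [(15, 1)],
  [(16, 1)],
  [(9, 1)],
  [(10, 1)],
  [(3, 1)],
  [(4, 1)],
  [(13, 1)],
  [(14, 1)],
  [(7, 1)],
  [(8, 1)],
  [(17, 1)],
  [(22, 1)],
  [(19, 1)],
  [(1, 1), (0, 12), (0, 1), (0, 12), (0, 12), (0, 1), (0, 1), (0, 12), (0, 1), (0, 12), (0, 1), (0, 12), (0, 1), (0, 12), (0, 1), (0, 12), (0, 12), (0, 12), (0, 12), (0, 12), (0, 12), (0, 12), (0, 12)],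
  [(21, 1)],
  [(18, 1)],
  [(23, 1)],
  [(24, 1)],
  [(25, 1)],
  [(26, 1)],
  [(27, 1)],
  [(28, 1)],
  [(29, 1)],
  [(30, 1)],
  [(35, 1)],
  [(32, 1)],
  [(1, 1), (0, 12), (2, 12), (0, 1), (2, 1), (0, 12), (2, 1), (0, 12), (2, 12), (1, 12), (1, 12), (1, 12), (7, 12), (1, 12), (1, 12)],
  [(34, 1)],
  [(31, 1)],
  [(36, 1)],
  [(37, 1)],
  [(1, 7), (0, 7), (0, 6), (0, 7), (2, 12), (1, 7), (0, 7), (0, 6), (0, 7), (2, 12), (1, 7), (0, 7), (2, 7), (0, 7), (1, 6), (0, 6), (2, 6), (0, 6), (0, 6), (0, 6), (2, 6), (0, 6), (2, 12)],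
  [(1, 7), (0, 7), (0, 7), (0, 6), (3, 12), (0, 7), (0, 7), (0, 7), (0, 6), (3, 12), (0, 6), (0, 6), (2, 6), (0, 6), (1, 6), (0, 6), (2, 6), (0, 6), (0, 7), (0, 7), (2, 7), (0, 7), (3, 12)],
  [(40, 1)],
  [(1, 6), (0, 7), (0, 6), (0, 7), (0, 1), (0, 12), (0, 12), (0, 1), (0, 6), (0, 7), (0, 6), (0, 7), (0, 12), (0, 1), (0, 12), (0, 1), (0, 8), (0, 7), (0, 1), (1, 8), (0, 7), (0, 1), (0, 6), (0, 7), (2, 6), (0, 7), (0, 6), (0, 7), (2, 6), (0, 7), (5, 12)],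
  [(42, 1)],
  [(1, 7), (0, 6), (0, 7), (0, 6), (4, 7), (0, 6), (0, 7), (0, 6), (4, 6), (0, 6), (2, 6), (0, 6), (1, 6), (0, 7), (2, 6), (0, 7), (0, 7), (0, 6), (2, 7), (0, 6), (7, 12)],
  [(44, 1)],
  [(45, 1)],
  [(1, 7), (0, 7), (0, 6), (0, 6), (4, 7), (0, 7), (0, 6), (0, 6), (4, 7), (0, 6), (2, 7), (0, 6), (1, 6), (0, 6), (2, 6), (0, 6), (0, 6), (0, 7), (2, 6), (0, 7), (10, 12)],
  [(1, 7), (0, 7), (0, 6), (0, 6), (4, 7), (0, 7), (0, 6), (0, 6), (4, 6), (0, 7), (2, 6), (0, 7), (1, 6), (0, 6), (2, 6), (0, 6), (0, 7), (0, 6), (2, 7), (0, 6), (11, 12)],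
  [(48, 1)],
  [(1, 6), (0, 7), (0, 6), (0, 7), (0, 1), (0, 12), (2, 6), (0, 7), (0, 6), (0, 7), (0, 12), (0, 1), (2, 7), (0, 7), (0, 1), (1, 7), (0, 7), (0, 1), (0, 6), (0, 7), (2, 6), (0, 7), (0, 7), (0, 7), (2, 7), (0, 7), (13, 12)],
  [(50, 1)],
  [(1, 7), (0, 6), (0, 6), (0, 7), (4, 7), (0, 6), (0, 6), (0, 7), (4, 7), (0, 6), (2, 7), (0, 6), (1, 6), (0, 7), (2, 6), (0, 7), (0, 6), (0, 6), (2, 6), (0, 6), (15, 12)]]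

/-- A matrix. -/
def m22 : List (List (ℕ × ℕ)) := [
  [(0, 1)],
  [(1, 1)],
  [(2, 1)],
  [(3, 1)],
  [(4, 1)],
  [(14, 1)],
  [(13, 1)],
  [(15, 1)],
  [(16, 1)],
  [(9, 1)],
  [(10, 1)],
  [(11, 1)],
  [(12, 1)],
  [(6, 1)],
  [(5, 1)],
  [(7, 1)],
  [(8, 1)],
  [(17, 1)],
  [(18, 1)],
  [(23, 1)],
  [(1, 1), (0, 12), (0, 1), (0, 12), (0, 12), (0, 1), (0, 1), (0, 12), (0, 1), (0, 12), (0, 1), (0, 12), (0, 1), (0, 12), (0, 1), (0, 12), (0, 12), (0, 12), (0, 12), (0, 12), (0, 12), (0, 12), (0, 12)],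
  [(21, 1)],
  [(22, 1)],
  [(19, 1)],
  [(24, 1)],
  [(25, 1)],
  [(2, 1), (0, 12), (1, 1), (1, 12), (2, 1), (0, 12), (2, 1), (0, 12), (1, 1), (1, 1), (1, 1), (1, 1), (0, 12), (1, 12), (1, 12)],
  [(1, 1), (2, 12), (1, 1), (1, 12), (0, 1), (2, 12), (0, 1), (2, 12), (0, 12), (1, 12), (1, 12), (1, 12), (1, 12), (1, 12), (1, 12)],
  [(28, 1)],
  [(29, 1)],
  [(30, 1)],
  [(31, 1)],
  [(3, 12), (0, 1), (2, 12), (0, 1), (2, 12), (0, 1), (2, 12), (0, 1), (0, 1), (1, 1), (1, 1), (1, 1), (6, 12), (1, 12), (1, 12)],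
  [(1, 1), (0, 12), (2, 12), (0, 1), (2, 1), (0, 12), (2, 1), (0, 12), (2, 12), (1, 12), (1, 12), (1, 12), (7, 12), (1, 12), (1, 12)],
  [(34, 1)],
  [(35, 1)],
  [(36, 1)],
  [(37, 1)],
  [(38, 1)],
  [(39, 1)],
  [(40, 1)],
  [(41, 1)],
  [(1, 7), (0, 6), (0, 7), (0, 6), (4, 7), (0, 6), (0, 7), (0, 6), (4, 6), (0, 6), (2, 6), (0, 6), (1, 7), (0, 6), (2, 7), (0, 6), (0, 6), (0, 7), (2, 6), (0, 7), (6, 12)],
  [(1, 7), (0, 6), (0, 7), (0, 6), (4, 7), (0, 6), (0, 7), (0, 6), (4, 6), (0, 6), (2, 6), (0, 6), (1, 6), (0, 7), (2, 6), (0, 7), (0, 7), (0, 6), (2, 7), (0, 6), (7, 12)],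
  [(44, 1)],
  [(45, 1)],
  [(1, 7), (0, 7), (0, 6), (0, 6), (4, 7), (0, 7), (0, 6), (0, 6), (4, 7), (0, 6), (2, 7), (0, 6), (1, 6), (0, 6), (2, 6), (0, 6), (0, 6), (0, 7), (2, 6), (0, 7), (10, 12)],
  [(1, 7), (0, 7), (0, 6), (0, 6), (4, 7), (0, 7), (0, 6), (0, 6), (4, 6), (0, 7), (2, 6), (0, 7), (1, 6), (0, 6), (2, 6), (0, 6), (0, 7), (0, 6), (2, 7), (0, 6), (11, 12)],
  [(48, 1)],
  [(49, 1)],
  [(1, 7), (0, 6), (0, 6), (0, 7), (4, 7), (0, 6), (0, 6), (0, 7), (4, 6), (0, 7), (2, 6), (0, 7), (1, 7), (0, 6), (2, 7), (0, 6), (0, 6), (0, 6), (2, 6), (0, 6), (14, 12)],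
  [(1, 7), (0, 6), (0, 6), (0, 7), (4, 7), (0, 6), (0, 6), (0, 7), (4, 7), (0, 6), (2, 7), (0, 6), (1, 6), (0, 7), (2, 6), (0, 7), (0, 6), (0, 6), (2, 6), (0, 6), (15, 12)]]

/-- A matrix. -/
def m23 : List (List (ℕ × ℕ)) := [
  [(0, 1)],
  [(1, 1)],
  [(2, 1)],
  [(7, 1)],
  [(8, 1)],
  [(5, 1)],
  [(6, 1)],
  [(3, 1)],
  [(4, 1)],
  [(9, 1)],
  [(10, 1)],
  [(15, 1)],
  [(16, 1)],
  [(13, 1)],
  [(14, 1)],
  [(11, 1)],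
  [(12, 1)],
  [(17, 1)],
  [(20, 1)],
  [(19, 1)],
  [(18, 1)],
  [(21, 1)],
  [(1, 1), (0, 12), (0, 1), (0, 12), (0, 12), (0, 1), (0, 1), (0, 12), (0, 1), (0, 12), (0, 1), (0, 12), (0, 1), (0, 12), (0, 1), (0, 12), (0, 12), (0, 12), (0, 12), (0, 12), (0, 12), (0, 12), (0, 12)],
  [(23, 1)],
  [(24, 1)],
  [(25, 1)],
  [(26, 1)],
  [(27, 1)],
  [(28, 1)],
  [(29, 1)],
  [(30, 1)],
  [(33, 1)],
  [(32, 1)],
  [(31, 1)],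
  [(34, 1)],
  [(1, 1), (0, 12), (2, 12), (0, 1), (2, 1), (0, 12), (2, 1), (0, 12), (2, 12), (1, 12), (1, 12), (1, 12), (7, 12), (1, 12), (1, 12)],
  [(44, 1)],
  [(45, 1)],
  [(46, 1)],
  [(47, 1)],
  [(48, 1)],
  [(51, 1)],
  [(50, 1)],
  [(49, 1)],
  [(36, 1)],
  [(37, 1)],
  [(38, 1)],
  [(39, 1)],
  [(40, 1)],
  [(43, 1)],
  [(42, 1)],
  [(41, 1)]]

/-- A matrix. -/
def m24 : List (List (ℕ × ℕ)) := [
  [(0, 1)],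
  [(1, 1)],
  [(2, 1)],
  [(3, 1)],
  [(4, 1)],
  [(8, 1)],
  [(7, 1)],
  [(6, 1)],
  [(5, 1)],
  [(9, 1)],
  [(10, 1)],
  [(11, 1)],
  [(12, 1)],
  [(15, 1)],
  [(16, 1)],
  [(13, 1)],
  [(14, 1)],
  [(17, 1)],
  [(18, 1)],
  [(20, 1)],
  [(19, 1)],
  [(21, 1)],
  [(22, 1)],
  [(1, 1), (0, 12), (0, 1), (0, 12), (0, 12), (0, 1), (0, 1), (0, 12), (0, 1), (0, 12), (0, 1), (0, 12), (0, 1), (0, 12), (0, 1), (0, 12), (0, 12), (0, 12), (0, 12), (0, 12), (0, 12), (0, 12), (0, 12)],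
  [(44, 1)],
  [(45, 1)],
  [(46, 1)],
  [(47, 1)],
  [(1, 7), (0, 6), (0, 7), (0, 6), (0, 12), (1, 1), (1, 7), (0, 6), (0, 7), (0, 6), (1, 12), (0, 1), (1, 6), (0, 6), (0, 12), (1, 6), (0, 6), (0, 12), (0, 7), (0, 7), (2, 7), (0, 7), (0, 7), (0, 6), (2, 7), (0, 6), (8, 12)],
  [(1, 6), (0, 7), (0, 6), (0, 7), (1, 12), (1, 1), (0, 6), (0, 7), (0, 6), (0, 7), (0, 12), (2, 1), (0, 7), (0, 7), (0, 1), (1, 7), (0, 7), (0, 1), (0, 7), (0, 7), (2, 7), (0, 7), (0, 6), (0, 7), (2, 6), (0, 7), (9, 12)],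
  [(48, 1)],
  [(49, 1)],
  [(51, 1)],
  [(50, 1)],
  [(1, 7), (0, 6), (0, 7), (0, 6), (2, 1), (0, 12), (0, 7), (0, 6), (0, 7), (0, 6), (2, 1), (0, 12), (0, 6), (0, 6), (0, 12), (1, 6), (0, 6), (0, 12), (0, 7), (0, 6), (2, 7), (0, 6), (0, 7), (0, 7), (2, 7), (0, 7), (12, 12)],
  [(1, 6), (0, 7), (0, 6), (0, 7), (0, 1), (0, 12), (2, 6), (0, 7), (0, 6), (0, 7), (0, 12), (0, 1), (2, 7), (0, 7), (0, 1), (1, 7), (0, 7), (0, 1), (0, 6), (0, 7), (2, 6), (0, 7), (0, 7), (0, 7), (2, 7), (0, 7), (13, 12)],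
  [(36, 1)],
  [(37, 1)],
  [(38, 1)],
  [(39, 1)],
  [(40, 1)],
  [(41, 1)],
  [(43, 1)],
  [(42, 1)],
  [(24, 1)],
  [(25, 1)],
  [(26, 1)],
  [(27, 1)],
  [(30, 1)],
  [(31, 1)],
  [(33, 1)],
  [(32, 1)]]

/-- A matrix. -/
def m25 : List (List (ℕ × ℕ)) := [
  [(0, 1)],
  [(1, 1)],
  [(2, 1)],
  [(3, 1)],
  [(4, 1)],
  [(5, 1)],
  [(6, 1)],
  [(7, 1)],
  [(8, 1)],
  [(13, 1)],
  [(14, 1)],
  [(15, 1)],
  [(16, 1)],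
  [(9, 1)],
  [(10, 1)],
  [(11, 1)],
  [(12, 1)],
  [(17, 1)],
  [(18, 1)],
  [(19, 1)],
  [(20, 1)],
  [(23, 1)],
  [(1, 1), (0, 12), (0, 1), (0, 12), (0, 12), (0, 1), (0, 1), (0, 12), (0, 1), (0, 12), (0, 1), (0, 12), (0, 1), (0, 12), (0, 1), (0, 12), (0, 12), (0, 12), (0, 12), (0, 12), (0, 12), (0, 12), (0, 12)],
  [(21, 1)],
  [(24, 1)],
  [(25, 1)],
  [(26, 1)],
  [(27, 1)],
  [(2, 1), (0, 12), (1, 1), (1, 12), (2, 1), (0, 12), (2, 1), (0, 12), (1, 1), (1, 1), (1, 1), (1, 1), (0, 12), (1, 12), (1, 12)],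
  [(1, 1), (2, 12), (1, 1), (1, 12), (0, 1), (2, 12), (0, 1), (2, 12), (0, 12), (1, 12), (1, 12), (1, 12), (1, 12), (1, 12), (1, 12)],
  [(30, 1)],
  [(31, 1)],
  [(32, 1)],
  [(33, 1)],
  [(3, 12), (0, 1), (2, 12), (0, 1), (2, 12), (0, 1), (2, 12), (0, 1), (0, 1), (1, 1), (1, 1), (1, 1), (6, 12), (1, 12), (1, 12)],
  [(1, 1), (0, 12), (2, 12), (0, 1), (2, 1), (0, 12), (2, 1), (0, 12), (2, 12), (1, 12), (1, 12), (1, 12), (7, 12), (1, 12), (1, 12)],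
  [(1, 4), (0, 3), (0, 3), (0, 3), (0, 3), (0, 4), (0, 3), (0, 3), (0, 7), (0, 6), (0, 6), (0, 6), (0, 1), (3, 3), (0, 3), (0, 3), (0, 3), (0, 6), (0, 6), (1, 3), (0, 3), (0, 3), (0, 3), (0, 6), (0, 6), (0, 3), (0, 3), (0, 3), (0, 3), (0, 6), (0, 6), (0, 10), (0, 10), (0, 10), (0, 10), (0, 10), (0, 10), (0, 3), (0, 3), (0, 10), (0, 10), (0, 3), (0, 3), (0, 10), (0, 10), (0, 3), (0, 3)],
  [(1, 3), (0, 4), (0, 3), (0, 3), (0, 4), (0, 3), (0, 3), (0, 3), (0, 6), (0, 7), (0, 6), (0, 6), (1, 1), (2, 10), (0, 10), (0, 10), (0, 10), (0, 7), (0, 7), (1, 3), (0, 3), (0, 3), (0, 3), (0, 6), (0, 6), (0, 10), (0, 10), (0, 10), (0, 10), (0, 7), (0, 7), (0, 10), (0, 10), (0, 10), (0, 10), (0, 3), (0, 3), (0, 10), (0, 10), (0, 10), (0, 10), (0, 3), (0, 3), (0, 3), (0, 3), (0, 10), (0, 10)],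
  [(1, 3), (0, 3), (0, 4), (0, 3), (0, 3), (0, 3), (0, 4), (0, 3), (0, 6), (0, 6), (0, 7), (0, 6), (2, 1), (1, 3), (0, 3), (0, 3), (0, 3), (0, 6), (0, 6), (1, 10), (0, 10), (0, 10), (0, 10), (0, 7), (0, 7), (0, 10), (0, 10), (0, 10), (0, 10), (0, 7), (0, 7), (0, 10), (0, 10), (0, 10), (0, 10), (0, 10), (0, 10), (0, 3), (0, 3), (0, 3), (0, 3), (0, 10), (0, 10), (0, 3), (0, 3), (0, 10), (0, 10)],
  [(1, 3), (0, 3), (0, 3), (0, 4), (0, 3), (0, 3), (0, 3), (0, 4), (0, 6), (0, 6), (0, 6), (0, 7), (3, 1), (0, 10), (0, 10), (0, 10), (0, 10), (0, 7), (0, 7), (1, 10), (0, 10), (0, 10), (0, 10), (0, 7), (0, 7), (0, 3), (0, 3), (0, 3), (0, 3), (0, 6), (0, 6), (0, 10), (0, 10), (0, 10), (0, 10), (0, 3), (0, 3), (0, 10), (0, 10), (0, 3), (0, 3), (0, 10), (0, 10), (0, 10), (0, 10), (0, 3), (0, 3)],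
  [(1, 3), (0, 10), (0, 3), (0, 10), (0, 10), (0, 3), (0, 3), (0, 10), (0, 6), (0, 7), (0, 6), (0, 7), (4, 4), (0, 3), (0, 4), (0, 3), (0, 7), (0, 6), (0, 1), (0, 3), (0, 10), (0, 3), (0, 10), (0, 6), (0, 7), (0, 3), (0, 10), (0, 3), (0, 10), (0, 6), (0, 7), (0, 10), (0, 3), (0, 10), (0, 3), (0, 10), (0, 10), (0, 10), (0, 10), (0, 10), (0, 3), (0, 3), (0, 10), (0, 10), (0, 3), (0, 10), (0, 3)],
  [(1, 4), (0, 9), (0, 4), (0, 9), (0, 9), (0, 4), (0, 4), (0, 9), (0, 7), (0, 6), (0, 7), (0, 6), (0, 1), (0, 12), (0, 1), (0, 12), (0, 2), (0, 3), (0, 2), (0, 3), (0, 5), (0, 6), (0, 12), (0, 10), (0, 3), (0, 10), (0, 3), (0, 7), (0, 6), (0, 10), (0, 3), (0, 10), (0, 3), (0, 7), (0, 6), (0, 10), (0, 3), (0, 10), (0, 3), (0, 10), (0, 10), (0, 10), (0, 10), (0, 3), (0, 10), (0, 10), (0, 3), (0, 3), (0, 10), (0, 3), (0, 10)],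
  [(1, 3), (0, 10), (0, 3), (0, 10), (0, 10), (0, 3), (0, 3), (0, 10), (0, 6), (0, 7), (0, 6), (0, 7), (4, 10), (0, 10), (0, 10), (0, 10), (0, 7), (0, 7), (1, 3), (0, 10), (0, 3), (0, 10), (0, 6), (0, 7), (0, 10), (0, 3), (0, 10), (0, 3), (0, 7), (0, 6), (0, 3), (0, 10), (0, 3), (0, 10), (0, 10), (0, 10), (0, 10), (0, 10), (0, 3), (0, 10), (0, 10), (0, 3), (0, 10), (0, 3), (0, 10), (0, 3)],
  [(1, 3), (0, 10), (0, 3), (0, 10), (0, 10), (0, 3), (0, 3), (0, 10), (0, 6), (0, 7), (0, 6), (0, 7), (4, 10), (0, 10), (0, 10), (0, 10), (0, 7), (0, 7), (1, 10), (0, 3), (0, 10), (0, 3), (0, 7), (0, 6), (0, 3), (0, 10), (0, 3), (0, 10), (0, 6), (0, 7), (0, 3), (0, 10), (0, 3), (0, 10), (0, 10), (0, 10), (0, 10), (0, 10), (0, 10), (0, 3), (0, 3), (0, 10), (0, 3), (0, 10), (0, 3), (0, 10)],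
  [(1, 3), (0, 4), (0, 9), (0, 10), (0, 4), (0, 3), (0, 9), (0, 10), (0, 6), (0, 7), (0, 6), (0, 7), (1, 1), (0, 12), (1, 4), (0, 10), (0, 4), (0, 10), (0, 7), (0, 7), (0, 1), (0, 3), (0, 3), (0, 3), (0, 3), (0, 6), (0, 6), (0, 3), (0, 10), (0, 3), (0, 10), (0, 6), (0, 7), (0, 10), (0, 10), (0, 3), (0, 3), (0, 10), (0, 3), (0, 3), (0, 10), (0, 10), (0, 10), (0, 10), (0, 10), (0, 10), (0, 3), (0, 3), (0, 10)],
  [(1, 4), (0, 3), (0, 10), (0, 9), (0, 3), (0, 4), (0, 10), (0, 9), (0, 7), (0, 6), (0, 7), (0, 6), (0, 1), (2, 12), (0, 9), (0, 3), (0, 9), (0, 3), (0, 6), (0, 6), (0, 12), (0, 3), (0, 3), (0, 3), (0, 3), (0, 6), (0, 6), (0, 10), (0, 3), (0, 10), (0, 3), (0, 7), (0, 6), (0, 10), (0, 10), (0, 3), (0, 3), (0, 3), (0, 10), (0, 10), (0, 3), (0, 10), (0, 10), (0, 10), (0, 10), (0, 3), (0, 10), (0, 10), (0, 3)],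
  [(1, 3), (0, 3), (0, 10), (0, 10), (0, 3), (0, 3), (0, 10), (0, 10), (0, 6), (0, 6), (0, 7), (0, 7), (4, 3), (0, 10), (0, 3), (0, 10), (0, 6), (0, 7), (1, 10), (0, 10), (0, 10), (0, 10), (0, 7), (0, 7), (0, 10), (0, 3), (0, 10), (0, 3), (0, 7), (0, 6), (0, 3), (0, 3), (0, 10), (0, 10), (0, 3), (0, 10), (0, 10), (0, 3), (0, 10), (0, 10), (0, 10), (0, 10), (0, 10), (0, 3), (0, 3), (0, 10)],
  [(1, 3), (0, 3), (0, 10), (0, 10), (0, 3), (0, 3), (0, 10), (0, 10), (0, 6), (0, 6), (0, 7), (0, 7), (4, 10), (0, 3), (0, 10), (0, 3), (0, 7), (0, 6), (1, 10), (0, 10), (0, 10), (0, 10), (0, 7), (0, 7), (0, 3), (0, 10), (0, 3), (0, 10), (0, 6), (0, 7), (0, 3), (0, 3), (0, 10), (0, 10), (0, 10), (0, 3), (0, 3), (0, 10), (0, 10), (0, 10), (0, 10), (0, 10), (0, 3), (0, 10), (0, 10), (0, 3)],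
  [(1, 3), (0, 10), (0, 9), (0, 4), (0, 10), (0, 3), (0, 9), (0, 4), (0, 6), (0, 7), (0, 6), (0, 7), (2, 12), (0, 1), (0, 4), (0, 10), (0, 4), (0, 10), (0, 7), (0, 7), (0, 1), (0, 3), (0, 10), (0, 3), (0, 10), (0, 6), (0, 7), (0, 3), (0, 3), (0, 3), (0, 3), (0, 6), (0, 6), (0, 10), (0, 3), (0, 3), (0, 10), (0, 10), (0, 3), (0, 10), (0, 3), (0, 10), (0, 3), (0, 10), (0, 3), (0, 10), (0, 10), (0, 10), (0, 10)],
  [(1, 4), (0, 9), (0, 10), (0, 3), (0, 9), (0, 4), (0, 10), (0, 3), (0, 7), (0, 6), (0, 7), (0, 6), (0, 1), (0, 12), (2, 9), (0, 3), (0, 9), (0, 3), (0, 6), (0, 6), (0, 12), (0, 10), (0, 3), (0, 10), (0, 3), (0, 7), (0, 6), (0, 3), (0, 3), (0, 3), (0, 3), (0, 6), (0, 6), (0, 10), (0, 3), (0, 3), (0, 10), (0, 3), (0, 10), (0, 3), (0, 10), (0, 3), (0, 10), (0, 3), (0, 10), (0, 10), (0, 10), (0, 10), (0, 10)],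
  [(1, 3), (0, 10), (0, 10), (0, 3), (0, 10), (0, 3), (0, 10), (0, 3), (0, 6), (0, 7), (0, 7), (0, 6), (4, 10), (0, 3), (0, 10), (0, 3), (0, 7), (0, 6), (1, 3), (0, 10), (0, 3), (0, 10), (0, 6), (0, 7), (0, 10), (0, 10), (0, 10), (0, 10), (0, 7), (0, 7), (0, 3), (0, 10), (0, 10), (0, 3), (0, 10), (0, 3), (0, 10), (0, 3), (0, 3), (0, 10), (0, 3), (0, 10), (0, 10), (0, 10), (0, 10), (0, 10)],
  [(1, 3), (0, 10), (0, 10), (0, 3), (0, 10), (0, 3), (0, 10), (0, 3), (0, 6), (0, 7), (0, 7), (0, 6), (4, 3), (0, 10), (0, 3), (0, 10), (0, 6), (0, 7), (1, 10), (0, 3), (0, 10), (0, 3), (0, 7), (0, 6), (0, 10), (0, 10), (0, 10), (0, 10), (0, 7), (0, 7), (0, 3), (0, 10), (0, 10), (0, 3), (0, 3), (0, 10), (0, 3), (0, 10), (0, 10), (0, 3), (0, 10), (0, 3), (0, 10), (0, 10), (0, 10), (0, 10)]]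

/-- A matrix. -/
def m26 : List (List (ℕ × ℕ)) := [
  [(0, 1)],
  [(1, 1)],
  [(2, 1)],
  [(3, 1)],
  [(4, 1)],
  [(5, 1)],
  [(6, 1)],
  [(7, 1)],
  [(8, 1)],
  [(11, 1)],
  [(12, 1)],
  [(9, 1)],
  [(10, 1)],
  [(15, 1)],
  [(16, 1)],
  [(13, 1)],
  [(14, 1)],
  [(17, 1)],
  [(18, 1)],
  [(19, 1)],
  [(20, 1)],
  [(22, 1)],
  [(21, 1)],
  [(1, 1), (0, 12), (0, 1), (0, 12), (0, 12), (0, 1), (0, 1), (0, 12), (0, 1), (0, 12), (0, 1), (0, 12), (0, 1), (0, 12), (0, 1), (0, 12), (0, 12), (0, 12), (0, 12), (0, 12), (0, 12), (0, 12), (0, 12)],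
  [(1, 10), (0, 10), (0, 3), (0, 3), (0, 10), (0, 10), (0, 3), (0, 3), (8, 10), (0, 3), (0, 10), (0, 3), (3, 9), (0, 10), (0, 10), (0, 10), (0, 12), (1, 10), (0, 3), (0, 10), (0, 3), (2, 10), (0, 10), (0, 3), (0, 3), (0, 10), (0, 3), (0, 10), (0, 3), (0, 10), (0, 10), (0, 3), (0, 3), (0, 10), (0, 3), (0, 10), (0, 3)],
  [(1, 10), (0, 10), (0, 3), (0, 3), (0, 10), (0, 10), (0, 3), (0, 3), (8, 3), (0, 10), (0, 3), (0, 10), (3, 10), (0, 9), (0, 10), (0, 10), (1, 12), (0, 3), (0, 10), (0, 3), (0, 10), (2, 10), (0, 10), (0, 3), (0, 3), (0, 3), (0, 10), (0, 3), (0, 10), (0, 10), (0, 10), (0, 3), (0, 3), (0, 3), (0, 10), (0, 3), (0, 10)],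
  [(1, 10), (0, 9), (0, 4), (0, 3), (0, 9), (0, 10), (0, 4), (0, 3), (1, 12), (0, 1), (2, 12), (0, 1), (1, 9), (0, 3), (0, 9), (0, 3), (0, 12), (1, 12), (0, 11), (0, 10), (0, 10), (0, 10), (0, 1), (1, 10), (0, 3), (0, 10), (0, 3), (2, 3), (0, 3), (0, 10), (0, 10), (0, 3), (0, 10), (0, 3), (0, 10), (0, 3), (0, 3), (0, 10), (0, 10), (0, 3), (0, 10), (0, 3), (0, 10)],
  [(1, 9), (0, 10), (0, 3), (0, 4), (0, 10), (0, 9), (0, 3), (0, 4), (0, 12), (2, 1), (0, 12), (2, 1), (0, 4), (0, 10), (0, 4), (0, 10), (0, 1), (1, 1), (0, 10), (0, 11), (0, 10), (0, 10), (1, 1), (0, 3), (0, 10), (0, 3), (0, 10), (2, 3), (0, 3), (0, 10), (0, 10), (0, 10), (0, 3), (0, 10), (0, 3), (0, 3), (0, 3), (0, 10), (0, 10), (0, 10), (0, 3), (0, 10), (0, 3)],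
  [(1, 10), (0, 10), (0, 3), (0, 3), (0, 10), (0, 10), (0, 3), (0, 3), (8, 10), (0, 3), (0, 10), (0, 3), (3, 3), (0, 3), (0, 3), (0, 3), (2, 3), (0, 10), (0, 3), (0, 10), (2, 10), (0, 10), (0, 3), (0, 3), (0, 10), (0, 3), (0, 10), (0, 3), (0, 3), (0, 3), (0, 10), (0, 10), (0, 3), (0, 10), (0, 3), (0, 10)],
  [(1, 10), (0, 10), (0, 3), (0, 3), (0, 10), (0, 10), (0, 3), (0, 3), (8, 3), (0, 10), (0, 3), (0, 10), (3, 3), (0, 3), (0, 3), (0, 3), (2, 10), (0, 3), (0, 10), (0, 3), (2, 10), (0, 10), (0, 3), (0, 3), (0, 3), (0, 10), (0, 3), (0, 10), (0, 3), (0, 3), (0, 10), (0, 10), (0, 10), (0, 3), (0, 10), (0, 3)],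
  [(1, 10), (0, 3), (0, 3), (0, 10), (0, 3), (0, 10), (0, 3), (0, 10), (8, 10), (0, 3), (0, 10), (0, 3), (3, 10), (0, 3), (0, 10), (0, 3), (2, 9), (0, 10), (0, 10), (0, 10), (0, 12), (1, 10), (0, 3), (0, 3), (0, 10), (0, 10), (0, 3), (0, 3), (0, 10), (0, 10), (0, 3), (0, 3), (0, 10), (0, 10), (0, 10), (0, 3), (0, 3)],
  [(1, 10), (0, 3), (0, 3), (0, 10), (0, 3), (0, 10), (0, 3), (0, 10), (8, 3), (0, 10), (0, 3), (0, 10), (3, 3), (0, 10), (0, 3), (0, 10), (2, 10), (0, 9), (0, 10), (0, 10), (1, 12), (0, 10), (0, 3), (0, 3), (0, 10), (0, 3), (0, 10), (0, 10), (0, 3), (0, 3), (0, 10), (0, 10), (0, 3), (0, 10), (0, 10), (0, 3), (0, 3)],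
  [(1, 10), (0, 3), (0, 4), (0, 9), (0, 3), (0, 10), (0, 4), (0, 9), (2, 1), (0, 12), (2, 1), (0, 12), (0, 9), (0, 3), (0, 9), (0, 3), (0, 12), (1, 12), (0, 10), (0, 3), (0, 10), (0, 3), (2, 11), (0, 10), (0, 10), (0, 10), (0, 1), (1, 3), (0, 10), (0, 10), (0, 3), (0, 3), (0, 10), (0, 10), (0, 3), (0, 3), (0, 10), (0, 10), (0, 3), (0, 3), (0, 3), (0, 10), (0, 10)],
  [(1, 9), (0, 4), (0, 3), (0, 10), (0, 4), (0, 9), (0, 3), (0, 10), (0, 12), (0, 1), (2, 12), (0, 1), (2, 4), (0, 10), (0, 4), (0, 10), (0, 1), (1, 1), (0, 3), (0, 10), (0, 3), (0, 10), (2, 10), (0, 11), (0, 10), (0, 10), (1, 1), (0, 3), (0, 10), (0, 10), (0, 3), (0, 10), (0, 3), (0, 3), (0, 10), (0, 10), (0, 3), (0, 3), (0, 10), (0, 3), (0, 3), (0, 10), (0, 10)],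
  [(1, 10), (0, 3), (0, 3), (0, 10), (0, 3), (0, 10), (0, 3), (0, 10), (8, 10), (0, 3), (0, 10), (0, 3), (3, 3), (0, 10), (0, 3), (0, 10), (2, 3), (0, 3), (0, 3), (0, 3), (2, 10), (0, 3), (0, 3), (0, 10), (0, 10), (0, 3), (0, 3), (0, 10), (0, 3), (0, 10), (0, 10), (0, 3), (0, 3), (0, 3), (0, 10), (0, 10)],
  [(1, 10), (0, 3), (0, 3), (0, 10), (0, 3), (0, 10), (0, 3), (0, 10), (8, 3), (0, 10), (0, 3), (0, 10), (3, 10), (0, 3), (0, 10), (0, 3), (2, 3), (0, 3), (0, 3), (0, 3), (2, 10), (0, 3), (0, 3), (0, 10), (0, 3), (0, 10), (0, 10), (0, 3), (0, 10), (0, 3), (0, 3), (0, 10), (0, 3), (0, 3), (0, 10), (0, 10)],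
  [(36, 1)],
  [(37, 1)],
  [(38, 1)],
  [(39, 1)],
  [(40, 1)],
  [(41, 1)],
  [(42, 1)],
  [(43, 1)],
  [(1, 3), (0, 4), (0, 9), (0, 10), (0, 4), (0, 3), (0, 9), (0, 10), (0, 6), (0, 7), (0, 6), (0, 7), (1, 1), (0, 12), (1, 4), (0, 10), (0, 4), (0, 10), (0, 7), (0, 7), (0, 1), (0, 3), (0, 3), (0, 3), (0, 3), (0, 6), (0, 6), (0, 3), (0, 10), (0, 3), (0, 10), (0, 6), (0, 7), (0, 10), (0, 10), (0, 3), (0, 3), (0, 10), (0, 3), (0, 3), (0, 10), (0, 10), (0, 10), (0, 10), (0, 10), (0, 10), (0, 3), (0, 3), (0, 10)],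
  [(1, 4), (0, 3), (0, 10), (0, 9), (0, 3), (0, 4), (0, 10), (0, 9), (0, 7), (0, 6), (0, 7), (0, 6), (0, 1), (2, 12), (0, 9), (0, 3), (0, 9), (0, 3), (0, 6), (0, 6), (0, 12), (0, 3), (0, 3), (0, 3), (0, 3), (0, 6), (0, 6), (0, 10), (0, 3), (0, 10), (0, 3), (0, 7), (0, 6), (0, 10), (0, 10), (0, 3), (0, 3), (0, 3), (0, 10), (0, 10), (0, 3), (0, 10), (0, 10), (0, 10), (0, 10), (0, 3), (0, 10), (0, 10), (0, 3)],
  [(1, 3), (0, 3), (0, 10), (0, 10), (0, 3), (0, 3), (0, 10), (0, 10), (0, 6), (0, 6), (0, 7), (0, 7), (4, 3), (0, 10), (0, 3), (0, 10), (0, 6), (0, 7), (1, 10), (0, 10), (0, 10), (0, 10), (0, 7), (0, 7), (0, 10), (0, 3), (0, 10), (0, 3), (0, 7), (0, 6), (0, 3), (0, 3), (0, 10), (0, 10), (0, 3), (0, 10), (0, 10), (0, 3), (0, 10), (0, 10), (0, 10), (0, 10), (0, 10), (0, 3), (0, 3), (0, 10)],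
  [(1, 3), (0, 3), (0, 10), (0, 10), (0, 3), (0, 3), (0, 10), (0, 10), (0, 6), (0, 6), (0, 7), (0, 7), (4, 10), (0, 3), (0, 10), (0, 3), (0, 7), (0, 6), (1, 10), (0, 10), (0, 10), (0, 10), (0, 7), (0, 7), (0, 3), (0, 10), (0, 3), (0, 10), (0, 6), (0, 7), (0, 3), (0, 3), (0, 10), (0, 10), (0, 10), (0, 3), (0, 3), (0, 10), (0, 10), (0, 10), (0, 10), (0, 10), (0, 3), (0, 10), (0, 10), (0, 3)],
  [(1, 3), (0, 10), (0, 9), (0, 4), (0, 10), (0, 3), (0, 9), (0, 4), (0, 6), (0, 7), (0, 6), (0, 7), (2, 12), (0, 1), (0, 4), (0, 10), (0, 4), (0, 10), (0, 7), (0, 7), (0, 1), (0, 3), (0, 10), (0, 3), (0, 10), (0, 6), (0, 7), (0, 3), (0, 3), (0, 3), (0, 3), (0, 6), (0, 6), (0, 10), (0, 3), (0, 3), (0, 10), (0, 10), (0, 3), (0, 10), (0, 3), (0, 10), (0, 3), (0, 10), (0, 3), (0, 10), (0, 10), (0, 10), (0, 10)],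
  [(1, 4), (0, 9), (0, 10), (0, 3), (0, 9), (0, 4), (0, 10), (0, 3), (0, 7), (0, 6), (0, 7), (0, 6), (0, 1), (0, 12), (2, 9), (0, 3), (0, 9), (0, 3), (0, 6), (0, 6), (0, 12), (0, 10), (0, 3), (0, 10), (0, 3), (0, 7), (0, 6), (0, 3), (0, 3), (0, 3), (0, 3), (0, 6), (0, 6), (0, 10), (0, 3), (0, 3), (0, 10), (0, 3), (0, 10), (0, 3), (0, 10), (0, 3), (0, 10), (0, 3), (0, 10), (0, 10), (0, 10), (0, 10), (0, 10)],
  [(1, 3), (0, 10), (0, 10), (0, 3), (0, 10), (0, 3), (0, 10), (0, 3), (0, 6), (0, 7), (0, 7), (0, 6), (4, 10), (0, 3), (0, 10), (0, 3), (0, 7), (0, 6), (1, 3), (0, 10), (0, 3), (0, 10), (0, 6), (0, 7), (0, 10), (0, 10), (0, 10), (0, 10), (0, 7), (0, 7), (0, 3), (0, 10), (0, 10), (0, 3), (0, 10), (0, 3), (0, 10), (0, 3), (0, 3), (0, 10), (0, 3), (0, 10), (0, 10), (0, 10), (0, 10), (0, 10)],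
  [(1, 3), (0, 10), (0, 10), (0, 3), (0, 10), (0, 3), (0, 10), (0, 3), (0, 6), (0, 7), (0, 7), (0, 6), (4, 3), (0, 10), (0, 3), (0, 10), (0, 6), (0, 7), (1, 10), (0, 3), (0, 10), (0, 3), (0, 7), (0, 6), (0, 10), (0, 10), (0, 10), (0, 10), (0, 7), (0, 7), (0, 3), (0, 10), (0, 10), (0, 3), (0, 3), (0, 10), (0, 3), (0, 10), (0, 10), (0, 3), (0, 10), (0, 3), (0, 10), (0, 10), (0, 10), (0, 10)]]

/-- A matrix. -/
def m27 : List (List (ℕ × ℕ)) := [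
  [(0, 1)],
  [(9, 1)],
  [(10, 1)],
  [(11, 1)],
  [(12, 1)],
  [(14, 1)],
  [(13, 1)],
  [(15, 1)],
  [(16, 1)],
  [(1, 1)],
  [(2, 1)],
  [(3, 1)],
  [(4, 1)],
  [(6, 1)],
  [(5, 1)],
  [(7, 1)],
  [(8, 1)],
  [(21, 1)],
  [(22, 1)],
  [(23, 1)],
  [(1, 1), (0, 12), (0, 1), (0, 12), (0, 12), (0, 1), (0, 1), (0, 12), (0, 1), (0, 12), (0, 1), (0, 12), (0, 1), (0, 12), (0, 1), (0, 12), (0, 12), (0, 12), (0, 12), (0, 12), (0, 12), (0, 12), (0, 12)],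
  [(17, 1)],
  [(18, 1)],
  [(19, 1)],
  [(28, 1)],
  [(29, 1)],
  [(2, 1), (0, 12), (1, 1), (1, 12), (2, 1), (0, 12), (2, 1), (0, 12), (1, 1), (1, 1), (1, 1), (1, 1), (0, 12), (1, 12), (1, 12)],
  [(1, 1), (2, 12), (1, 1), (1, 12), (0, 1), (2, 12), (0, 1), (2, 12), (0, 12), (1, 12), (1, 12), (1, 12), (1, 12), (1, 12), (1, 12)],
  [(24, 1)],
  [(25, 1)],
  [(34, 1)],
  [(35, 1)],
  [(3, 12), (0, 1), (2, 12), (0, 1), (2, 12), (0, 1), (2, 12), (0, 1), (0, 1), (1, 1), (1, 1), (1, 1), (6, 12), (1, 12), (1, 12)],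
  [(1, 1), (0, 12), (2, 12), (0, 1), (2, 1), (0, 12), (2, 1), (0, 12), (2, 12), (1, 12), (1, 12), (1, 12), (7, 12), (1, 12), (1, 12)],
  [(30, 1)],
  [(31, 1)],
  [(1, 6), (0, 7), (0, 7), (0, 7), (1, 12), (2, 6), (0, 7), (0, 7), (0, 7), (0, 12), (3, 7), (0, 7), (2, 7), (0, 7), (1, 7), (0, 7), (2, 7), (0, 7), (0, 7), (0, 7), (2, 7), (0, 7), (0, 12)],
  [(1, 7), (0, 6), (0, 7), (0, 7), (0, 12), (3, 7), (0, 6), (0, 7), (0, 7), (1, 12), (2, 6), (0, 6), (2, 6), (0, 6), (1, 7), (0, 7), (2, 7), (0, 7), (0, 6), (0, 6), (2, 6), (0, 6), (1, 12)],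
  [(1, 7), (0, 7), (0, 6), (0, 7), (2, 12), (1, 7), (0, 7), (0, 6), (0, 7), (2, 12), (1, 7), (0, 7), (2, 7), (0, 7), (1, 6), (0, 6), (2, 6), (0, 6), (0, 6), (0, 6), (2, 6), (0, 6), (2, 12)],
  [(1, 7), (0, 7), (0, 7), (0, 6), (3, 12), (0, 7), (0, 7), (0, 7), (0, 6), (3, 12), (0, 6), (0, 6), (2, 6), (0, 6), (1, 6), (0, 6), (2, 6), (0, 6), (0, 7), (0, 7), (2, 7), (0, 7), (3, 12)],
  [(1, 7), (0, 6), (0, 7), (0, 6), (4, 7), (0, 6), (0, 7), (0, 6), (4, 6), (0, 7), (0, 12), (1, 6), (0, 7), (0, 12), (0, 7), (0, 6), (2, 7), (0, 6), (0, 7), (0, 6), (2, 7), (0, 6), (4, 12)],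
  [(1, 6), (0, 7), (0, 6), (0, 7), (0, 1), (0, 12), (0, 12), (0, 1), (0, 6), (0, 7), (0, 6), (0, 7), (0, 12), (0, 1), (0, 12), (0, 1), (0, 8), (0, 7), (0, 1), (1, 8), (0, 7), (0, 1), (0, 6), (0, 7), (2, 6), (0, 7), (0, 6), (0, 7), (2, 6), (0, 7), (5, 12)],
  [(1, 7), (0, 6), (0, 7), (0, 6), (4, 7), (0, 6), (0, 7), (0, 6), (4, 6), (0, 6), (2, 6), (0, 6), (1, 7), (0, 6), (2, 7), (0, 6), (0, 6), (0, 7), (2, 6), (0, 7), (6, 12)],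
  [(1, 7), (0, 6), (0, 7), (0, 6), (4, 7), (0, 6), (0, 7), (0, 6), (4, 6), (0, 6), (2, 6), (0, 6), (1, 6), (0, 7), (2, 6), (0, 7), (0, 7), (0, 6), (2, 7), (0, 6), (7, 12)],
  [(1, 7), (0, 6), (0, 7), (0, 6), (0, 12), (1, 1), (1, 7), (0, 6), (0, 7), (0, 6), (1, 12), (0, 1), (1, 6), (0, 6), (0, 12), (1, 6), (0, 6), (0, 12), (0, 7), (0, 7), (2, 7), (0, 7), (0, 7), (0, 6), (2, 7), (0, 6), (8, 12)],
  [(1, 6), (0, 7), (0, 6), (0, 7), (1, 12), (1, 1), (0, 6), (0, 7), (0, 6), (0, 7), (0, 12), (2, 1), (0, 7), (0, 7), (0, 1), (1, 7), (0, 7), (0, 1), (0, 7), (0, 7), (2, 7), (0, 7), (0, 6), (0, 7), (2, 6), (0, 7), (9, 12)],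
  [(1, 7), (0, 7), (0, 6), (0, 6), (4, 7), (0, 7), (0, 6), (0, 6), (4, 7), (0, 6), (2, 7), (0, 6), (1, 6), (0, 6), (2, 6), (0, 6), (0, 6), (0, 7), (2, 6), (0, 7), (10, 12)],
  [(1, 7), (0, 7), (0, 6), (0, 6), (4, 7), (0, 7), (0, 6), (0, 6), (4, 6), (0, 7), (2, 6), (0, 7), (1, 6), (0, 6), (2, 6), (0, 6), (0, 7), (0, 6), (2, 7), (0, 6), (11, 12)],
  [(1, 7), (0, 6), (0, 7), (0, 6), (2, 1), (0, 12), (0, 7), (0, 6), (0, 7), (0, 6), (2, 1), (0, 12), (0, 6), (0, 6), (0, 12), (1, 6), (0, 6), (0, 12), (0, 7), (0, 6), (2, 7), (0, 6), (0, 7), (0, 7), (2, 7), (0, 7), (12, 12)],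
  [(1, 6), (0, 7), (0, 6), (0, 7), (0, 1), (0, 12), (2, 6), (0, 7), (0, 6), (0, 7), (0, 12), (0, 1), (2, 7), (0, 7), (0, 1), (1, 7), (0, 7), (0, 1), (0, 6), (0, 7), (2, 6), (0, 7), (0, 7), (0, 7), (2, 7), (0, 7), (13, 12)],
  [(1, 7), (0, 6), (0, 6), (0, 7), (4, 7), (0, 6), (0, 6), (0, 7), (4, 6), (0, 7), (2, 6), (0, 7), (1, 7), (0, 6), (2, 7), (0, 6), (0, 6), (0, 6), (2, 6), (0, 6), (14, 12)],
  [(1, 7), (0, 6), (0, 6), (0, 7), (4, 7), (0, 6), (0, 6), (0, 7), (4, 7), (0, 6), (2, 7), (0, 6), (1, 6), (0, 7), (2, 6), (0, 7), (0, 6), (0, 6), (2, 6), (0, 6), (15, 12)]]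

/-- A matrix. -/
def m28 : List (List (ℕ × ℕ)) := [
  [(0, 1)],
  [(6, 1)],
  [(5, 1)],
  [(7, 1)],
  [(8, 1)],
  [(2, 1)],
  [(1, 1)],
  [(3, 1)],
  [(4, 1)],
  [(13, 1)],
  [(14, 1)],
  [(15, 1)],
  [(16, 1)],
  [(9, 1)],
  [(10, 1)],
  [(11, 1)],
  [(12, 1)],
  [(19, 1)],
  [(20, 1)],
  [(17, 1)],
  [(18, 1)],
  [(23, 1)],
  [(1, 1), (0, 12), (0, 1), (0, 12), (0, 12), (0, 1), (0, 1), (0, 12), (0, 1), (0, 12), (0, 1), (0, 12), (0, 1), (0, 12), (0, 1), (0, 12), (0, 12), (0, 12), (0, 12), (0, 12), (0, 12), (0, 12), (0, 12)],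
  [(21, 1)],
  [(26, 1)],
  [(27, 1)],
  [(24, 1)],
  [(25, 1)],
  [(2, 1), (0, 12), (1, 1), (1, 12), (2, 1), (0, 12), (2, 1), (0, 12), (1, 1), (1, 1), (1, 1), (1, 1), (0, 12), (1, 12), (1, 12)],
  [(1, 1), (2, 12), (1, 1), (1, 12), (0, 1), (2, 12), (0, 1), (2, 12), (0, 12), (1, 12), (1, 12), (1, 12), (1, 12), (1, 12), (1, 12)],
  [(32, 1)],
  [(33, 1)],
  [(30, 1)],
  [(31, 1)],
  [(3, 12), (0, 1), (2, 12), (0, 1), (2, 12), (0, 1), (2, 12), (0, 1), (0, 1), (1, 1), (1, 1), (1, 1), (6, 12), (1, 12), (1, 12)],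
  [(1, 1), (0, 12), (2, 12), (0, 1), (2, 1), (0, 12), (2, 1), (0, 12), (2, 12), (1, 12), (1, 12), (1, 12), (7, 12), (1, 12), (1, 12)],
  [(36, 12)],
  [(37, 12)],
  [(38, 12)],
  [(39, 12)],
  [(40, 12)],
  [(41, 12)],
  [(42, 12)],
  [(43, 12)],
  [(44, 12)],
  [(45, 12)],
  [(46, 12)],
  [(47, 12)],
  [(48, 12)],
  [(49, 12)],
  [(50, 12)],
  [(51, 12)]]

/-- A matrix. -/
def m29 : List (List (ℕ × ℕ)) := [
  [(0, 1)],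
  [(3, 1)],
  [(4, 1)],
  [(1, 1)],
  [(2, 1)],
  [(8, 1)],
  [(7, 1)],
  [(6, 1)],
  [(5, 1)],
  [(11, 1)],
  [(12, 1)],
  [(9, 1)],
  [(10, 1)],
  [(15, 1)],
  [(16, 1)],
  [(13, 1)],
  [(14, 1)],
  [(18, 1)],
  [(17, 1)],
  [(20, 1)],
  [(19, 1)],
  [(22, 1)],
  [(21, 1)],
  [(1, 1), (0, 12), (0, 1), (0, 12), (0, 12), (0, 1), (0, 1), (0, 12), (0, 1), (0, 12), (0, 1), (0, 12), (0, 1), (0, 12), (0, 1), (0, 12), (0, 12), (0, 12), (0, 12), (0, 12), (0, 12), (0, 12), (0, 12)],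
  [(24, 12)],
  [(25, 12)],
  [(26, 12)],
  [(27, 12)],
  [(28, 12)],
  [(29, 12)],
  [(30, 12)],
  [(31, 12)],
  [(32, 12)],
  [(33, 12)],
  [(34, 12)],
  [(35, 12)],
  [(38, 1)],
  [(39, 1)],
  [(36, 1)],
  [(37, 1)],
  [(41, 1)],
  [(40, 1)],
  [(43, 1)],
  [(42, 1)],
  [(44, 12)],
  [(45, 12)],
  [(46, 12)],
  [(47, 12)],
  [(48, 12)],
  [(49, 12)],
  [(50, 12)],
  [(51, 12)]]

/-- A matrix. -/
def m30 : List (List (ℕ × ℕ)) := [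
  [(0, 1)],
  [(1, 1)],
  [(2, 1)],
  [(3, 1)],
  [(4, 1)],
  [(5, 1)],
  [(6, 1)],
  [(7, 1)],
  [(8, 1)],
  [(9, 1)],
  [(10, 1)],
  [(11, 1)],
  [(12, 1)],
  [(13, 1)],
  [(14, 1)],
  [(15, 1)],
  [(16, 1)],
  [(17, 1)],
  [(18, 1)],
  [(19, 1)],
  [(20, 1)],
  [(21, 1)],
  [(22, 1)],
  [(23, 1)],
  [(24, 1)],
  [(25, 1)],
  [(26, 1)],
  [(27, 1)],
  [(28, 1)],
  [(29, 1)],
  [(30, 1)],
  [(31, 1)],
  [(32, 1)],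
  [(33, 1)],
  [(34, 1)],
  [(35, 1)],
  [(1, 6), (0, 7), (0, 7), (0, 7), (1, 12), (2, 6), (0, 7), (0, 7), (0, 7), (0, 12), (3, 7), (0, 7), (2, 7), (0, 7), (1, 7), (0, 7), (2, 7), (0, 7), (0, 7), (0, 7), (2, 7), (0, 7), (0, 12)],
  [(1, 7), (0, 6), (0, 7), (0, 7), (0, 12), (3, 7), (0, 6), (0, 7), (0, 7), (1, 12), (2, 6), (0, 6), (2, 6), (0, 6), (1, 7), (0, 7), (2, 7), (0, 7), (0, 6), (0, 6), (2, 6), (0, 6), (1, 12)],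
  [(1, 7), (0, 7), (0, 6), (0, 7), (2, 12), (1, 7), (0, 7), (0, 6), (0, 7), (2, 12), (1, 7), (0, 7), (2, 7), (0, 7), (1, 6), (0, 6), (2, 6), (0, 6), (0, 6), (0, 6), (2, 6), (0, 6), (2, 12)],
  [(1, 7), (0, 7), (0, 7), (0, 6), (3, 12), (0, 7), (0, 7), (0, 7), (0, 6), (3, 12), (0, 6), (0, 6), (2, 6), (0, 6), (1, 6), (0, 6), (2, 6), (0, 6), (0, 7), (0, 7), (2, 7), (0, 7), (3, 12)],
  [(1, 7), (0, 6), (0, 7), (0, 6), (4, 7), (0, 6), (0, 7), (0, 6), (4, 6), (0, 7), (0, 12), (1, 6), (0, 7), (0, 12), (0, 7), (0, 6), (2, 7), (0, 6), (0, 7), (0, 6), (2, 7), (0, 6), (4, 12)],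
  [(1, 6), (0, 7), (0, 6), (0, 7), (0, 1), (0, 12), (0, 12), (0, 1), (0, 6), (0, 7), (0, 6), (0, 7), (0, 12), (0, 1), (0, 12), (0, 1), (0, 8), (0, 7), (0, 1), (1, 8), (0, 7), (0, 1), (0, 6), (0, 7), (2, 6), (0, 7), (0, 6), (0, 7), (2, 6), (0, 7), (5, 12)],
  [(1, 7), (0, 6), (0, 7), (0, 6), (4, 7), (0, 6), (0, 7), (0, 6), (4, 6), (0, 6), (2, 6), (0, 6), (1, 7), (0, 6), (2, 7), (0, 6), (0, 6), (0, 7), (2, 6), (0, 7), (6, 12)],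
  [(1, 7), (0, 6), (0, 7), (0, 6), (4, 7), (0, 6), (0, 7), (0, 6), (4, 6), (0, 6), (2, 6), (0, 6), (1, 6), (0, 7), (2, 6), (0, 7), (0, 7), (0, 6), (2, 7), (0, 6), (7, 12)],
  [(1, 7), (0, 6), (0, 7), (0, 6), (0, 12), (1, 1), (1, 7), (0, 6), (0, 7), (0, 6), (1, 12), (0, 1), (1, 6), (0, 6), (0, 12), (1, 6), (0, 6), (0, 12), (0, 7), (0, 7), (2, 7), (0, 7), (0, 7), (0, 6), (2, 7), (0, 6), (8, 12)],
  [(1, 6), (0, 7), (0, 6), (0, 7), (1, 12), (1, 1), (0, 6), (0, 7), (0, 6), (0, 7), (0, 12), (2, 1), (0, 7), (0, 7), (0, 1), (1, 7), (0, 7), (0, 1), (0, 7), (0, 7), (2, 7), (0, 7), (0, 6), (0, 7), (2, 6), (0, 7), (9, 12)],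
  [(1, 7), (0, 7), (0, 6), (0, 6), (4, 7), (0, 7), (0, 6), (0, 6), (4, 7), (0, 6), (2, 7), (0, 6), (1, 6), (0, 6), (2, 6), (0, 6), (0, 6), (0, 7), (2, 6), (0, 7), (10, 12)],
  [(1, 7), (0, 7), (0, 6), (0, 6), (4, 7), (0, 7), (0, 6), (0, 6), (4, 6), (0, 7), (2, 6), (0, 7), (1, 6), (0, 6), (2, 6), (0, 6), (0, 7), (0, 6), (2, 7), (0, 6), (11, 12)],
  [(1, 7), (0, 6), (0, 7), (0, 6), (2, 1), (0, 12), (0, 7), (0, 6), (0, 7), (0, 6), (2, 1), (0, 12), (0, 6), (0, 6), (0, 12), (1, 6), (0, 6), (0, 12), (0, 7), (0, 6), (2, 7), (0, 6), (0, 7), (0, 7), (2, 7), (0, 7), (12, 12)],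
  [(1, 6), (0, 7), (0, 6), (0, 7), (0, 1), (0, 12), (2, 6), (0, 7), (0, 6), (0, 7), (0, 12), (0, 1), (2, 7), (0, 7), (0, 1), (1, 7), (0, 7), (0, 1), (0, 6), (0, 7), (2, 6), (0, 7), (0, 7), (0, 7), (2, 7), (0, 7), (13, 12)],
  [(1, 7), (0, 6), (0, 6), (0, 7), (4, 7), (0, 6), (0, 6), (0, 7), (4, 6), (0, 7), (2, 6), (0, 7), (1, 7), (0, 6), (2, 7), (0, 6), (0, 6), (0, 6), (2, 6), (0, 6), (14, 12)],
  [(1, 7), (0, 6), (0, 6), (0, 7), (4, 7), (0, 6), (0, 6), (0, 7), (4, 7), (0, 6), (2, 7), (0, 6), (1, 6), (0, 7), (2, 6), (0, 7), (0, 6), (0, 6), (2, 6), (0, 6), (15, 12)]]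

/-- A matrix. -/
def m31 : List (List (ℕ × ℕ)) := [
  [(0, 1)],
  [(1, 1)],
  [(2, 1)],
  [(3, 1)],
  [(4, 1)],
  [(5, 1)],
  [(6, 1)],
  [(7, 1)],
  [(8, 1)],
  [(9, 1)],
  [(10, 1)],
  [(11, 1)],
  [(12, 1)],
  [(13, 1)],
  [(14, 1)],
  [(15, 1)],
  [(16, 1)],
  [(17, 1)],
  [(18, 1)],
  [(19, 1)],
  [(20, 1)],
  [(21, 1)],
  [(22, 1)],
  [(23, 1)],
  [(28, 1)],
  [(29, 1)],
  [(2, 1), (0, 12), (1, 1), (1, 12), (2, 1), (0, 12), (2, 1), (0, 12), (1, 1), (1, 1), (1, 1), (1, 1), (0, 12), (1, 12), (1, 12)],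
  [(1, 1), (2, 12), (1, 1), (1, 12), (0, 1), (2, 12), (0, 1), (2, 12), (0, 12), (1, 12), (1, 12), (1, 12), (1, 12), (1, 12), (1, 12)],
  [(24, 1)],
  [(25, 1)],
  [(34, 1)],
  [(35, 1)],
  [(3, 12), (0, 1), (2, 12), (0, 1), (2, 12), (0, 1), (2, 12), (0, 1), (0, 1), (1, 1), (1, 1), (1, 1), (6, 12), (1, 12), (1, 12)],
  [(1, 1), (0, 12), (2, 12), (0, 1), (2, 1), (0, 12), (2, 1), (0, 12), (2, 12), (1, 12), (1, 12), (1, 12), (7, 12), (1, 12), (1, 12)],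
  [(30, 1)],
  [(31, 1)],
  [(36, 1)],
  [(37, 1)],
  [(38, 1)],
  [(39, 1)],
  [(40, 1)],
  [(41, 1)],
  [(42, 1)],
  [(43, 1)],
  [(1, 7), (0, 6), (0, 7), (0, 6), (0, 12), (1, 1), (1, 7), (0, 6), (0, 7), (0, 6), (1, 12), (0, 1), (1, 6), (0, 6), (0, 12), (1, 6), (0, 6), (0, 12), (0, 7), (0, 7), (2, 7), (0, 7), (0, 7), (0, 6), (2, 7), (0, 6), (8, 12)],
  [(1, 6), (0, 7), (0, 6), (0, 7), (1, 12), (1, 1), (0, 6), (0, 7), (0, 6), (0, 7), (0, 12), (2, 1), (0, 7), (0, 7), (0, 1), (1, 7), (0, 7), (0, 1), (0, 7), (0, 7), (2, 7), (0, 7), (0, 6), (0, 7), (2, 6), (0, 7), (9, 12)],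
  [(1, 7), (0, 7), (0, 6), (0, 6), (4, 7), (0, 7), (0, 6), (0, 6), (4, 7), (0, 6), (2, 7), (0, 6), (1, 6), (0, 6), (2, 6), (0, 6), (0, 6), (0, 7), (2, 6), (0, 7), (10, 12)],
  [(1, 7), (0, 7), (0, 6), (0, 6), (4, 7), (0, 7), (0, 6), (0, 6), (4, 6), (0, 7), (2, 6), (0, 7), (1, 6), (0, 6), (2, 6), (0, 6), (0, 7), (0, 6), (2, 7), (0, 6), (11, 12)],
  [(1, 7), (0, 6), (0, 7), (0, 6), (2, 1), (0, 12), (0, 7), (0, 6), (0, 7), (0, 6), (2, 1), (0, 12), (0, 6), (0, 6), (0, 12), (1, 6), (0, 6), (0, 12), (0, 7), (0, 6), (2, 7), (0, 6), (0, 7), (0, 7), (2, 7), (0, 7), (12, 12)],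
  [(1, 6), (0, 7), (0, 6), (0, 7), (0, 1), (0, 12), (2, 6), (0, 7), (0, 6), (0, 7), (0, 12), (0, 1), (2, 7), (0, 7), (0, 1), (1, 7), (0, 7), (0, 1), (0, 6), (0, 7), (2, 6), (0, 7), (0, 7), (0, 7), (2, 7), (0, 7), (13, 12)],
  [(1, 7), (0, 6), (0, 6), (0, 7), (4, 7), (0, 6), (0, 6), (0, 7), (4, 6), (0, 7), (2, 6), (0, 7), (1, 7), (0, 6), (2, 7), (0, 6), (0, 6), (0, 6), (2, 6), (0, 6), (14, 12)],
  [(1, 7), (0, 6), (0, 6), (0, 7), (4, 7), (0, 6), (0, 6), (0, 7), (4, 7), (0, 6), (2, 7), (0, 6), (1, 6), (0, 7), (2, 6), (0, 7), (0, 6), (0, 6), (2, 6), (0, 6), (15, 12)]]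

/-- A matrix. -/
def m32 : List (List (ℕ × ℕ)) := [
  [(0, 1)],
  [(1, 1)],
  [(2, 1)],
  [(3, 1)],
  [(4, 1)],
  [(5, 1)],
  [(6, 1)],
  [(7, 1)],
  [(8, 1)],
  [(9, 1)],
  [(10, 1)],
  [(11, 1)],
  [(12, 1)],
  [(13, 1)],
  [(14, 1)],
  [(15, 1)],
  [(16, 1)],
  [(17, 1)],
  [(18, 1)],
  [(19, 1)],
  [(20, 1)],
  [(21, 1)],
  [(22, 1)],
  [(23, 1)],
  [(26, 1)],
  [(27, 1)],
  [(24, 1)],
  [(25, 1)],
  [(2, 1), (0, 12), (1, 1), (1, 12), (2, 1), (0, 12), (2, 1), (0, 12), (1, 1), (1, 1), (1, 1), (1, 1), (0, 12), (1, 12), (1, 12)],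
  [(1, 1), (2, 12), (1, 1), (1, 12), (0, 1), (2, 12), (0, 1), (2, 12), (0, 12), (1, 12), (1, 12), (1, 12), (1, 12), (1, 12), (1, 12)],
  [(32, 1)],
  [(33, 1)],
  [(30, 1)],
  [(31, 1)],
  [(3, 12), (0, 1), (2, 12), (0, 1), (2, 12), (0, 1), (2, 12), (0, 1), (0, 1), (1, 1), (1, 1), (1, 1), (6, 12), (1, 12), (1, 12)],
  [(1, 1), (0, 12), (2, 12), (0, 1), (2, 1), (0, 12), (2, 1), (0, 12), (2, 12), (1, 12), (1, 12), (1, 12), (7, 12), (1, 12), (1, 12)],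
  [(38, 1)],
  [(39, 1)],
  [(36, 1)],
  [(37, 1)],
  [(41, 1)],
  [(40, 1)],
  [(43, 1)],
  [(42, 1)],
  [(46, 1)],
  [(47, 1)],
  [(44, 1)],
  [(45, 1)],
  [(51, 1)],
  [(50, 1)],
  [(49, 1)],
  [(48, 1)]]

/-- A matrix. -/
def m33 : List (List (ℕ × ℕ)) := [
  [(0, 9), (0, 1), (0, 1), (0, 6), (0, 6), (0, 1), (0, 1), (0, 6), (0, 6), (0, 6), (0, 6), (0, 6), (0, 6), (0, 1), (0, 1), (0, 6), (0, 6), (11, 5), (0, 5), (6, 8), (0, 8), (6, 8), (0, 8)],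
  [(0, 3), (0, 3), (0, 2), (0, 12), (0, 12), (0, 2), (0, 2), (0, 12), (0, 12), (0, 12), (0, 12), (0, 12), (0, 12), (0, 2), (0, 2), (0, 12), (0, 12), (11, 10), (0, 10), (6, 3), (0, 3), (6, 3), (0, 3)],
  [(0, 3), (0, 2), (0, 3), (0, 12), (0, 12), (0, 2), (0, 2), (0, 12), (0, 12), (0, 12), (0, 12), (0, 12), (0, 12), (0, 2), (0, 2), (0, 12), (0, 12), (11, 10), (0, 10), (6, 3), (0, 3), (6, 3), (0, 3)],
  [(3, 9), (0, 10), (2, 10), (0, 10), (0, 3), (0, 3), (0, 3), (0, 3), (2, 10), (0, 10), (11, 10), (0, 10), (6, 10), (0, 10), (0, 7), (0, 7), (4, 3), (0, 3)],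
  [(3, 10), (0, 9), (2, 10), (0, 10), (0, 3), (0, 3), (0, 3), (0, 3), (2, 10), (0, 10), (11, 10), (0, 10), (6, 10), (0, 10), (0, 7), (0, 7), (4, 3), (0, 3)],
  [(3, 10), (0, 10), (0, 12), (1, 10), (0, 10), (0, 3), (0, 3), (0, 10), (0, 10), (0, 6), (0, 6), (0, 10), (0, 10), (7, 7), (0, 7), (0, 7), (0, 7), (0, 10), (0, 10), (6, 3), (0, 3), (6, 3), (0, 3)],
  [(3, 10), (0, 10), (1, 12), (0, 10), (0, 10), (0, 3), (0, 3), (0, 10), (0, 10), (0, 6), (0, 6), (0, 10), (0, 10), (7, 7), (0, 7), (0, 7), (0, 7), (0, 10), (0, 10), (6, 3), (0, 3), (6, 3), (0, 3)],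
  [(3, 10), (0, 10), (2, 9), (0, 10), (0, 3), (0, 3), (0, 10), (0, 10), (2, 3), (0, 3), (11, 10), (0, 10), (6, 3), (0, 3), (6, 10), (0, 10), (0, 7), (0, 7)],
  [(3, 10), (0, 10), (2, 10), (0, 9), (0, 3), (0, 3), (0, 10), (0, 10), (2, 3), (0, 3), (11, 10), (0, 10), (6, 3), (0, 3), (6, 10), (0, 10), (0, 7), (0, 7)],
  [(3, 10), (0, 10), (0, 6), (0, 6), (0, 10), (0, 10), (0, 9), (0, 10), (0, 10), (0, 10), (0, 6), (0, 6), (0, 10), (0, 10), (7, 7), (0, 7), (2, 4), (0, 4), (6, 3), (0, 3), (6, 3), (0, 3)],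
  [(3, 10), (0, 10), (0, 6), (0, 6), (0, 10), (0, 10), (0, 10), (0, 9), (0, 10), (0, 10), (0, 6), (0, 6), (0, 10), (0, 10), (7, 7), (0, 7), (2, 4), (0, 4), (6, 3), (0, 3), (6, 3), (0, 3)],
  [(1, 7), (0, 7), (0, 3), (0, 3), (2, 3), (0, 3), (0, 10), (0, 10), (0, 9), (0, 10), (2, 3), (0, 3), (7, 6), (0, 6), (2, 3), (0, 3), (6, 10), (0, 10), (0, 6), (0, 6), (4, 3), (0, 3)],
  [(1, 7), (0, 7), (0, 3), (0, 3), (2, 3), (0, 3), (0, 10), (0, 10), (0, 10), (0, 9), (2, 3), (0, 3), (7, 6), (0, 6), (2, 3), (0, 3), (6, 10), (0, 10), (0, 6), (0, 6), (4, 3), (0, 3)],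
  [(1, 7), (0, 7), (0, 3), (0, 3), (2, 3), (0, 3), (0, 10), (0, 10), (0, 3), (0, 3), (0, 6), (0, 7), (0, 3), (0, 3), (9, 6), (0, 6), (0, 3), (0, 3), (6, 3), (0, 3), (6, 3), (0, 3)],
  [(1, 7), (0, 7), (0, 3), (0, 3), (2, 3), (0, 3), (0, 10), (0, 10), (0, 3), (0, 3), (0, 7), (0, 6), (0, 3), (0, 3), (9, 6), (0, 6), (0, 3), (0, 3), (6, 3), (0, 3), (6, 3), (0, 3)],
  [(1, 7), (0, 7), (0, 3), (0, 3), (2, 3), (0, 3), (0, 10), (0, 10), (0, 3), (0, 3), (2, 9), (0, 10), (7, 6), (0, 6), (2, 3), (0, 3), (6, 3), (0, 3), (6, 10), (0, 10), (0, 6), (0, 6)],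
  [(1, 7), (0, 7), (0, 3), (0, 3), (2, 3), (0, 3), (0, 10), (0, 10), (0, 3), (0, 3), (2, 10), (0, 9), (7, 6), (0, 6), (2, 3), (0, 3), (6, 3), (0, 3), (6, 10), (0, 10), (0, 6), (0, 6)],
  [(3, 3), (0, 10), (2, 3), (0, 10), (0, 3), (0, 10), (0, 3), (0, 10), (2, 3), (0, 10), (0, 6), (1, 7), (3, 7), (4, 3), (0, 10), (4, 6), (1, 10), (0, 3), (2, 7), (3, 10), (0, 3), (2, 7)],
  [(1, 7), (0, 6), (0, 10), (0, 3), (0, 6), (0, 7), (0, 10), (0, 3), (0, 10), (0, 3), (0, 10), (0, 3), (0, 7), (0, 6), (0, 10), (0, 3), (0, 6), (0, 12), (0, 6), (1, 6), (0, 6), (0, 6), (4, 10), (0, 3), (5, 6), (0, 10), (0, 3), (3, 7), (2, 3), (0, 10), (3, 7)],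
  [(3, 10), (0, 3), (2, 10), (0, 3), (0, 3), (0, 10), (0, 10), (0, 3), (2, 10), (0, 3), (2, 12), (3, 6), (4, 3), (0, 10), (0, 7), (1, 7), (1, 7), (1, 3), (0, 10), (4, 7), (1, 3), (0, 10), (4, 7)],
  [(1, 6), (0, 7), (0, 3), (0, 10), (0, 7), (0, 6), (0, 3), (0, 10), (0, 9), (0, 4), (0, 3), (0, 10), (0, 6), (0, 7), (0, 3), (0, 10), (0, 7), (0, 7), (0, 7), (0, 6), (0, 7), (0, 7), (0, 7), (4, 10), (0, 3), (1, 7), (1, 7), (1, 7), (0, 3), (0, 10), (5, 7), (0, 10), (0, 3), (5, 7)],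
  [(1, 7), (0, 6), (0, 10), (0, 3), (2, 10), (0, 3), (0, 10), (0, 3), (0, 10), (0, 3), (2, 10), (0, 3), (0, 6), (1, 6), (1, 12), (1, 6), (0, 7), (0, 6), (2, 10), (0, 3), (4, 7), (1, 10), (0, 3), (2, 6), (3, 10), (0, 3), (2, 6)],
  [(3, 3), (0, 10), (0, 7), (0, 6), (0, 3), (0, 10), (0, 3), (0, 10), (0, 3), (0, 10), (0, 6), (0, 7), (0, 3), (0, 10), (0, 7), (1, 7), (1, 7), (0, 6), (0, 7), (0, 6), (0, 7), (2, 3), (0, 10), (5, 7), (0, 10), (0, 3), (3, 6), (2, 3), (0, 10), (3, 6)],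
  [(1, 7), (0, 6), (0, 3), (0, 10), (2, 3), (0, 10), (0, 10), (0, 3), (0, 3), (0, 10), (2, 3), (0, 10), (6, 6), (0, 7), (0, 6), (2, 10), (0, 3), (0, 6), (1, 6), (1, 6), (1, 3), (0, 10), (4, 6), (1, 3), (0, 10), (4, 6)],
  [(0, 3), (0, 2), (0, 2), (0, 12), (0, 12), (0, 2), (0, 2), (0, 12), (0, 12), (0, 12), (0, 12), (0, 12), (0, 12), (0, 2), (0, 2), (0, 12), (0, 12), (7, 1), (3, 10), (0, 10), (6, 3), (0, 3), (6, 3), (0, 3)],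
  [(0, 3), (0, 2), (0, 2), (0, 12), (0, 12), (0, 2), (0, 2), (0, 12), (0, 12), (0, 12), (0, 12), (0, 12), (0, 12), (0, 2), (0, 2), (0, 12), (0, 12), (8, 1), (2, 10), (0, 10), (6, 3), (0, 3), (6, 3), (0, 3)],
  [(3, 10), (0, 10), (2, 10), (0, 10), (0, 3), (0, 3), (0, 10), (0, 10), (0, 6), (0, 6), (0, 10), (0, 10), (7, 7), (0, 7), (0, 6), (0, 7), (0, 10), (0, 10), (6, 3), (0, 3), (6, 3), (0, 3)],
  [(3, 10), (0, 10), (2, 10), (0, 10), (0, 3), (0, 3), (0, 10), (0, 10), (0, 6), (0, 6), (0, 10), (0, 10), (7, 7), (0, 7), (0, 7), (0, 6), (0, 10), (0, 10), (6, 3), (0, 3), (6, 3), (0, 3)],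
  [(3, 10), (0, 10), (0, 6), (0, 6), (0, 10), (0, 10), (0, 10), (0, 10), (0, 10), (0, 10), (0, 6), (0, 6), (0, 10), (0, 10), (7, 7), (0, 7), (2, 3), (0, 4), (6, 3), (0, 3), (6, 3), (0, 3)],
  [(3, 10), (0, 10), (0, 6), (0, 6), (0, 10), (0, 10), (0, 10), (0, 10), (0, 10), (0, 10), (0, 6), (0, 6), (0, 10), (0, 10), (7, 7), (0, 7), (2, 4), (0, 3), (6, 3), (0, 3), (6, 3), (0, 3)],
  [(3, 3), (0, 10), (2, 3), (0, 10), (0, 3), (0, 10), (0, 3), (0, 10), (2, 3), (0, 10), (0, 7), (1, 7), (3, 7), (4, 3), (0, 10), (0, 12), (3, 6), (1, 10), (0, 3), (2, 7), (3, 10), (0, 3), (2, 7)],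
  [(1, 7), (0, 6), (0, 10), (0, 3), (0, 6), (0, 7), (0, 10), (0, 3), (0, 10), (0, 3), (0, 10), (0, 3), (0, 7), (0, 6), (0, 10), (0, 3), (0, 6), (1, 6), (1, 6), (0, 6), (0, 6), (4, 10), (0, 3), (1, 12), (3, 6), (0, 10), (0, 3), (3, 7), (2, 3), (0, 10), (3, 7)],
  [(3, 10), (0, 3), (2, 10), (0, 3), (0, 3), (0, 10), (0, 10), (0, 3), (2, 10), (0, 3), (6, 6), (4, 3), (0, 10), (0, 7), (1, 6), (1, 7), (1, 3), (0, 10), (4, 7), (1, 3), (0, 10), (4, 7)],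
  [(1, 6), (0, 7), (0, 3), (0, 10), (0, 7), (0, 6), (0, 3), (0, 10), (0, 9), (0, 4), (0, 3), (0, 10), (0, 6), (0, 7), (0, 3), (0, 10), (0, 7), (0, 7), (0, 7), (0, 7), (0, 7), (0, 7), (0, 7), (4, 10), (0, 3), (1, 7), (1, 6), (1, 7), (0, 3), (0, 10), (5, 7), (0, 10), (0, 3), (5, 7)],
  [(1, 7), (0, 6), (0, 10), (0, 3), (2, 10), (0, 3), (0, 10), (0, 3), (0, 10), (0, 3), (2, 10), (0, 3), (0, 6), (1, 6), (3, 6), (0, 7), (0, 6), (2, 10), (0, 3), (4, 6), (1, 10), (0, 3), (2, 6), (3, 10), (0, 3), (2, 6)],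
  [(3, 3), (0, 10), (0, 7), (0, 6), (0, 3), (0, 10), (0, 3), (0, 10), (0, 3), (0, 10), (0, 6), (0, 7), (0, 3), (0, 10), (0, 7), (1, 7), (1, 7), (0, 7), (0, 7), (0, 6), (0, 7), (2, 3), (0, 10), (5, 6), (0, 10), (0, 3), (3, 6), (2, 3), (0, 10), (3, 6)],
  [(0, 3), (0, 2), (0, 2), (0, 12), (0, 12), (0, 2), (0, 2), (0, 12), (0, 12), (0, 12), (0, 12), (0, 12), (0, 12), (0, 2), (0, 2), (0, 12), (0, 12), (11, 10), (0, 10), (6, 4), (0, 3), (6, 3), (0, 3)],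
  [(0, 3), (0, 2), (0, 2), (0, 12), (0, 12), (0, 2), (0, 2), (0, 12), (0, 12), (0, 12), (0, 12), (0, 12), (0, 12), (0, 2), (0, 2), (0, 12), (0, 12), (11, 10), (0, 10), (6, 3), (0, 4), (6, 3), (0, 3)],
  [(3, 10), (0, 10), (2, 10), (0, 10), (0, 3), (0, 3), (0, 3), (0, 3), (2, 10), (0, 10), (11, 10), (0, 10), (6, 10), (0, 10), (0, 6), (0, 7), (4, 3), (0, 3)],
  [(3, 10), (0, 10), (2, 10), (0, 10), (0, 3), (0, 3), (0, 3), (0, 3), (2, 10), (0, 10), (11, 10), (0, 10), (6, 10), (0, 10), (0, 7), (0, 6), (4, 3), (0, 3)],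
  [(3, 3), (0, 10), (2, 3), (0, 10), (0, 3), (0, 10), (0, 3), (0, 10), (2, 3), (0, 10), (0, 7), (1, 7), (3, 7), (4, 3), (0, 10), (4, 6), (1, 10), (0, 3), (2, 6), (3, 10), (0, 3), (2, 7)],
  [(1, 7), (0, 6), (0, 10), (0, 3), (0, 6), (0, 7), (0, 10), (0, 3), (0, 10), (0, 3), (0, 10), (0, 3), (0, 7), (0, 6), (0, 10), (0, 3), (0, 6), (1, 6), (1, 6), (0, 6), (0, 6), (4, 10), (0, 3), (5, 6), (0, 10), (0, 3), (3, 6), (2, 3), (0, 10), (3, 7)],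
  [(3, 10), (0, 3), (2, 10), (0, 3), (0, 3), (0, 10), (0, 10), (0, 3), (2, 10), (0, 3), (6, 6), (4, 3), (0, 10), (0, 7), (1, 7), (1, 7), (1, 3), (0, 10), (4, 6), (1, 3), (0, 10), (4, 7)],
  [(1, 6), (0, 7), (0, 3), (0, 10), (0, 7), (0, 6), (0, 3), (0, 10), (0, 9), (0, 4), (0, 3), (0, 10), (0, 6), (0, 7), (0, 3), (0, 10), (0, 7), (0, 7), (0, 7), (0, 7), (0, 7), (0, 7), (0, 7), (4, 10), (0, 3), (1, 7), (1, 7), (1, 7), (0, 3), (0, 10), (5, 6), (0, 10), (0, 3), (5, 7)],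
  [(0, 3), (0, 2), (0, 2), (0, 12), (0, 12), (0, 2), (0, 2), (0, 12), (0, 12), (0, 12), (0, 12), (0, 12), (0, 12), (0, 2), (0, 2), (0, 12), (0, 12), (11, 10), (0, 10), (6, 3), (0, 3), (6, 4), (0, 3)],
  [(0, 3), (0, 2), (0, 2), (0, 12), (0, 12), (0, 2), (0, 2), (0, 12), (0, 12), (0, 12), (0, 12), (0, 12), (0, 12), (0, 2), (0, 2), (0, 12), (0, 12), (11, 10), (0, 10), (6, 3), (0, 3), (6, 3), (0, 4)],
  [(3, 10), (0, 10), (2, 10), (0, 10), (0, 3), (0, 3), (0, 10), (0, 10), (2, 3), (0, 3), (11, 10), (0, 10), (6, 3), (0, 3), (6, 10), (0, 10), (0, 6), (0, 7)],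
  [(3, 10), (0, 10), (2, 10), (0, 10), (0, 3), (0, 3), (0, 10), (0, 10), (2, 3), (0, 3), (11, 10), (0, 10), (6, 3), (0, 3), (6, 10), (0, 10), (0, 7), (0, 6)],
  [(3, 3), (0, 10), (2, 3), (0, 10), (0, 3), (0, 10), (0, 3), (0, 10), (2, 3), (0, 10), (0, 7), (1, 7), (3, 7), (4, 3), (0, 10), (4, 6), (1, 10), (0, 3), (2, 7), (3, 10), (0, 3), (2, 6)],
  [(1, 7), (0, 6), (0, 10), (0, 3), (0, 6), (0, 7), (0, 10), (0, 3), (0, 10), (0, 3), (0, 10), (0, 3), (0, 7), (0, 6), (0, 10), (0, 3), (0, 6), (1, 6), (1, 6), (0, 6), (0, 6), (4, 10), (0, 3), (5, 6), (0, 10), (0, 3), (3, 7), (2, 3), (0, 10), (3, 6)],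
  [(3, 10), (0, 3), (2, 10), (0, 3), (0, 3), (0, 10), (0, 10), (0, 3), (2, 10), (0, 3), (6, 6), (4, 3), (0, 10), (0, 7), (1, 7), (1, 7), (1, 3), (0, 10), (4, 7), (1, 3), (0, 10), (4, 6)],
  [(1, 6), (0, 7), (0, 3), (0, 10), (0, 7), (0, 6), (0, 3), (0, 10), (0, 9), (0, 4), (0, 3), (0, 10), (0, 6), (0, 7), (0, 3), (0, 10), (0, 7), (0, 7), (0, 7), (0, 7), (0, 7), (0, 7), (0, 7), (4, 10), (0, 3), (1, 7), (1, 7), (1, 7), (0, 3), (0, 10), (5, 7), (0, 10), (0, 3), (5, 6)]]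

/-- A matrix. -/
def m34 : List (List (ℕ × ℕ)) := [
  [(0, 9), (0, 6), (0, 6), (0, 6), (0, 6), (0, 1), (0, 1), (0, 6), (0, 6), (0, 6), (0, 6), (0, 6), (0, 6), (0, 1), (0, 1), (0, 6), (0, 6), (7, 5), (0, 5), (2, 5), (0, 5)],
  [(0, 10), (0, 2), (0, 1), (0, 1), (0, 1), (0, 11), (0, 11), (0, 1), (0, 1), (0, 1), (0, 1), (0, 1), (0, 1), (0, 11), (0, 11), (0, 1), (0, 1), (7, 3), (0, 3), (2, 3), (0, 3)],
  [(0, 10), (0, 1), (0, 2), (0, 1), (0, 1), (0, 11), (0, 11), (0, 1), (0, 1), (0, 1), (0, 1), (0, 1), (0, 1), (0, 11), (0, 11), (0, 1), (0, 1), (7, 3), (0, 3), (2, 3), (0, 3)],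
  [(1, 10), (0, 10), (0, 9), (0, 10), (2, 3), (0, 3), (0, 10), (0, 10), (0, 10), (0, 10), (2, 3), (0, 3), (7, 3), (0, 3), (2, 3), (0, 3)],
  [(1, 10), (0, 10), (0, 10), (0, 9), (2, 3), (0, 3), (0, 10), (0, 10), (0, 10), (0, 10), (2, 3), (0, 3), (7, 3), (0, 3), (2, 3), (0, 3)],
  [(1, 10), (0, 10), (0, 3), (0, 3), (0, 6), (0, 7), (0, 3), (0, 3), (0, 10), (0, 10), (0, 3), (0, 3), (0, 7), (0, 7), (0, 3), (0, 3), (7, 3), (0, 3), (2, 3), (0, 3)],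
  [(1, 10), (0, 10), (0, 3), (0, 3), (0, 7), (0, 6), (0, 3), (0, 3), (0, 10), (0, 10), (0, 3), (0, 3), (0, 7), (0, 7), (0, 3), (0, 3), (7, 3), (0, 3), (2, 3), (0, 3)],
  [(1, 10), (0, 10), (0, 3), (0, 3), (2, 9), (0, 10), (0, 10), (0, 10), (0, 3), (0, 3), (2, 10), (0, 10), (7, 3), (0, 3), (2, 3), (0, 3)],
  [(1, 10), (0, 10), (0, 3), (0, 3), (2, 10), (0, 9), (0, 10), (0, 10), (0, 3), (0, 3), (2, 10), (0, 10), (7, 3), (0, 3), (2, 3), (0, 3)],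
  [(0, 10), (0, 1), (0, 1), (0, 1), (0, 1), (0, 11), (0, 11), (0, 1), (0, 1), (0, 2), (0, 1), (0, 1), (0, 1), (0, 11), (0, 11), (0, 1), (0, 1), (7, 3), (0, 3), (2, 3), (0, 3)],
  [(0, 10), (0, 1), (0, 1), (0, 1), (0, 1), (0, 11), (0, 11), (0, 1), (0, 1), (0, 1), (0, 2), (0, 1), (0, 1), (0, 11), (0, 11), (0, 1), (0, 1), (7, 3), (0, 3), (2, 3), (0, 3)],
  [(1, 10), (0, 10), (0, 10), (0, 10), (2, 3), (0, 3), (0, 10), (0, 10), (0, 9), (0, 10), (2, 3), (0, 3), (7, 3), (0, 3), (2, 3), (0, 3)],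
  [(1, 10), (0, 10), (0, 10), (0, 10), (2, 3), (0, 3), (0, 10), (0, 10), (0, 10), (0, 9), (2, 3), (0, 3), (7, 3), (0, 3), (2, 3), (0, 3)],
  [(1, 10), (0, 10), (0, 3), (0, 3), (0, 7), (0, 7), (0, 3), (0, 3), (0, 10), (0, 10), (0, 3), (0, 3), (0, 6), (0, 7), (0, 3), (0, 3), (7, 3), (0, 3), (2, 3), (0, 3)],
  [(1, 10), (0, 10), (0, 3), (0, 3), (0, 7), (0, 7), (0, 3), (0, 3), (0, 10), (0, 10), (0, 3), (0, 3), (0, 7), (0, 6), (0, 3), (0, 3), (7, 3), (0, 3), (2, 3), (0, 3)],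
  [(1, 10), (0, 10), (0, 3), (0, 3), (2, 10), (0, 10), (0, 10), (0, 10), (0, 3), (0, 3), (2, 9), (0, 10), (7, 3), (0, 3), (2, 3), (0, 3)],
  [(1, 10), (0, 10), (0, 3), (0, 3), (2, 10), (0, 10), (0, 10), (0, 10), (0, 3), (0, 3), (2, 10), (0, 9), (7, 3), (0, 3), (2, 3), (0, 3)],
  [(1, 10), (0, 3), (0, 10), (0, 3), (2, 10), (0, 3), (0, 10), (0, 3), (0, 10), (0, 3), (2, 10), (0, 3), (0, 12), (1, 6), (3, 6), (0, 10), (0, 3), (2, 10), (0, 3), (0, 7), (3, 7)],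
  [(1, 3), (0, 10), (0, 3), (0, 10), (0, 7), (0, 6), (0, 3), (0, 10), (0, 3), (0, 10), (0, 3), (0, 10), (0, 6), (0, 7), (0, 3), (0, 10), (0, 7), (0, 6), (0, 7), (1, 7), (0, 7), (0, 7), (0, 3), (0, 10), (2, 3), (0, 10), (1, 7), (3, 7)],
  [(1, 10), (0, 3), (0, 3), (0, 10), (2, 3), (0, 10), (0, 10), (0, 3), (0, 3), (0, 10), (2, 3), (0, 10), (2, 6), (3, 7), (0, 10), (0, 3), (2, 10), (0, 3), (0, 6), (3, 6)],
  [(1, 4), (0, 9), (0, 10), (0, 3), (0, 6), (0, 7), (0, 10), (0, 3), (0, 4), (0, 9), (0, 10), (0, 3), (0, 7), (0, 6), (0, 10), (0, 3), (0, 6), (0, 6), (0, 6), (0, 12), (0, 6), (0, 6), (0, 6), (0, 3), (0, 10), (2, 3), (0, 10), (1, 6), (3, 6)],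
  [(1, 10), (0, 3), (0, 10), (0, 3), (2, 10), (0, 3), (0, 10), (0, 3), (0, 10), (0, 3), (2, 10), (0, 3), (2, 6), (1, 12), (1, 6), (0, 10), (0, 3), (2, 10), (0, 3), (0, 7), (3, 7)],
  [(1, 3), (0, 10), (0, 3), (0, 10), (0, 7), (0, 6), (0, 3), (0, 10), (0, 3), (0, 10), (0, 3), (0, 10), (0, 6), (0, 7), (0, 3), (0, 10), (0, 7), (0, 7), (0, 7), (1, 7), (0, 6), (0, 7), (0, 3), (0, 10), (2, 3), (0, 10), (1, 7), (3, 7)],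
  [(1, 10), (0, 3), (0, 3), (0, 10), (2, 3), (0, 10), (0, 10), (0, 3), (0, 3), (0, 10), (2, 3), (0, 10), (2, 7), (3, 6), (0, 10), (0, 3), (2, 10), (0, 3), (0, 6), (3, 6)],
  [(0, 10), (0, 1), (0, 1), (0, 1), (0, 1), (0, 11), (0, 11), (0, 1), (0, 1), (0, 1), (0, 1), (0, 1), (0, 1), (0, 11), (0, 11), (0, 1), (0, 1), (7, 4), (0, 3), (2, 3), (0, 3)],
  [(0, 10), (0, 1), (0, 1), (0, 1), (0, 1), (0, 11), (0, 11), (0, 1), (0, 1), (0, 1), (0, 1), (0, 1), (0, 1), (0, 11), (0, 11), (0, 1), (0, 1), (7, 3), (0, 4), (2, 3), (0, 3)],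
  [(1, 10), (0, 10), (0, 3), (0, 3), (0, 7), (0, 7), (0, 3), (0, 3), (0, 10), (0, 10), (0, 3), (0, 3), (0, 7), (0, 7), (0, 3), (0, 3), (7, 3), (0, 3), (0, 12), (1, 3), (0, 3)],
  [(1, 10), (0, 10), (0, 3), (0, 3), (0, 7), (0, 7), (0, 3), (0, 3), (0, 10), (0, 10), (0, 3), (0, 3), (0, 7), (0, 7), (0, 3), (0, 3), (7, 3), (0, 3), (1, 12), (0, 3), (0, 3)],
  [(0, 10), (0, 1), (0, 1), (0, 1), (0, 1), (0, 11), (0, 11), (0, 1), (0, 1), (0, 1), (0, 1), (0, 1), (0, 1), (0, 11), (0, 11), (0, 1), (0, 1), (7, 3), (0, 3), (2, 4), (0, 3)],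
  [(0, 10), (0, 1), (0, 1), (0, 1), (0, 1), (0, 11), (0, 11), (0, 1), (0, 1), (0, 1), (0, 1), (0, 1), (0, 1), (0, 11), (0, 11), (0, 1), (0, 1), (7, 3), (0, 3), (2, 3), (0, 4)],
  [(1, 10), (0, 3), (0, 10), (0, 3), (2, 10), (0, 3), (0, 10), (0, 3), (0, 10), (0, 3), (2, 10), (0, 3), (2, 6), (3, 6), (0, 10), (0, 3), (2, 10), (0, 3), (0, 6), (3, 7)],
  [(1, 3), (0, 10), (0, 3), (0, 10), (0, 7), (0, 6), (0, 3), (0, 10), (0, 3), (0, 10), (0, 3), (0, 10), (0, 6), (0, 7), (0, 3), (0, 10), (0, 7), (0, 7), (0, 7), (1, 7), (0, 7), (0, 7), (0, 3), (0, 10), (2, 3), (0, 10), (1, 6), (3, 7)],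
  [(1, 10), (0, 3), (0, 3), (0, 10), (2, 3), (0, 10), (0, 10), (0, 3), (0, 3), (0, 10), (2, 3), (0, 10), (2, 7), (3, 7), (0, 10), (0, 3), (2, 10), (0, 3), (0, 6), (1, 12), (1, 6)],
  [(1, 4), (0, 9), (0, 10), (0, 3), (0, 6), (0, 7), (0, 10), (0, 3), (0, 4), (0, 9), (0, 10), (0, 3), (0, 7), (0, 6), (0, 10), (0, 3), (0, 6), (0, 6), (0, 6), (1, 6), (0, 6), (0, 6), (0, 3), (0, 10), (2, 3), (0, 10), (1, 6), (1, 12), (1, 6)],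
  [(1, 10), (0, 3), (0, 10), (0, 3), (2, 10), (0, 3), (0, 10), (0, 3), (0, 10), (0, 3), (2, 10), (0, 3), (2, 6), (3, 6), (0, 10), (0, 3), (2, 10), (0, 3), (0, 7), (3, 6)],
  [(1, 3), (0, 10), (0, 3), (0, 10), (0, 7), (0, 6), (0, 3), (0, 10), (0, 3), (0, 10), (0, 3), (0, 10), (0, 6), (0, 7), (0, 3), (0, 10), (0, 7), (0, 7), (0, 7), (1, 7), (0, 7), (0, 7), (0, 3), (0, 10), (2, 3), (0, 10), (1, 7), (3, 6)],
  [(0, 10), (0, 1), (0, 1), (0, 1), (0, 1), (0, 11), (0, 11), (0, 1), (0, 1), (0, 1), (0, 1), (0, 1), (0, 1), (0, 11), (0, 11), (0, 1), (0, 1), (7, 3), (0, 3), (2, 3), (0, 3), (6, 1)],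
  [(0, 10), (0, 1), (0, 1), (0, 1), (0, 1), (0, 11), (0, 11), (0, 1), (0, 1), (0, 1), (0, 1), (0, 1), (0, 1), (0, 11), (0, 11), (0, 1), (0, 1), (7, 3), (0, 3), (2, 3), (0, 3), (7, 1)],
  [(1, 10), (0, 10), (0, 10), (0, 10), (2, 3), (0, 3), (0, 10), (0, 10), (0, 10), (0, 10), (2, 3), (0, 3), (7, 3), (0, 3), (2, 3), (0, 3), (8, 12)],
  [(1, 10), (0, 10), (0, 10), (0, 10), (2, 3), (0, 3), (0, 10), (0, 10), (0, 10), (0, 10), (2, 3), (0, 3), (7, 3), (0, 3), (2, 3), (0, 3), (9, 12)],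
  [(1, 10), (0, 3), (0, 10), (0, 3), (2, 10), (0, 3), (0, 10), (0, 3), (0, 10), (0, 3), (2, 10), (0, 3), (2, 6), (3, 6), (0, 10), (0, 3), (2, 10), (0, 3), (0, 7), (3, 7), (5, 12)],
  [(1, 3), (0, 10), (0, 3), (0, 10), (0, 7), (0, 6), (0, 3), (0, 10), (0, 3), (0, 10), (0, 3), (0, 10), (0, 6), (0, 7), (0, 3), (0, 10), (0, 7), (0, 7), (0, 7), (1, 7), (0, 7), (0, 7), (0, 3), (0, 10), (2, 3), (0, 10), (1, 7), (3, 7), (5, 12)],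
  [(1, 10), (0, 3), (0, 3), (0, 10), (2, 3), (0, 10), (0, 10), (0, 3), (0, 3), (0, 10), (2, 3), (0, 10), (2, 7), (3, 7), (0, 10), (0, 3), (2, 10), (0, 3), (0, 6), (3, 6), (7, 12)],
  [(1, 4), (0, 9), (0, 10), (0, 3), (0, 6), (0, 7), (0, 10), (0, 3), (0, 4), (0, 9), (0, 10), (0, 3), (0, 7), (0, 6), (0, 10), (0, 3), (0, 6), (0, 6), (0, 6), (1, 6), (0, 6), (0, 6), (0, 3), (0, 10), (2, 3), (0, 10), (1, 6), (3, 6), (7, 12)],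
  [(0, 10), (0, 1), (0, 1), (0, 1), (0, 1), (0, 11), (0, 11), (0, 1), (0, 1), (0, 1), (0, 1), (0, 1), (0, 1), (0, 11), (0, 11), (0, 1), (0, 1), (7, 3), (0, 3), (2, 3), (0, 3), (14, 1)],
  [(0, 10), (0, 1), (0, 1), (0, 1), (0, 1), (0, 11), (0, 11), (0, 1), (0, 1), (0, 1), (0, 1), (0, 1), (0, 1), (0, 11), (0, 11), (0, 1), (0, 1), (7, 3), (0, 3), (2, 3), (0, 3), (15, 1)],
  [(1, 10), (0, 10), (0, 3), (0, 3), (2, 10), (0, 10), (0, 10), (0, 10), (0, 3), (0, 3), (2, 10), (0, 10), (7, 3), (0, 3), (2, 3), (0, 3), (16, 12)],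
  [(1, 10), (0, 10), (0, 3), (0, 3), (2, 10), (0, 10), (0, 10), (0, 10), (0, 3), (0, 3), (2, 10), (0, 10), (7, 3), (0, 3), (2, 3), (0, 3), (17, 12)],
  [(1, 10), (0, 3), (0, 10), (0, 3), (2, 10), (0, 3), (0, 10), (0, 3), (0, 10), (0, 3), (2, 10), (0, 3), (2, 6), (3, 6), (0, 10), (0, 3), (2, 10), (0, 3), (0, 7), (3, 7), (13, 12)],
  [(1, 3), (0, 10), (0, 3), (0, 10), (0, 7), (0, 6), (0, 3), (0, 10), (0, 3), (0, 10), (0, 3), (0, 10), (0, 6), (0, 7), (0, 3), (0, 10), (0, 7), (0, 7), (0, 7), (1, 7), (0, 7), (0, 7), (0, 3), (0, 10), (2, 3), (0, 10), (1, 7), (3, 7), (13, 12)],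
  [(1, 10), (0, 3), (0, 3), (0, 10), (2, 3), (0, 10), (0, 10), (0, 3), (0, 3), (0, 10), (2, 3), (0, 10), (2, 7), (3, 7), (0, 10), (0, 3), (2, 10), (0, 3), (0, 6), (3, 6), (15, 12)],
  [(1, 4), (0, 9), (0, 10), (0, 3), (0, 6), (0, 7), (0, 10), (0, 3), (0, 4), (0, 9), (0, 10), (0, 3), (0, 7), (0, 6), (0, 10), (0, 3), (0, 6), (0, 6), (0, 6), (1, 6), (0, 6), (0, 6), (0, 3), (0, 10), (2, 3), (0, 10), (1, 6), (3, 6), (15, 12)]]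

/-- A matrix. -/
def m35 : List (List (ℕ × ℕ)) := [
  [(0, 9), (0, 6), (0, 6), (0, 6), (0, 6), (0, 6), (0, 6), (0, 6), (0, 6), (0, 1), (0, 1), (0, 6), (0, 6), (0, 1), (0, 1), (0, 6), (0, 6), (7, 5), (0, 5), (0, 5), (0, 5)],
  [(0, 10), (0, 2), (0, 1), (0, 1), (0, 1), (0, 1), (0, 1), (0, 1), (0, 1), (0, 11), (0, 11), (0, 1), (0, 1), (0, 11), (0, 11), (0, 1), (0, 1), (7, 3), (0, 3), (0, 3), (0, 3)],
  [(0, 10), (0, 1), (0, 2), (0, 1), (0, 1), (0, 1), (0, 1), (0, 1), (0, 1), (0, 11), (0, 11), (0, 1), (0, 1), (0, 11), (0, 11), (0, 1), (0, 1), (7, 3), (0, 3), (0, 3), (0, 3)],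
  [(1, 10), (0, 10), (0, 9), (0, 10), (0, 10), (0, 10), (0, 10), (0, 10), (2, 3), (0, 3), (2, 3), (0, 3), (7, 3), (0, 3), (0, 3), (0, 3)],
  [(1, 10), (0, 10), (0, 10), (0, 9), (0, 10), (0, 10), (0, 10), (0, 10), (2, 3), (0, 3), (2, 3), (0, 3), (7, 3), (0, 3), (0, 3), (0, 3)],
  [(0, 10), (0, 1), (0, 1), (0, 1), (0, 1), (0, 2), (0, 1), (0, 1), (0, 1), (0, 11), (0, 11), (0, 1), (0, 1), (0, 11), (0, 11), (0, 1), (0, 1), (7, 3), (0, 3), (0, 3), (0, 3)],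
  [(0, 10), (0, 1), (0, 1), (0, 1), (0, 1), (0, 1), (0, 2), (0, 1), (0, 1), (0, 11), (0, 11), (0, 1), (0, 1), (0, 11), (0, 11), (0, 1), (0, 1), (7, 3), (0, 3), (0, 3), (0, 3)],
  [(1, 10), (0, 10), (0, 10), (0, 10), (0, 10), (0, 10), (0, 9), (0, 10), (2, 3), (0, 3), (2, 3), (0, 3), (7, 3), (0, 3), (0, 3), (0, 3)],
  [(1, 10), (0, 10), (0, 10), (0, 10), (0, 10), (0, 10), (0, 10), (0, 9), (2, 3), (0, 3), (2, 3), (0, 3), (7, 3), (0, 3), (0, 3), (0, 3)],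
  [(1, 10), (0, 10), (0, 3), (0, 3), (0, 10), (0, 10), (0, 3), (0, 3), (0, 6), (0, 7), (0, 3), (0, 3), (0, 7), (0, 7), (0, 3), (0, 3), (7, 3), (0, 3), (0, 3), (0, 3)],
  [(1, 10), (0, 10), (0, 3), (0, 3), (0, 10), (0, 10), (0, 3), (0, 3), (0, 7), (0, 6), (0, 3), (0, 3), (0, 7), (0, 7), (0, 3), (0, 3), (7, 3), (0, 3), (0, 3), (0, 3)],
  [(1, 10), (0, 10), (0, 3), (0, 3), (0, 10), (0, 10), (0, 3), (0, 3), (2, 9), (0, 10), (2, 10), (0, 10), (7, 3), (0, 3), (0, 3), (0, 3)],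
  [(1, 10), (0, 10), (0, 3), (0, 3), (0, 10), (0, 10), (0, 3), (0, 3), (2, 10), (0, 9), (2, 10), (0, 10), (7, 3), (0, 3), (0, 3), (0, 3)],
  [(1, 10), (0, 10), (0, 3), (0, 3), (0, 10), (0, 10), (0, 3), (0, 3), (0, 7), (0, 7), (0, 3), (0, 3), (0, 6), (0, 7), (0, 3), (0, 3), (7, 3), (0, 3), (0, 3), (0, 3)],
  [(1, 10), (0, 10), (0, 3), (0, 3), (0, 10), (0, 10), (0, 3), (0, 3), (0, 7), (0, 7), (0, 3), (0, 3), (0, 7), (0, 6), (0, 3), (0, 3), (7, 3), (0, 3), (0, 3), (0, 3)],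
  [(1, 10), (0, 10), (0, 3), (0, 3), (0, 10), (0, 10), (0, 3), (0, 3), (2, 10), (0, 10), (2, 9), (0, 10), (7, 3), (0, 3), (0, 3), (0, 3)],
  [(1, 10), (0, 10), (0, 3), (0, 3), (0, 10), (0, 10), (0, 3), (0, 3), (2, 10), (0, 10), (2, 10), (0, 9), (7, 3), (0, 3), (0, 3), (0, 3)],
  [(1, 10), (0, 3), (0, 10), (0, 3), (0, 3), (0, 10), (0, 10), (0, 3), (2, 10), (0, 3), (2, 10), (0, 3), (0, 12), (3, 6), (1, 6), (0, 10), (0, 3), (0, 10), (0, 3), (2, 7), (1, 7)],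
  [(1, 3), (0, 10), (0, 3), (0, 10), (0, 10), (0, 3), (0, 3), (0, 10), (0, 6), (0, 7), (0, 3), (0, 10), (0, 6), (0, 7), (0, 3), (0, 10), (0, 7), (0, 6), (0, 7), (0, 7), (0, 7), (1, 7), (0, 3), (0, 10), (0, 3), (0, 10), (3, 7), (1, 7)],
  [(1, 10), (0, 3), (0, 10), (0, 3), (0, 3), (0, 10), (0, 10), (0, 3), (2, 10), (0, 3), (2, 10), (0, 3), (2, 12), (1, 6), (1, 6), (0, 10), (0, 3), (0, 10), (0, 3), (2, 7), (1, 7)],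
  [(1, 3), (0, 10), (0, 3), (0, 10), (0, 10), (0, 3), (0, 3), (0, 10), (0, 6), (0, 7), (0, 3), (0, 10), (0, 6), (0, 7), (0, 3), (0, 10), (0, 7), (0, 7), (0, 7), (0, 6), (0, 7), (1, 7), (0, 3), (0, 10), (0, 3), (0, 10), (3, 7), (1, 7)],
  [(1, 10), (0, 3), (0, 3), (0, 10), (0, 3), (0, 10), (0, 3), (0, 10), (2, 3), (0, 10), (2, 3), (0, 10), (4, 6), (1, 7), (0, 10), (0, 3), (0, 10), (0, 3), (2, 6), (1, 6)],
  [(1, 4), (0, 9), (0, 10), (0, 3), (0, 9), (0, 4), (0, 10), (0, 3), (0, 7), (0, 6), (0, 10), (0, 3), (0, 7), (0, 6), (0, 10), (0, 3), (0, 6), (0, 6), (0, 6), (0, 6), (0, 6), (0, 12), (0, 6), (0, 3), (0, 10), (0, 3), (0, 10), (3, 6), (1, 6)],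
  [(1, 10), (0, 3), (0, 3), (0, 10), (0, 3), (0, 10), (0, 3), (0, 10), (2, 3), (0, 10), (2, 3), (0, 10), (4, 7), (1, 6), (0, 10), (0, 3), (0, 10), (0, 3), (2, 6), (1, 6)],
  [(0, 10), (0, 1), (0, 1), (0, 1), (0, 1), (0, 1), (0, 1), (0, 1), (0, 1), (0, 11), (0, 11), (0, 1), (0, 1), (0, 11), (0, 11), (0, 1), (0, 1), (7, 4), (0, 3), (0, 3), (0, 3)],
  [(0, 10), (0, 1), (0, 1), (0, 1), (0, 1), (0, 1), (0, 1), (0, 1), (0, 1), (0, 11), (0, 11), (0, 1), (0, 1), (0, 11), (0, 11), (0, 1), (0, 1), (7, 3), (0, 4), (0, 3), (0, 3)],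
  [(0, 10), (0, 1), (0, 1), (0, 1), (0, 1), (0, 1), (0, 1), (0, 1), (0, 1), (0, 11), (0, 11), (0, 1), (0, 1), (0, 11), (0, 11), (0, 1), (0, 1), (7, 3), (0, 3), (0, 4), (0, 3)],
  [(0, 10), (0, 1), (0, 1), (0, 1), (0, 1), (0, 1), (0, 1), (0, 1), (0, 1), (0, 11), (0, 11), (0, 1), (0, 1), (0, 11), (0, 11), (0, 1), (0, 1), (7, 3), (0, 3), (0, 3), (0, 4)],
  [(1, 10), (0, 10), (0, 3), (0, 3), (0, 10), (0, 10), (0, 3), (0, 3), (0, 7), (0, 7), (0, 3), (0, 3), (0, 7), (0, 7), (0, 3), (0, 3), (7, 3), (0, 3), (0, 3), (0, 3), (0, 12)],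
  [(1, 10), (0, 10), (0, 3), (0, 3), (0, 10), (0, 10), (0, 3), (0, 3), (0, 7), (0, 7), (0, 3), (0, 3), (0, 7), (0, 7), (0, 3), (0, 3), (7, 3), (0, 3), (0, 3), (0, 3), (1, 12)],
  [(1, 10), (0, 3), (0, 10), (0, 3), (0, 3), (0, 10), (0, 10), (0, 3), (2, 10), (0, 3), (2, 10), (0, 3), (4, 6), (1, 6), (0, 10), (0, 3), (0, 10), (0, 3), (2, 6), (1, 7)],
  [(1, 3), (0, 10), (0, 3), (0, 10), (0, 10), (0, 3), (0, 3), (0, 10), (0, 6), (0, 7), (0, 3), (0, 10), (0, 6), (0, 7), (0, 3), (0, 10), (0, 7), (0, 7), (0, 7), (0, 7), (0, 7), (1, 7), (0, 3), (0, 10), (0, 3), (0, 10), (3, 6), (1, 7)],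
  [(1, 10), (0, 3), (0, 10), (0, 3), (0, 3), (0, 10), (0, 10), (0, 3), (2, 10), (0, 3), (2, 10), (0, 3), (4, 6), (1, 6), (0, 10), (0, 3), (0, 10), (0, 3), (2, 7), (1, 6)],
  [(1, 3), (0, 10), (0, 3), (0, 10), (0, 10), (0, 3), (0, 3), (0, 10), (0, 6), (0, 7), (0, 3), (0, 10), (0, 6), (0, 7), (0, 3), (0, 10), (0, 7), (0, 7), (0, 7), (0, 7), (0, 7), (1, 7), (0, 3), (0, 10), (0, 3), (0, 10), (3, 7), (1, 6)],
  [(1, 10), (0, 3), (0, 3), (0, 10), (0, 3), (0, 10), (0, 3), (0, 10), (2, 3), (0, 10), (2, 3), (0, 10), (4, 7), (1, 7), (0, 10), (0, 3), (0, 10), (0, 3), (2, 6), (1, 6), (1, 12)],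
  [(1, 4), (0, 9), (0, 10), (0, 3), (0, 9), (0, 4), (0, 10), (0, 3), (0, 7), (0, 6), (0, 10), (0, 3), (0, 7), (0, 6), (0, 10), (0, 3), (0, 6), (0, 6), (0, 6), (0, 6), (0, 6), (1, 6), (0, 3), (0, 10), (0, 3), (0, 10), (3, 6), (1, 6), (1, 12)],
  [(1, 10), (0, 10), (0, 3), (0, 3), (0, 10), (0, 10), (0, 3), (0, 3), (2, 3), (0, 3), (0, 7), (0, 7), (0, 3), (0, 3), (7, 3), (0, 3), (0, 3), (0, 3), (0, 6), (0, 6), (6, 6), (0, 7), (6, 7), (0, 7)],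
  [(1, 10), (0, 10), (0, 3), (0, 3), (0, 10), (0, 10), (0, 3), (0, 3), (2, 3), (0, 3), (0, 7), (0, 7), (0, 3), (0, 3), (7, 3), (0, 3), (0, 3), (0, 3), (0, 6), (0, 6), (6, 7), (0, 6), (6, 7), (0, 7)],
  [(1, 3), (0, 3), (0, 10), (0, 10), (0, 3), (0, 3), (0, 10), (0, 10), (0, 6), (0, 6), (0, 10), (0, 10), (2, 10), (0, 10), (7, 10), (0, 10), (0, 10), (0, 10), (0, 7), (0, 7), (8, 6), (0, 7), (6, 7), (0, 7)],
  [(1, 3), (0, 3), (0, 10), (0, 10), (0, 3), (0, 3), (0, 10), (0, 10), (0, 6), (0, 6), (0, 10), (0, 10), (2, 10), (0, 10), (7, 10), (0, 10), (0, 10), (0, 10), (0, 7), (0, 7), (8, 7), (0, 6), (6, 7), (0, 7)],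
  [(1, 3), (0, 10), (0, 3), (0, 10), (0, 10), (0, 3), (0, 3), (0, 10), (0, 6), (0, 7), (0, 3), (0, 10), (2, 3), (0, 10), (0, 7), (1, 7), (1, 7), (1, 7), (0, 3), (0, 10), (0, 3), (0, 10), (0, 6), (0, 7), (10, 6), (1, 7), (5, 7), (1, 7)],
  [(1, 10), (0, 3), (0, 10), (0, 3), (0, 3), (0, 10), (0, 10), (0, 3), (2, 10), (0, 3), (0, 7), (0, 6), (0, 10), (0, 3), (0, 6), (1, 6), (1, 6), (1, 6), (0, 10), (0, 3), (0, 10), (0, 3), (0, 7), (0, 6), (11, 6), (1, 7), (5, 7), (1, 7)],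
  [(1, 3), (0, 10), (0, 3), (0, 10), (0, 10), (0, 3), (0, 3), (0, 10), (0, 6), (0, 7), (0, 3), (0, 10), (2, 3), (0, 10), (0, 7), (1, 7), (1, 7), (1, 7), (0, 3), (0, 10), (0, 3), (0, 10), (0, 6), (0, 7), (10, 7), (1, 6), (5, 7), (1, 7)],
  [(1, 10), (0, 3), (0, 10), (0, 3), (0, 3), (0, 10), (0, 10), (0, 3), (2, 10), (0, 3), (0, 7), (0, 6), (0, 10), (0, 3), (0, 6), (1, 6), (1, 6), (1, 6), (0, 10), (0, 3), (0, 10), (0, 3), (0, 7), (0, 6), (11, 7), (1, 6), (5, 7), (1, 7)],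
  [(1, 10), (0, 10), (0, 3), (0, 3), (0, 10), (0, 10), (0, 3), (0, 3), (2, 3), (0, 3), (0, 7), (0, 7), (0, 3), (0, 3), (7, 3), (0, 3), (0, 3), (0, 3), (0, 6), (0, 6), (6, 7), (0, 7), (6, 6), (0, 7)],
  [(1, 10), (0, 10), (0, 3), (0, 3), (0, 10), (0, 10), (0, 3), (0, 3), (2, 3), (0, 3), (0, 7), (0, 7), (0, 3), (0, 3), (7, 3), (0, 3), (0, 3), (0, 3), (0, 6), (0, 6), (6, 7), (0, 7), (6, 7), (0, 6)],
  [(1, 3), (0, 3), (0, 10), (0, 10), (0, 3), (0, 3), (0, 10), (0, 10), (0, 6), (0, 6), (0, 10), (0, 10), (2, 10), (0, 10), (7, 10), (0, 10), (0, 10), (0, 10), (0, 7), (0, 7), (8, 7), (0, 7), (6, 6), (0, 7)],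
  [(1, 3), (0, 3), (0, 10), (0, 10), (0, 3), (0, 3), (0, 10), (0, 10), (0, 6), (0, 6), (0, 10), (0, 10), (2, 10), (0, 10), (7, 10), (0, 10), (0, 10), (0, 10), (0, 7), (0, 7), (8, 7), (0, 7), (6, 7), (0, 6)],
  [(1, 3), (0, 10), (0, 3), (0, 10), (0, 10), (0, 3), (0, 3), (0, 10), (0, 6), (0, 7), (0, 3), (0, 10), (2, 3), (0, 10), (0, 7), (1, 7), (1, 7), (1, 7), (0, 3), (0, 10), (0, 3), (0, 10), (0, 6), (0, 7), (10, 7), (1, 7), (5, 6), (1, 7)],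
  [(1, 10), (0, 3), (0, 10), (0, 3), (0, 3), (0, 10), (0, 10), (0, 3), (2, 10), (0, 3), (0, 7), (0, 6), (0, 10), (0, 3), (0, 6), (1, 6), (1, 6), (1, 6), (0, 10), (0, 3), (0, 10), (0, 3), (0, 7), (0, 6), (11, 7), (1, 7), (5, 6), (1, 7)],
  [(1, 3), (0, 10), (0, 3), (0, 10), (0, 10), (0, 3), (0, 3), (0, 10), (0, 6), (0, 7), (0, 3), (0, 10), (2, 3), (0, 10), (0, 7), (1, 7), (1, 7), (1, 7), (0, 3), (0, 10), (0, 3), (0, 10), (0, 6), (0, 7), (10, 7), (1, 7), (5, 7), (1, 6)],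
  [(1, 10), (0, 3), (0, 10), (0, 3), (0, 3), (0, 10), (0, 10), (0, 3), (2, 10), (0, 3), (0, 7), (0, 6), (0, 10), (0, 3), (0, 6), (1, 6), (1, 6), (1, 6), (0, 10), (0, 3), (0, 10), (0, 3), (0, 7), (0, 6), (11, 7), (1, 7), (5, 7), (1, 6)]]

/-- A matrix. -/
def m36 : List (List (ℕ × ℕ)) := [
  [(0, 9), (0, 6), (0, 6), (0, 6), (0, 6), (0, 6), (0, 6), (0, 6), (0, 6), (0, 1), (0, 1), (0, 1), (0, 1), (0, 6), (0, 6), (0, 6), (0, 6), (19, 5), (0, 5), (0, 5), (0, 5)],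
  [(0, 10), (0, 2), (0, 1), (0, 1), (0, 1), (0, 1), (0, 1), (0, 1), (0, 1), (0, 11), (0, 11), (0, 11), (0, 11), (0, 1), (0, 1), (0, 1), (0, 1), (19, 3), (0, 3), (0, 3), (0, 3)],
  [(0, 10), (0, 1), (0, 2), (0, 1), (0, 1), (0, 1), (0, 1), (0, 1), (0, 1), (0, 11), (0, 11), (0, 11), (0, 11), (0, 1), (0, 1), (0, 1), (0, 1), (19, 3), (0, 3), (0, 3), (0, 3)],
  [(0, 10), (0, 1), (0, 1), (0, 2), (0, 1), (0, 1), (0, 1), (0, 1), (0, 1), (0, 11), (0, 11), (0, 11), (0, 11), (0, 1), (0, 1), (0, 1), (0, 1), (19, 3), (0, 3), (0, 3), (0, 3)],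
  [(0, 10), (0, 1), (0, 1), (0, 1), (0, 2), (0, 1), (0, 1), (0, 1), (0, 1), (0, 11), (0, 11), (0, 11), (0, 11), (0, 1), (0, 1), (0, 1), (0, 1), (19, 3), (0, 3), (0, 3), (0, 3)],
  [(1, 10), (0, 10), (0, 10), (0, 10), (0, 9), (0, 10), (0, 10), (0, 10), (4, 3), (0, 3), (0, 3), (0, 3), (19, 3), (0, 3), (0, 3), (0, 3)],
  [(1, 10), (0, 10), (0, 10), (0, 10), (0, 10), (0, 9), (0, 10), (0, 10), (4, 3), (0, 3), (0, 3), (0, 3), (19, 3), (0, 3), (0, 3), (0, 3)],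
  [(1, 10), (0, 10), (0, 10), (0, 10), (0, 10), (0, 10), (0, 9), (0, 10), (4, 3), (0, 3), (0, 3), (0, 3), (19, 3), (0, 3), (0, 3), (0, 3)],
  [(1, 10), (0, 10), (0, 10), (0, 10), (0, 10), (0, 10), (0, 10), (0, 9), (4, 3), (0, 3), (0, 3), (0, 3), (19, 3), (0, 3), (0, 3), (0, 3)],
  [(1, 10), (0, 10), (0, 10), (0, 10), (0, 3), (0, 3), (0, 3), (0, 3), (0, 6), (0, 7), (0, 7), (0, 7), (0, 3), (0, 3), (0, 3), (0, 3), (19, 3), (0, 3), (0, 3), (0, 3)],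
  [(1, 10), (0, 10), (0, 10), (0, 10), (0, 3), (0, 3), (0, 3), (0, 3), (0, 7), (0, 6), (0, 7), (0, 7), (0, 3), (0, 3), (0, 3), (0, 3), (19, 3), (0, 3), (0, 3), (0, 3)],
  [(1, 10), (0, 10), (0, 10), (0, 10), (0, 3), (0, 3), (0, 3), (0, 3), (0, 7), (0, 7), (0, 6), (0, 7), (0, 3), (0, 3), (0, 3), (0, 3), (19, 3), (0, 3), (0, 3), (0, 3)],
  [(1, 10), (0, 10), (0, 10), (0, 10), (0, 3), (0, 3), (0, 3), (0, 3), (0, 7), (0, 7), (0, 7), (0, 6), (0, 3), (0, 3), (0, 3), (0, 3), (19, 3), (0, 3), (0, 3), (0, 3)],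
  [(1, 10), (0, 10), (0, 10), (0, 10), (0, 3), (0, 3), (0, 3), (0, 3), (4, 9), (0, 10), (0, 10), (0, 10), (19, 3), (0, 3), (0, 3), (0, 3)],
  [(1, 10), (0, 10), (0, 10), (0, 10), (0, 3), (0, 3), (0, 3), (0, 3), (4, 10), (0, 9), (0, 10), (0, 10), (19, 3), (0, 3), (0, 3), (0, 3)],
  [(1, 10), (0, 10), (0, 10), (0, 10), (0, 3), (0, 3), (0, 3), (0, 3), (4, 10), (0, 10), (0, 9), (0, 10), (19, 3), (0, 3), (0, 3), (0, 3)],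
  [(1, 10), (0, 10), (0, 10), (0, 10), (0, 3), (0, 3), (0, 3), (0, 3), (4, 10), (0, 10), (0, 10), (0, 9), (19, 3), (0, 3), (0, 3), (0, 3)],
  [(1, 10), (0, 3), (0, 10), (0, 3), (0, 3), (0, 10), (0, 10), (0, 3), (4, 10), (0, 3), (0, 10), (0, 3), (0, 12), (3, 6), (0, 6), (13, 10), (0, 3), (0, 10), (0, 3), (0, 7), (0, 7)],
  [(1, 10), (0, 3), (0, 10), (0, 3), (0, 3), (0, 10), (0, 10), (0, 3), (4, 10), (0, 3), (0, 10), (0, 3), (1, 12), (2, 6), (0, 6), (13, 10), (0, 3), (0, 10), (0, 3), (0, 7), (0, 7)],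
  [(1, 3), (0, 10), (0, 3), (0, 10), (0, 10), (0, 3), (0, 3), (0, 10), (0, 6), (0, 7), (0, 6), (0, 7), (0, 3), (0, 10), (0, 3), (0, 10), (0, 7), (0, 7), (0, 6), (0, 7), (0, 7), (0, 7), (13, 3), (0, 10), (0, 3), (0, 10), (2, 7), (0, 7)],
  [(1, 3), (0, 10), (0, 3), (0, 10), (0, 10), (0, 3), (0, 3), (0, 10), (0, 6), (0, 7), (0, 6), (0, 7), (0, 3), (0, 10), (0, 3), (0, 10), (0, 7), (0, 7), (0, 7), (0, 6), (0, 7), (0, 7), (13, 3), (0, 10), (0, 3), (0, 10), (2, 7), (0, 7)],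
  [(1, 10), (0, 3), (0, 10), (0, 3), (0, 10), (0, 3), (0, 3), (0, 10), (4, 3), (0, 10), (0, 3), (0, 10), (4, 6), (0, 7), (13, 10), (0, 3), (0, 10), (0, 3), (0, 6), (0, 6)],
  [(1, 10), (0, 3), (0, 10), (0, 3), (0, 10), (0, 3), (0, 3), (0, 10), (4, 3), (0, 10), (0, 3), (0, 10), (4, 7), (0, 6), (13, 10), (0, 3), (0, 10), (0, 3), (0, 6), (0, 6)],
  [(1, 4), (0, 9), (0, 4), (0, 9), (0, 3), (0, 10), (0, 10), (0, 3), (0, 7), (0, 6), (0, 7), (0, 6), (0, 10), (0, 3), (0, 10), (0, 3), (0, 6), (0, 6), (0, 6), (0, 6), (0, 6), (0, 6), (0, 12), (12, 3), (0, 10), (0, 3), (0, 10), (2, 6), (0, 6)],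
  [(1, 10), (0, 10), (0, 3), (0, 3), (0, 10), (0, 10), (0, 3), (0, 3), (4, 10), (0, 10), (0, 3), (0, 3), (7, 12), (3, 6), (0, 6), (6, 10), (0, 10), (0, 3), (0, 3), (4, 7), (0, 7)],
  [(1, 10), (0, 10), (0, 3), (0, 3), (0, 10), (0, 10), (0, 3), (0, 3), (4, 10), (0, 10), (0, 3), (0, 3), (8, 12), (2, 6), (0, 6), (6, 10), (0, 10), (0, 3), (0, 3), (4, 7), (0, 7)],
  [(1, 3), (0, 3), (0, 10), (0, 10), (0, 3), (0, 3), (0, 10), (0, 10), (0, 6), (0, 6), (0, 7), (0, 7), (0, 3), (0, 3), (0, 10), (0, 10), (7, 7), (0, 7), (0, 6), (0, 7), (0, 7), (0, 7), (6, 3), (0, 3), (0, 10), (0, 10), (6, 7), (0, 7)],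
  [(1, 3), (0, 3), (0, 10), (0, 10), (0, 3), (0, 3), (0, 10), (0, 10), (0, 6), (0, 6), (0, 7), (0, 7), (0, 3), (0, 3), (0, 10), (0, 10), (7, 7), (0, 7), (0, 7), (0, 6), (0, 7), (0, 7), (6, 3), (0, 3), (0, 10), (0, 10), (6, 7), (0, 7)],
  [(1, 10), (0, 10), (0, 3), (0, 3), (0, 3), (0, 3), (0, 10), (0, 10), (4, 3), (0, 3), (0, 10), (0, 10), (11, 6), (0, 7), (6, 10), (0, 10), (0, 3), (0, 3), (4, 6), (0, 6)],
  [(1, 10), (0, 10), (0, 3), (0, 3), (0, 3), (0, 3), (0, 10), (0, 10), (4, 3), (0, 3), (0, 10), (0, 10), (11, 7), (0, 6), (6, 10), (0, 10), (0, 3), (0, 3), (4, 6), (0, 6)],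
  [(1, 10), (0, 3), (0, 3), (0, 10), (0, 3), (0, 10), (0, 3), (0, 10), (4, 10), (0, 3), (0, 3), (0, 10), (13, 12), (3, 6), (0, 6), (0, 10), (0, 3), (0, 3), (0, 10), (8, 7), (0, 7)],
  [(1, 10), (0, 3), (0, 3), (0, 10), (0, 3), (0, 10), (0, 3), (0, 10), (4, 10), (0, 3), (0, 3), (0, 10), (14, 12), (2, 6), (0, 6), (0, 10), (0, 3), (0, 3), (0, 10), (8, 7), (0, 7)],
  [(1, 3), (0, 10), (0, 10), (0, 3), (0, 10), (0, 3), (0, 10), (0, 3), (0, 6), (0, 7), (0, 7), (0, 6), (0, 3), (0, 10), (0, 10), (0, 3), (13, 7), (0, 7), (0, 6), (0, 7), (0, 7), (0, 7), (0, 3), (0, 10), (0, 10), (0, 3), (10, 7), (0, 7)],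
  [(1, 3), (0, 10), (0, 10), (0, 3), (0, 10), (0, 3), (0, 10), (0, 3), (0, 6), (0, 7), (0, 7), (0, 6), (0, 3), (0, 10), (0, 10), (0, 3), (13, 7), (0, 7), (0, 7), (0, 6), (0, 7), (0, 7), (0, 3), (0, 10), (0, 10), (0, 3), (10, 7), (0, 7)],
  [(1, 10), (0, 3), (0, 3), (0, 10), (0, 10), (0, 3), (0, 10), (0, 3), (4, 3), (0, 10), (0, 10), (0, 3), (17, 6), (0, 7), (0, 10), (0, 3), (0, 3), (0, 10), (8, 6), (0, 6)],
  [(1, 10), (0, 3), (0, 3), (0, 10), (0, 10), (0, 3), (0, 10), (0, 3), (4, 3), (0, 10), (0, 10), (0, 3), (17, 7), (0, 6), (0, 10), (0, 3), (0, 3), (0, 10), (8, 6), (0, 6)],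
  [(0, 10), (0, 1), (0, 1), (0, 1), (0, 1), (0, 1), (0, 1), (0, 1), (0, 1), (0, 11), (0, 11), (0, 11), (0, 11), (0, 1), (0, 1), (0, 1), (0, 1), (19, 4), (0, 3), (0, 3), (0, 3)],
  [(0, 10), (0, 1), (0, 1), (0, 1), (0, 1), (0, 1), (0, 1), (0, 1), (0, 1), (0, 11), (0, 11), (0, 11), (0, 11), (0, 1), (0, 1), (0, 1), (0, 1), (19, 3), (0, 4), (0, 3), (0, 3)],
  [(0, 10), (0, 1), (0, 1), (0, 1), (0, 1), (0, 1), (0, 1), (0, 1), (0, 1), (0, 11), (0, 11), (0, 11), (0, 11), (0, 1), (0, 1), (0, 1), (0, 1), (19, 3), (0, 3), (0, 4), (0, 3)],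
  [(0, 10), (0, 1), (0, 1), (0, 1), (0, 1), (0, 1), (0, 1), (0, 1), (0, 1), (0, 11), (0, 11), (0, 11), (0, 11), (0, 1), (0, 1), (0, 1), (0, 1), (19, 3), (0, 3), (0, 3), (0, 4)],
  [(1, 10), (0, 3), (0, 10), (0, 3), (0, 3), (0, 10), (0, 10), (0, 3), (4, 10), (0, 3), (0, 10), (0, 3), (4, 6), (0, 6), (13, 10), (0, 3), (0, 10), (0, 3), (0, 6), (0, 7)],
  [(1, 10), (0, 3), (0, 10), (0, 3), (0, 3), (0, 10), (0, 10), (0, 3), (4, 10), (0, 3), (0, 10), (0, 3), (4, 6), (0, 6), (13, 10), (0, 3), (0, 10), (0, 3), (0, 7), (0, 6)],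
  [(1, 3), (0, 10), (0, 3), (0, 10), (0, 10), (0, 3), (0, 3), (0, 10), (0, 6), (0, 7), (0, 6), (0, 7), (0, 3), (0, 10), (0, 3), (0, 10), (0, 7), (0, 7), (0, 7), (0, 7), (0, 7), (0, 7), (13, 3), (0, 10), (0, 3), (0, 10), (2, 6), (0, 7)],
  [(1, 3), (0, 10), (0, 3), (0, 10), (0, 10), (0, 3), (0, 3), (0, 10), (0, 6), (0, 7), (0, 6), (0, 7), (0, 3), (0, 10), (0, 3), (0, 10), (0, 7), (0, 7), (0, 7), (0, 7), (0, 7), (0, 7), (13, 3), (0, 10), (0, 3), (0, 10), (2, 7), (0, 6)],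
  [(1, 10), (0, 10), (0, 3), (0, 3), (0, 10), (0, 10), (0, 3), (0, 3), (4, 10), (0, 10), (0, 3), (0, 3), (11, 6), (0, 6), (6, 10), (0, 10), (0, 3), (0, 3), (4, 6), (0, 7)],
  [(1, 10), (0, 10), (0, 3), (0, 3), (0, 10), (0, 10), (0, 3), (0, 3), (4, 10), (0, 10), (0, 3), (0, 3), (11, 6), (0, 6), (6, 10), (0, 10), (0, 3), (0, 3), (4, 7), (0, 6)],
  [(1, 3), (0, 3), (0, 10), (0, 10), (0, 3), (0, 3), (0, 10), (0, 10), (0, 6), (0, 6), (0, 7), (0, 7), (0, 3), (0, 3), (0, 10), (0, 10), (7, 7), (0, 7), (0, 7), (0, 7), (0, 7), (0, 7), (6, 3), (0, 3), (0, 10), (0, 10), (6, 6), (0, 7)],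
  [(1, 3), (0, 3), (0, 10), (0, 10), (0, 3), (0, 3), (0, 10), (0, 10), (0, 6), (0, 6), (0, 7), (0, 7), (0, 3), (0, 3), (0, 10), (0, 10), (7, 7), (0, 7), (0, 7), (0, 7), (0, 7), (0, 7), (6, 3), (0, 3), (0, 10), (0, 10), (6, 7), (0, 6)],
  [(1, 10), (0, 3), (0, 3), (0, 10), (0, 3), (0, 10), (0, 3), (0, 10), (4, 10), (0, 3), (0, 3), (0, 10), (17, 6), (0, 6), (0, 10), (0, 3), (0, 3), (0, 10), (8, 6), (0, 7)],
  [(1, 10), (0, 3), (0, 3), (0, 10), (0, 3), (0, 10), (0, 3), (0, 10), (4, 10), (0, 3), (0, 3), (0, 10), (17, 6), (0, 6), (0, 10), (0, 3), (0, 3), (0, 10), (8, 7), (0, 6)],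
  [(1, 3), (0, 10), (0, 10), (0, 3), (0, 10), (0, 3), (0, 10), (0, 3), (0, 6), (0, 7), (0, 7), (0, 6), (0, 3), (0, 10), (0, 10), (0, 3), (13, 7), (0, 7), (0, 7), (0, 7), (0, 7), (0, 7), (0, 3), (0, 10), (0, 10), (0, 3), (10, 6), (0, 7)],
  [(1, 3), (0, 10), (0, 10), (0, 3), (0, 10), (0, 3), (0, 10), (0, 3), (0, 6), (0, 7), (0, 7), (0, 6), (0, 3), (0, 10), (0, 10), (0, 3), (13, 7), (0, 7), (0, 7), (0, 7), (0, 7), (0, 7), (0, 3), (0, 10), (0, 10), (0, 3), (10, 7), (0, 6)]]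

/-- A matrix. -/
def m37 : List (List (ℕ × ℕ)) := [
  [(0, 9), (0, 1), (0, 1), (0, 6), (0, 6), (0, 1), (0, 1), (0, 6), (0, 6), (0, 1), (0, 1), (0, 6), (0, 6), (0, 1), (0, 1), (0, 6), (0, 6)],
  [(0, 3), (0, 3), (0, 2), (0, 12), (0, 12), (0, 2), (0, 2), (0, 12), (0, 12), (0, 2), (0, 2), (0, 12), (0, 12), (0, 2), (0, 2), (0, 12), (0, 12)],
  [(0, 3), (0, 2), (0, 3), (0, 12), (0, 12), (0, 2), (0, 2), (0, 12), (0, 12), (0, 2), (0, 2), (0, 12), (0, 12), (0, 2), (0, 2), (0, 12), (0, 12)],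
  [(3, 9), (0, 10), (2, 10), (0, 10), (2, 10), (0, 10), (2, 10), (0, 10)],
  [(3, 10), (0, 9), (2, 10), (0, 10), (2, 10), (0, 10), (2, 10), (0, 10)],
  [(0, 3), (0, 2), (0, 2), (0, 12), (0, 12), (0, 3), (0, 2), (0, 12), (0, 12), (0, 2), (0, 2), (0, 12), (0, 12), (0, 2), (0, 2), (0, 12), (0, 12)],
  [(0, 3), (0, 2), (0, 2), (0, 12), (0, 12), (0, 2), (0, 3), (0, 12), (0, 12), (0, 2), (0, 2), (0, 12), (0, 12), (0, 2), (0, 2), (0, 12), (0, 12)],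
  [(3, 10), (0, 10), (2, 9), (0, 10), (2, 10), (0, 10), (2, 10), (0, 10)],
  [(3, 10), (0, 10), (2, 10), (0, 9), (2, 10), (0, 10), (2, 10), (0, 10)],
  [(0, 3), (0, 2), (0, 2), (0, 12), (0, 12), (0, 2), (0, 2), (0, 12), (0, 12), (0, 3), (0, 2), (0, 12), (0, 12), (0, 2), (0, 2), (0, 12), (0, 12)],
  [(0, 3), (0, 2), (0, 2), (0, 12), (0, 12), (0, 2), (0, 2), (0, 12), (0, 12), (0, 2), (0, 3), (0, 12), (0, 12), (0, 2), (0, 2), (0, 12), (0, 12)],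
  [(3, 10), (0, 10), (2, 10), (0, 10), (2, 9), (0, 10), (2, 10), (0, 10)],
  [(3, 10), (0, 10), (2, 10), (0, 10), (2, 10), (0, 9), (2, 10), (0, 10)],
  [(0, 3), (0, 2), (0, 2), (0, 12), (0, 12), (0, 2), (0, 2), (0, 12), (0, 12), (0, 2), (0, 2), (0, 12), (0, 12), (0, 3), (0, 2), (0, 12), (0, 12)],
  [(0, 3), (0, 2), (0, 2), (0, 12), (0, 12), (0, 2), (0, 2), (0, 12), (0, 12), (0, 2), (0, 2), (0, 12), (0, 12), (0, 2), (0, 3), (0, 12), (0, 12)],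
  [(3, 10), (0, 10), (2, 10), (0, 10), (2, 10), (0, 10), (2, 9), (0, 10)],
  [(3, 10), (0, 10), (2, 10), (0, 10), (2, 10), (0, 10), (2, 10), (0, 9)],
  [(3, 3), (0, 10), (2, 3), (0, 10), (2, 3), (0, 10), (2, 3), (0, 10), (0, 6), (1, 7), (1, 7), (1, 7)],
  [(1, 7), (0, 6), (0, 10), (0, 3), (0, 6), (0, 7), (0, 10), (0, 3), (0, 7), (0, 6), (0, 10), (0, 3), (0, 7), (0, 6), (0, 10), (0, 3), (0, 6), (0, 12), (0, 6), (1, 6), (1, 6)],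
  [(3, 3), (0, 10), (2, 3), (0, 10), (2, 3), (0, 10), (2, 3), (0, 10), (0, 7), (1, 6), (1, 7), (1, 7)],
  [(1, 7), (0, 6), (0, 10), (0, 3), (0, 6), (0, 7), (0, 10), (0, 3), (0, 7), (0, 6), (0, 10), (0, 3), (0, 7), (0, 6), (0, 10), (0, 3), (0, 6), (1, 6), (0, 12), (0, 6), (1, 6)],
  [(3, 3), (0, 10), (2, 3), (0, 10), (2, 3), (0, 10), (2, 3), (0, 10), (0, 7), (1, 7), (1, 6), (1, 7)],
  [(1, 7), (0, 6), (0, 10), (0, 3), (0, 6), (0, 7), (0, 10), (0, 3), (0, 7), (0, 6), (0, 10), (0, 3), (0, 7), (0, 6), (0, 10), (0, 3), (0, 6), (1, 6), (1, 6), (0, 12), (0, 6)],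
  [(3, 3), (0, 10), (2, 3), (0, 10), (2, 3), (0, 10), (2, 3), (0, 10), (0, 7), (1, 7), (1, 7), (1, 6)],
  [(0, 3), (0, 2), (0, 2), (0, 12), (0, 12), (0, 2), (0, 2), (0, 12), (0, 12), (0, 2), (0, 2), (0, 12), (0, 12), (0, 2), (0, 2), (0, 12), (0, 12), (7, 1)],
  [(0, 3), (0, 2), (0, 2), (0, 12), (0, 12), (0, 2), (0, 2), (0, 12), (0, 12), (0, 2), (0, 2), (0, 12), (0, 12), (0, 2), (0, 2), (0, 12), (0, 12), (8, 1)],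
  [(0, 3), (0, 2), (0, 2), (0, 12), (0, 12), (0, 2), (0, 2), (0, 12), (0, 12), (0, 2), (0, 2), (0, 12), (0, 12), (0, 2), (0, 2), (0, 12), (0, 12), (9, 1)],
  [(0, 3), (0, 2), (0, 2), (0, 12), (0, 12), (0, 2), (0, 2), (0, 12), (0, 12), (0, 2), (0, 2), (0, 12), (0, 12), (0, 2), (0, 2), (0, 12), (0, 12), (10, 1)],
  [(0, 3), (0, 2), (0, 2), (0, 12), (0, 12), (0, 2), (0, 2), (0, 12), (0, 12), (0, 2), (0, 2), (0, 12), (0, 12), (0, 2), (0, 2), (0, 12), (0, 12), (11, 1)],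
  [(0, 3), (0, 2), (0, 2), (0, 12), (0, 12), (0, 2), (0, 2), (0, 12), (0, 12), (0, 2), (0, 2), (0, 12), (0, 12), (0, 2), (0, 2), (0, 12), (0, 12), (12, 1)],
  [(3, 3), (0, 10), (2, 3), (0, 10), (2, 3), (0, 10), (2, 3), (0, 10), (0, 7), (1, 7), (1, 7), (1, 7), (6, 12)],
  [(1, 7), (0, 6), (0, 10), (0, 3), (0, 6), (0, 7), (0, 10), (0, 3), (0, 7), (0, 6), (0, 10), (0, 3), (0, 7), (0, 6), (0, 10), (0, 3), (0, 6), (1, 6), (1, 6), (1, 6), (7, 12)],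
  [(3, 3), (0, 10), (2, 3), (0, 10), (2, 3), (0, 10), (2, 3), (0, 10), (0, 7), (1, 7), (1, 7), (1, 7), (8, 12)],
  [(1, 7), (0, 6), (0, 10), (0, 3), (0, 6), (0, 7), (0, 10), (0, 3), (0, 7), (0, 6), (0, 10), (0, 3), (0, 7), (0, 6), (0, 10), (0, 3), (0, 6), (1, 6), (1, 6), (1, 6), (9, 12)],
  [(3, 3), (0, 10), (2, 3), (0, 10), (2, 3), (0, 10), (2, 3), (0, 10), (0, 7), (1, 7), (1, 7), (1, 7), (10, 12)],
  [(1, 7), (0, 6), (0, 10), (0, 3), (0, 6), (0, 7), (0, 10), (0, 3), (0, 7), (0, 6), (0, 10), (0, 3), (0, 7), (0, 6), (0, 10), (0, 3), (0, 6), (1, 6), (1, 6), (1, 6), (11, 12)],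
  [(3, 10), (0, 10), (0, 6), (0, 6), (0, 10), (0, 10), (2, 10), (0, 10), (0, 6), (0, 6), (0, 10), (0, 10), (7, 7), (0, 7), (2, 7), (0, 7), (6, 12)],
  [(3, 10), (0, 10), (0, 6), (0, 6), (0, 10), (0, 10), (2, 10), (0, 10), (0, 6), (0, 6), (0, 10), (0, 10), (7, 7), (0, 7), (2, 7), (0, 7), (7, 12)],
  [(1, 7), (0, 7), (0, 3), (0, 3), (2, 3), (0, 3), (0, 7), (0, 7), (0, 3), (0, 3), (2, 3), (0, 3), (7, 6), (0, 6), (2, 6), (0, 6), (8, 12)],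
  [(1, 7), (0, 7), (0, 3), (0, 3), (2, 3), (0, 3), (0, 7), (0, 7), (0, 3), (0, 3), (2, 3), (0, 3), (7, 6), (0, 6), (2, 6), (0, 6), (9, 12)],
  [(1, 7), (0, 6), (0, 10), (0, 3), (2, 10), (0, 3), (0, 7), (0, 6), (0, 10), (0, 3), (2, 10), (0, 3), (0, 6), (1, 6), (1, 6), (1, 6), (0, 7), (0, 6), (2, 7), (0, 6), (10, 12)],
  [(3, 3), (0, 10), (0, 7), (0, 6), (0, 3), (0, 10), (2, 3), (0, 10), (0, 6), (0, 7), (0, 3), (0, 10), (0, 7), (1, 7), (1, 7), (1, 7), (0, 6), (0, 7), (2, 6), (0, 7), (11, 12)],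
  [(1, 7), (0, 6), (0, 10), (0, 3), (2, 10), (0, 3), (0, 7), (0, 6), (0, 10), (0, 3), (2, 10), (0, 3), (0, 6), (1, 6), (1, 6), (1, 6), (0, 7), (0, 6), (2, 7), (0, 6), (12, 12)],
  [(3, 3), (0, 10), (0, 7), (0, 6), (0, 3), (0, 10), (2, 3), (0, 10), (0, 6), (0, 7), (0, 3), (0, 10), (0, 7), (1, 7), (1, 7), (1, 7), (0, 6), (0, 7), (2, 6), (0, 7), (13, 12)],
  [(3, 10), (0, 10), (0, 6), (0, 6), (0, 10), (0, 10), (2, 10), (0, 10), (0, 6), (0, 6), (0, 10), (0, 10), (7, 7), (0, 7), (2, 7), (0, 7), (14, 12)],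
  [(3, 10), (0, 10), (0, 6), (0, 6), (0, 10), (0, 10), (2, 10), (0, 10), (0, 6), (0, 6), (0, 10), (0, 10), (7, 7), (0, 7), (2, 7), (0, 7), (15, 12)],
  [(1, 7), (0, 7), (0, 3), (0, 3), (2, 3), (0, 3), (0, 7), (0, 7), (0, 3), (0, 3), (2, 3), (0, 3), (7, 6), (0, 6), (2, 6), (0, 6), (16, 12)],
  [(1, 7), (0, 7), (0, 3), (0, 3), (2, 3), (0, 3), (0, 7), (0, 7), (0, 3), (0, 3), (2, 3), (0, 3), (7, 6), (0, 6), (2, 6), (0, 6), (17, 12)],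
  [(1, 7), (0, 6), (0, 10), (0, 3), (2, 10), (0, 3), (0, 7), (0, 6), (0, 10), (0, 3), (2, 10), (0, 3), (0, 6), (1, 6), (1, 6), (1, 6), (0, 7), (0, 6), (2, 7), (0, 6), (18, 12)],
  [(3, 3), (0, 10), (0, 7), (0, 6), (0, 3), (0, 10), (2, 3), (0, 10), (0, 6), (0, 7), (0, 3), (0, 10), (0, 7), (1, 7), (1, 7), (1, 7), (0, 6), (0, 7), (2, 6), (0, 7), (19, 12)],
  [(1, 7), (0, 6), (0, 10), (0, 3), (2, 10), (0, 3), (0, 7), (0, 6), (0, 10), (0, 3), (2, 10), (0, 3), (0, 6), (1, 6), (1, 6), (1, 6), (0, 7), (0, 6), (2, 7), (0, 6), (20, 12)],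
  [(3, 3), (0, 10), (0, 7), (0, 6), (0, 3), (0, 10), (2, 3), (0, 10), (0, 6), (0, 7), (0, 3), (0, 10), (0, 7), (1, 7), (1, 7), (1, 7), (0, 6), (0, 7), (2, 6), (0, 7), (21, 12)]]

/-- A matrix. -/
def m38 : List (List (ℕ × ℕ)) := [
  [(0, 9), (0, 1), (0, 1), (0, 1), (0, 1), (0, 6), (0, 6), (0, 6), (0, 6), (0, 1), (0, 1), (0, 1), (0, 1), (0, 6), (0, 6), (0, 6), (0, 6)],
  [(0, 3), (0, 3), (0, 2), (0, 2), (0, 2), (0, 12), (0, 12), (0, 12), (0, 12), (0, 2), (0, 2), (0, 2), (0, 2), (0, 12), (0, 12), (0, 12), (0, 12)],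
  [(0, 3), (0, 2), (0, 3), (0, 2), (0, 2), (0, 12), (0, 12), (0, 12), (0, 12), (0, 2), (0, 2), (0, 2), (0, 2), (0, 12), (0, 12), (0, 12), (0, 12)],
  [(0, 3), (0, 2), (0, 2), (0, 3), (0, 2), (0, 12), (0, 12), (0, 12), (0, 12), (0, 2), (0, 2), (0, 2), (0, 2), (0, 12), (0, 12), (0, 12), (0, 12)],
  [(0, 3), (0, 2), (0, 2), (0, 2), (0, 3), (0, 12), (0, 12), (0, 12), (0, 12), (0, 2), (0, 2), (0, 2), (0, 2), (0, 12), (0, 12), (0, 12), (0, 12)],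
  [(5, 9), (0, 10), (0, 10), (0, 10), (4, 10), (0, 10), (0, 10), (0, 10)],
  [(5, 10), (0, 9), (0, 10), (0, 10), (4, 10), (0, 10), (0, 10), (0, 10)],
  [(5, 10), (0, 10), (0, 9), (0, 10), (4, 10), (0, 10), (0, 10), (0, 10)],
  [(5, 10), (0, 10), (0, 10), (0, 9), (4, 10), (0, 10), (0, 10), (0, 10)],
  [(0, 3), (0, 2), (0, 2), (0, 2), (0, 2), (0, 12), (0, 12), (0, 12), (0, 12), (0, 3), (0, 2), (0, 2), (0, 2), (0, 12), (0, 12), (0, 12), (0, 12)],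
  [(0, 3), (0, 2), (0, 2), (0, 2), (0, 2), (0, 12), (0, 12), (0, 12), (0, 12), (0, 2), (0, 3), (0, 2), (0, 2), (0, 12), (0, 12), (0, 12), (0, 12)],
  [(0, 3), (0, 2), (0, 2), (0, 2), (0, 2), (0, 12), (0, 12), (0, 12), (0, 12), (0, 2), (0, 2), (0, 3), (0, 2), (0, 12), (0, 12), (0, 12), (0, 12)],
  [(0, 3), (0, 2), (0, 2), (0, 2), (0, 2), (0, 12), (0, 12), (0, 12), (0, 12), (0, 2), (0, 2), (0, 2), (0, 3), (0, 12), (0, 12), (0, 12), (0, 12)],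
  [(5, 10), (0, 10), (0, 10), (0, 10), (4, 9), (0, 10), (0, 10), (0, 10)],
  [(5, 10), (0, 10), (0, 10), (0, 10), (4, 10), (0, 9), (0, 10), (0, 10)],
  [(5, 10), (0, 10), (0, 10), (0, 10), (4, 10), (0, 10), (0, 9), (0, 10)],
  [(5, 10), (0, 10), (0, 10), (0, 10), (4, 10), (0, 10), (0, 10), (0, 9)],
  [(5, 10), (0, 3), (0, 3), (0, 10), (4, 3), (0, 10), (0, 3), (0, 10), (0, 6), (0, 7), (2, 7), (0, 7)],
  [(5, 10), (0, 3), (0, 3), (0, 10), (4, 3), (0, 10), (0, 3), (0, 10), (0, 7), (0, 6), (2, 7), (0, 7)],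
  [(1, 7), (0, 6), (0, 7), (0, 6), (0, 3), (0, 10), (0, 10), (0, 3), (0, 7), (0, 6), (0, 7), (0, 6), (0, 10), (0, 3), (0, 10), (0, 3), (0, 6), (0, 6), (0, 12), (1, 6), (0, 6)],
  [(1, 7), (0, 6), (0, 7), (0, 6), (0, 3), (0, 10), (0, 10), (0, 3), (0, 7), (0, 6), (0, 7), (0, 6), (0, 10), (0, 3), (0, 10), (0, 3), (0, 6), (0, 6), (1, 12), (0, 6), (0, 6)],
  [(5, 10), (0, 3), (0, 3), (0, 10), (4, 3), (0, 10), (0, 3), (0, 10), (0, 7), (0, 7), (2, 6), (0, 7)],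
  [(5, 10), (0, 3), (0, 3), (0, 10), (4, 3), (0, 10), (0, 3), (0, 10), (0, 7), (0, 7), (2, 7), (0, 6)],
  [(1, 7), (0, 6), (0, 7), (0, 6), (0, 3), (0, 10), (0, 10), (0, 3), (0, 7), (0, 6), (0, 7), (0, 6), (0, 10), (0, 3), (0, 10), (0, 3), (0, 6), (0, 6), (2, 6), (0, 6), (0, 12)],
  [(5, 3), (0, 3), (0, 10), (0, 10), (4, 3), (0, 3), (0, 10), (0, 10), (7, 6), (0, 7), (2, 7), (0, 7)],
  [(5, 3), (0, 3), (0, 10), (0, 10), (4, 3), (0, 3), (0, 10), (0, 10), (7, 7), (0, 6), (2, 7), (0, 7)],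
  [(1, 7), (0, 7), (0, 6), (0, 6), (0, 10), (0, 10), (0, 3), (0, 3), (0, 7), (0, 7), (0, 6), (0, 6), (0, 10), (0, 10), (0, 3), (0, 3), (7, 6), (0, 6), (0, 12), (1, 6), (0, 6)],
  [(1, 7), (0, 7), (0, 6), (0, 6), (0, 10), (0, 10), (0, 3), (0, 3), (0, 7), (0, 7), (0, 6), (0, 6), (0, 10), (0, 10), (0, 3), (0, 3), (7, 6), (0, 6), (1, 12), (0, 6), (0, 6)],
  [(5, 3), (0, 3), (0, 10), (0, 10), (4, 3), (0, 3), (0, 10), (0, 10), (7, 7), (0, 7), (2, 6), (0, 7)],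
  [(5, 3), (0, 3), (0, 10), (0, 10), (4, 3), (0, 3), (0, 10), (0, 10), (7, 7), (0, 7), (2, 7), (0, 6)],
  [(5, 10), (0, 3), (0, 10), (0, 3), (4, 3), (0, 10), (0, 10), (0, 3), (13, 6), (0, 7), (2, 7), (0, 7)],
  [(5, 10), (0, 3), (0, 10), (0, 3), (4, 3), (0, 10), (0, 10), (0, 3), (13, 7), (0, 6), (2, 7), (0, 7)],
  [(1, 7), (0, 6), (0, 6), (0, 7), (0, 3), (0, 10), (0, 3), (0, 10), (0, 7), (0, 6), (0, 6), (0, 7), (0, 10), (0, 3), (0, 3), (0, 10), (13, 6), (0, 6), (0, 12), (1, 6), (0, 6)],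
  [(1, 7), (0, 6), (0, 6), (0, 7), (0, 3), (0, 10), (0, 3), (0, 10), (0, 7), (0, 6), (0, 6), (0, 7), (0, 10), (0, 3), (0, 3), (0, 10), (13, 6), (0, 6), (1, 12), (0, 6), (0, 6)],
  [(5, 10), (0, 3), (0, 10), (0, 3), (4, 3), (0, 10), (0, 10), (0, 3), (13, 7), (0, 7), (2, 6), (0, 7)],
  [(5, 10), (0, 3), (0, 10), (0, 3), (4, 3), (0, 10), (0, 10), (0, 3), (13, 7), (0, 7), (2, 7), (0, 6)],
  [(0, 3), (0, 2), (0, 2), (0, 2), (0, 2), (0, 12), (0, 12), (0, 12), (0, 12), (0, 2), (0, 2), (0, 2), (0, 2), (0, 12), (0, 12), (0, 12), (0, 12), (19, 1)],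
  [(0, 3), (0, 2), (0, 2), (0, 2), (0, 2), (0, 12), (0, 12), (0, 12), (0, 12), (0, 2), (0, 2), (0, 2), (0, 2), (0, 12), (0, 12), (0, 12), (0, 12), (20, 1)],
  [(0, 3), (0, 2), (0, 2), (0, 2), (0, 2), (0, 12), (0, 12), (0, 12), (0, 12), (0, 2), (0, 2), (0, 2), (0, 2), (0, 12), (0, 12), (0, 12), (0, 12), (21, 1)],
  [(0, 3), (0, 2), (0, 2), (0, 2), (0, 2), (0, 12), (0, 12), (0, 12), (0, 12), (0, 2), (0, 2), (0, 2), (0, 2), (0, 12), (0, 12), (0, 12), (0, 12), (22, 1)],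
  [(5, 10), (0, 3), (0, 3), (0, 10), (4, 3), (0, 10), (0, 3), (0, 10), (0, 7), (0, 7), (2, 7), (0, 7), (17, 12)],
  [(5, 10), (0, 3), (0, 3), (0, 10), (4, 3), (0, 10), (0, 3), (0, 10), (0, 7), (0, 7), (2, 7), (0, 7), (18, 12)],
  [(1, 7), (0, 6), (0, 7), (0, 6), (0, 3), (0, 10), (0, 10), (0, 3), (0, 7), (0, 6), (0, 7), (0, 6), (0, 10), (0, 3), (0, 10), (0, 3), (0, 6), (0, 6), (2, 6), (0, 6), (19, 12)],
  [(1, 7), (0, 6), (0, 7), (0, 6), (0, 3), (0, 10), (0, 10), (0, 3), (0, 7), (0, 6), (0, 7), (0, 6), (0, 10), (0, 3), (0, 10), (0, 3), (0, 6), (0, 6), (2, 6), (0, 6), (20, 12)],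
  [(5, 3), (0, 3), (0, 10), (0, 10), (4, 3), (0, 3), (0, 10), (0, 10), (7, 7), (0, 7), (2, 7), (0, 7), (14, 12)],
  [(5, 3), (0, 3), (0, 10), (0, 10), (4, 3), (0, 3), (0, 10), (0, 10), (7, 7), (0, 7), (2, 7), (0, 7), (15, 12)],
  [(1, 7), (0, 7), (0, 6), (0, 6), (0, 10), (0, 10), (0, 3), (0, 3), (0, 7), (0, 7), (0, 6), (0, 6), (0, 10), (0, 10), (0, 3), (0, 3), (7, 6), (0, 6), (2, 6), (0, 6), (16, 12)],
  [(1, 7), (0, 7), (0, 6), (0, 6), (0, 10), (0, 10), (0, 3), (0, 3), (0, 7), (0, 7), (0, 6), (0, 6), (0, 10), (0, 10), (0, 3), (0, 3), (7, 6), (0, 6), (2, 6), (0, 6), (17, 12)],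
  [(5, 10), (0, 3), (0, 10), (0, 3), (4, 3), (0, 10), (0, 10), (0, 3), (13, 7), (0, 7), (2, 7), (0, 7), (12, 12)],
  [(5, 10), (0, 3), (0, 10), (0, 3), (4, 3), (0, 10), (0, 10), (0, 3), (13, 7), (0, 7), (2, 7), (0, 7), (13, 12)],
  [(1, 7), (0, 6), (0, 6), (0, 7), (0, 3), (0, 10), (0, 3), (0, 10), (0, 7), (0, 6), (0, 6), (0, 7), (0, 10), (0, 3), (0, 3), (0, 10), (13, 6), (0, 6), (2, 6), (0, 6), (14, 12)],
  [(1, 7), (0, 6), (0, 6), (0, 7), (0, 3), (0, 10), (0, 3), (0, 10), (0, 7), (0, 6), (0, 6), (0, 7), (0, 10), (0, 3), (0, 3), (0, 10), (13, 6), (0, 6), (2, 6), (0, 6), (15, 12)]]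

/-- A matrix. -/
def m39 : List (List (ℕ × ℕ)) := [
  [(0, 9), (0, 1), (0, 1), (0, 1), (0, 1), (0, 1), (0, 1), (0, 1), (0, 1), (0, 6), (0, 6), (0, 6), (0, 6), (0, 6), (0, 6), (0, 6), (0, 6)],
  [(0, 3), (0, 3), (0, 2), (0, 2), (0, 2), (0, 2), (0, 2), (0, 2), (0, 2), (0, 12), (0, 12), (0, 12), (0, 12), (0, 12), (0, 12), (0, 12), (0, 12)],
  [(0, 3), (0, 2), (0, 3), (0, 2), (0, 2), (0, 2), (0, 2), (0, 2), (0, 2), (0, 12), (0, 12), (0, 12), (0, 12), (0, 12), (0, 12), (0, 12), (0, 12)],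
  [(0, 3), (0, 2), (0, 2), (0, 3), (0, 2), (0, 2), (0, 2), (0, 2), (0, 2), (0, 12), (0, 12), (0, 12), (0, 12), (0, 12), (0, 12), (0, 12), (0, 12)],
  [(0, 3), (0, 2), (0, 2), (0, 2), (0, 3), (0, 2), (0, 2), (0, 2), (0, 2), (0, 12), (0, 12), (0, 12), (0, 12), (0, 12), (0, 12), (0, 12), (0, 12)],
  [(0, 3), (0, 2), (0, 2), (0, 2), (0, 2), (0, 3), (0, 2), (0, 2), (0, 2), (0, 12), (0, 12), (0, 12), (0, 12), (0, 12), (0, 12), (0, 12), (0, 12)],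
  [(0, 3), (0, 2), (0, 2), (0, 2), (0, 2), (0, 2), (0, 3), (0, 2), (0, 2), (0, 12), (0, 12), (0, 12), (0, 12), (0, 12), (0, 12), (0, 12), (0, 12)],
  [(0, 3), (0, 2), (0, 2), (0, 2), (0, 2), (0, 2), (0, 2), (0, 3), (0, 2), (0, 12), (0, 12), (0, 12), (0, 12), (0, 12), (0, 12), (0, 12), (0, 12)],
  [(0, 3), (0, 2), (0, 2), (0, 2), (0, 2), (0, 2), (0, 2), (0, 2), (0, 3), (0, 12), (0, 12), (0, 12), (0, 12), (0, 12), (0, 12), (0, 12), (0, 12)],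
  [(9, 9), (0, 10), (0, 10), (0, 10), (0, 10), (0, 10), (0, 10), (0, 10)],
  [(9, 10), (0, 9), (0, 10), (0, 10), (0, 10), (0, 10), (0, 10), (0, 10)],
  [(9, 10), (0, 10), (0, 9), (0, 10), (0, 10), (0, 10), (0, 10), (0, 10)],
  [(9, 10), (0, 10), (0, 10), (0, 9), (0, 10), (0, 10), (0, 10), (0, 10)],
  [(9, 10), (0, 10), (0, 10), (0, 10), (0, 9), (0, 10), (0, 10), (0, 10)],
  [(9, 10), (0, 10), (0, 10), (0, 10), (0, 10), (0, 9), (0, 10), (0, 10)],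
  [(9, 10), (0, 10), (0, 10), (0, 10), (0, 10), (0, 10), (0, 9), (0, 10)],
  [(9, 10), (0, 10), (0, 10), (0, 10), (0, 10), (0, 10), (0, 10), (0, 9)],
  [(9, 3), (0, 10), (0, 3), (0, 10), (0, 3), (0, 10), (0, 3), (0, 10), (0, 6), (0, 7), (0, 7), (0, 7)],
  [(9, 3), (0, 10), (0, 3), (0, 10), (0, 3), (0, 10), (0, 3), (0, 10), (0, 7), (0, 6), (0, 7), (0, 7)],
  [(9, 3), (0, 10), (0, 3), (0, 10), (0, 3), (0, 10), (0, 3), (0, 10), (0, 7), (0, 7), (0, 6), (0, 7)],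
  [(9, 3), (0, 10), (0, 3), (0, 10), (0, 3), (0, 10), (0, 3), (0, 10), (0, 7), (0, 7), (0, 7), (0, 6)],
  [(1, 7), (0, 6), (0, 7), (0, 6), (0, 6), (0, 7), (0, 7), (0, 6), (0, 10), (0, 3), (0, 10), (0, 3), (0, 10), (0, 3), (0, 10), (0, 3), (0, 6), (0, 6), (0, 6), (0, 6), (0, 12)],
  [(1, 7), (0, 6), (0, 7), (0, 6), (0, 6), (0, 7), (0, 7), (0, 6), (0, 10), (0, 3), (0, 10), (0, 3), (0, 10), (0, 3), (0, 10), (0, 3), (0, 6), (0, 6), (0, 6), (0, 6), (1, 12)],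
  [(1, 7), (0, 6), (0, 7), (0, 6), (0, 6), (0, 7), (0, 7), (0, 6), (0, 10), (0, 3), (0, 10), (0, 3), (0, 10), (0, 3), (0, 10), (0, 3), (0, 6), (0, 6), (0, 6), (0, 6), (2, 12)],
  [(9, 3), (0, 3), (0, 10), (0, 10), (0, 3), (0, 3), (0, 10), (0, 10), (7, 6), (0, 7), (0, 7), (0, 7)],
  [(9, 3), (0, 3), (0, 10), (0, 10), (0, 3), (0, 3), (0, 10), (0, 10), (7, 7), (0, 6), (0, 7), (0, 7)],
  [(9, 3), (0, 3), (0, 10), (0, 10), (0, 3), (0, 3), (0, 10), (0, 10), (7, 7), (0, 7), (0, 6), (0, 7)],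
  [(9, 3), (0, 3), (0, 10), (0, 10), (0, 3), (0, 3), (0, 10), (0, 10), (7, 7), (0, 7), (0, 7), (0, 6)],
  [(1, 7), (0, 7), (0, 6), (0, 6), (0, 7), (0, 7), (0, 6), (0, 6), (0, 10), (0, 10), (0, 3), (0, 3), (0, 10), (0, 10), (0, 3), (0, 3), (7, 6), (0, 6), (0, 6), (0, 6), (0, 12)],
  [(1, 7), (0, 7), (0, 6), (0, 6), (0, 7), (0, 7), (0, 6), (0, 6), (0, 10), (0, 10), (0, 3), (0, 3), (0, 10), (0, 10), (0, 3), (0, 3), (7, 6), (0, 6), (0, 6), (0, 6), (1, 12)],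
  [(9, 3), (0, 10), (0, 10), (0, 3), (0, 3), (0, 10), (0, 10), (0, 3), (13, 6), (0, 7), (0, 7), (0, 7)],
  [(9, 3), (0, 10), (0, 10), (0, 3), (0, 3), (0, 10), (0, 10), (0, 3), (13, 7), (0, 6), (0, 7), (0, 7)],
  [(9, 3), (0, 10), (0, 10), (0, 3), (0, 3), (0, 10), (0, 10), (0, 3), (13, 7), (0, 7), (0, 6), (0, 7)],
  [(9, 3), (0, 10), (0, 10), (0, 3), (0, 3), (0, 10), (0, 10), (0, 3), (13, 7), (0, 7), (0, 7), (0, 6)],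
  [(1, 7), (0, 6), (0, 6), (0, 7), (0, 6), (0, 7), (0, 6), (0, 7), (0, 10), (0, 3), (0, 3), (0, 10), (0, 10), (0, 3), (0, 3), (0, 10), (13, 6), (0, 6), (0, 6), (0, 6), (0, 12)],
  [(1, 7), (0, 6), (0, 6), (0, 7), (0, 6), (0, 7), (0, 6), (0, 7), (0, 10), (0, 3), (0, 3), (0, 10), (0, 10), (0, 3), (0, 3), (0, 10), (13, 6), (0, 6), (0, 6), (0, 6), (1, 12)],
  [(9, 3), (0, 3), (0, 3), (0, 3), (0, 10), (0, 10), (0, 10), (0, 10), (19, 6), (0, 7), (0, 7), (0, 7)],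
  [(9, 3), (0, 3), (0, 3), (0, 3), (0, 10), (0, 10), (0, 10), (0, 10), (19, 7), (0, 6), (0, 7), (0, 7)],
  [(9, 3), (0, 3), (0, 3), (0, 3), (0, 10), (0, 10), (0, 10), (0, 10), (19, 7), (0, 7), (0, 6), (0, 7)],
  [(9, 3), (0, 3), (0, 3), (0, 3), (0, 10), (0, 10), (0, 10), (0, 10), (19, 7), (0, 7), (0, 7), (0, 6)],
  [(9, 3), (0, 10), (0, 3), (0, 10), (0, 10), (0, 3), (0, 10), (0, 3), (23, 6), (0, 7), (0, 7), (0, 7)],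
  [(9, 3), (0, 10), (0, 3), (0, 10), (0, 10), (0, 3), (0, 10), (0, 3), (23, 7), (0, 6), (0, 7), (0, 7)],
  [(9, 3), (0, 10), (0, 3), (0, 10), (0, 10), (0, 3), (0, 10), (0, 3), (23, 7), (0, 7), (0, 6), (0, 7)],
  [(9, 3), (0, 10), (0, 3), (0, 10), (0, 10), (0, 3), (0, 10), (0, 3), (23, 7), (0, 7), (0, 7), (0, 6)],
  [(9, 3), (0, 3), (0, 10), (0, 10), (0, 10), (0, 10), (0, 3), (0, 3), (27, 6), (0, 7), (0, 7), (0, 7)],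
  [(9, 3), (0, 3), (0, 10), (0, 10), (0, 10), (0, 10), (0, 3), (0, 3), (27, 7), (0, 6), (0, 7), (0, 7)],
  [(9, 3), (0, 3), (0, 10), (0, 10), (0, 10), (0, 10), (0, 3), (0, 3), (27, 7), (0, 7), (0, 6), (0, 7)],
  [(9, 3), (0, 3), (0, 10), (0, 10), (0, 10), (0, 10), (0, 3), (0, 3), (27, 7), (0, 7), (0, 7), (0, 6)],
  [(9, 3), (0, 10), (0, 10), (0, 3), (0, 10), (0, 3), (0, 3), (0, 10), (31, 6), (0, 7), (0, 7), (0, 7)],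
  [(9, 3), (0, 10), (0, 10), (0, 3), (0, 10), (0, 3), (0, 3), (0, 10), (31, 7), (0, 6), (0, 7), (0, 7)],
  [(9, 3), (0, 10), (0, 10), (0, 3), (0, 10), (0, 3), (0, 3), (0, 10), (31, 7), (0, 7), (0, 6), (0, 7)],
  [(9, 3), (0, 10), (0, 10), (0, 3), (0, 10), (0, 3), (0, 3), (0, 10), (31, 7), (0, 7), (0, 7), (0, 6)]]

/-- A matrix. -/
def m40 : List (List (ℕ × ℕ)) := [
  [(0, 9), (0, 6), (0, 6), (0, 6), (0, 6), (0, 6), (0, 6), (0, 6), (0, 6), (0, 6), (0, 6), (0, 6), (0, 6), (0, 6), (0, 6), (0, 6), (0, 6)],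
  [(0, 10), (0, 2), (0, 1), (0, 1), (0, 1), (0, 1), (0, 1), (0, 1), (0, 1), (0, 1), (0, 1), (0, 1), (0, 1), (0, 1), (0, 1), (0, 1), (0, 1)],
  [(0, 10), (0, 1), (0, 2), (0, 1), (0, 1), (0, 1), (0, 1), (0, 1), (0, 1), (0, 1), (0, 1), (0, 1), (0, 1), (0, 1), (0, 1), (0, 1), (0, 1)],
  [(0, 10), (0, 1), (0, 1), (0, 2), (0, 1), (0, 1), (0, 1), (0, 1), (0, 1), (0, 1), (0, 1), (0, 1), (0, 1), (0, 1), (0, 1), (0, 1), (0, 1)],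
  [(0, 10), (0, 1), (0, 1), (0, 1), (0, 2), (0, 1), (0, 1), (0, 1), (0, 1), (0, 1), (0, 1), (0, 1), (0, 1), (0, 1), (0, 1), (0, 1), (0, 1)],
  [(0, 10), (0, 1), (0, 1), (0, 1), (0, 1), (0, 2), (0, 1), (0, 1), (0, 1), (0, 1), (0, 1), (0, 1), (0, 1), (0, 1), (0, 1), (0, 1), (0, 1)],
  [(0, 10), (0, 1), (0, 1), (0, 1), (0, 1), (0, 1), (0, 2), (0, 1), (0, 1), (0, 1), (0, 1), (0, 1), (0, 1), (0, 1), (0, 1), (0, 1), (0, 1)],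
  [(0, 10), (0, 1), (0, 1), (0, 1), (0, 1), (0, 1), (0, 1), (0, 2), (0, 1), (0, 1), (0, 1), (0, 1), (0, 1), (0, 1), (0, 1), (0, 1), (0, 1)],
  [(0, 10), (0, 1), (0, 1), (0, 1), (0, 1), (0, 1), (0, 1), (0, 1), (0, 2), (0, 1), (0, 1), (0, 1), (0, 1), (0, 1), (0, 1), (0, 1), (0, 1)],
  [(0, 10), (0, 1), (0, 1), (0, 1), (0, 1), (0, 1), (0, 1), (0, 1), (0, 1), (0, 2), (0, 1), (0, 1), (0, 1), (0, 1), (0, 1), (0, 1), (0, 1)],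
  [(0, 10), (0, 1), (0, 1), (0, 1), (0, 1), (0, 1), (0, 1), (0, 1), (0, 1), (0, 1), (0, 2), (0, 1), (0, 1), (0, 1), (0, 1), (0, 1), (0, 1)],
  [(0, 10), (0, 1), (0, 1), (0, 1), (0, 1), (0, 1), (0, 1), (0, 1), (0, 1), (0, 1), (0, 1), (0, 2), (0, 1), (0, 1), (0, 1), (0, 1), (0, 1)],
  [(0, 10), (0, 1), (0, 1), (0, 1), (0, 1), (0, 1), (0, 1), (0, 1), (0, 1), (0, 1), (0, 1), (0, 1), (0, 2), (0, 1), (0, 1), (0, 1), (0, 1)],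
  [(0, 10), (0, 1), (0, 1), (0, 1), (0, 1), (0, 1), (0, 1), (0, 1), (0, 1), (0, 1), (0, 1), (0, 1), (0, 1), (0, 2), (0, 1), (0, 1), (0, 1)],
  [(0, 10), (0, 1), (0, 1), (0, 1), (0, 1), (0, 1), (0, 1), (0, 1), (0, 1), (0, 1), (0, 1), (0, 1), (0, 1), (0, 1), (0, 2), (0, 1), (0, 1)],
  [(0, 10), (0, 1), (0, 1), (0, 1), (0, 1), (0, 1), (0, 1), (0, 1), (0, 1), (0, 1), (0, 1), (0, 1), (0, 1), (0, 1), (0, 1), (0, 2), (0, 1)],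
  [(0, 10), (0, 1), (0, 1), (0, 1), (0, 1), (0, 1), (0, 1), (0, 1), (0, 1), (0, 1), (0, 1), (0, 1), (0, 1), (0, 1), (0, 1), (0, 1), (0, 2)],
  [(1, 10), (0, 3), (0, 10), (0, 3), (0, 3), (0, 10), (0, 10), (0, 3), (0, 10), (0, 3), (0, 10), (0, 3), (0, 10), (0, 3), (0, 10), (0, 3), (0, 12)],
  [(1, 10), (0, 3), (0, 10), (0, 3), (0, 3), (0, 10), (0, 10), (0, 3), (0, 10), (0, 3), (0, 10), (0, 3), (0, 10), (0, 3), (0, 10), (0, 3), (1, 12)],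
  [(1, 10), (0, 3), (0, 10), (0, 3), (0, 3), (0, 10), (0, 10), (0, 3), (0, 10), (0, 3), (0, 10), (0, 3), (0, 10), (0, 3), (0, 10), (0, 3), (2, 12)],
  [(1, 10), (0, 3), (0, 10), (0, 3), (0, 3), (0, 10), (0, 10), (0, 3), (0, 10), (0, 3), (0, 10), (0, 3), (0, 10), (0, 3), (0, 10), (0, 3), (3, 12)],
  [(1, 10), (0, 3), (0, 10), (0, 3), (0, 3), (0, 10), (0, 10), (0, 3), (0, 10), (0, 3), (0, 10), (0, 3), (0, 10), (0, 3), (0, 10), (0, 3), (4, 12)],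
  [(1, 10), (0, 3), (0, 10), (0, 3), (0, 3), (0, 10), (0, 10), (0, 3), (0, 10), (0, 3), (0, 10), (0, 3), (0, 10), (0, 3), (0, 10), (0, 3), (5, 12)],
  [(1, 10), (0, 3), (0, 10), (0, 3), (0, 3), (0, 10), (0, 10), (0, 3), (0, 10), (0, 3), (0, 10), (0, 3), (0, 10), (0, 3), (0, 10), (0, 3), (6, 12)],
  [(1, 10), (0, 10), (0, 3), (0, 3), (0, 10), (0, 10), (0, 3), (0, 3), (0, 10), (0, 10), (0, 3), (0, 3), (0, 10), (0, 10), (0, 3), (0, 3), (7, 12)],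
  [(1, 10), (0, 10), (0, 3), (0, 3), (0, 10), (0, 10), (0, 3), (0, 3), (0, 10), (0, 10), (0, 3), (0, 3), (0, 10), (0, 10), (0, 3), (0, 3), (8, 12)],
  [(1, 10), (0, 10), (0, 3), (0, 3), (0, 10), (0, 10), (0, 3), (0, 3), (0, 10), (0, 10), (0, 3), (0, 3), (0, 10), (0, 10), (0, 3), (0, 3), (9, 12)],
  [(1, 10), (0, 10), (0, 3), (0, 3), (0, 10), (0, 10), (0, 3), (0, 3), (0, 10), (0, 10), (0, 3), (0, 3), (0, 10), (0, 10), (0, 3), (0, 3), (10, 12)],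
  [(1, 10), (0, 10), (0, 3), (0, 3), (0, 10), (0, 10), (0, 3), (0, 3), (0, 10), (0, 10), (0, 3), (0, 3), (0, 10), (0, 10), (0, 3), (0, 3), (11, 12)],
  [(1, 10), (0, 10), (0, 3), (0, 3), (0, 10), (0, 10), (0, 3), (0, 3), (0, 10), (0, 10), (0, 3), (0, 3), (0, 10), (0, 10), (0, 3), (0, 3), (12, 12)],
  [(1, 10), (0, 3), (0, 3), (0, 10), (0, 3), (0, 10), (0, 3), (0, 10), (0, 10), (0, 3), (0, 3), (0, 10), (0, 10), (0, 3), (0, 3), (0, 10), (13, 12)],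
  [(1, 10), (0, 3), (0, 3), (0, 10), (0, 3), (0, 10), (0, 3), (0, 10), (0, 10), (0, 3), (0, 3), (0, 10), (0, 10), (0, 3), (0, 3), (0, 10), (14, 12)],
  [(1, 10), (0, 3), (0, 3), (0, 10), (0, 3), (0, 10), (0, 3), (0, 10), (0, 10), (0, 3), (0, 3), (0, 10), (0, 10), (0, 3), (0, 3), (0, 10), (15, 12)],
  [(1, 10), (0, 3), (0, 3), (0, 10), (0, 3), (0, 10), (0, 3), (0, 10), (0, 10), (0, 3), (0, 3), (0, 10), (0, 10), (0, 3), (0, 3), (0, 10), (16, 12)],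
  [(1, 10), (0, 3), (0, 3), (0, 10), (0, 3), (0, 10), (0, 3), (0, 10), (0, 10), (0, 3), (0, 3), (0, 10), (0, 10), (0, 3), (0, 3), (0, 10), (17, 12)],
  [(1, 10), (0, 3), (0, 3), (0, 10), (0, 3), (0, 10), (0, 3), (0, 10), (0, 10), (0, 3), (0, 3), (0, 10), (0, 10), (0, 3), (0, 3), (0, 10), (18, 12)],
  [(1, 10), (0, 10), (0, 10), (0, 10), (0, 3), (0, 3), (0, 3), (0, 3), (0, 10), (0, 10), (0, 10), (0, 10), (0, 3), (0, 3), (0, 3), (0, 3), (19, 12)],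
  [(1, 10), (0, 10), (0, 10), (0, 10), (0, 3), (0, 3), (0, 3), (0, 3), (0, 10), (0, 10), (0, 10), (0, 10), (0, 3), (0, 3), (0, 3), (0, 3), (20, 12)],
  [(1, 10), (0, 10), (0, 10), (0, 10), (0, 3), (0, 3), (0, 3), (0, 3), (0, 10), (0, 10), (0, 10), (0, 10), (0, 3), (0, 3), (0, 3), (0, 3), (21, 12)],
  [(1, 10), (0, 10), (0, 10), (0, 10), (0, 3), (0, 3), (0, 3), (0, 3), (0, 10), (0, 10), (0, 10), (0, 10), (0, 3), (0, 3), (0, 3), (0, 3), (22, 12)],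
  [(1, 10), (0, 3), (0, 10), (0, 3), (0, 10), (0, 3), (0, 3), (0, 10), (0, 10), (0, 3), (0, 10), (0, 3), (0, 3), (0, 10), (0, 3), (0, 10), (23, 12)],
  [(1, 10), (0, 3), (0, 10), (0, 3), (0, 10), (0, 3), (0, 3), (0, 10), (0, 10), (0, 3), (0, 10), (0, 3), (0, 3), (0, 10), (0, 3), (0, 10), (24, 12)],
  [(1, 10), (0, 3), (0, 10), (0, 3), (0, 10), (0, 3), (0, 3), (0, 10), (0, 10), (0, 3), (0, 10), (0, 3), (0, 3), (0, 10), (0, 3), (0, 10), (25, 12)],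
  [(1, 10), (0, 3), (0, 10), (0, 3), (0, 10), (0, 3), (0, 3), (0, 10), (0, 10), (0, 3), (0, 10), (0, 3), (0, 3), (0, 10), (0, 3), (0, 10), (26, 12)],
  [(1, 10), (0, 10), (0, 3), (0, 3), (0, 3), (0, 3), (0, 10), (0, 10), (0, 10), (0, 10), (0, 3), (0, 3), (0, 3), (0, 3), (0, 10), (0, 10), (27, 12)],
  [(1, 10), (0, 10), (0, 3), (0, 3), (0, 3), (0, 3), (0, 10), (0, 10), (0, 10), (0, 10), (0, 3), (0, 3), (0, 3), (0, 3), (0, 10), (0, 10), (28, 12)],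
  [(1, 10), (0, 10), (0, 3), (0, 3), (0, 3), (0, 3), (0, 10), (0, 10), (0, 10), (0, 10), (0, 3), (0, 3), (0, 3), (0, 3), (0, 10), (0, 10), (29, 12)],
  [(1, 10), (0, 10), (0, 3), (0, 3), (0, 3), (0, 3), (0, 10), (0, 10), (0, 10), (0, 10), (0, 3), (0, 3), (0, 3), (0, 3), (0, 10), (0, 10), (30, 12)],
  [(1, 10), (0, 3), (0, 3), (0, 10), (0, 10), (0, 3), (0, 10), (0, 3), (0, 10), (0, 3), (0, 3), (0, 10), (0, 3), (0, 10), (0, 10), (0, 3), (31, 12)],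
  [(1, 10), (0, 3), (0, 3), (0, 10), (0, 10), (0, 3), (0, 10), (0, 3), (0, 10), (0, 3), (0, 3), (0, 10), (0, 3), (0, 10), (0, 10), (0, 3), (32, 12)],
  [(1, 10), (0, 3), (0, 3), (0, 10), (0, 10), (0, 3), (0, 10), (0, 3), (0, 10), (0, 3), (0, 3), (0, 10), (0, 3), (0, 10), (0, 10), (0, 3), (33, 12)],
  [(1, 10), (0, 3), (0, 3), (0, 10), (0, 10), (0, 3), (0, 10), (0, 3), (0, 10), (0, 3), (0, 3), (0, 10), (0, 3), (0, 10), (0, 10), (0, 3), (34, 12)]]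

/-- A matrix. -/
def m41 : List (List (ℕ × ℕ)) := [
  [(0, 1)],
  [(1, 1)],
  [(2, 1)],
  [(4, 1)],
  [(3, 1)],
  [(5, 1)],
  [(6, 1)],
  [(8, 1)],
  [(7, 1)],
  [(9, 1)],
  [(10, 1)],
  [(12, 1)],
  [(11, 1)],
  [(13, 1)],
  [(14, 1)],
  [(16, 1)],
  [(15, 1)],
  [(30, 1)],
  [(31, 1)],
  [(32, 1)],
  [(33, 1)],
  [(34, 1)],
  [(35, 1)],
  [(3, 12), (0, 1), (2, 12), (0, 1), (2, 12), (0, 1), (2, 12), (0, 1), (0, 1), (1, 1), (1, 1), (1, 1), (6, 12), (1, 12), (1, 12)],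
  [(24, 1)],
  [(25, 1)],
  [(26, 1)],
  [(27, 1)],
  [(28, 1)],
  [(29, 1)],
  [(17, 1)],
  [(18, 1)],
  [(19, 1)],
  [(20, 1)],
  [(21, 1)],
  [(22, 1)],
  [(36, 1)],
  [(37, 1)],
  [(39, 1)],
  [(38, 1)],
  [(48, 1)],
  [(49, 1)],
  [(50, 1)],
  [(51, 1)],
  [(44, 1)],
  [(45, 1)],
  [(47, 1)],
  [(46, 1)],
  [(40, 1)],
  [(41, 1)],
  [(42, 1)],
  [(43, 1)]]

/-- A matrix. -/
def m42 : List (List (ℕ × ℕ)) := [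
  [(0, 1)],
  [(1, 1)],
  [(2, 1)],
  [(3, 1)],
  [(4, 1)],
  [(6, 1)],
  [(5, 1)],
  [(8, 1)],
  [(7, 1)],
  [(9, 1)],
  [(10, 1)],
  [(11, 1)],
  [(12, 1)],
  [(14, 1)],
  [(13, 1)],
  [(16, 1)],
  [(15, 1)],
  [(40, 1)],
  [(41, 1)],
  [(42, 1)],
  [(43, 1)],
  [(1, 7), (0, 6), (0, 7), (0, 6), (4, 7), (0, 6), (0, 7), (0, 6), (4, 6), (0, 7), (0, 12), (1, 6), (0, 7), (0, 12), (0, 7), (0, 6), (2, 7), (0, 6), (0, 7), (0, 6), (2, 7), (0, 6), (4, 12)],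
  [(1, 6), (0, 7), (0, 6), (0, 7), (0, 1), (0, 12), (0, 12), (0, 1), (0, 6), (0, 7), (0, 6), (0, 7), (0, 12), (0, 1), (0, 12), (0, 1), (0, 8), (0, 7), (0, 1), (1, 8), (0, 7), (0, 1), (0, 6), (0, 7), (2, 6), (0, 7), (0, 6), (0, 7), (2, 6), (0, 7), (5, 12)],
  [(1, 7), (0, 6), (0, 7), (0, 6), (4, 7), (0, 6), (0, 7), (0, 6), (4, 6), (0, 6), (2, 6), (0, 6), (1, 7), (0, 6), (2, 7), (0, 6), (0, 6), (0, 7), (2, 6), (0, 7), (6, 12)],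
  [(24, 1)],
  [(25, 1)],
  [(27, 1)],
  [(26, 1)],
  [(28, 1)],
  [(29, 1)],
  [(48, 1)],
  [(49, 1)],
  [(50, 1)],
  [(51, 1)],
  [(1, 7), (0, 6), (0, 7), (0, 6), (2, 1), (0, 12), (0, 7), (0, 6), (0, 7), (0, 6), (2, 1), (0, 12), (0, 6), (0, 6), (0, 12), (1, 6), (0, 6), (0, 12), (0, 7), (0, 6), (2, 7), (0, 6), (0, 7), (0, 7), (2, 7), (0, 7), (12, 12)],
  [(1, 6), (0, 7), (0, 6), (0, 7), (0, 1), (0, 12), (2, 6), (0, 7), (0, 6), (0, 7), (0, 12), (0, 1), (2, 7), (0, 7), (0, 1), (1, 7), (0, 7), (0, 1), (0, 6), (0, 7), (2, 6), (0, 7), (0, 7), (0, 7), (2, 7), (0, 7), (13, 12)],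
  [(36, 1)],
  [(37, 1)],
  [(38, 1)],
  [(39, 1)],
  [(17, 1)],
  [(18, 1)],
  [(19, 1)],
  [(20, 1)],
  [(44, 1)],
  [(45, 1)],
  [(47, 1)],
  [(46, 1)],
  [(30, 1)],
  [(31, 1)],
  [(32, 1)],
  [(33, 1)]]

/-- A matrix. -/
def m43 : List (List (ℕ × ℕ)) := [
  [(0, 1)],
  [(1, 1)],
  [(2, 1)],
  [(3, 1)],
  [(4, 1)],
  [(5, 1)],
  [(6, 1)],
  [(7, 1)],
  [(8, 1)],
  [(10, 1)],
  [(9, 1)],
  [(12, 1)],
  [(11, 1)],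
  [(14, 1)],
  [(13, 1)],
  [(16, 1)],
  [(15, 1)],
  [(1, 10), (0, 3), (0, 10), (0, 3), (0, 3), (0, 10), (0, 10), (0, 3), (8, 9), (0, 10), (0, 10), (0, 10), (0, 12), (2, 10), (0, 3), (0, 10), (0, 3), (2, 10), (0, 3), (0, 10), (0, 3), (2, 10), (0, 3), (0, 10), (0, 3), (0, 10), (0, 10), (0, 3), (0, 3), (0, 10), (0, 3), (0, 10), (0, 3), (0, 10), (0, 3), (0, 3), (0, 10)],
  [(1, 10), (0, 3), (0, 10), (0, 3), (0, 3), (0, 10), (0, 10), (0, 3), (8, 10), (0, 9), (0, 10), (0, 10), (1, 12), (1, 3), (0, 10), (0, 3), (0, 10), (2, 3), (0, 10), (0, 3), (0, 10), (2, 10), (0, 3), (0, 10), (0, 3), (0, 10), (0, 10), (0, 3), (0, 3), (0, 3), (0, 10), (0, 3), (0, 10), (0, 3), (0, 10), (0, 10), (0, 3)],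
  [(1, 10), (0, 3), (0, 10), (0, 3), (0, 3), (0, 10), (0, 10), (0, 3), (8, 10), (0, 10), (0, 9), (0, 10), (2, 12), (0, 10), (0, 3), (0, 10), (0, 3), (2, 10), (0, 3), (0, 10), (0, 3), (2, 3), (0, 10), (0, 3), (0, 10), (0, 3), (0, 3), (0, 10), (0, 10), (0, 3), (0, 10), (0, 3), (0, 10), (0, 3), (0, 10), (0, 10), (0, 3)],
  [(1, 9), (0, 4), (0, 9), (0, 4), (0, 4), (0, 9), (0, 9), (0, 4), (0, 12), (0, 1), (0, 12), (0, 1), (0, 12), (0, 1), (0, 12), (0, 1), (0, 11), (0, 11), (0, 11), (0, 10), (0, 1), (0, 1), (0, 1), (0, 3), (0, 10), (0, 3), (0, 10), (2, 3), (0, 10), (0, 3), (0, 10), (2, 3), (0, 10), (0, 3), (0, 10), (0, 3), (0, 3), (0, 10), (0, 10), (0, 10), (0, 3), (0, 10), (0, 3), (0, 10), (0, 3), (0, 3), (0, 10)],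
  [(1, 10), (0, 3), (0, 10), (0, 3), (0, 3), (0, 10), (0, 10), (0, 3), (8, 3), (0, 3), (0, 3), (0, 3), (3, 10), (0, 3), (0, 10), (0, 3), (2, 3), (0, 10), (0, 3), (0, 10), (2, 10), (0, 3), (0, 10), (0, 3), (0, 3), (0, 3), (0, 10), (0, 10), (0, 10), (0, 3), (0, 10), (0, 3), (0, 3), (0, 10), (0, 10), (0, 3)],
  [(1, 10), (0, 3), (0, 10), (0, 3), (0, 3), (0, 10), (0, 10), (0, 3), (8, 3), (0, 3), (0, 3), (0, 3), (3, 3), (0, 10), (0, 3), (0, 10), (2, 10), (0, 3), (0, 10), (0, 3), (2, 10), (0, 3), (0, 10), (0, 3), (0, 3), (0, 3), (0, 10), (0, 10), (0, 3), (0, 10), (0, 3), (0, 10), (0, 10), (0, 3), (0, 3), (0, 10)],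
  [(1, 10), (0, 3), (0, 10), (0, 3), (0, 3), (0, 10), (0, 10), (0, 3), (8, 3), (0, 3), (0, 3), (0, 3), (3, 10), (0, 3), (0, 10), (0, 3), (2, 3), (0, 10), (0, 3), (0, 10), (2, 3), (0, 10), (0, 3), (0, 10), (0, 10), (0, 10), (0, 3), (0, 3), (0, 3), (0, 10), (0, 3), (0, 10), (0, 10), (0, 3), (0, 3), (0, 10)],
  [(24, 1)],
  [(25, 1)],
  [(26, 1)],
  [(27, 1)],
  [(29, 1)],
  [(28, 1)],
  [(1, 10), (0, 3), (0, 3), (0, 10), (0, 3), (0, 10), (0, 3), (0, 10), (8, 10), (0, 3), (0, 10), (0, 3), (3, 10), (0, 3), (0, 10), (0, 3), (2, 9), (0, 10), (0, 10), (0, 10), (0, 12), (1, 10), (0, 3), (0, 3), (0, 10), (0, 10), (0, 3), (0, 3), (0, 10), (0, 10), (0, 3), (0, 3), (0, 10), (0, 10), (0, 10), (0, 3), (0, 3)],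
  [(1, 10), (0, 3), (0, 3), (0, 10), (0, 3), (0, 10), (0, 3), (0, 10), (8, 3), (0, 10), (0, 3), (0, 10), (3, 3), (0, 10), (0, 3), (0, 10), (2, 10), (0, 9), (0, 10), (0, 10), (1, 12), (0, 10), (0, 3), (0, 3), (0, 10), (0, 3), (0, 10), (0, 10), (0, 3), (0, 3), (0, 10), (0, 10), (0, 3), (0, 10), (0, 10), (0, 3), (0, 3)],
  [(1, 10), (0, 3), (0, 4), (0, 9), (0, 3), (0, 10), (0, 4), (0, 9), (2, 1), (0, 12), (2, 1), (0, 12), (0, 9), (0, 3), (0, 9), (0, 3), (0, 12), (1, 12), (0, 10), (0, 3), (0, 10), (0, 3), (2, 11), (0, 10), (0, 10), (0, 10), (0, 1), (1, 3), (0, 10), (0, 10), (0, 3), (0, 3), (0, 10), (0, 10), (0, 3), (0, 3), (0, 10), (0, 10), (0, 3), (0, 3), (0, 3), (0, 10), (0, 10)],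
  [(1, 9), (0, 4), (0, 3), (0, 10), (0, 4), (0, 9), (0, 3), (0, 10), (0, 12), (0, 1), (2, 12), (0, 1), (2, 4), (0, 10), (0, 4), (0, 10), (0, 1), (1, 1), (0, 3), (0, 10), (0, 3), (0, 10), (2, 10), (0, 11), (0, 10), (0, 10), (1, 1), (0, 3), (0, 10), (0, 10), (0, 3), (0, 10), (0, 3), (0, 3), (0, 10), (0, 10), (0, 3), (0, 3), (0, 10), (0, 3), (0, 3), (0, 10), (0, 10)],
  [(1, 10), (0, 3), (0, 3), (0, 10), (0, 3), (0, 10), (0, 3), (0, 10), (8, 3), (0, 10), (0, 3), (0, 10), (3, 10), (0, 3), (0, 10), (0, 3), (2, 3), (0, 3), (0, 3), (0, 3), (2, 10), (0, 3), (0, 3), (0, 10), (0, 3), (0, 10), (0, 10), (0, 3), (0, 10), (0, 3), (0, 3), (0, 10), (0, 3), (0, 3), (0, 10), (0, 10)],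
  [(1, 10), (0, 3), (0, 3), (0, 10), (0, 3), (0, 10), (0, 3), (0, 10), (8, 10), (0, 3), (0, 10), (0, 3), (3, 3), (0, 10), (0, 3), (0, 10), (2, 3), (0, 3), (0, 3), (0, 3), (2, 10), (0, 3), (0, 3), (0, 10), (0, 10), (0, 3), (0, 3), (0, 10), (0, 3), (0, 10), (0, 10), (0, 3), (0, 3), (0, 3), (0, 10), (0, 10)],
  [(36, 1)],
  [(37, 1)],
  [(38, 1)],
  [(39, 1)],
  [(1, 3), (0, 10), (0, 3), (0, 10), (0, 10), (0, 3), (0, 3), (0, 10), (0, 6), (0, 7), (0, 6), (0, 7), (4, 4), (0, 3), (0, 4), (0, 3), (0, 7), (0, 6), (0, 1), (0, 3), (0, 10), (0, 3), (0, 10), (0, 6), (0, 7), (0, 3), (0, 10), (0, 3), (0, 10), (0, 6), (0, 7), (0, 10), (0, 3), (0, 10), (0, 3), (0, 10), (0, 10), (0, 10), (0, 10), (0, 10), (0, 3), (0, 3), (0, 10), (0, 10), (0, 3), (0, 10), (0, 3)],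
  [(1, 4), (0, 9), (0, 4), (0, 9), (0, 9), (0, 4), (0, 4), (0, 9), (0, 7), (0, 6), (0, 7), (0, 6), (0, 1), (0, 12), (0, 1), (0, 12), (0, 2), (0, 3), (0, 2), (0, 3), (0, 5), (0, 6), (0, 12), (0, 10), (0, 3), (0, 10), (0, 3), (0, 7), (0, 6), (0, 10), (0, 3), (0, 10), (0, 3), (0, 7), (0, 6), (0, 10), (0, 3), (0, 10), (0, 3), (0, 10), (0, 10), (0, 10), (0, 10), (0, 3), (0, 10), (0, 10), (0, 3), (0, 3), (0, 10), (0, 3), (0, 10)],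
  [(1, 3), (0, 10), (0, 3), (0, 10), (0, 10), (0, 3), (0, 3), (0, 10), (0, 6), (0, 7), (0, 6), (0, 7), (4, 10), (0, 10), (0, 10), (0, 10), (0, 7), (0, 7), (1, 3), (0, 10), (0, 3), (0, 10), (0, 6), (0, 7), (0, 10), (0, 3), (0, 10), (0, 3), (0, 7), (0, 6), (0, 3), (0, 10), (0, 3), (0, 10), (0, 10), (0, 10), (0, 10), (0, 10), (0, 3), (0, 10), (0, 10), (0, 3), (0, 10), (0, 3), (0, 10), (0, 3)],
  [(1, 3), (0, 10), (0, 3), (0, 10), (0, 10), (0, 3), (0, 3), (0, 10), (0, 6), (0, 7), (0, 6), (0, 7), (4, 10), (0, 10), (0, 10), (0, 10), (0, 7), (0, 7), (1, 10), (0, 3), (0, 10), (0, 3), (0, 7), (0, 6), (0, 3), (0, 10), (0, 3), (0, 10), (0, 6), (0, 7), (0, 3), (0, 10), (0, 3), (0, 10), (0, 10), (0, 10), (0, 10), (0, 10), (0, 10), (0, 3), (0, 3), (0, 10), (0, 3), (0, 10), (0, 3), (0, 10)],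
  [(44, 1)],
  [(45, 1)],
  [(46, 1)],
  [(47, 1)],
  [(1, 3), (0, 10), (0, 9), (0, 4), (0, 10), (0, 3), (0, 9), (0, 4), (0, 6), (0, 7), (0, 6), (0, 7), (2, 12), (0, 1), (0, 4), (0, 10), (0, 4), (0, 10), (0, 7), (0, 7), (0, 1), (0, 3), (0, 10), (0, 3), (0, 10), (0, 6), (0, 7), (0, 3), (0, 3), (0, 3), (0, 3), (0, 6), (0, 6), (0, 10), (0, 3), (0, 3), (0, 10), (0, 10), (0, 3), (0, 10), (0, 3), (0, 10), (0, 3), (0, 10), (0, 3), (0, 10), (0, 10), (0, 10), (0, 10)],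
  [(1, 4), (0, 9), (0, 10), (0, 3), (0, 9), (0, 4), (0, 10), (0, 3), (0, 7), (0, 6), (0, 7), (0, 6), (0, 1), (0, 12), (2, 9), (0, 3), (0, 9), (0, 3), (0, 6), (0, 6), (0, 12), (0, 10), (0, 3), (0, 10), (0, 3), (0, 7), (0, 6), (0, 3), (0, 3), (0, 3), (0, 3), (0, 6), (0, 6), (0, 10), (0, 3), (0, 3), (0, 10), (0, 3), (0, 10), (0, 3), (0, 10), (0, 3), (0, 10), (0, 3), (0, 10), (0, 10), (0, 10), (0, 10), (0, 10)],
  [(1, 3), (0, 10), (0, 10), (0, 3), (0, 10), (0, 3), (0, 10), (0, 3), (0, 6), (0, 7), (0, 7), (0, 6), (4, 10), (0, 3), (0, 10), (0, 3), (0, 7), (0, 6), (1, 3), (0, 10), (0, 3), (0, 10), (0, 6), (0, 7), (0, 10), (0, 10), (0, 10), (0, 10), (0, 7), (0, 7), (0, 3), (0, 10), (0, 10), (0, 3), (0, 10), (0, 3), (0, 10), (0, 3), (0, 3), (0, 10), (0, 3), (0, 10), (0, 10), (0, 10), (0, 10), (0, 10)],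
  [(1, 3), (0, 10), (0, 10), (0, 3), (0, 10), (0, 3), (0, 10), (0, 3), (0, 6), (0, 7), (0, 7), (0, 6), (4, 3), (0, 10), (0, 3), (0, 10), (0, 6), (0, 7), (1, 10), (0, 3), (0, 10), (0, 3), (0, 7), (0, 6), (0, 10), (0, 10), (0, 10), (0, 10), (0, 7), (0, 7), (0, 3), (0, 10), (0, 10), (0, 3), (0, 3), (0, 10), (0, 3), (0, 10), (0, 10), (0, 3), (0, 10), (0, 3), (0, 10), (0, 10), (0, 10), (0, 10)]]

/-- A matrix. -/
def m44 : List (List (ℕ × ℕ)) := [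
  [(0, 1)],
  [(2, 1)],
  [(1, 1)],
  [(4, 1)],
  [(3, 1)],
  [(6, 1)],
  [(5, 1)],
  [(8, 1)],
  [(7, 1)],
  [(10, 1)],
  [(9, 1)],
  [(12, 1)],
  [(11, 1)],
  [(14, 1)],
  [(13, 1)],
  [(16, 1)],
  [(15, 1)],
  [(17, 12)],
  [(18, 12)],
  [(19, 12)],
  [(20, 12)],
  [(21, 12)],
  [(22, 12)],
  [(23, 12)],
  [(25, 1)],
  [(24, 1)],
  [(27, 1)],
  [(26, 1)],
  [(29, 1)],
  [(28, 1)],
  [(30, 12)],
  [(31, 12)],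
  [(32, 12)],
  [(33, 12)],
  [(34, 12)],
  [(35, 12)],
  [(37, 1)],
  [(36, 1)],
  [(39, 1)],
  [(38, 1)],
  [(40, 12)],
  [(41, 12)],
  [(42, 12)],
  [(43, 12)],
  [(45, 1)],
  [(44, 1)],
  [(47, 1)],
  [(46, 1)],
  [(48, 12)],
  [(49, 12)],
  [(50, 12)],
  [(51, 12)]]

/-- A matrix. -/
def m45 : List (List (ℕ × ℕ)) := [
  [(0, 1)],
  [(1, 1)],
  [(2, 1)],
  [(3, 1)],
  [(4, 1)],
  [(5, 1)],
  [(6, 1)],
  [(7, 1)],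
  [(8, 1)],
  [(9, 1)],
  [(10, 1)],
  [(11, 1)],
  [(12, 1)],
  [(13, 1)],
  [(14, 1)],
  [(15, 1)],
  [(16, 1)],
  [(21, 1)],
  [(22, 1)],
  [(23, 1)],
  [(1, 1), (0, 12), (0, 1), (0, 12), (0, 12), (0, 1), (0, 1), (0, 12), (0, 1), (0, 12), (0, 1), (0, 12), (0, 1), (0, 12), (0, 1), (0, 12), (0, 12), (0, 12), (0, 12), (0, 12), (0, 12), (0, 12), (0, 12)],
  [(17, 1)],
  [(18, 1)],
  [(19, 1)],
  [(24, 1)],
  [(25, 1)],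
  [(26, 1)],
  [(27, 1)],
  [(28, 1)],
  [(29, 1)],
  [(34, 1)],
  [(35, 1)],
  [(3, 12), (0, 1), (2, 12), (0, 1), (2, 12), (0, 1), (2, 12), (0, 1), (0, 1), (1, 1), (1, 1), (1, 1), (6, 12), (1, 12), (1, 12)],
  [(1, 1), (0, 12), (2, 12), (0, 1), (2, 1), (0, 12), (2, 1), (0, 12), (2, 12), (1, 12), (1, 12), (1, 12), (7, 12), (1, 12), (1, 12)],
  [(30, 1)],
  [(31, 1)],
  [(36, 1)],
  [(37, 1)],
  [(38, 1)],
  [(39, 1)],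
  [(1, 7), (0, 6), (0, 7), (0, 6), (4, 7), (0, 6), (0, 7), (0, 6), (4, 6), (0, 7), (0, 12), (1, 6), (0, 7), (0, 12), (0, 7), (0, 6), (2, 7), (0, 6), (0, 7), (0, 6), (2, 7), (0, 6), (4, 12)],
  [(1, 6), (0, 7), (0, 6), (0, 7), (0, 1), (0, 12), (0, 12), (0, 1), (0, 6), (0, 7), (0, 6), (0, 7), (0, 12), (0, 1), (0, 12), (0, 1), (0, 8), (0, 7), (0, 1), (1, 8), (0, 7), (0, 1), (0, 6), (0, 7), (2, 6), (0, 7), (0, 6), (0, 7), (2, 6), (0, 7), (5, 12)],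
  [(1, 7), (0, 6), (0, 7), (0, 6), (4, 7), (0, 6), (0, 7), (0, 6), (4, 6), (0, 6), (2, 6), (0, 6), (1, 7), (0, 6), (2, 7), (0, 6), (0, 6), (0, 7), (2, 6), (0, 7), (6, 12)],
  [(1, 7), (0, 6), (0, 7), (0, 6), (4, 7), (0, 6), (0, 7), (0, 6), (4, 6), (0, 6), (2, 6), (0, 6), (1, 6), (0, 7), (2, 6), (0, 7), (0, 7), (0, 6), (2, 7), (0, 6), (7, 12)],
  [(44, 1)],
  [(45, 1)],
  [(46, 1)],
  [(47, 1)],
  [(1, 7), (0, 6), (0, 7), (0, 6), (2, 1), (0, 12), (0, 7), (0, 6), (0, 7), (0, 6), (2, 1), (0, 12), (0, 6), (0, 6), (0, 12), (1, 6), (0, 6), (0, 12), (0, 7), (0, 6), (2, 7), (0, 6), (0, 7), (0, 7), (2, 7), (0, 7), (12, 12)],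
  [(1, 6), (0, 7), (0, 6), (0, 7), (0, 1), (0, 12), (2, 6), (0, 7), (0, 6), (0, 7), (0, 12), (0, 1), (2, 7), (0, 7), (0, 1), (1, 7), (0, 7), (0, 1), (0, 6), (0, 7), (2, 6), (0, 7), (0, 7), (0, 7), (2, 7), (0, 7), (13, 12)],
  [(1, 7), (0, 6), (0, 6), (0, 7), (4, 7), (0, 6), (0, 6), (0, 7), (4, 6), (0, 7), (2, 6), (0, 7), (1, 7), (0, 6), (2, 7), (0, 6), (0, 6), (0, 6), (2, 6), (0, 6), (14, 12)],
  [(1, 7), (0, 6), (0, 6), (0, 7), (4, 7), (0, 6), (0, 6), (0, 7), (4, 7), (0, 6), (2, 7), (0, 6), (1, 6), (0, 7), (2, 6), (0, 7), (0, 6), (0, 6), (2, 6), (0, 6), (15, 12)]]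

/-- A matrix. -/
def m46 : List (List (ℕ × ℕ)) := [
  [(0, 1)],
  [(1, 1)],
  [(2, 1)],
  [(3, 1)],
  [(4, 1)],
  [(5, 1)],
  [(6, 1)],
  [(7, 1)],
  [(8, 1)],
  [(9, 1)],
  [(10, 1)],
  [(11, 1)],
  [(12, 1)],
  [(13, 1)],
  [(14, 1)],
  [(15, 1)],
  [(16, 1)],
  [(19, 1)],
  [(20, 1)],
  [(17, 1)],
  [(18, 1)],
  [(23, 1)],
  [(1, 1), (0, 12), (0, 1), (0, 12), (0, 12), (0, 1), (0, 1), (0, 12), (0, 1), (0, 12), (0, 1), (0, 12), (0, 1), (0, 12), (0, 1), (0, 12), (0, 12), (0, 12), (0, 12), (0, 12), (0, 12), (0, 12), (0, 12)],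
  [(21, 1)],
  [(24, 1)],
  [(25, 1)],
  [(26, 1)],
  [(27, 1)],
  [(28, 1)],
  [(29, 1)],
  [(32, 1)],
  [(33, 1)],
  [(30, 1)],
  [(31, 1)],
  [(3, 12), (0, 1), (2, 12), (0, 1), (2, 12), (0, 1), (2, 12), (0, 1), (0, 1), (1, 1), (1, 1), (1, 1), (6, 12), (1, 12), (1, 12)],
  [(1, 1), (0, 12), (2, 12), (0, 1), (2, 1), (0, 12), (2, 1), (0, 12), (2, 12), (1, 12), (1, 12), (1, 12), (7, 12), (1, 12), (1, 12)],
  [(37, 1)],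
  [(36, 1)],
  [(39, 1)],
  [(38, 1)],
  [(42, 1)],
  [(43, 1)],
  [(40, 1)],
  [(41, 1)],
  [(45, 1)],
  [(44, 1)],
  [(47, 1)],
  [(46, 1)],
  [(50, 1)],
  [(51, 1)],
  [(48, 1)],
  [(49, 1)]]

/-- A matrix. -/
def m47 : List (List (ℕ × ℕ)) := [
  [(0, 1)],
  [(1, 1)],
  [(2, 1)],
  [(3, 1)],
  [(4, 1)],
  [(5, 1)],
  [(6, 1)],
  [(7, 1)],
  [(8, 1)],
  [(9, 1)],
  [(10, 1)],
  [(11, 1)],
  [(12, 1)],
  [(13, 1)],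
  [(14, 1)],
  [(15, 1)],
  [(16, 1)],
  [(18, 1)],
  [(17, 1)],
  [(20, 1)],
  [(19, 1)],
  [(22, 1)],
  [(21, 1)],
  [(1, 1), (0, 12), (0, 1), (0, 12), (0, 12), (0, 1), (0, 1), (0, 12), (0, 1), (0, 12), (0, 1), (0, 12), (0, 1), (0, 12), (0, 1), (0, 12), (0, 12), (0, 12), (0, 12), (0, 12), (0, 12), (0, 12), (0, 12)],
  [(25, 1)],
  [(24, 1)],
  [(27, 1)],
  [(26, 1)],
  [(29, 1)],
  [(28, 1)],
  [(31, 1)],
  [(30, 1)],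
  [(33, 1)],
  [(32, 1)],
  [(35, 1)],
  [(34, 1)],
  [(36, 1)],
  [(37, 1)],
  [(38, 1)],
  [(39, 1)],
  [(41, 1)],
  [(40, 1)],
  [(43, 1)],
  [(42, 1)],
  [(45, 1)],
  [(44, 1)],
  [(47, 1)],
  [(46, 1)],
  [(49, 1)],
  [(48, 1)],
  [(51, 1)],
  [(50, 1)]]

/-- A matrix. -/
def m48 : List (List (ℕ × ℕ)) := [
  [(0, 12)],
  [(1, 12)],
  [(2, 12)],
  [(3, 12)],
  [(4, 12)],
  [(5, 12)],
  [(6, 12)],
  [(7, 12)],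
  [(8, 12)],
  [(9, 12)],
  [(10, 12)],
  [(11, 12)],
  [(12, 12)],
  [(13, 12)],
  [(14, 12)],
  [(15, 12)],
  [(16, 12)],
  [(17, 12)],
  [(18, 12)],
  [(19, 12)],
  [(20, 12)],
  [(21, 12)],
  [(22, 12)],
  [(23, 12)],
  [(24, 12)],
  [(25, 12)],
  [(26, 12)],
  [(27, 12)],
  [(28, 12)],
  [(29, 12)],
  [(30, 12)],
  [(31, 12)],
  [(32, 12)],
  [(33, 12)],
  [(34, 12)],
  [(35, 12)],
  [(36, 12)],
  [(37, 12)],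
  [(38, 12)],
  [(39, 12)],
  [(40, 12)],
  [(41, 12)],
  [(42, 12)],
  [(43, 12)],
  [(44, 12)],
  [(45, 12)],
  [(46, 12)],
  [(47, 12)],
  [(48, 12)],
  [(49, 12)],
  [(50, 12)],
  [(51, 12)]]

/-- All matrices. -/
def mats : List (List (List (ℕ × ℕ))) := [m0, m1, m2, m3, m4, m5, m6, m7, m8, m9, m10, m11, m12, m13, m14, m15, m16, m17, m18, m19, m20, m21, m22, m23, m24, m25, m26, m27, m28, m29, m30, m31, m32, m33, m34, m35, m36, m37, m38, m39, m40, m41, m42, m43, m44, m45, m46, m47, m48]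

/-- The reflections in the fundamental roots. -/
def refT : List (List ℕ) := [[0, 1, 2, 7, 15, 16, 17, 3, 8, 9, 10, 18, 19, 20, 33, 4, 5, 6, 11, 12, 13, 21, 22, 23, 24, 25, 26, 34, 35, 36, 41, 42, 43, 14, 27, 28, 29, 37, 38, 39, 44, 30, 31, 32, 40, 45, 46, 47], [0, 1, 4, 3, 2, 5, 6, 8, 7, 11, 12, 9, 10, 14, 13, 15, 21, 22, 18, 19, 27, 16, 17, 23, 24, 30, 31, 20, 28, 29, 25, 26, 32, 34, 33, 37, 38, 35, 36, 40, 39, 41, 42, 45, 44, 43, 46, 47], [0, 2, 1, 3, 5, 4, 6, 7, 9, 8, 10, 11, 13, 12, 14, 16, 15, 17, 18, 20, 19, 23, 25, 21, 26, 22, 24, 28, 27, 29, 30, 32, 31, 33, 35, 34, 36, 37, 39, 38, 40, 41, 43, 42, 44, 46, 45, 47], [1, 0, 2, 3, 4, 6, 5, 7, 8, 10, 9, 12, 11, 13, 14, 15, 17, 16, 19, 18, 20, 22, 21, 24, 23, 26, 25, 27, 29, 28, 31, 30, 32, 33, 34, 36, 35, 38, 37, 39, 40, 42, 41, 43, 44, 45, 47, 46]]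

/-- Each root from an earlier one by a reflection. -/
def path : List (ℕ × ℕ × ℕ) := [(14, 0, 33), (34, 1, 33), (30, 1, 25), (22, 2, 25), (26, 3, 25), (13, 1, 14), (27, 0, 34), (35, 2, 34), (41, 0, 30), (31, 3, 30), (17, 1, 22), (21, 3, 22), (24, 2, 26), (20, 0, 13), (12, 2, 13), (28, 2, 27), (37, 1, 35), (36, 3, 35), (42, 3, 41), (32, 2, 31), (6, 0, 17), (16, 3, 17), (23, 2, 21), (19, 2, 20), (10, 1, 12), (11, 3, 12), (29, 3, 28), (38, 3, 37), (43, 2, 42), (5, 3, 6), (15, 2, 16), (18, 3, 19), (9, 3, 10), (39, 2, 38), (45, 1, 43), (4, 2, 5), (8, 2, 9), (40, 1, 39), (46, 2, 45), (2, 1, 4), (7, 1, 8), (44, 0, 40), (47, 3, 46), (1, 2, 2), (3, 0, 7), (0, 3, 1)]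

end CfsgLib.FourTwoF
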