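import Cfsg.Agent.Lib.FiRep.Core
import Cfsg.Agent.Lib.FourTwoF.CoverData
import Cfsg.Prelude.Def_Steinberg
import Cfsg.Prelude.Def_ChevF4

/-!
The conditions on the matrices of the double cover of the group of type F four over two elements.
-/

set_option autoImplicit false

namespace CfsgLib.FourTwoF

open CfsgLib.FiRep Cfsg.Lie

/-- Two words have equal values. -/
def wEq (a b : List ℕ) : Bool := beqL (evalP 52 mats a) (evalP 52 mats b)

/-- Two words have values equal up to sign. -/
def wPm (a b : List ℕ) : Bool := wEq a b || wEq a (48 :: b)

/-- The image of a root under a reflection. -/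
def sR (i r : ℕ) : ℕ := (refT.getD i []).getD r 0

/-- The word of a reflection. -/
def nW (i : ℕ) : List ℕ :=
  [chevF4.simple i, chevF4.neg (chevF4.simple i), chevF4.simple i]

/-- The roots in the commutator of two root elements over two elements. -/
def oddT (r s : ℕ) : List ℕ :=
  ((chevF4.commTerms r s).filter fun c => Nat.beq (c.2.1.natAbs % 2) 1).map fun c => c.1

/-- The reflections respect the generators. -/
def moveB (i a b : ℕ) : Bool :=
  (List.range' a b).all fun r => wPm (nW i ++ [r]) (sR i r :: nW i)

/-- The commutator relations of one root. -/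
def commB (r : ℕ) : Bool :=
  (List.range 48).all fun s => Nat.beq s r || Nat.beq s (chevF4.neg r) || wPm [s, r, s, r] (oddT r s)

/-- The reflection of one root is an involution. -/
def hB (r : ℕ) : Bool :=
  wPm [r, chevF4.neg r, r, r, chevF4.neg r, r] []

end CfsgLib.FourTwoF
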