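import Cfsg.Agent.Lib.FourTwoF.Cover
import Cfsg.Agent.Lib.Chev.StTheta
import Cfsg.Agent.S1078
import Cfsg.Agent.S1052
import Cfsg.Agent.Lib.Chev.Perfect
import Cfsg.Agent.Lib.Tails.Finish

/-!
# The double cover as a stem extension
-/

set_option autoImplicit false
set_option maxRecDepth 100000

namespace CfsgLib.FourTwoF

open Cfsg.Lie CfsgLib.Chev Subgroup CfsgLib.Schur.Tails
open scoped commutatorElement

attribute [local irreducible] mats refT path gl mt

/-- The field with two elements. -/
abbrev F2 : Type := ZMod 2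

instance : Fact (Nat.Prime 2) := ⟨Nat.prime_two⟩

/-- The group of type F four over two elements. -/
abbrev G2 : Type := ↥(chevF4.group F2)

/-- The map of the presented group. -/
def psi : chevF4.SteinbergGroup F2 →* Q52 :=
  PresentedGroup.toGroup (f := img2 (F := F2)) (img2_rels (fun t => by revert t; decide) (by decide))

theorem psi_gen {r : ℕ} (hr : r < 48) : psi (chevF4.stGen F2 r 1) = q r := by
  rw [ChevalleyDatum.stGen, ChevalleyDatum.stX, dif_pos (show r < chevF4.nroots from hr)]
  exact (PresentedGroup.toGroup.of _).trans (by simp [img2])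

/-- The presented group is the Chevalley group. -/
theorem exists_iso : Nonempty (chevF4.SteinbergGroup F2 ≃* G2) := by
  obtain ⟨θ, hsurj, hker, -⟩ := DataF4.facts.exists_surj good_F4.comm (K := F2) (hasNbr_of_mem (by simp))
  have hc : Subgroup.center (chevF4.SteinbergGroup F2) = ⊥ :=
    Cfsg.Agent.S1078.result chevF4 (by simp)
  exact ⟨MulEquiv.ofBijective θ ⟨(MonoidHom.ker_eq_bot_iff θ).1 (hker.trans hc), hsurj⟩⟩

theorem g2_perfect : commutator G2 = ⊤ :=
  Cfsg.Agent.S1052.result chevF4 (by simp) (fun h => absurd (congrArg ChevalleyDatum.nroots (Classical.or_iff_not_imp_right.1 h (fun e => absurd (congrArg ChevalleyDatum.nroots e) (by decide)))) (by decide))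

theorem g2_simple : IsSimpleGroup G2 :=
  (simple_of_perfect good_F4 linked_F4 g2_perfect).1

theorem witness : ⁅gl 14, gl 7⁆ * ⁅gl 32, gl 1⁆ = -1 * ⁅gl 29, gl 0⁆ := by
  have hs : ∀ k ∈ ([14, 7, 32, 1, 29, 0] : List ℕ), (gl k)⁻¹ = gl k := fun k hk => gl_inv (by
    simp only [List.mem_cons, List.not_mem_nil, or_false] at hk
    omega)
  have h := wEq_spec (a := [14, 7, 14, 7, 32, 1, 32, 1]) (b := [48, 29, 0, 29, 0]) (by decide) (by decide) wit_ok
  rw [← prod_gl _ (by decide), ← prod_gl _ (by decide)] at h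
  have h' := Units.ext h
  simp only [List.map_cons, List.map_nil, List.prod_cons, List.prod_nil, mul_one, gl_minus] at h'
  simp only [commutatorElement_def, hs 14 (by simp), hs 7 (by simp), hs 32 (by simp), hs 1 (by simp),
    hs 29 (by simp), hs 0 (by simp), mul_assoc]
  exact h'

theorem minus_ne : (-1 : M52ˣ) ≠ 1 := by
  intro h
  have := congrArg (fun u : M52ˣ => (u : M52) 0 0) h
  simp at this
  exact absurd this (by decide)

theorem psi_injective : Function.Injective psi := by
  obtain ⟨e⟩ := exists_iso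
  haveI := g2_simple
  haveI : IsSimpleGroup (chevF4.SteinbergGroup F2) :=
    haveI : Nontrivial (chevF4.SteinbergGroup F2) := e.toEquiv.nontrivial
    IsSimpleGroup.isSimpleGroup_of_surjective e.symm.toMonoidHom e.symm.surjective
  rw [← MonoidHom.ker_eq_bot_iff]
  refine (IsSimpleGroup.eq_bot_or_eq_top_of_normal psi.ker inferInstance).resolve_right fun h => ?_
  have hc : ∀ r < 48, gl r ∈ Subgroup.center M52ˣ := fun r hr => by
    have : psi (chevF4.stGen F2 r 1) = 1 := MonoidHom.mem_ker.1 (h ▸ Subgroup.mem_top _)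
    rw [psi_gen hr] at this
    exact signs_le_center ((QuotientGroup.eq_one_iff _).1 this)
  have hk : ∀ a b : ℕ, a < 48 → b < 48 → ⁅gl a, gl b⁆ = 1 := fun a b ha hb =>
    commutatorElement_eq_one_iff_mul_comm.2 (Subgroup.mem_center_iff.1 (hc b hb) (gl a))
  have hw := witness
  rw [hk 14 7 (by norm_num) (by norm_num), hk 32 1 (by norm_num) (by norm_num),
    hk 29 0 (by norm_num) (by norm_num), mul_one, mul_one] at hw
  exact minus_ne hw.symm

theorem cover_of_hom {A G : Type} [Group A] [Finite A] [Group G] (hG : commutator G = ⊤)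
    (N : Subgroup A) [N.Normal] (hN : N ≤ center A) (hcard : Nat.card N = 2) (ψ : G →* A ⧸ N)
    (hψ : Function.Injective ψ) {z : A} (hz : z ∈ N) (hz1 : z ≠ 1) {a b c d e f : A}
    (hm : ∀ x ∈ ([a, b, c, d, e, f] : List A), QuotientGroup.mk' N x ∈ ψ.range)
    (hw : ⁅a, b⁆ * ⁅c, d⁆ = z * ⁅e, f⁆) :
    ∃ (Γ : Type) (_ : Group Γ) (_ : Finite Γ) (σ : Γ →* G),
      Cfsg.IsStemExtension σ ∧ Nonempty (σ.ker ≃* Multiplicative (ZMod 2)) := by
  let E : Subgroup A := ψ.range.comap (QuotientGroup.mk' N)
  let e' : ↥ψ.range ≃* G := (MonoidHom.ofInjective hψ).symm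
  let π₀ : ↥E →* ↥ψ.range :=
    ((QuotientGroup.mk' N).comp E.subtype).codRestrict ψ.range fun x => x.2
  let π : ↥E →* G := e'.toMonoidHom.comp π₀
  have hπ₀ : Function.Surjective π₀ := fun y => by
    obtain ⟨g, hg⟩ := QuotientGroup.mk'_surjective N y.1
    exact ⟨⟨g, show QuotientGroup.mk' N g ∈ ψ.range by rw [hg]; exact y.2⟩, Subtype.ext hg⟩
  have hπ : Function.Surjective π := e'.surjective.comp hπ₀
  have hker : ∀ x : ↥E, π x = 1 → x.1 ∈ N := fun x hx => by
    have h1 : π₀ x = 1 := e'.injective (by rw [map_one]; exact hx)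
    exact (QuotientGroup.eq_one_iff _).1 (congrArg Subtype.val h1)
  have hc : π.ker ≤ center ↥E := fun x hx => mem_center_iff.2 fun y =>
    Subtype.ext (mem_center_iff.1 (hN (hker x hx)) y.1)
  have hperf := derived_perfect hG hπ hc
  let σ : ↥(commutator ↥E) →* G := π.comp (commutator ↥E).subtype
  have hσ : Cfsg.IsStemExtension σ := by
    refine ⟨fun g => ?_, fun x hx => mem_center_iff.2 fun y =>
      Subtype.ext (mem_center_iff.1 (hc (show π x.1 = 1 from hx)) y.1), le_top.trans hperf.ge⟩
    obtain ⟨y, hy, hye⟩ := (commutator_mul_ker hG hπ).ge (mem_top g)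
    exact ⟨⟨y, hy⟩, hye⟩
  refine ⟨↥(commutator ↥E), inferInstance, inferInstance, σ, hσ, ?_⟩
  have hdvd : Nat.card σ.ker ∣ 2 := by
    let j : ↥σ.ker →* ↥N :=
      ((E.subtype.comp (commutator ↥E).subtype).comp σ.ker.subtype).codRestrict N
        fun x => hker x.1.1 x.2
    have hj : Function.Injective j := fun x y h =>
      Subtype.ext (Subtype.ext (Subtype.ext (congrArg (fun u : ↥N => (u : A)) h)))
    exact (Subgroup.card_dvd_of_injective j hj).trans (dvd_of_eq hcard)
  have hne : σ.ker ≠ ⊥ := by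
    intro hb
    simp only [List.mem_cons, List.not_mem_nil, or_false] at hm
    let L : (x : A) → (QuotientGroup.mk' N x ∈ ψ.range) → ↥E := fun x h => ⟨x, h⟩
    let u : ↥E := ⁅L a (hm a (by simp)), L b (hm b (by simp))⁆ * ⁅L c (hm c (by simp)), L d (hm d (by simp))⁆ *
      ⁅L e (hm e (by simp)), L f (hm f (by simp))⁆⁻¹
    have hu : u ∈ commutator ↥E := mul_mem (mul_mem (commutator_mem_commutator (mem_top _) (mem_top _))
      (commutator_mem_commutator (mem_top _) (mem_top _))) (inv_mem (commutator_mem_commutator (mem_top _) (mem_top _)))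
    have hv : (u : A) = z := by
      simp only [u, L, Subgroup.coe_mul, Subgroup.coe_inv, commutatorElement_def]
      rw [← commutatorElement_def, ← commutatorElement_def, ← commutatorElement_def, hw, mul_inv_cancel_right]
    have hk : (⟨u, hu⟩ : ↥(commutator ↥E)) ∈ σ.ker := by
      have : π₀ u = 1 := Subtype.ext (by
        show QuotientGroup.mk' N (u : A) = 1
        rw [hv]
        exact (QuotientGroup.eq_one_iff _).2 hz)
      show e' (π₀ u) = 1
      rw [this, map_one]
    rw [hb, mem_bot] at hk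
    have h1 : u = 1 := congrArg Subtype.val hk
    rw [h1, OneMemClass.coe_one] at hv
    exact hz1 hv.symm
  have hc2 : Nat.card σ.ker = 2 := by
    rcases (Nat.dvd_prime Nat.prime_two).1 hdvd with h | h
    · exact absurd (Subgroup.card_eq_one.1 h) hne
    · exact h
  haveI := isCyclic_of_prime_card hc2
  exact ⟨(zmodCyclicMulEquiv inferInstance).symm.trans
    (AddEquiv.toMultiplicative (ZMod.ringEquivCongr hc2).toAddEquiv)⟩

/-- The double cover. -/
theorem exists_cover : ∃ (Γ : Type) (_ : Group Γ) (_ : Finite Γ) (σ : Γ →* G2),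
    Cfsg.IsStemExtension σ ∧ Nonempty (σ.ker ≃* Multiplicative (ZMod 2)) := by
  obtain ⟨e⟩ := exists_iso
  refine cover_of_hom g2_perfect signs signs_le_center ?_ (psi.comp e.symm.toMonoidHom)
    (psi_injective.comp e.symm.injective) (Subgroup.mem_zpowers (-1 : M52ˣ)) minus_ne
    (a := gl 14) (b := gl 7) (c := gl 32) (d := gl 1) (e := gl 29) (f := gl 0) ?_ witness
  · rw [signs, Nat.card_zpowers]
    exact orderOf_eq_prime neg_one_sq minus_ne
  · have key : ∀ r < 48, QuotientGroup.mk' signs (gl r) ∈ (psi.comp e.symm.toMonoidHom).range :=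
      fun r hr => ⟨e (chevF4.stGen F2 r 1), by
        rw [MonoidHom.comp_apply, MulEquiv.toMonoidHom_eq_coe, MonoidHom.coe_coe, e.symm_apply_apply, psi_gen hr]
        rfl⟩
    intro x hx
    simp only [List.mem_cons, List.not_mem_nil, or_false] at hx
    rcases hx with rfl | rfl | rfl | rfl | rfl | rfl <;> exact key _ (by norm_num)

end CfsgLib.FourTwoF
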