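import Cfsg.Agent.Lib.FourTwoF.BoundBase
import Cfsg.Agent.Lib.Chev.Orders
import Cfsg.Agent.Lib.Chev.StTheta
import Cfsg.Agent.Lib.Tails.RigidSplit

/-!
# The group of type F four over two elements acting on bit vectors
-/

set_option autoImplicit false
set_option maxRecDepth 100000

namespace CfsgLib.FourTwoF

open Cfsg.Lie CfsgLib.Rigid CfsgLib.Chev

/-- The coordinates. -/
abbrev Ix52 : Type := chevF4.Idx

/-- The coordinate of a position. -/
def ix (k : Fin 52) : Ix52 :=
  if h : k.val < 4 then Sum.inl ⟨k.val, h⟩ else Sum.inr ⟨k.val - 4, by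
    show k.val - 4 < 48
    omega⟩

theorem ix_bijective : Function.Bijective ix := by
  rw [Fintype.bijective_iff_injective_and_card]
  exact ⟨by decide +kernel, by decide +kernel⟩

/-- The bits of a vector. -/
def packV (v : Ix52 → ZMod 2) : ℕ := pack (List.ofFn fun k : Fin 52 => ((v (ix k)).val : ℤ))

/-- The columns of a matrix. -/
def colsM (g : Matrix Ix52 Ix52 (ZMod 2)) : List ℕ := List.ofFn fun j : Fin 52 => packV fun i => g i (ix j)

theorem pack_congr : ∀ a b : List ℤ, List.Forall₂ (fun x y => x.natAbs % 2 = y.natAbs % 2) a b →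
    pack a = pack b := by
  intro a b h
  induction h with
  | nil => rfl
  | cons h _ ih => simp only [pack, h, ih]

theorem packV_add (v w : Ix52 → ZMod 2) : packV (v + w) = packV v ^^^ packV w := by
  rw [packV, packV, packV, ← pack_add _ _ (by simp)]
  refine pack_congr _ _ (List.forall₂_iff_get.2 ⟨by simp, fun k h1 h2 => ?_⟩)
  simp only [List.get_eq_getElem, List.getElem_ofFn, List.getElem_zipWith, Pi.add_apply]
  generalize v _ = a
  generalize w _ = b
  revert a b
  decide

theorem packV_inj {v w : Ix52 → ZMod 2} (h : packV v = packV w) : v = w := by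
  have key : ∀ l m : List ℤ, l.length = m.length → (∀ x ∈ l, x = 0 ∨ x = 1) → (∀ x ∈ m, x = 0 ∨ x = 1) →
      pack l = pack m → l = m := by
    intro l
    induction l with
    | nil => intro m hl _ _ _; exact (List.length_eq_zero_iff.1 hl.symm).symm
    | cons a l ih =>
      intro m hl ha hm e
      match m, hl with
      | b :: m, hl =>
        have e1 := pack_cons_div a l
        have e2 := pack_cons_div b m
        have f1 := pack_cons_mod a l
        have f2 := pack_cons_mod b m
        rw [e] at e1 f1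
        rw [ih m (by simpa using hl) (fun x hx => ha x (List.mem_cons_of_mem _ hx))
          (fun x hx => hm x (List.mem_cons_of_mem _ hx)) (e1.symm.trans e2)]
        rcases ha a (List.mem_cons_self ..) with rfl | rfl <;>
          rcases hm b (List.mem_cons_self ..) with rfl | rfl <;> simp_all
  have hb : ∀ (u : Ix52 → ZMod 2), ∀ x ∈ List.ofFn (fun k : Fin 52 => ((u (ix k)).val : ℤ)), x = 0 ∨ x = 1 := by
    intro u x hx
    obtain ⟨k, rfl⟩ := List.mem_ofFn.1 hx
    generalize u (ix k) = a
    revert a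
    decide
  have := List.ofFn_inj.1 (key _ _ (by simp) (hb v) (hb w) h)
  funext i
  obtain ⟨k, rfl⟩ := ix_bijective.2 i
  exact ZMod.val_injective 2 (Int.ofNat.inj (congrFun this k))

theorem img_colsM (g : Matrix Ix52 Ix52 (ZMod 2)) (v : Ix52 → ZMod 2) :
    img (colsM g) (packV v) = packV (g.mulVec v) := by
  let cs : List ℤ := List.ofFn fun k : Fin 52 => ((v (ix k)).val : ℤ)
  let es : List (Ix52 → ZMod 2) := List.ofFn fun j : Fin 52 => fun i => g i (ix j)
  have h := img_pack packV packV_add cs es (by simp [cs, es])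
  rw [show es.map packV = colsM g from by simp [es, colsM, List.map_ofFn, Function.comp_def],
    show pack cs = packV v from rfl] at h
  rw [← h]
  refine congrArg packV (funext fun i => ?_)
  have hz : List.zipWith (fun (c : ℤ) (e : Ix52 → ZMod 2) => c • e) cs es =
      List.ofFn fun j : Fin 52 => ((v (ix j)).val : ℤ) • fun i => g i (ix j) :=
    List.ext_getElem (by simp [cs, es]) fun k h1 h2 => by simp [cs, es]
  rw [hz, List.sum_ofFn, Matrix.mulVec, dotProduct, Finset.sum_apply,
    ← Fintype.sum_equiv (Equiv.ofBijective ix ix_bijective) (fun j => g i (ix j) * v (ix j))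
      (fun x => g i x * v x) (fun j => rfl)]
  refine Finset.sum_congr rfl fun j _ => ?_
  simp [mul_comm]

theorem colsM_mul (g h : Matrix Ix52 Ix52 (ZMod 2)) : colsM (g * h) = mulF (colsM g) (colsM h) := by
  rw [mulF]
  conv_rhs => arg 2; rw [colsM]
  rw [List.map_ofFn, colsM]
  refine List.ofFn_inj.2 (funext fun j => ?_)
  rw [Function.comp_apply, img_colsM]
  rfl

/-- The action on bit vectors. -/
def act : Cod ↥(chevF4.group (ZMod 2)) where
  C g := colsM ((g : GL Ix52 (ZMod 2)) : Matrix Ix52 Ix52 (ZMod 2))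
  Pt p := ∃ v, p = packV v
  mul g h := by rw [Subgroup.coe_mul, Units.val_mul, colsM_mul]
  img_pt g p := by
    rintro ⟨v, rfl⟩
    exact ⟨_, img_colsM _ v⟩
  one_img p := by
    rintro ⟨v, rfl⟩
    rw [img_colsM, Subgroup.coe_one, Units.val_one, Matrix.one_mulVec]

theorem act_inj : Function.Injective act.C := by
  intro g h e
  replace e : colsM ((g : GL Ix52 (ZMod 2)) : Matrix Ix52 Ix52 (ZMod 2)) = colsM ((h : GL Ix52 (ZMod 2)) : Matrix Ix52 Ix52 (ZMod 2)) := e
  unfold colsM at e
  refine Subtype.ext (Units.ext (Matrix.ext fun i j => ?_))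
  obtain ⟨k, rfl⟩ := ix_bijective.2 j
  exact congrFun (packV_inj (congrFun (List.ofFn_inj.1 e) k)) i

theorem oneC_eq : colsM 1 = oneC := by decide +kernel

theorem act_one : act.C 1 = oneC := by
  show colsM (((1 : ↥(chevF4.group (ZMod 2))) : GL Ix52 (ZMod 2)) : Matrix Ix52 Ix52 (ZMod 2)) = oneC
  rw [Subgroup.coe_one, Units.val_one, oneC_eq]

theorem baseC_eq : baseC = (List.finRange chevF4.nroots).map fun r : Fin chevF4.nroots => colsM (chevF4.xMat (ZMod 2) r 1) := by
  decide +kernel

theorem base_coded : CfsgLib.Schur.Tails.RigidCert.AllCoded act baseC := by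
  intro M hM
  rw [baseC_eq, List.mem_map] at hM
  obtain ⟨r, -, rfl⟩ := hM
  refine ⟨⟨xU chevF4 r.val 1, DataF4.facts.xU_mem_group r.isLt 1⟩, ?_⟩
  show colsM ((xU chevF4 r.val (1 : ZMod 2) : GL Ix52 (ZMod 2)) : Matrix Ix52 Ix52 (ZMod 2)) = _
  rw [DataF4.facts.xU_val r.isLt, ChevalleyDatum.x, dif_pos r.isLt]

theorem card_group : Nat.card ↥(chevF4.group (ZMod 2)) = 3311126603366400 := by
  have := order_F4 (F := ZMod 2)
  rw [one_mul, Nat.card_zmod] at this
  rw [this]
  norm_num

end CfsgLib.FourTwoF
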