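import Cfsg.Agent.Lib.FourTwoF.Ext
import Cfsg.Agent.Lib.FourTwoF.Model
import Cfsg.Agent.Lib.FourTwoF.BoundTwoCheck
import Cfsg.Agent.Lib.FourTwoF.BoundThreeCheck
import Cfsg.Agent.Lib.FourTwoF.BoundFiveCheck
import Cfsg.Agent.Lib.FourTwoF.BoundSevenCheck
import Cfsg.Agent.Lib.Tails.SLNine

/-!
# The multiplier of the group of type F four over two elements
-/

set_option autoImplicit false
set_option maxRecDepth 100000

namespace CfsgLib.FourTwoF

open Cfsg.Lie CfsgLib.Schur.Tails CfsgLib.Schur.Tails.RigidCert Subgroup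

attribute [local irreducible] twoFourTwoCert threeFourTwoCert fiveFourTwoCert sevenFourTwoCert
  twoFourTwoGens threeFourTwoGens fiveFourTwoGens sevenFourTwoGens twoFourTwoHs threeFourTwoHs
  fiveFourTwoHs sevenFourTwoHs twoFourTwoLayers threeFourTwoLayers fiveFourTwoLayers sevenFourTwoLayers
  baseC oneC

theorem finite_G2 : Finite G2 := inferInstance

theorem bound {Γ : Type} [Group Γ] [Finite Γ] (σ : Γ →* G2) (hσ : Cfsg.IsStemExtension σ) :
    IsCyclic σ.ker ∧ Nat.card σ.ker ∣ 2 := by
  have := finite_G2
  obtain ⟨a2, b2, n2⟩ := two_sizes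
  obtain ⟨a3, b3, n3⟩ := three_sizes
  obtain ⟨a5, b5, n5⟩ := five_sizes
  obtain ⟨a7, b7, n7⟩ := seven_sizes
  have hfac : Nat.card G2 = (2 ^ 24 * 3 ^ 6 * 5 ^ 2 * 7 ^ 2) * (13 * 17) := card_group.trans (by norm_num)
  have h4 : ¬ 2 ^ 2 ∣ Nat.card σ.ker := by
    have : Fact twoFourTwoCert.p.Prime := ⟨a2 ▸ Nat.prime_two⟩
    exact (realised_parts act act_inj act_one (two_coded act act_one base_coded).1
      (two_coded act act_one base_coded).2 two_cert two_rels two_layers.1 two_layers.2
      (by rw [a2, n2, card_group]; decide)).sq_not_dvd a2 b2 hσ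
  have hne : ∀ p : ℕ, p.Prime → p ≠ 2 → ¬ p ∣ Nat.card σ.ker := by
    intro p hp hp2
    have := Fact.mk hp
    by_cases hsq : p ^ 2 ∣ Nat.card G2
    · have h357 : p = 3 ∨ p = 5 ∨ p = 7 := by
        by_contra hcon
        push Not at hcon
        rw [hfac] at hsq
        have hco : Nat.Coprime (p ^ 2) (2 ^ 24 * 3 ^ 6 * 5 ^ 2 * 7 ^ 2) :=
          (((Nat.Coprime.pow 2 24 ((Nat.coprime_primes hp Nat.prime_two).2 hp2)).mul_right
            (Nat.Coprime.pow 2 6 ((Nat.coprime_primes hp Nat.prime_three).2 hcon.1))).mul_right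
            (Nat.Coprime.pow 2 2 ((Nat.coprime_primes hp Nat.prime_five).2 hcon.2.1))).mul_right
            (Nat.Coprime.pow 2 2 ((Nat.coprime_primes hp (by norm_num)).2 hcon.2.2))
        have hsf : Squarefree (13 * 17) := by
          rw [Nat.squarefree_mul (by norm_num)]
          exact ⟨(by norm_num : Nat.Prime 13).squarefree, (by norm_num : Nat.Prime 17).squarefree⟩
        exact hp.not_isUnit (hsf p (by rw [← pow_two]; exact hco.dvd_of_dvd_mul_left hsq))
      rcases h357 with rfl | rfl | rfl
      · have : Fact threeFourTwoCert.p.Prime := ⟨a3 ▸ hp⟩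
        exact (realised_parts act act_inj act_one (three_coded act act_one base_coded).1
          (three_coded act act_one base_coded).2 three_cert three_rels three_layers.1 three_layers.2
          (by rw [a3, n3, card_group]; decide)).not_dvd a3 b3 three_tau hσ
      · have : Fact fiveFourTwoCert.p.Prime := ⟨a5 ▸ hp⟩
        exact (realised_parts act act_inj act_one (five_coded act act_one base_coded).1
          (five_coded act act_one base_coded).2 five_cert five_rels five_layers.1 five_layers.2
          (by rw [a5, n5, card_group]; decide)).not_dvd a5 b5 five_tau hσ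
      · have : Fact sevenFourTwoCert.p.Prime := ⟨a7 ▸ hp⟩
        exact (realised_parts act act_inj act_one (seven_coded act act_one base_coded).1
          (seven_coded act act_one base_coded).2 seven_cert seven_rels seven_layers.1 seven_layers.2
          (by rw [a7, n7, card_group]; decide)).not_dvd a7 b7 seven_tau hσ
    · exact not_dvd_of_sq hσ hsq
  have hdvd : Nat.card σ.ker ∣ 2 := by
    rw [Nat.dvd_iff_prime_pow_dvd_dvd]
    intro p k hp hpk
    rcases Nat.eq_zero_or_pos k with rfl | hk
    · simp
    obtain rfl : p = 2 := by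
      by_contra hne2
      exact hne p hp hne2 ((dvd_pow_self p hk.ne').trans hpk)
    have : k ≤ 1 := by
      by_contra hcon
      exact h4 ((pow_dvd_pow 2 (by omega)).trans hpk)
    exact (pow_dvd_pow 2 this).trans (by norm_num)
  refine ⟨?_, hdvd⟩
  rcases (Nat.dvd_prime Nat.prime_two).1 hdvd with h | h
  · have : Subsingleton σ.ker := (Nat.card_eq_one_iff_unique.1 h).1
    infer_instance
  · exact isCyclic_of_prime_card (p := 2) h

theorem multiplier : Cfsg.HasCyclicSchurMultiplier G2 2 :=
  have := finite_G2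
  hasCyclic_of_bound exists_cover fun _ _ _ σ hσ => bound σ hσ

section Transport

variable (D : ChevalleyDatum) {K L : Type*} [Field K] [Field L] (e : K ≃+* L)

theorem map_xMat (r : Fin D.nroots) (t : K) :
    (D.xMat K r t).map e = D.xMat L r (e t) := by
  ext i j
  rcases i with i | i <;> rcases j with j | j <;>
    simp only [Matrix.map_apply, ChevalleyDatum.xMat, Matrix.of_apply] <;>
    split_ifs <;> simp [map_list_sum, List.map_map, Function.comp_def]

include e in
theorem exists_transport : Nonempty (↥(D.group K) ≃* ↥(D.group L)) := by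
  let m : GL D.Idx K ≃* GL D.Idx L := Units.mapEquiv (RingEquiv.mapMatrix e).toMulEquiv
  have hm : ∀ g : GL D.Idx K, ((m g : GL D.Idx L) : Matrix D.Idx D.Idx L) =
      ((g : Matrix D.Idx D.Idx K)).map e := fun g => rfl
  refine ⟨((D.group K).equivMapOfInjective m.toMonoidHom m.injective).trans (MulEquiv.subgroupCongr ?_)⟩
  rw [ChevalleyDatum.group, ChevalleyDatum.group, MonoidHom.map_closure]
  refine congrArg Subgroup.closure (Set.ext fun g => ?_)
  constructor
  · rintro ⟨x, ⟨r, t, hx⟩, rfl⟩
    exact ⟨r, e t, by rw [show m.toMonoidHom x = m x from rfl, hm, hx, map_xMat D e]⟩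
  · rintro ⟨r, t, hg⟩
    refine ⟨m.symm g, ⟨r, e.symm t, ?_⟩, m.apply_symm_apply g⟩
    have h := congrArg (fun M : Matrix D.Idx D.Idx L => M.map e.symm) hg
    simp only [map_xMat D e.symm] at h
    exact h

end Transport

theorem multiplier_transport {D : ChevalleyDatum} {K : Type} {L : Type*} [Field K] [Field L] (e : K ≃+* L)
    [Finite ↥(D.group K)] (h : Cfsg.HasCyclicSchurMultiplier ↥(D.group K) 2) :
    Cfsg.HasCyclicSchurMultiplier ↥(D.group L) 2 := by
  obtain ⟨i⟩ := exists_transport D e
  exact hasCyclic_congr i h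

theorem multiplier_congr {F : Type*} [Field F] [Fintype F] (hF : Fintype.card F = 2) :
    Cfsg.HasCyclicSchurMultiplier ↥(chevF4.group F) 2 := by
  have := finite_G2
  exact multiplier_transport (D := chevF4) (K := ZMod 2) (ZMod.ringEquivOfPrime F Nat.prime_two hF) multiplier

end CfsgLib.FourTwoF
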